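import Mathlib
import Cfsg.Agent.S0265

set_option autoImplicit false

namespace Cfsg.Agent.Lib.Helper5

open Matrix Matrix.SpecialLinearGroup
open scoped MatrixGroups Pointwise

variable {F : Type*} [Field F]

theorem sl2_mul_apply (a b : SL(2, F)) (i j : Fin 2) :
    (a * b).1 i j = a.1 i 0 * b.1 0 j + a.1 i 1 * b.1 1 j := by
  simp [Matrix.mul_apply, Fin.sum_univ_two]

theorem sl2_ext {a b : SL(2, F)} (h00 : a.1 0 0 = b.1 0 0) (h01 : a.1 0 1 = b.1 0 1)
    (h10 : a.1 1 0 = b.1 1 0) (h11 : a.1 1 1 = b.1 1 1) : a = b := by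
  apply Subtype.ext
  ext i j
  fin_cases i <;> fin_cases j <;> assumption

theorem sl2_det (a : SL(2, F)) : a.1 0 0 * a.1 1 1 - a.1 0 1 * a.1 1 0 = 1 := by
  have := a.2
  rwa [Matrix.det_fin_two] at this

theorem sl2_inv_00 (a : SL(2, F)) : (a⁻¹).1 0 0 = a.1 1 1 := by rw [SL2_inv_expl]; rfl
theorem sl2_inv_01 (a : SL(2, F)) : (a⁻¹).1 0 1 = -a.1 0 1 := by rw [SL2_inv_expl]; rfl
theorem sl2_inv_10 (a : SL(2, F)) : (a⁻¹).1 1 0 = -a.1 1 0 := by rw [SL2_inv_expl]; rfl
theorem sl2_inv_11 (a : SL(2, F)) : (a⁻¹).1 1 1 = a.1 0 0 := by rw [SL2_inv_expl]; rfl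

/-- The upper unitriangular subgroup of `SL₂(F)`. -/
def unipSL (F : Type*) [Field F] : Subgroup SL(2, F) where
  carrier := {g | g.1 0 0 = 1 ∧ g.1 1 0 = 0 ∧ g.1 1 1 = 1}
  mul_mem' := by
    rintro a b ⟨ha1, ha2, ha3⟩ ⟨hb1, hb2, hb3⟩
    simp only [Set.mem_ofPred_eq] at *
    refine ⟨?_, ?_, ?_⟩ <;> rw [sl2_mul_apply] <;> simp [*]
  one_mem' := by simp
  inv_mem' := by
    rintro a ⟨ha1, ha2, ha3⟩
    simp only [Set.mem_ofPred_eq] at *
    rw [sl2_inv_00, sl2_inv_10, sl2_inv_11]
    simp [*]

theorem mem_unipSL {g : SL(2, F)} : g ∈ unipSL F ↔ g.1 0 0 = 1 ∧ g.1 1 0 = 0 ∧ g.1 1 1 = 1 := Iff.rfl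

theorem transvection01_mem_unipSL (b : F) :
    transvection (zero_ne_one : (0 : Fin 2) ≠ 1) b ∈ unipSL F := by
  simp [mem_unipSL, transvection_coe]

@[simp] theorem transvection01_00 (b : F) : (transvection (zero_ne_one : (0 : Fin 2) ≠ 1) b).1 0 0 = 1 := by
  simp [transvection_coe]
@[simp] theorem transvection01_01 (b : F) : (transvection (zero_ne_one : (0 : Fin 2) ≠ 1) b).1 0 1 = b := by
  simp [transvection_coe]
@[simp] theorem transvection01_10 (b : F) : (transvection (zero_ne_one : (0 : Fin 2) ≠ 1) b).1 1 0 = 0 := by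
  simp [transvection_coe]
@[simp] theorem transvection01_11 (b : F) : (transvection (zero_ne_one : (0 : Fin 2) ≠ 1) b).1 1 1 = 1 := by
  simp [transvection_coe]
@[simp] theorem transvection10_00 (b : F) : (transvection (one_ne_zero : (1 : Fin 2) ≠ 0) b).1 0 0 = 1 := by
  simp [transvection_coe]
@[simp] theorem transvection10_01 (b : F) : (transvection (one_ne_zero : (1 : Fin 2) ≠ 0) b).1 0 1 = 0 := by
  simp [transvection_coe]
@[simp] theorem transvection10_10 (b : F) : (transvection (one_ne_zero : (1 : Fin 2) ≠ 0) b).1 1 0 = b := by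
  simp [transvection_coe]
@[simp] theorem transvection10_11 (b : F) : (transvection (one_ne_zero : (1 : Fin 2) ≠ 0) b).1 1 1 = 1 := by
  simp [transvection_coe]

noncomputable def unipSLEquiv : unipSL F ≃ F where
  toFun g := g.1.1 0 1
  invFun b := ⟨transvection (zero_ne_one : (0 : Fin 2) ≠ 1) b, transvection01_mem_unipSL b⟩
  left_inv g := by
    obtain ⟨h1, h2, h3⟩ := mem_unipSL.mp g.2
    apply Subtype.ext
    apply sl2_ext <;> simp [h1, h2, h3]
  right_inv b := by simp

theorem card_unipSL [Fintype F] : Nat.card (unipSL F) = Fintype.card F := by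
  rw [Nat.card_congr unipSLEquiv, Nat.card_eq_fintype_card]

theorem card_SL2 [Fintype F] : Nat.card SL(2, F) = Fintype.card F * (Fintype.card F ^ 2 - 1) := by
  have h1 := Cfsg.Agent.S0265.card_GL_eq_SL_mul (F := F) 2 (by norm_num)
  rw [Matrix.card_GL_field, Fin.prod_univ_two] at h1
  simp only [Fin.val_zero, pow_zero, Fin.val_one, pow_one] at h1
  have hu : Nat.card Fˣ = Fintype.card F - 1 := by
    classical
    rw [Nat.card_eq_fintype_card, Fintype.card_units]
  rw [hu] at h1
  have hq : 2 ≤ Fintype.card F := Fintype.one_lt_card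
  set q := Fintype.card F with hq'
  obtain ⟨r, hr⟩ : ∃ r, q = r + 2 := ⟨q - 2, by omega⟩
  rw [hr] at h1 ⊢
  have e1 : r + 2 - 1 = r + 1 := by omega
  have e3 : (r + 2) ^ 2 - (r + 2) = (r + 2) * (r + 1) := by
    have : (r + 2) ^ 2 = (r + 2) * (r + 1) + (r + 2) := by ring
    omega
  rw [e1, e3] at h1
  have hpos : 0 < r + 1 := by positivity
  have : Nat.card SL(2, F) * (r + 1) = (r + 2) * ((r + 2) ^ 2 - 1) * (r + 1) := by
    rw [← h1]; ring
  exact Nat.eq_of_mul_eq_mul_right hpos this

end Cfsg.Agent.Lib.Helper5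

namespace Cfsg.Agent.Lib.Helper5

open Matrix Matrix.SpecialLinearGroup
open scoped MatrixGroups Pointwise

variable {F : Type*} [Field F] [Fintype F] (p : ℕ) [Fact p.Prime] [CharP F p]

omit [Fact p.Prime] in
theorem char_dvd_card : p ∣ Fintype.card F := by
  obtain ⟨k, -, hk⟩ := FiniteField.card F p
  rw [hk]; exact dvd_pow_self p k.pos.ne'

omit [Fact p.Prime] in
theorem isPGroup_unipSL : IsPGroup p (unipSL F) := by
  obtain ⟨k, -, hk⟩ := FiniteField.card F p
  exact IsPGroup.of_card (n := k) (by rw [card_unipSL, hk])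

theorem index_unipSL : (unipSL F).index = Fintype.card F ^ 2 - 1 := by
  have h1 := Subgroup.card_mul_index (unipSL F)
  rw [card_unipSL, card_SL2] at h1
  have hq : 0 < Fintype.card F := Fintype.card_pos
  exact Nat.eq_of_mul_eq_mul_left hq h1

theorem not_dvd_index_unipSL : ¬ p ∣ (unipSL F).index := by
  rw [index_unipSL]
  intro h
  have h2 : p ∣ Fintype.card F ^ 2 := dvd_pow (char_dvd_card p) two_ne_zero
  have hq1 : 1 ≤ Fintype.card F ^ 2 := Nat.one_le_pow _ _ Fintype.card_pos
  have h3 : p ∣ 1 := (Nat.dvd_sub_iff_right hq1 h2).mp h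
  exact (Fact.out : p.Prime).one_lt.ne' (Nat.dvd_one.mp h3)

/-- The unitriangular group as a Sylow `p`-subgroup of `SL₂(F)`. -/
noncomputable def unipSLSylow : Sylow p SL(2, F) :=
  (isPGroup_unipSL p).toSylow (not_dvd_index_unipSL p)

@[simp] theorem coe_unipSLSylow : ((unipSLSylow p : Sylow p SL(2, F)) : Subgroup SL(2, F)) = unipSL F := rfl

theorem exists_smul_unipSLSylow_eq (P : Sylow p SL(2, F)) :
    ∃ g : SL(2, F), g • (unipSLSylow p : Sylow p SL(2, F)) = P :=
  MulAction.exists_smul_eq _ _ _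

theorem card_sylow_sl2 (P : Sylow p SL(2, F)) : Nat.card P = Fintype.card F := by
  obtain ⟨g, rfl⟩ := exists_smul_unipSLSylow_eq p P
  rw [← card_unipSL (F := F)]
  have : ((g • (unipSLSylow p : Sylow p SL(2, F)) : Sylow p SL(2, F)) : Subgroup SL(2, F)) =
      MulAut.conj g • unipSL F := rfl
  change Nat.card ((g • (unipSLSylow p : Sylow p SL(2, F)) : Sylow p SL(2, F)) : Subgroup SL(2, F)) = _
  rw [this]
  exact (Nat.card_congr (Subgroup.equivSMul (MulAut.conj g) (unipSL F)).toEquiv).symm

theorem smul_unipSLSylow_coe (g : SL(2, F)) :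
    ((g • (unipSLSylow p : Sylow p SL(2, F)) : Sylow p SL(2, F)) : Subgroup SL(2, F)) =
      MulAut.conj g • unipSL F := rfl

/-- Upper triangular elements normalize the unitriangular group. -/
theorem smul_unipSLSylow_eq_self {k : SL(2, F)} (hk : k.1 1 0 = 0) :
    k • (unipSLSylow p : Sylow p SL(2, F)) = unipSLSylow p := by
  rw [Sylow.smul_eq_iff_mem_normalizer]
  apply Subgroup.mem_normalizer_fintype
  intro n hn
  obtain ⟨h1, h2, h3⟩ := mem_unipSL.mp hn
  have hdet := sl2_det k
  rw [hk, mul_zero, sub_zero] at hdet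
  change k * n * k⁻¹ ∈ unipSL F
  rw [mem_unipSL]
  simp only [sl2_mul_apply, sl2_inv_00, sl2_inv_10, sl2_inv_11, sl2_inv_01, hk, h1, h2, h3]
  refine ⟨?_, ?_, ?_⟩
  · linear_combination hdet
  · ring
  · linear_combination hdet

end Cfsg.Agent.Lib.Helper5

namespace Cfsg.Agent.Lib.Helper5

open Matrix Matrix.SpecialLinearGroup
open scoped MatrixGroups Pointwise

variable {F : Type*} [Field F]

/-- The unitriangular group and a conjugate of it by a non-triangular element generate `SL₂(F)`. -/
theorem unipSL_sup_smul_unipSL_eq_top (k : SL(2, F)) (hk : k.1 1 0 ≠ 0) :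
    unipSL F ⊔ MulAut.conj k • unipSL F = ⊤ := by
  rw [eq_top_iff]
  intro M _
  refine SL2.transvection_induction (fun M => M ∈ unipSL F ⊔ MulAut.conj k • unipSL F)
    (fun i j hij s => ?_) (fun A B hA hB => mul_mem hA hB) M
  have hU : ∀ b : F, transvection (zero_ne_one : (0 : Fin 2) ≠ 1) b ∈ unipSL F ⊔ MulAut.conj k • unipSL F :=
    fun b => Subgroup.mem_sup_left (transvection01_mem_unipSL b)
  fin_cases i <;> fin_cases j
  · exact absurd rfl hij
  · exact hU s
  · -- the lower transvection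
    have hdet := sl2_det k
    have key : transvection (one_ne_zero : (1 : Fin 2) ≠ 0) s *
        transvection (zero_ne_one : (0 : Fin 2) ≠ 1) (-(k.1 0 0) / k.1 1 0) * k =
        transvection (zero_ne_one : (0 : Fin 2) ≠ 1) (-(k.1 0 0) / k.1 1 0) * k *
          transvection (zero_ne_one : (0 : Fin 2) ≠ 1) (-s / (k.1 1 0) ^ 2) := by
      apply sl2_ext
      · simp only [sl2_mul_apply, transvection01_00, transvection01_01, transvection01_10,
          transvection01_11, transvection10_00, transvection10_01, transvection10_10, transvection10_11]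
        field_simp
        ring
      · simp only [sl2_mul_apply, transvection01_00, transvection01_01, transvection01_10,
          transvection01_11, transvection10_00, transvection10_01, transvection10_10, transvection10_11]
        field_simp
        ring
      · simp only [sl2_mul_apply, transvection01_00, transvection01_01, transvection01_10,
          transvection01_11, transvection10_00, transvection10_01, transvection10_10, transvection10_11]
        field_simp
        ring
      · simp only [sl2_mul_apply, transvection01_00, transvection01_01, transvection01_10,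
          transvection01_11, transvection10_00, transvection10_01, transvection10_10, transvection10_11]
        field_simp
        linear_combination (-s * k.1 1 0) * hdet
    have h2 : transvection (one_ne_zero : (1 : Fin 2) ≠ 0) s =
        transvection (zero_ne_one : (0 : Fin 2) ≠ 1) (-(k.1 0 0) / k.1 1 0) *
          (k * transvection (zero_ne_one : (0 : Fin 2) ≠ 1) (-s / (k.1 1 0) ^ 2) * k⁻¹) *
          (transvection (zero_ne_one : (0 : Fin 2) ≠ 1) (-(k.1 0 0) / k.1 1 0))⁻¹ := by
      have : transvection (one_ne_zero : (1 : Fin 2) ≠ 0) s =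
          (transvection (one_ne_zero : (1 : Fin 2) ≠ 0) s *
            transvection (zero_ne_one : (0 : Fin 2) ≠ 1) (-(k.1 0 0) / k.1 1 0) * k) * k⁻¹ *
            (transvection (zero_ne_one : (0 : Fin 2) ≠ 1) (-(k.1 0 0) / k.1 1 0))⁻¹ := by group
      rw [this, key]; group
    change transvection (one_ne_zero : (1 : Fin 2) ≠ 0) s ∈ _
    rw [h2]
    refine mul_mem (mul_mem (hU _) ?_) (inv_mem (hU _))
    apply Subgroup.mem_sup_right
    have := Subgroup.smul_mem_pointwise_smul _ (MulAut.conj k) _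
      (transvection01_mem_unipSL (F := F) (-s / (k.1 1 0) ^ 2))
    simpa [MulAut.smul_def] using this
  · exact absurd rfl hij

variable [Fintype F] (p : ℕ) [Fact p.Prime] [CharP F p]

/-- Two distinct Sylow `p`-subgroups of `SL₂(F)` generate it. -/
theorem sylow_sl2_sup_eq_top (P Q : Sylow p SL(2, F)) (h : P ≠ Q) :
    (P : Subgroup SL(2, F)) ⊔ (Q : Subgroup SL(2, F)) = ⊤ := by
  obtain ⟨g, rfl⟩ := exists_smul_unipSLSylow_eq p P
  obtain ⟨k, rfl⟩ := exists_smul_unipSLSylow_eq p Q
  have hk : (g⁻¹ * k).1 1 0 ≠ 0 := by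
    intro h0
    apply h
    have h2 := smul_unipSLSylow_eq_self p h0
    rw [mul_smul] at h2
    have h3 := congrArg (fun S : Sylow p SL(2, F) => g • S) h2
    simp only [smul_inv_smul] at h3
    exact h3.symm
  have h1 := unipSL_sup_smul_unipSL_eq_top (g⁻¹ * k) hk
  have h2 := congrArg (fun S : Subgroup SL(2, F) => MulAut.conj g • S) h1
  have htop : MulAut.conj g • (⊤ : Subgroup SL(2, F)) = ⊤ := by
    rw [eq_top_iff]
    intro x _
    rw [Subgroup.mem_pointwise_smul_iff_inv_smul_mem]
    exact Subgroup.mem_top _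
  simp only [Subgroup.smul_sup, htop, ← mul_smul, ← map_mul, mul_inv_cancel_left] at h2
  rw [smul_unipSLSylow_coe, smul_unipSLSylow_coe]
  exact h2

end Cfsg.Agent.Lib.Helper5
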