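import Mathlib
import Cfsg.Agent.Lib.Helper5.SL2Sylow

set_option autoImplicit false

namespace Cfsg.Agent.Lib.Helper5

open Matrix Matrix.SpecialLinearGroup
open scoped MatrixGroups LinearAlgebra.Projectivization Nat

section generic
variable {G : Type*} [Group G] [Finite G]

omit [Finite G] in
theorem nonempty_mulEquiv_perm_of_injective {n : ℕ} (f : G →* Equiv.Perm (Fin n))
    (hf : Function.Injective f) (hcard : Nat.card G = n !) : Nonempty (G ≃* Equiv.Perm (Fin n)) := by
  have hb : Function.Bijective f := by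
    rw [Nat.bijective_iff_injective_and_card]
    refine ⟨hf, ?_⟩
    rw [hcard, Nat.card_eq_fintype_card, Fintype.card_perm, Fintype.card_fin]
  exact ⟨MulEquiv.ofBijective f hb⟩

theorem nonempty_mulEquiv_alternatingGroup_of_injective {n : ℕ} (hn : 2 ≤ n)
    (f : G →* Equiv.Perm (Fin n))
    (hf : Function.Injective f) (hcard : 2 * Nat.card G = n !) :
    Nonempty (G ≃* alternatingGroup (Fin n)) := by
  have : Nontrivial (Fin n) := Fin.nontrivial_iff_two_le.mpr hn
  have h1 : Nat.card f.range = Nat.card G := Nat.card_range_of_injective hf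
  have h2 := Subgroup.card_mul_index f.range
  rw [h1, Nat.card_eq_fintype_card (α := Equiv.Perm (Fin n)), Fintype.card_perm, Fintype.card_fin,
    ← hcard, mul_comm] at h2
  have hpos : 0 < Nat.card G := Nat.card_pos
  have h3 : f.range.index = 2 := Nat.eq_of_mul_eq_mul_right hpos h2
  have h4 := Equiv.Perm.eq_alternatingGroup_of_index_eq_two h3
  exact ⟨(MonoidHom.ofInjective hf).trans (MulEquiv.subgroupCongr h4)⟩

end generic

variable {F : Type*} [Field F]

theorem card_proj_line [Fintype F] : Nat.card (ℙ F (Fin 2 → F)) = Fintype.card F + 1 := by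
  rw [Projectivization.card'', Nat.card_eq_fintype_card (α := F), Nat.card_eq_fintype_card,
    Fintype.card_fun, Fintype.card_fin]
  have hq : 2 ≤ Fintype.card F := Fintype.one_lt_card
  set q := Fintype.card F
  obtain ⟨r, hr⟩ : ∃ r, q = r + 2 := ⟨q - 2, by omega⟩
  rw [hr]
  have h1 : r + 2 - 1 = r + 1 := by omega
  have e2 : (r + 2) ^ 2 - 1 = (r + 2 + 1) * (r + 1) := by
    have : (r + 2) ^ 2 = (r + 2 + 1) * (r + 1) + 1 := by ring
    rw [this]; rfl
  rw [e2, h1]
  exact Nat.mul_div_cancel _ (by omega)

theorem center_SL2_eq_bot_of_two_eq_zero (h2 : (2 : F) = 0) :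
    Subgroup.center SL(2, F) = ⊥ := by
  rw [eq_bot_iff]
  intro A hA
  obtain ⟨r, hr, hA'⟩ := mem_center_iff.mp hA
  rw [Fintype.card_fin] at hr
  have : (r - 1) ^ 2 = 0 := by
    have : (r - 1) ^ 2 = r ^ 2 - 2 * r + 1 := by ring
    rw [this, hr, h2]; linear_combination h2
  have hr1 : r = 1 := by
    have := pow_eq_zero_iff (two_ne_zero) |>.mp this
    exact sub_eq_zero.mp this
  rw [Subgroup.mem_bot]
  apply Subtype.ext
  rw [← hA', hr1]
  simp

theorem card_center_SL2_of_two_ne_zero (h2 : (2 : F) ≠ 0) :
    Nat.card (Subgroup.center SL(2, F)) = 2 := by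
  have hneg : (-1 : SL(2, F)) ∈ Subgroup.center SL(2, F) := by
    rw [mem_center_iff]
    refine ⟨-1, by simp, ?_⟩
    ext i j
    fin_cases i <;> fin_cases j <;> simp [Matrix.scalar_apply]
  have h11 : (-1 : SL(2, F)) ≠ 1 := by
    intro h
    have := congrArg (fun A : SL(2, F) => A.1 0 0) h
    simp at this
    apply h2
    linear_combination -this
  have key : ∀ A : Subgroup.center SL(2, F), A = 1 ∨ A = ⟨-1, hneg⟩ := by
    intro A
    obtain ⟨r, hr, hA'⟩ := mem_center_iff.mp A.2
    rw [Fintype.card_fin] at hr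
    have : (r - 1) * (r + 1) = 0 := by linear_combination hr
    rcases mul_eq_zero.mp this with h | h
    · left
      apply Subtype.ext; apply Subtype.ext
      rw [← hA', sub_eq_zero.mp h]; simp
    · right
      apply Subtype.ext; apply Subtype.ext
      rw [← hA', eq_neg_of_add_eq_zero_left h]
      ext i j
      fin_cases i <;> fin_cases j <;> simp [Matrix.scalar_apply]
  rw [Nat.card_eq_two_iff]
  refine ⟨1, ⟨-1, hneg⟩, ?_, ?_⟩
  · intro h
    apply h11
    exact (congrArg Subtype.val h).symm
  · ext A
    simp only [Set.mem_univ, Set.mem_insert_iff, Set.mem_singleton_iff, iff_true]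
    exact key A

/-- The action of `PSL₂(F)` on the projective line, as a hom to `Perm (Fin (q+1))`. -/
noncomputable def pslToPermFin [Fintype F] {n : ℕ} (hn : Fintype.card F + 1 = n) :
    PSL(2, F) →* Equiv.Perm (Fin n) :=
  (Equiv.permCongrHom (Finite.equivFinOfCardEq (card_proj_line.trans hn))).toMonoidHom.comp
    Projectivization.PSLAction.toPermHom

theorem pslToPermFin_injective [Fintype F] {n : ℕ} (hn : Fintype.card F + 1 = n) :
    Function.Injective (pslToPermFin (F := F) hn) := by
  unfold pslToPermFin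
  rw [MonoidHom.coe_comp]
  exact (MulEquiv.injective _).comp Matrix.ProjectiveSpecialLinearGroup.toPermHom_injective

theorem card_PSL2_mul [Fintype F] :
    Nat.card PSL(2, F) * Nat.card (Subgroup.center SL(2, F)) =
      Fintype.card F * (Fintype.card F ^ 2 - 1) := by
  rw [← card_SL2]
  exact (Subgroup.card_eq_card_quotient_mul_card_subgroup _).symm

end Cfsg.Agent.Lib.Helper5
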