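import Mathlib

set_option autoImplicit false

namespace Cfsg.Agent.Lib.Helper5

section grp
variable {G H : Type*} [Group G] [Group H]

/-- Every nonempty fibre of a group hom has the size of the kernel. -/
theorem card_fiber_eq_card_ker (f : G →* H) {y : H} (hy : y ∈ f.range) :
    Nat.card {g : G // f g = y} = Nat.card f.ker := by
  obtain ⟨g₀, hg₀⟩ := hy
  apply Nat.card_congr
  exact
    { toFun := fun g => ⟨g.1 * g₀⁻¹, by rw [MonoidHom.mem_ker, map_mul, map_inv, g.2, hg₀, mul_inv_cancel]⟩
      invFun := fun k => ⟨k.1 * g₀, by rw [map_mul, MonoidHom.mem_ker.mp k.2, hg₀, one_mul]⟩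
      left_inv := fun g => by simp
      right_inv := fun k => by simp }

end grp

section field
variable {F : Type*} [Field F] [Fintype F] {q : ℕ}

theorem two_le_of_card_eq_sq (hF : Fintype.card F = q ^ 2) : 2 ≤ q := by
  have h1 : 1 < Fintype.card F := Fintype.one_lt_card
  rw [hF] at h1
  by_contra h
  have : q ≤ 1 := by omega
  interval_cases q <;> simp at h1

theorem pow_q_pow_q (hF : Fintype.card F = q ^ 2) (x : F) : (x ^ q) ^ q = x := by
  rw [← pow_mul, ← sq, ← hF, FiniteField.pow_card]

theorem exists_prime_pow_eq (hF : Fintype.card F = q ^ 2) :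
    ∃ p k : ℕ, p.Prime ∧ CharP F p ∧ q = p ^ k := by
  obtain ⟨p, hp⟩ := CharP.exists F
  have hprime : p.Prime := CharP.char_is_prime F p
  obtain ⟨n, _, hn⟩ := FiniteField.card F p
  have hdvd : q ∣ p ^ (n : ℕ) := by rw [← hn, hF]; exact dvd_pow_self q two_ne_zero
  obtain ⟨k, _, hk⟩ := (Nat.dvd_prime_pow hprime).mp hdvd
  exact ⟨p, k, hprime, hp, hk⟩

theorem add_pow_q (hF : Fintype.card F = q ^ 2) (x y : F) : (x + y) ^ q = x ^ q + y ^ q := by
  obtain ⟨p, k, hp, hchar, rfl⟩ := exists_prime_pow_eq hF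
  haveI := Fact.mk hp
  exact add_pow_char_pow x y p k

/-- The involution `x ↦ x ^ q` of `F`, `|F| = q²`, as a ring hom. -/
def conjHom (hF : Fintype.card F = q ^ 2) : F →+* F where
  toFun x := x ^ q
  map_one' := one_pow q
  map_mul' x y := mul_pow x y q
  map_zero' := zero_pow (by have := two_le_of_card_eq_sq hF; omega)
  map_add' := add_pow_q hF

@[simp] theorem conjHom_apply (hF : Fintype.card F = q ^ 2) (x : F) : conjHom hF x = x ^ q := rfl

theorem conjHom_conjHom (hF : Fintype.card F = q ^ 2) (x : F) : conjHom hF (conjHom hF x) = x :=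
  pow_q_pow_q hF x

theorem conjHom_bijective (hF : Fintype.card F = q ^ 2) : Function.Bijective (conjHom hF) :=
  Function.Involutive.bijective (conjHom_conjHom hF)

theorem sub_pow_q (hF : Fintype.card F = q ^ 2) (x y : F) : (x - y) ^ q = x ^ q - y ^ q :=
  map_sub (conjHom hF) x y

theorem neg_pow_q (hF : Fintype.card F = q ^ 2) (x : F) : (-x) ^ q = -x ^ q :=
  map_neg (conjHom hF) x

theorem sum_pow_q (hF : Fintype.card F = q ^ 2) {ι : Type*} (s : Finset ι) (f : ι → F) :
    (∑ i ∈ s, f i) ^ q = ∑ i ∈ s, f i ^ q :=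
  map_sum (conjHom hF) f s

theorem norm_pow_q (hF : Fintype.card F = q ^ 2) (x : F) : (x * x ^ q) ^ q = x * x ^ q := by
  rw [mul_pow, pow_q_pow_q hF, mul_comm]

theorem hermSelf_pow_q (hF : Fintype.card F = q ^ 2) {ι : Type*} [Fintype ι] (w : ι → F) :
    (∑ i, w i * w i ^ q) ^ q = ∑ i, w i * w i ^ q := by
  rw [sum_pow_q hF]
  exact Finset.sum_congr rfl (fun i _ => norm_pow_q hF (w i))

theorem card_units_eq_sq_sub_one (hF : Fintype.card F = q ^ 2) : Nat.card Fˣ = q ^ 2 - 1 := by
  rw [Nat.card_units, Nat.card_eq_fintype_card, hF]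

theorem q_add_one_mul_q_sub_one (hF : Fintype.card F = q ^ 2) : (q + 1) * (q - 1) = q ^ 2 - 1 := by
  have h2 := two_le_of_card_eq_sq hF
  obtain ⟨r, rfl⟩ : ∃ r, q = r + 1 := ⟨q - 1, by omega⟩
  have : (r + 1) ^ 2 = (r + 1 + 1) * r + 1 := by ring
  rw [this]
  simp

theorem card_ker_pow_q_add_one (hF : Fintype.card F = q ^ 2) :
    Nat.card (powMonoidHom (q + 1) : Fˣ →* Fˣ).ker = q + 1 := by
  rw [IsCyclic.card_powMonoidHom_ker, card_units_eq_sq_sub_one hF]
  apply Nat.gcd_eq_right
  exact ⟨q - 1, (q_add_one_mul_q_sub_one hF).symm⟩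

theorem range_pow_q_add_one (hF : Fintype.card F = q ^ 2) :
    (powMonoidHom (q + 1) : Fˣ →* Fˣ).range = (powMonoidHom (q - 1) : Fˣ →* Fˣ).ker := by
  have h2 := two_le_of_card_eq_sq hF
  have hq := q_add_one_mul_q_sub_one hF
  apply Subgroup.eq_of_le_of_card_ge
  · rintro _ ⟨u, rfl⟩
    rw [MonoidHom.mem_ker, powMonoidHom_apply, powMonoidHom_apply, ← pow_mul, hq,
      ← card_units_eq_sq_sub_one hF]
    exact pow_card_eq_one'
  · rw [IsCyclic.card_powMonoidHom_ker, IsCyclic.card_powMonoidHom_range,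
      card_units_eq_sq_sub_one hF]
    have h1 : (q ^ 2 - 1).gcd (q + 1) = q + 1 :=
      Nat.gcd_eq_right ⟨q - 1, hq.symm⟩
    have h3 : (q ^ 2 - 1).gcd (q - 1) = q - 1 :=
      Nat.gcd_eq_right ⟨q + 1, by rw [← hq, mul_comm]⟩
    rw [h1, h3, ← hq, Nat.mul_div_cancel_left _ (by omega)]

open scoped Classical in
/-- The norm map `x ↦ x * x ^ q` has fibres of size `q + 1` over the nonzero fixed points of `x ↦ x ^ q`. -/
theorem card_norm_eq (hF : Fintype.card F = q ^ 2) {d : F} (hd : d ^ q = d) :
    Nat.card {x : F // x * x ^ q = d} = if d = 0 then 1 else q + 1 := by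
  have h2 := two_le_of_card_eq_sq hF
  split_ifs with h0
  · subst h0
    rw [Nat.card_eq_one_iff_unique]
    refine ⟨⟨fun a b => Subtype.ext ?_⟩, ⟨⟨0, by simp⟩⟩⟩
    have ha : a.1 = 0 := by
      have := a.2
      rcases mul_eq_zero.mp this with h | h
      · exact h
      · exact pow_eq_zero_iff (by omega) |>.mp h
    have hb : b.1 = 0 := by
      have := b.2
      rcases mul_eq_zero.mp this with h | h
      · exact h
      · exact pow_eq_zero_iff (by omega) |>.mp h
    rw [ha, hb]
  · have hmem : Units.mk0 d h0 ∈ (powMonoidHom (q + 1) : Fˣ →* Fˣ).range := by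
      rw [range_pow_q_add_one hF, MonoidHom.mem_ker, powMonoidHom_apply]
      apply Units.ext
      rw [Units.val_pow_eq_pow_val, Units.val_mk0, Units.val_one]
      have : d ^ (q - 1) * d = d := by
        rw [← pow_succ, show q - 1 + 1 = q by omega, hd]
      exact mul_right_cancel₀ h0 (by rw [this, one_mul])
    rw [← card_ker_pow_q_add_one hF, ← card_fiber_eq_card_ker _ hmem]
    apply Nat.card_congr
    exact
      { toFun := fun x => ⟨Units.mk0 x.1 (by
            intro hx
            have := x.2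
            rw [hx, zero_mul] at this
            exact h0 this.symm), by
          apply Units.ext
          rw [powMonoidHom_apply, Units.val_pow_eq_pow_val, Units.val_mk0, Units.val_mk0, pow_succ',
            x.2]⟩
        invFun := fun u => ⟨u.1.1, by
          have := congrArg Units.val u.2
          rw [powMonoidHom_apply, Units.val_pow_eq_pow_val, Units.val_mk0, pow_succ'] at this
          exact this⟩
        left_inv := fun x => rfl
        right_inv := fun u => by
          apply Subtype.ext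
          apply Units.ext
          rfl }

/-- There is a norm-one element other than `1`. -/
theorem exists_norm_one_ne_one (hF : Fintype.card F = q ^ 2) : ∃ x : F, x * x ^ q = 1 ∧ x ≠ 1 := by
  have h2 := two_le_of_card_eq_sq hF
  have hc := card_norm_eq hF (d := (1 : F)) (one_pow q)
  rw [if_neg one_ne_zero] at hc
  have hlt : 1 < Nat.card {x : F // x * x ^ q = 1} := by omega
  rw [Finite.one_lt_card_iff_nontrivial] at hlt
  obtain ⟨y, hy⟩ := exists_ne (⟨1, by simp⟩ : {x : F // x * x ^ q = 1})
  exact ⟨y.1, y.2, fun h => hy (Subtype.ext h)⟩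

/-- The norm is surjective onto the fixed field. -/
theorem exists_norm_eq (hF : Fintype.card F = q ^ 2) {d : F} (hd : d ^ q = d) :
    ∃ x : F, x * x ^ q = d := by
  have hc := card_norm_eq hF hd
  have : 0 < Nat.card {x : F // x * x ^ q = d} := by
    rw [hc]; split_ifs <;> omega
  obtain ⟨x⟩ := (Nat.card_pos_iff.mp this).1
  exact ⟨x.1, x.2⟩

end field

section count
variable {F : Type*} [Field F] [Fintype F] {q : ℕ}

/-- The number of vectors `v ∈ F^n` with `Σ v_i v_i^q = c`. -/
noncomputable def hermCount (F : Type*) [Field F] (q n : ℕ) (c : F) : ℕ :=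
  Nat.card {v : Fin n → F // ∑ i, v i * v i ^ q = c}

theorem hermCount_le (hF : Fintype.card F = q ^ 2) (n : ℕ) (c : F) :
    hermCount F q n c ≤ q ^ (2 * n) := by
  have h := Finite.card_subtype_le (fun v : Fin n → F => ∑ i, v i * v i ^ q = c)
  rw [Nat.card_eq_fintype_card (α := Fin n → F), Fintype.card_fun, Fintype.card_fin, hF, ← pow_mul] at h
  exact h

theorem hermCount_succ (hF : Fintype.card F = q ^ 2) (n : ℕ) {c : F} (hc : c ^ q = c) :
    hermCount F q (n + 1) c =
      hermCount F q n c + (q + 1) * (q ^ (2 * n) - hermCount F q n c) := by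
  classical
  unfold hermCount
  let e : {v : Fin (n + 1) → F // ∑ i, v i * v i ^ q = c} ≃
      Σ w : Fin n → F, {x : F // x * x ^ q = c - ∑ i, w i * w i ^ q} :=
    { toFun := fun v => ⟨Fin.tail v.1, ⟨v.1 0, by
          have := v.2
          rw [Fin.sum_univ_succ] at this
          exact eq_sub_of_add_eq this⟩⟩
      invFun := fun s => ⟨Fin.cons s.2.1 s.1, by
          rw [Fin.sum_univ_succ]
          simp only [Fin.cons_zero, Fin.cons_succ]
          rw [s.2.2]; ring⟩
      left_inv := fun v => by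
        apply Subtype.ext
        simp
      right_inv := fun s => by
        rcases s with ⟨w, x, hx⟩
        apply Sigma.subtype_ext
        · simp
        · simp }
  rw [Nat.card_congr e, Nat.card_sigma]
  have hfib : ∀ w : Fin n → F, Nat.card {x : F // x * x ^ q = c - ∑ i, w i * w i ^ q} =
      if ∑ i, w i * w i ^ q = c then 1 else q + 1 := by
    intro w
    rw [card_norm_eq hF (by rw [sub_pow_q hF, hc, hermSelf_pow_q hF])]
    simp only [sub_eq_zero]
    congr 1
    exact propext eq_comm
  simp only [hfib]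
  rw [Finset.sum_ite, Finset.sum_const, Finset.sum_const, smul_eq_mul, smul_eq_mul, mul_one]
  have h1 : Nat.card {v : Fin n → F // ∑ i, v i * v i ^ q = c} =
      (Finset.univ.filter (fun w : Fin n → F => ∑ i, w i * w i ^ q = c)).card := by
    rw [Nat.card_eq_fintype_card, Fintype.card_subtype]
  have h2 := Finset.card_filter_add_card_filter_not (s := (Finset.univ : Finset (Fin n → F)))
    (fun w : Fin n → F => ∑ i, w i * w i ^ q = c)
  rw [Finset.card_univ, Fintype.card_fun, Fintype.card_fin, hF, ← pow_mul] at h2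
  rw [h1, ← h2, Nat.add_sub_cancel_left, mul_comm]

theorem hermCount_succ_int (hF : Fintype.card F = q ^ 2) (n : ℕ) {c : F} (hc : c ^ q = c) :
    (hermCount F q (n + 1) c : ℤ) = (q + 1) * (q : ℤ) ^ (2 * n) - q * hermCount F q n c := by
  rw [hermCount_succ hF n hc]
  push_cast [Nat.cast_sub (hermCount_le hF n c)]
  ring

omit [Fintype F] in
theorem hermCount_zero_one : hermCount F q 0 (1 : F) = 0 := by
  unfold hermCount
  rw [Nat.card_eq_zero]
  left
  constructor
  rintro ⟨v, hv⟩
  simp at hv

omit [Fintype F] in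
theorem hermCount_zero_zero : hermCount F q 0 (0 : F) = 1 := by
  unfold hermCount
  rw [Nat.card_eq_one_iff_unique]
  refine ⟨⟨fun a b => Subtype.ext (Subsingleton.elim _ _)⟩, ⟨⟨0, by simp⟩⟩⟩

theorem hermCount_one_int (hF : Fintype.card F = q ^ 2) (n : ℕ) :
    (q : ℤ) * hermCount F q n (1 : F) = (q : ℤ) ^ n * ((q : ℤ) ^ n - (-1) ^ n) := by
  induction n with
  | zero => simp [hermCount_zero_one]
  | succ n ih =>
    rw [hermCount_succ_int hF n (one_pow q)]
    linear_combination (-(q : ℤ)) * ih

theorem hermCount_zero_int (hF : Fintype.card F = q ^ 2) (n : ℕ) :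
    (q : ℤ) * hermCount F q n (0 : F) = (q : ℤ) ^ (2 * n) + (-1) ^ n * ((q : ℤ) ^ (n + 1) - (q : ℤ) ^ n) := by
  have h2 := two_le_of_card_eq_sq hF
  induction n with
  | zero => simp [hermCount_zero_zero]
  | succ n ih =>
    rw [hermCount_succ_int hF n (zero_pow (by omega))]
    linear_combination (-(q : ℤ)) * ih

/-- The number of norm-one vectors. -/
theorem hermCount_one (hF : Fintype.card F = q ^ 2) (n : ℕ) :
    hermCount F q n (1 : F) =
      if Even n then q ^ (n - 1) * (q ^ n - 1) else q ^ (n - 1) * (q ^ n + 1) := by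
  have h2 := two_le_of_card_eq_sq hF
  have hq0 : (q : ℤ) ≠ 0 := by exact_mod_cast (by omega : q ≠ 0)
  have h := hermCount_one_int hF n
  rcases Nat.eq_zero_or_pos n with h0 | h0
  · subst h0
    simp [hermCount_zero_one]
  · obtain ⟨k, rfl⟩ : ∃ k, n = k + 1 := ⟨n - 1, by omega⟩
    rw [pow_succ' (q : ℤ) k, mul_assoc] at h
    have h' := mul_left_cancel₀ hq0 h
    have h1 : 1 ≤ q ^ (k + 1) := Nat.one_le_pow _ _ (by omega)
    rw [Nat.add_sub_cancel]
    split_ifs with he
    · rw [he.neg_one_pow] at h'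
      zify [h1]
      rw [h']; ring
    · rw [(Nat.not_even_iff_odd.mp he).neg_one_pow] at h'
      zify
      rw [h']; ring

/-- The number of isotropic vectors (including `0`). -/
theorem hermCount_zero (hF : Fintype.card F = q ^ 2) (n : ℕ) :
    hermCount F q n (0 : F) =
      (if Even n then (q ^ n - 1) * (q ^ (n - 1) + 1) else (q ^ n + 1) * (q ^ (n - 1) - 1)) + 1 := by
  have h2 := two_le_of_card_eq_sq hF
  have hq0 : (q : ℤ) ≠ 0 := by exact_mod_cast (by omega : q ≠ 0)
  have h := hermCount_zero_int hF n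
  rcases Nat.eq_zero_or_pos n with h0 | h0
  · subst h0
    simp [hermCount_zero_zero]
  · obtain ⟨k, rfl⟩ : ∃ k, n = k + 1 := ⟨n - 1, by omega⟩
    have h1 : 1 ≤ q ^ (k + 1) := Nat.one_le_pow _ _ (by omega)
    have h3 : 1 ≤ q ^ k := Nat.one_le_pow _ _ (by omega)
    rw [Nat.add_sub_cancel]
    apply Nat.cast_injective (R := ℤ)
    apply mul_left_cancel₀ hq0
    rw [h]
    split_ifs with he
    · rw [he.neg_one_pow]
      push_cast [h1]
      ring
    · rw [(Nat.not_even_iff_odd.mp he).neg_one_pow]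
      push_cast [h3]
      ring

end count

end Cfsg.Agent.Lib.Helper5
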