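import Mathlib
import Cfsg.Prelude.Def_LieClassical
import Cfsg.Agent.Lib.Helper5.UnitaryField

set_option autoImplicit false

namespace Cfsg.Agent.Lib.Helper5

open Matrix Cfsg

section form
variable {F : Type*} [Field F] {q : ℕ} {n : ℕ}

theorem hermForm_eq_dot (u v : Fin n → F) :
    hermForm n F q u v = u ⬝ᵥ (fun i => v i ^ q) := rfl

theorem hermForm_add_left (u u' v : Fin n → F) :
    hermForm n F q (u + u') v = hermForm n F q u v + hermForm n F q u' v := by
  simp only [hermForm_eq_dot, add_dotProduct]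

theorem hermForm_smul_left (c : F) (u v : Fin n → F) :
    hermForm n F q (c • u) v = c * hermForm n F q u v := by
  simp only [hermForm_eq_dot, smul_dotProduct, smul_eq_mul]

theorem hermForm_smul_right (c : F) (u v : Fin n → F) :
    hermForm n F q u (c • v) = c ^ q * hermForm n F q u v := by
  simp only [hermForm, Pi.smul_apply, smul_eq_mul, mul_pow, Finset.mul_sum]
  apply Finset.sum_congr rfl
  intro i _
  ring

theorem hermForm_zero_left (v : Fin n → F) : hermForm n F q 0 v = 0 := by
  simp [hermForm]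

theorem hermForm_single_left (i : Fin n) (c : F) (v : Fin n → F) :
    hermForm n F q (Pi.single i c) v = c * v i ^ q := by
  rw [hermForm_eq_dot, single_dotProduct]

theorem hermForm_sub_left (u u' v : Fin n → F) :
    hermForm n F q (u - u') v = hermForm n F q u v - hermForm n F q u' v := by
  simp only [hermForm_eq_dot, sub_dotProduct]

variable [Fintype F]

theorem hermForm_add_right (hF : Fintype.card F = q ^ 2) (u v v' : Fin n → F) :
    hermForm n F q u (v + v') = hermForm n F q u v + hermForm n F q u v' := by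
  simp only [hermForm, Pi.add_apply, add_pow_q hF, mul_add, Finset.sum_add_distrib]

theorem hermForm_sub_right (hF : Fintype.card F = q ^ 2) (u v v' : Fin n → F) :
    hermForm n F q u (v - v') = hermForm n F q u v - hermForm n F q u v' := by
  simp only [hermForm, Pi.sub_apply, sub_pow_q hF, mul_sub, Finset.sum_sub_distrib]

theorem hermForm_conj (hF : Fintype.card F = q ^ 2) (u v : Fin n → F) :
    (hermForm n F q u v) ^ q = hermForm n F q v u := by
  simp only [hermForm]
  rw [sum_pow_q hF]
  apply Finset.sum_congr rfl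
  intro i _
  rw [mul_pow, pow_q_pow_q hF, mul_comm]

theorem hermForm_single_right (hF : Fintype.card F = q ^ 2) (i : Fin n) (c : F) (u : Fin n → F) :
    hermForm n F q u (Pi.single i c) = u i * c ^ q := by
  rw [← hermForm_conj hF, hermForm_single_left, mul_pow, pow_q_pow_q hF, mul_comm]

/-- The conjugate `x ↦ x^q` applied entrywise to a vector. -/
theorem conj_mulVec (hF : Fintype.card F = q ^ 2) (M : Matrix (Fin n) (Fin n) F) (v : Fin n → F) :
    (fun i => (M *ᵥ v) i ^ q) = (M.map (· ^ q)) *ᵥ (fun i => v i ^ q) := by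
  ext i
  simp only [mulVec, dotProduct, sum_pow_q hF, mul_pow, map_apply]

theorem hermForm_mulVec (hF : Fintype.card F = q ^ 2) (M : Matrix (Fin n) (Fin n) F)
    (u v : Fin n → F) :
    hermForm n F q (M *ᵥ u) (M *ᵥ v) = u ⬝ᵥ ((Mᵀ * M.map (· ^ q)) *ᵥ (fun i => v i ^ q)) := by
  rw [hermForm_eq_dot, conj_mulVec hF, ← mulVec_mulVec, dotProduct_mulVec u Mᵀ, vecMul_transpose]

/-- A matrix preserves the Hermitian form iff `Mᵀ * M̄ = 1`. -/
theorem preserves_iff_matrix (hF : Fintype.card F = q ^ 2) (M : Matrix (Fin n) (Fin n) F) :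
    (∀ u v, hermForm n F q (M *ᵥ u) (M *ᵥ v) = hermForm n F q u v) ↔
      Mᵀ * M.map (· ^ q) = 1 := by
  constructor
  · intro h
    ext i j
    have := h (Pi.single i 1) (Pi.single j 1)
    rw [hermForm_mulVec hF, hermForm_single_left, one_mul] at this
    have h1 : (fun k => (Pi.single j (1 : F) : Fin n → F) k ^ q) = Pi.single j 1 := by
      ext k
      by_cases hk : k = j
      · subst hk; simp
      · simp [hk, zero_pow (by have := two_le_of_card_eq_sq hF; omega : q ≠ 0)]
    rw [h1, mulVec_single_one, single_dotProduct, one_mul] at this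
    rw [Matrix.one_apply]
    simp only [col_apply] at this
    rw [this]
    by_cases hij : i = j
    · subst hij; simp
    · simp [hij, zero_pow (by have := two_le_of_card_eq_sq hF; omega : q ≠ 0)]
  · intro h u v
    rw [hermForm_mulVec hF, h, one_mulVec]
    rfl

end form

section qrefl
variable {F : Type*} [Field F] {q : ℕ} {n : ℕ}

/-- The quasi-reflection `x ↦ x + a h(x, w) w`. -/
def qrefl (q : ℕ) (w : Fin n → F) (a : F) : Matrix (Fin n) (Fin n) F :=
  1 + a • vecMulVec w (fun j => w j ^ q)

theorem qrefl_mulVec (w : Fin n → F) (a : F) (x : Fin n → F) :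
    qrefl q w a *ᵥ x = x + (a * hermForm n F q x w) • w := by
  simp only [qrefl, add_mulVec, one_mulVec, smul_mulVec, vecMulVec_mulVec]
  congr 1
  rw [hermForm_eq_dot, dotProduct_comm x, mul_smul]
  ext i
  simp [mul_comm]

variable [Fintype F]

theorem qrefl_preserves (hF : Fintype.card F = q ^ 2) (w : Fin n → F) (a : F)
    (ha : a + a ^ q + a * a ^ q * hermForm n F q w w = 0) (u v : Fin n → F) :
    hermForm n F q (qrefl q w a *ᵥ u) (qrefl q w a *ᵥ v) = hermForm n F q u v := by
  rw [qrefl_mulVec, qrefl_mulVec, hermForm_add_left, hermForm_add_right hF, hermForm_add_right hF,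
    hermForm_smul_left, hermForm_smul_left, hermForm_smul_right, hermForm_smul_right, mul_pow,
    hermForm_conj hF]
  linear_combination (hermForm n F q u w * hermForm n F q w v) * ha

/-- A form-preserving matrix is invertible. -/
theorem det_ne_zero_of_preserves (hF : Fintype.card F = q ^ 2) (M : Matrix (Fin n) (Fin n) F)
    (h : ∀ u v, hermForm n F q (M *ᵥ u) (M *ᵥ v) = hermForm n F q u v) : M.det ≠ 0 := by
  rw [preserves_iff_matrix hF] at h
  have := congrArg Matrix.det h
  rw [det_mul, det_transpose, det_one] at this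
  intro h0
  rw [h0, zero_mul] at this
  exact zero_ne_one this

/-- Build an element of `GU` from a form-preserving matrix. -/
noncomputable def GUofPreserves (hF : Fintype.card F = q ^ 2) (M : Matrix (Fin n) (Fin n) F)
    (h : ∀ u v, hermForm n F q (M *ᵥ u) (M *ᵥ v) = hermForm n F q u v) : GU n F q :=
  ⟨GeneralLinearGroup.mkOfDetNeZero M (det_ne_zero_of_preserves hF M h), h⟩

@[simp] theorem GUofPreserves_coe (hF : Fintype.card F = q ^ 2) (M : Matrix (Fin n) (Fin n) F)
    (h : ∀ u v, hermForm n F q (M *ᵥ u) (M *ᵥ v) = hermForm n F q u v) :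
    ((GUofPreserves hF M h : GU n F q) : GL (Fin n) F).1 = M := rfl

omit [Fintype F] in
theorem GU_preserves (g : GU n F q) (u v : Fin n → F) :
    hermForm n F q (g.1.1 *ᵥ u) (g.1.1 *ᵥ v) = hermForm n F q u v := g.2 u v

/-- One quasi-reflection moves `u` to `v` when `h(u,v) ≠ 1`. -/
theorem exists_GU_mulVec_eq_of_ne (hF : Fintype.card F = q ^ 2) {u v : Fin n → F}
    (hu : hermForm n F q u u = 1) (hv : hermForm n F q v v = 1) (huv : hermForm n F q u v ≠ 1) :
    ∃ g : GU n F q, g.1.1 *ᵥ u = v := by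
  set t := 1 - hermForm n F q u v with ht
  have ht0 : t ≠ 0 := sub_ne_zero.mpr (Ne.symm huv)
  have htq : t ^ q = 1 - hermForm n F q v u := by
    rw [ht, sub_pow_q hF, one_pow, hermForm_conj hF]
  have htq0 : t ^ q ≠ 0 := pow_ne_zero _ ht0
  have hww : hermForm n F q (u - v) (u - v) = t + t ^ q := by
    rw [hermForm_sub_left, hermForm_sub_right hF, hermForm_sub_right hF, hu, hv, htq, ht]
    ring
  have hcond : (-t⁻¹) + (-t⁻¹) ^ q + (-t⁻¹) * (-t⁻¹) ^ q * hermForm n F q (u - v) (u - v) = 0 := by
    rw [hww, neg_pow_q hF, inv_pow]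
    field_simp
    ring
  refine ⟨GUofPreserves hF (qrefl q (u - v) (-t⁻¹)) (qrefl_preserves hF _ _ hcond), ?_⟩
  rw [GUofPreserves_coe, qrefl_mulVec, hermForm_sub_right hF, hu, ← ht, neg_mul, inv_mul_cancel₀ ht0]
  simp

/-- `GU_n` is transitive on norm-one vectors. -/
theorem exists_GU_mulVec_eq (hF : Fintype.card F = q ^ 2) {u v : Fin n → F}
    (hu : hermForm n F q u u = 1) (hv : hermForm n F q v v = 1) :
    ∃ g : GU n F q, g.1.1 *ᵥ u = v := by
  by_cases huv : hermForm n F q u v = 1
  · obtain ⟨l, hl, hl1⟩ := exists_norm_one_ne_one hF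
    have hz : hermForm n F q (l • u) (l • u) = 1 := by
      rw [hermForm_smul_left, hermForm_smul_right, hu, mul_one, hl]
    have h1 : hermForm n F q u (l • u) ≠ 1 := by
      rw [hermForm_smul_right, hu, mul_one]
      intro h
      apply hl1
      have := congrArg (· ^ q) h
      simp only [one_pow, pow_q_pow_q hF] at this
      exact this
    have h2 : hermForm n F q (l • u) v ≠ 1 := by
      rw [hermForm_smul_left, huv, mul_one]
      exact hl1
    obtain ⟨g1, hg1⟩ := exists_GU_mulVec_eq_of_ne hF hu hz h1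
    obtain ⟨g2, hg2⟩ := exists_GU_mulVec_eq_of_ne hF hz hv h2
    refine ⟨g2 * g1, ?_⟩
    rw [Subgroup.coe_mul, Units.val_mul, ← mulVec_mulVec, hg1, hg2]
  · exact exists_GU_mulVec_eq_of_ne hF hu hv huv

end qrefl

section blocks
variable {F : Type*} [Field F] {q : ℕ}

/-- `Mᵀ * M̄ = 1` for matrices over an arbitrary index type. -/
def IsUnitaryMat (q : ℕ) {ι : Type*} [Fintype ι] [DecidableEq ι] (M : Matrix ι ι F) : Prop :=
  Mᵀ * M.map (· ^ q) = 1

/-- Reindexing: split off the first coordinate. -/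
def tauU (n : ℕ) : Unit ⊕ Fin n ≃ Fin (n + 1) where
  toFun := Sum.elim (fun _ => 0) Fin.succ
  invFun := Fin.cases (Sum.inl ()) Sum.inr
  left_inv x := by
    rcases x with x | x
    · rfl
    · rfl
  right_inv x := by
    refine Fin.cases ?_ (fun i => ?_) x <;> rfl

@[simp] theorem tauU_inl (n : ℕ) (u : Unit) : tauU n (Sum.inl u) = 0 := rfl
@[simp] theorem tauU_inr (n : ℕ) (i : Fin n) : tauU n (Sum.inr i) = i.succ := rfl
@[simp] theorem tauU_symm_zero (n : ℕ) : (tauU n).symm 0 = Sum.inl () := rfl
@[simp] theorem tauU_symm_succ (n : ℕ) (i : Fin n) : (tauU n).symm i.succ = Sum.inr i := rfl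

theorem isUnitaryMat_submatrix {ι κ : Type*} [Fintype ι] [DecidableEq ι] [Fintype κ] [DecidableEq κ]
    (e : κ ≃ ι) (M : Matrix ι ι F) :
    IsUnitaryMat q (M.submatrix e e) ↔ IsUnitaryMat q M := by
  unfold IsUnitaryMat
  rw [transpose_submatrix, ← submatrix_map, submatrix_mul_equiv]
  constructor
  · intro h
    have := congrArg (fun N => N.submatrix e.symm e.symm) h
    simpa using this
  · intro h; rw [h]; simp

theorem isUnitaryMat_fromBlocks_one {n : ℕ} (hq : q ≠ 0) (A : Matrix (Fin n) (Fin n) F) :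
    IsUnitaryMat q (fromBlocks (1 : Matrix Unit Unit F) 0 0 A) ↔ IsUnitaryMat q A := by
  unfold IsUnitaryMat
  rw [fromBlocks_transpose, fromBlocks_map, fromBlocks_multiply]
  have h1 : (1 : Matrix Unit Unit F).map (· ^ q) = 1 := by
    ext i j; simp [Matrix.one_apply]
  have h0 : (0 : Matrix Unit (Fin n) F).map (· ^ q) = 0 := by
    ext i j; simp [hq]
  have h0' : (0 : Matrix (Fin n) Unit F).map (· ^ q) = 0 := by
    ext i j; simp [hq]
  rw [h1, h0, h0']
  simp only [transpose_one, transpose_zero, Matrix.one_mul, Matrix.mul_one, Matrix.zero_mul,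
    Matrix.mul_zero, add_zero, zero_add]
  rw [← fromBlocks_one, fromBlocks_inj]
  simp

/-- Structure of a unitary matrix whose first column is `e₀`. -/
theorem isUnitaryMat_blocks_of_col {n : ℕ} (hq : q ≠ 0) (P : Matrix (Unit ⊕ Fin n) (Unit ⊕ Fin n) F)
    (h11 : P.toBlocks₁₁ = 1) (h21 : P.toBlocks₂₁ = 0) (hP : IsUnitaryMat q P) :
    P = fromBlocks 1 0 0 P.toBlocks₂₂ ∧ IsUnitaryMat q P.toBlocks₂₂ := by
  have h1 : (1 : Matrix Unit Unit F).map (· ^ q) = 1 := by
    ext i j; simp [Matrix.one_apply]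
  have h0' : (0 : Matrix (Fin n) Unit F).map (· ^ q) = 0 := by
    ext i j; simp [hq]
  have hP' := hP
  unfold IsUnitaryMat at hP'
  rw [← fromBlocks_toBlocks P, h11, h21, fromBlocks_transpose, fromBlocks_map, fromBlocks_multiply,
    h1, h0'] at hP'
  simp only [transpose_one, transpose_zero, Matrix.one_mul, Matrix.mul_one, Matrix.zero_mul,
    Matrix.mul_zero, add_zero, zero_add] at hP'
  rw [← fromBlocks_one, fromBlocks_inj] at hP'
  obtain ⟨-, e12, -, e22⟩ := hP'
  have h12 : P.toBlocks₁₂ = 0 := by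
    ext i j
    have := congrFun (congrFun e12 i) j
    simp only [map_apply, Matrix.zero_apply] at this
    exact pow_eq_zero_iff hq |>.mp this
  rw [h12] at e22
  simp only [transpose_zero, Matrix.zero_mul, zero_add] at e22
  refine ⟨?_, e22⟩
  conv_lhs => rw [← fromBlocks_toBlocks P, h11, h21, h12]

end blocks

section action
variable {F : Type*} [Field F] [Fintype F] {q : ℕ} {n : ℕ}

theorem isUnitaryMat_iff_preserves (hF : Fintype.card F = q ^ 2) (M : Matrix (Fin n) (Fin n) F) :
    IsUnitaryMat q M ↔ ∀ u v, hermForm n F q (M *ᵥ u) (M *ᵥ v) = hermForm n F q u v :=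
  (preserves_iff_matrix hF M).symm

/-- Norm-one vectors. -/
def NormOne (n : ℕ) (F : Type*) [Field F] (q : ℕ) : Type _ :=
  {v : Fin n → F // hermForm n F q v v = 1}

instance normOneMulAction : MulAction (GU n F q) (NormOne n F q) where
  smul g v := ⟨g.1.1 *ᵥ v.1, by rw [GU_preserves]; exact v.2⟩
  one_smul v := by
    apply Subtype.ext
    change (1 : Matrix (Fin n) (Fin n) F) *ᵥ v.1 = v.1
    simp
  mul_smul g h v := by
    apply Subtype.ext
    change (g.1.1 * h.1.1) *ᵥ v.1 = g.1.1 *ᵥ (h.1.1 *ᵥ v.1)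
    rw [mulVec_mulVec]

omit [Fintype F] in
theorem normOne_smul_coe (g : GU n F q) (v : NormOne n F q) : (g • v).1 = g.1.1 *ᵥ v.1 := rfl

theorem normOne_isPretransitive (hF : Fintype.card F = q ^ 2) :
    MulAction.IsPretransitive (GU n F q) (NormOne n F q) := by
  constructor
  intro u v
  obtain ⟨g, hg⟩ := exists_GU_mulVec_eq hF u.2 v.2
  exact ⟨g, Subtype.ext hg⟩

theorem card_normOne : Nat.card (NormOne n F q) = hermCount F q n 1 := rfl

/-- The standard first basis vector. -/
def stdNormOne (hq : q ≠ 0) : NormOne (n + 1) F q :=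
  ⟨Pi.single 0 1, by rw [hermForm_single_left, one_mul]; simp⟩

omit [Fintype F] in
theorem mem_stabilizer_stdNormOne_iff (hq : q ≠ 0) (g : GU (n + 1) F q) :
    g ∈ MulAction.stabilizer (GU (n + 1) F q) (stdNormOne (n := n) (F := F) hq) ↔
      g.1.1 *ᵥ Pi.single 0 1 = Pi.single 0 1 := by
  rw [MulAction.mem_stabilizer_iff]
  constructor
  · intro h
    exact congrArg Subtype.val h
  · intro h
    exact Subtype.ext h

end action

section stab
variable {F : Type*} [Field F] [Fintype F] {q : ℕ} {n : ℕ}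

theorem stab_blocks (hF : Fintype.card F = q ^ 2) (hq : q ≠ 0) (g : GU (n + 1) F q)
    (hg : g.1.1 *ᵥ Pi.single 0 1 = Pi.single 0 1) :
    g.1.1.submatrix (tauU n) (tauU n) =
        fromBlocks 1 0 0 (g.1.1.submatrix (tauU n) (tauU n)).toBlocks₂₂ ∧
      IsUnitaryMat q (g.1.1.submatrix (tauU n) (tauU n)).toBlocks₂₂ := by
  have hcol : ∀ x, g.1.1 x 0 = (Pi.single 0 1 : Fin (n + 1) → F) x := by
    intro x
    have := congrFun hg x
    rwa [mulVec_single_one] at this
  apply isUnitaryMat_blocks_of_col hq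
  · ext i j
    simp [toBlocks₁₁, hcol]
  · ext i j
    simp [toBlocks₂₁, hcol, Fin.succ_ne_zero]
  · rw [isUnitaryMat_submatrix, isUnitaryMat_iff_preserves hF]
    exact GU_preserves g

theorem fromBlocks_preserves (hF : Fintype.card F = q ^ 2) (hq : q ≠ 0) (A : GU n F q) :
    ∀ u v, hermForm (n + 1) F q
      ((fromBlocks (1 : Matrix Unit Unit F) 0 0 A.1.1).submatrix (tauU n).symm (tauU n).symm *ᵥ u)
      ((fromBlocks (1 : Matrix Unit Unit F) 0 0 A.1.1).submatrix (tauU n).symm (tauU n).symm *ᵥ v) =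
        hermForm (n + 1) F q u v := by
  rw [← isUnitaryMat_iff_preserves hF, ← isUnitaryMat_submatrix (tauU n)]
  have : ((fromBlocks (1 : Matrix Unit Unit F) 0 0 A.1.1).submatrix (tauU n).symm
      (tauU n).symm).submatrix (tauU n) (tauU n) = fromBlocks 1 0 0 A.1.1 := by
    simp
  rw [this, isUnitaryMat_fromBlocks_one hq, isUnitaryMat_iff_preserves hF]
  exact GU_preserves A

omit [Fintype F] in
theorem fromBlocks_submatrix_mulVec_single (A : Matrix (Fin n) (Fin n) F) :
    (fromBlocks (1 : Matrix Unit Unit F) 0 0 A).submatrix (tauU n).symm (tauU n).symm *ᵥ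
      Pi.single 0 1 = Pi.single 0 1 := by
  ext x
  rw [mulVec_single_one]
  refine Fin.cases ?_ (fun i => ?_) x
  · simp
  · simp [Fin.succ_ne_zero]

/-- The stabilizer of `e₀` in `GU_{n+1}` is in bijection with `GU_n`. -/
noncomputable def stabilizerStdNormOneEquiv (hF : Fintype.card F = q ^ 2) (hq : q ≠ 0) :
    MulAction.stabilizer (GU (n + 1) F q) (stdNormOne (n := n) (F := F) hq) ≃ GU n F q where
  toFun g := GUofPreserves hF (g.1.1.1.submatrix (tauU n) (tauU n)).toBlocks₂₂
    ((isUnitaryMat_iff_preserves hF _).mp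
      (stab_blocks hF hq g.1 ((mem_stabilizer_stdNormOne_iff hq g.1).mp g.2)).2)
  invFun A := ⟨GUofPreserves hF _ (fromBlocks_preserves hF hq A), by
    rw [mem_stabilizer_stdNormOne_iff, GUofPreserves_coe]
    exact fromBlocks_submatrix_mulVec_single _⟩
  left_inv g := by
    apply Subtype.ext; apply Subtype.ext; apply Units.ext
    have h := (stab_blocks hF hq g.1 ((mem_stabilizer_stdNormOne_iff hq g.1).mp g.2)).1
    change (fromBlocks 1 0 0 (g.1.1.1.submatrix (tauU n) (tauU n)).toBlocks₂₂).submatrix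
      (tauU n).symm (tauU n).symm = g.1.1.1
    rw [← h]
    simp
  right_inv A := by
    apply Subtype.ext; apply Units.ext
    change (((fromBlocks 1 0 0 A.1.1).submatrix (tauU n).symm (tauU n).symm).submatrix
      (tauU n) (tauU n)).toBlocks₂₂ = A.1.1
    simp

theorem card_GU_succ (hF : Fintype.card F = q ^ 2) (n : ℕ) :
    Nat.card (GU (n + 1) F q) = hermCount F q (n + 1) 1 * Nat.card (GU n F q) := by
  have hq : q ≠ 0 := by have := two_le_of_card_eq_sq hF; omega
  haveI := normOne_isPretransitive (n := n + 1) hF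
  have h1 := Subgroup.card_mul_index
    (MulAction.stabilizer (GU (n + 1) F q) (stdNormOne (n := n) (F := F) hq))
  rw [MulAction.index_stabilizer_of_transitive, card_normOne,
    Nat.card_congr (stabilizerStdNormOneEquiv hF hq)] at h1
  rw [← h1, mul_comm]

theorem card_GU_zero : Nat.card (GU 0 F q) = 1 := by
  rw [Nat.card_eq_one_iff_unique]
  refine ⟨⟨fun a b => ?_⟩, ⟨1⟩⟩
  apply Subtype.ext; apply Units.ext
  ext i
  exact i.elim0

/-- The order of the general unitary group. -/
theorem card_GU (hF : Fintype.card F = q ^ 2) (n : ℕ) :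
    Nat.card (GU n F q) = q ^ (n * (n - 1) / 2) *
      ∏ i ∈ Finset.range n, (if Even i then q ^ (i + 1) + 1 else q ^ (i + 1) - 1) := by
  rw [← Finset.sum_range_id, ← Finset.prod_pow_eq_pow_sum, ← Finset.prod_mul_distrib]
  induction n with
  | zero => simp [card_GU_zero]
  | succ n ih =>
    rw [card_GU_succ hF, ih, Finset.prod_range_succ, hermCount_one hF, mul_comm]
    congr 1
    rw [Nat.add_sub_cancel]
    by_cases he : Even n
    · have : ¬ Even (n + 1) := by
        rw [Nat.even_add_one]; exact not_not.mpr he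
      rw [if_neg this, if_pos he]
    · have : Even (n + 1) := by
        rw [Nat.even_add_one]; exact he
      rw [if_pos this, if_neg he]

end stab

end Cfsg.Agent.Lib.Helper5
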