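import Mathlib

set_option autoImplicit false

namespace Cfsg.Agent.Lib.Helper5

open Matrix

variable {l : Type*} [DecidableEq l] [Fintype l] {R : Type*} [CommRing R]

/-- The standard symplectic form `ω(u, v) = u ⬝ᵥ J v`. -/
def sympForm (l : Type*) [DecidableEq l] [Fintype l] (R : Type*) [CommRing R]
    (u v : l ⊕ l → R) : R := u ⬝ᵥ (J l R *ᵥ v)

theorem sympForm_def (u v : l ⊕ l → R) : sympForm l R u v = u ⬝ᵥ (J l R *ᵥ v) := rfl

theorem J_mulVec_inl (v : l ⊕ l → R) (i : l) : (J l R *ᵥ v) (Sum.inl i) = - v (Sum.inr i) := by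
  simp [J, mulVec, dotProduct, Fintype.sum_sum_type, Matrix.one_apply]

theorem J_mulVec_inr (v : l ⊕ l → R) (i : l) : (J l R *ᵥ v) (Sum.inr i) = v (Sum.inl i) := by
  simp [J, mulVec, dotProduct, Fintype.sum_sum_type, Matrix.one_apply]

theorem sympForm_eq_sum (u v : l ⊕ l → R) :
    sympForm l R u v = ∑ i, (u (Sum.inr i) * v (Sum.inl i) - u (Sum.inl i) * v (Sum.inr i)) := by
  simp only [sympForm, dotProduct, Fintype.sum_sum_type, J_mulVec_inl, J_mulVec_inr]
  rw [Finset.sum_sub_distrib]
  simp only [mul_neg, Finset.sum_neg_distrib]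
  ring

@[simp] theorem sympForm_add_left (u u' v : l ⊕ l → R) :
    sympForm l R (u + u') v = sympForm l R u v + sympForm l R u' v := by
  simp [sympForm, add_dotProduct]

@[simp] theorem sympForm_add_right (u v v' : l ⊕ l → R) :
    sympForm l R u (v + v') = sympForm l R u v + sympForm l R u v' := by
  simp [sympForm, mulVec_add, dotProduct_add]

@[simp] theorem sympForm_smul_left (c : R) (u v : l ⊕ l → R) :
    sympForm l R (c • u) v = c * sympForm l R u v := by
  simp [sympForm, smul_dotProduct]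

@[simp] theorem sympForm_smul_right (c : R) (u v : l ⊕ l → R) :
    sympForm l R u (c • v) = c * sympForm l R u v := by
  simp [sympForm, mulVec_smul, dotProduct_smul]

@[simp] theorem sympForm_sub_left (u u' v : l ⊕ l → R) :
    sympForm l R (u - u') v = sympForm l R u v - sympForm l R u' v := by
  simp [sympForm, sub_dotProduct]

@[simp] theorem sympForm_sub_right (u v v' : l ⊕ l → R) :
    sympForm l R u (v - v') = sympForm l R u v - sympForm l R u v' := by
  simp [sympForm, mulVec_sub, dotProduct_sub]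

@[simp] theorem sympForm_zero_left (v : l ⊕ l → R) : sympForm l R 0 v = 0 := by simp [sympForm]
@[simp] theorem sympForm_zero_right (u : l ⊕ l → R) : sympForm l R u 0 = 0 := by simp [sympForm]

theorem sympForm_swap (u v : l ⊕ l → R) : sympForm l R v u = - sympForm l R u v := by
  rw [sympForm_eq_sum, sympForm_eq_sum, ← Finset.sum_neg_distrib]
  apply Finset.sum_congr rfl
  intro i _
  ring

@[simp] theorem sympForm_self (u : l ⊕ l → R) : sympForm l R u u = 0 := by
  rw [sympForm_eq_sum]
  apply Finset.sum_eq_zero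
  intro i _
  ring

theorem sympForm_single_inl_right (u : l ⊕ l → R) (i : l) (c : R) :
    sympForm l R u (Pi.single (Sum.inl i) c) = u (Sum.inr i) * c := by
  rw [sympForm_eq_sum, Finset.sum_eq_single i]
  · simp
  · intro j _ hj
    simp [hj]
  · simp

theorem sympForm_single_inr_right (u : l ⊕ l → R) (i : l) (c : R) :
    sympForm l R u (Pi.single (Sum.inr i) c) = - (u (Sum.inl i) * c) := by
  rw [sympForm_eq_sum, Finset.sum_eq_single i]
  · simp
  · intro j _ hj
    simp [hj]
  · simp

/-- A matrix is symplectic iff it preserves the symplectic form. -/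
theorem mem_symplecticGroup_iff_form {A : Matrix (l ⊕ l) (l ⊕ l) R} :
    A ∈ symplecticGroup l R ↔ ∀ u v, sympForm l R (A *ᵥ u) (A *ᵥ v) = sympForm l R u v := by
  rw [SymplecticGroup.mem_iff']
  have key : ∀ u v : l ⊕ l → R, sympForm l R (A *ᵥ u) (A *ᵥ v) = u ⬝ᵥ ((Aᵀ * J l R * A) *ᵥ v) := by
    intro u v
    simp only [sympForm]
    rw [← mulVec_mulVec, ← mulVec_mulVec, dotProduct_mulVec u Aᵀ, vecMul_transpose]
  constructor
  · intro h u v
    rw [key, h]; rfl
  · intro h
    ext i j
    have := h (Pi.single i 1) (Pi.single j 1)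
    rw [key] at this
    simp only [sympForm] at this
    simpa using this

end Cfsg.Agent.Lib.Helper5

namespace Cfsg.Agent.Lib.Helper5

open Matrix

variable {l : Type*} [DecidableEq l] [Fintype l] {R : Type*} [CommRing R]

/-- The matrix of the symplectic transvection `x ↦ x + c ω(x, a) a`. -/
def sympTransvecMat (a : l ⊕ l → R) (c : R) : Matrix (l ⊕ l) (l ⊕ l) R :=
  1 + c • vecMulVec a (J l R *ᵥ a)

theorem sympTransvecMat_mulVec (a : l ⊕ l → R) (c : R) (x : l ⊕ l → R) :
    sympTransvecMat a c *ᵥ x = x + (c * sympForm l R x a) • a := by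
  simp only [sympTransvecMat, add_mulVec, one_mulVec, smul_mulVec, vecMulVec_mulVec]
  congr 1
  rw [sympForm, dotProduct_comm x, mul_smul]
  ext i
  simp [mul_comm]

theorem sympTransvecMat_mem (a : l ⊕ l → R) (c : R) :
    sympTransvecMat a c ∈ symplecticGroup l R := by
  rw [mem_symplecticGroup_iff_form]
  intro u v
  simp only [sympTransvecMat_mulVec, sympForm_add_left, sympForm_add_right, sympForm_smul_left,
    sympForm_smul_right, sympForm_self, mul_zero, add_zero]
  rw [sympForm_swap (R := R) v a]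
  ring

/-- The symplectic transvection `x ↦ x + c ω(x, a) a` as an element of the symplectic group. -/
def sympTransvec (a : l ⊕ l → R) (c : R) : symplecticGroup l R :=
  ⟨sympTransvecMat a c, sympTransvecMat_mem a c⟩

@[simp] theorem sympTransvec_coe (a : l ⊕ l → R) (c : R) :
    (sympTransvec a c : Matrix (l ⊕ l) (l ⊕ l) R) = sympTransvecMat a c := rfl

theorem sympTransvec_mulVec (a : l ⊕ l → R) (c : R) (x : l ⊕ l → R) :
    (sympTransvec a c : Matrix (l ⊕ l) (l ⊕ l) R) *ᵥ x = x + (c * sympForm l R x a) • a :=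
  sympTransvecMat_mulVec a c x

variable {F : Type*} [Field F]

/-- Non-degeneracy of the symplectic form. -/
theorem exists_sympForm_ne_zero {v : l ⊕ l → F} (hv : v ≠ 0) : ∃ u, sympForm l F v u ≠ 0 := by
  obtain ⟨i, hi⟩ : ∃ i, v i ≠ 0 := by
    by_contra h
    push Not at h
    exact hv (funext h)
  rcases i with i | i
  · refine ⟨Pi.single (Sum.inr i) 1, ?_⟩
    rw [sympForm_single_inr_right]
    simpa using hi
  · refine ⟨Pi.single (Sum.inl i) 1, ?_⟩
    rw [sympForm_single_inl_right]
    simpa using hi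

/-- If `ω(v, w) ≠ 0` then a single transvection maps `v` to `w`. -/
theorem exists_sympTransvec_mulVec_eq {v w : l ⊕ l → F} (h : sympForm l F v w ≠ 0) :
    (sympTransvec (v - w) (sympForm l F v w)⁻¹ : Matrix (l ⊕ l) (l ⊕ l) F) *ᵥ v = w := by
  rw [sympTransvec_mulVec]
  simp only [sympForm_sub_right, sympForm_self, zero_sub, mul_neg]
  rw [inv_mul_cancel₀ h]
  simp

/-- For nonzero `v, w` there is `u` not orthogonal to either. -/
theorem exists_sympForm_ne_zero_both {v w : l ⊕ l → F} (hv : v ≠ 0) (hw : w ≠ 0) :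
    ∃ u, sympForm l F v u ≠ 0 ∧ sympForm l F u w ≠ 0 := by
  obtain ⟨u₁, h₁⟩ := exists_sympForm_ne_zero hv
  obtain ⟨u₂, h₂⟩ := exists_sympForm_ne_zero hw
  have hs : ∀ u, sympForm l F u w ≠ 0 ↔ sympForm l F w u ≠ 0 := by
    intro u; rw [sympForm_swap (R := F) w u]; simp
  by_cases h3 : sympForm l F w u₁ = 0
  · by_cases h4 : sympForm l F v u₂ = 0
    · refine ⟨u₁ + u₂, ?_, ?_⟩
      · rw [sympForm_add_right, h4, add_zero]; exact h₁
      · rw [hs, sympForm_add_right, h3, zero_add]; exact h₂
    · exact ⟨u₂, h4, (hs _).mpr h₂⟩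
  · exact ⟨u₁, h₁, (hs _).mpr h3⟩

/-- The symplectic group is transitive on nonzero vectors. -/
theorem symplecticGroup_transitive {v w : l ⊕ l → F} (hv : v ≠ 0) (hw : w ≠ 0) :
    ∃ g : symplecticGroup l F, (g : Matrix (l ⊕ l) (l ⊕ l) F) *ᵥ v = w := by
  by_cases h : sympForm l F v w = 0
  · obtain ⟨u, h1, h2⟩ := exists_sympForm_ne_zero_both hv hw
    refine ⟨sympTransvec (u - w) (sympForm l F u w)⁻¹ * sympTransvec (v - u) (sympForm l F v u)⁻¹, ?_⟩
    rw [Submonoid.coe_mul, ← mulVec_mulVec, exists_sympTransvec_mulVec_eq h1,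
      exists_sympTransvec_mulVec_eq h2]
  · exact ⟨_, exists_sympTransvec_mulVec_eq h⟩

end Cfsg.Agent.Lib.Helper5
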