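import Mathlib
import Cfsg.Prelude.Def_LieClassical
import Cfsg.Agent.Lib.Helper5.UnitaryGroup

set_option autoImplicit false

namespace Cfsg.Agent.Lib.Helper5

open Matrix Cfsg

section su
variable {F : Type*} [Field F] [Fintype F] {q : ℕ} {n : ℕ}

/-- The determinant on `GU_n`. -/
noncomputable def detGU (n : ℕ) (F : Type*) [Field F] (q : ℕ) : GU n F q →* Fˣ :=
  GeneralLinearGroup.det.comp (GU n F q).subtype

omit [Fintype F] in
theorem detGU_val (g : GU n F q) : (detGU n F q g).1 = g.1.1.det := rfl

theorem det_map_pow_q (hF : Fintype.card F = q ^ 2) (M : Matrix (Fin n) (Fin n) F) :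
    (M.map (· ^ q)).det = M.det ^ q := by
  have := RingHom.map_det (conjHom hF) M
  rw [conjHom_apply] at this
  rw [this]
  rfl

theorem det_norm_of_isUnitaryMat (hF : Fintype.card F = q ^ 2) {M : Matrix (Fin n) (Fin n) F}
    (h : IsUnitaryMat q M) : M.det ^ (q + 1) = 1 := by
  have := congrArg Matrix.det h
  rw [det_mul, det_transpose, det_one, det_map_pow_q hF] at this
  rw [pow_succ', this]

theorem detGU_mem_ker (hF : Fintype.card F = q ^ 2) (g : GU n F q) :
    detGU n F q g ∈ (powMonoidHom (q + 1) : Fˣ →* Fˣ).ker := by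
  rw [MonoidHom.mem_ker, powMonoidHom_apply]
  apply Units.ext
  rw [Units.val_pow_eq_pow_val, detGU_val, Units.val_one]
  exact det_norm_of_isUnitaryMat hF ((isUnitaryMat_iff_preserves hF _).mpr (GU_preserves g))

theorem isUnitaryMat_diagonal (hq : q ≠ 0) (d : Fin n → F) (hd : ∀ i, d i * d i ^ q = 1) :
    IsUnitaryMat q (Matrix.diagonal d) := by
  unfold IsUnitaryMat
  rw [diagonal_transpose, diagonal_map (by simp [hq]), diagonal_mul_diagonal, ← diagonal_one]
  congr 1
  ext i
  exact hd i

theorem range_detGU (hF : Fintype.card F = q ^ 2) (hn : 1 ≤ n) :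
    (detGU n F q).range = (powMonoidHom (q + 1) : Fˣ →* Fˣ).ker := by
  have hq : q ≠ 0 := by have := two_le_of_card_eq_sq hF; omega
  apply le_antisymm
  · rintro _ ⟨g, rfl⟩
    exact detGU_mem_ker hF g
  · intro l hl
    obtain ⟨k, rfl⟩ : ∃ k, n = k + 1 := ⟨n - 1, by omega⟩
    rw [MonoidHom.mem_ker, powMonoidHom_apply] at hl
    have hl' : l.1 * l.1 ^ q = 1 := by
      rw [← pow_succ', ← Units.val_pow_eq_pow_val, hl, Units.val_one]
    have hd : ∀ i, (Function.update (1 : Fin (k + 1) → F) 0 l.1) i *
        (Function.update (1 : Fin (k + 1) → F) 0 l.1) i ^ q = 1 := by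
      intro i
      by_cases hi : i = 0
      · subst hi; simpa using hl'
      · simp [Function.update_of_ne hi]
    refine ⟨GUofPreserves hF (Matrix.diagonal (Function.update (1 : Fin (k + 1) → F) 0 l.1))
      ((isUnitaryMat_iff_preserves hF _).mp (isUnitaryMat_diagonal hq _ hd)), ?_⟩
    apply Units.ext
    rw [detGU_val, GUofPreserves_coe, det_diagonal, Finset.prod_update_of_mem (Finset.mem_univ _)]
    simp

/-- `SU_n` is in bijection with the kernel of the determinant on `GU_n`. -/
noncomputable def suEquivKer (n : ℕ) (F : Type*) [Field F] (q : ℕ) : SU n F q ≃ (detGU n F q).ker where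
  toFun s := ⟨⟨Matrix.SpecialLinearGroup.toGL s.1, s.2⟩, by
    rw [MonoidHom.mem_ker]
    apply Units.ext
    rw [detGU_val, Units.val_one]
    exact s.1.2⟩
  invFun k := ⟨⟨k.1.1.1, by
    have := k.2
    rw [MonoidHom.mem_ker] at this
    have h := congrArg Units.val this
    rwa [detGU_val, Units.val_one] at h⟩, k.1.2⟩
  left_inv s := by
    apply Subtype.ext; apply Subtype.ext; rfl
  right_inv k := by
    apply Subtype.ext; apply Subtype.ext; apply Units.ext; rfl

theorem card_SU_mul (hF : Fintype.card F = q ^ 2) (hn : 1 ≤ n) :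
    (q + 1) * Nat.card (SU n F q) = Nat.card (GU n F q) := by
  have h1 := Subgroup.card_mul_index (detGU n F q).ker
  rw [Subgroup.index_ker, range_detGU hF hn, card_ker_pow_q_add_one hF,
    ← Nat.card_congr (suEquivKer n F q)] at h1
  rw [← h1, mul_comm]

end su

end Cfsg.Agent.Lib.Helper5
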