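import Mathlib
import Cfsg.Prelude.Def_LieClassical
import Cfsg.Agent.Lib.Helper5.UnitarySU

set_option autoImplicit false

namespace Cfsg.Agent.Lib.Helper5

open Matrix Cfsg

section center
variable {F : Type*} [Field F] [Fintype F] {q : ℕ} {n : ℕ}

theorem exists_pow_q_ne (hF : Fintype.card F = q ^ 2) : ∃ c : F, c ^ q ≠ c := by
  have h2 := two_le_of_card_eq_sq hF
  by_contra hall
  push Not at hall
  have hker : (powMonoidHom (q - 1) : Fˣ →* Fˣ).ker = ⊤ := by
    rw [eq_top_iff]
    intro u _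
    rw [MonoidHom.mem_ker, powMonoidHom_apply]
    apply Units.ext
    rw [Units.val_pow_eq_pow_val, Units.val_one]
    have h1 : u.1 ^ (q - 1) * u.1 = u.1 := by
      rw [← pow_succ, show q - 1 + 1 = q by omega, hall]
    exact mul_right_cancel₀ u.ne_zero (by rw [h1, one_mul])
  have hc := IsCyclic.card_powMonoidHom_ker Fˣ (q - 1)
  rw [hker, Subgroup.card_top, card_units_eq_sq_sub_one hF] at hc
  have h3 : (q ^ 2 - 1).gcd (q - 1) = q - 1 :=
    Nat.gcd_eq_right ⟨q + 1, by rw [← q_add_one_mul_q_sub_one hF, mul_comm]⟩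
  rw [h3, ← q_add_one_mul_q_sub_one hF] at hc
  have : (q + 1) * (q - 1) = 1 * (q - 1) := by rw [one_mul]; exact hc
  have := Nat.eq_of_mul_eq_mul_right (by omega) this
  omega

theorem exists_trace_zero (hF : Fintype.card F = q ^ 2) : ∃ a : F, a ≠ 0 ∧ a + a ^ q = 0 := by
  obtain ⟨c, hc⟩ := exists_pow_q_ne hF
  refine ⟨c - c ^ q, sub_ne_zero.mpr (Ne.symm hc), ?_⟩
  rw [sub_pow_q hF, pow_q_pow_q hF]
  ring

omit [Fintype F] in
theorem det_qrefl (w : Fin n → F) (a : F) :
    (qrefl q w a).det = 1 + a * hermForm n F q w w := by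
  unfold qrefl
  rw [← smul_vecMulVec, vecMulVec_eq Unit, det_one_add_replicateCol_mul_replicateRow,
    dotProduct_smul, hermForm_eq_dot, dotProduct_comm, smul_eq_mul]

/-- Build an element of `SU` from a form-preserving matrix of determinant one. -/
def SUofPreserves (M : Matrix (Fin n) (Fin n) F) (hdet : M.det = 1)
    (h : ∀ u v, hermForm n F q (M *ᵥ u) (M *ᵥ v) = hermForm n F q u v) : SU n F q :=
  ⟨⟨M, hdet⟩, h⟩

omit [Fintype F] in
@[simp] theorem SUofPreserves_coe (M : Matrix (Fin n) (Fin n) F) (hdet : M.det = 1)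
    (h : ∀ u v, hermForm n F q (M *ᵥ u) (M *ᵥ v) = hermForm n F q u v) :
    ((SUofPreserves M hdet h : SU n F q) : Matrix.SpecialLinearGroup (Fin n) F).1 = M := rfl

omit [Fintype F] in
theorem SU_preserves (g : SU n F q) (u v : Fin n → F) :
    hermForm n F q (g.1.1 *ᵥ u) (g.1.1 *ᵥ v) = hermForm n F q u v := g.2 u v

/-- A central element of `SU_n` has every nonzero isotropic vector as an eigenvector. -/
theorem center_mulVec_isotropic (hF : Fintype.card F = q ^ 2) (z : SU n F q)
    (hz : z ∈ Subgroup.center (SU n F q)) (w : Fin n → F) (hw : hermForm n F q w w = 0)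
    (hw0 : w ≠ 0) : ∃ μ : F, z.1.1 *ᵥ w = μ • w := by
  have hq : q ≠ 0 := by have := two_le_of_card_eq_sq hF; omega
  obtain ⟨a, ha0, ha⟩ := exists_trace_zero hF
  obtain ⟨i, hi⟩ : ∃ i, w i ≠ 0 := by
    by_contra h
    push Not at h
    exact hw0 (funext h)
  let T : SU n F q := SUofPreserves (qrefl q w a) (by rw [det_qrefl, hw, mul_zero, add_zero])
    (qrefl_preserves hF w a (by rw [hw, mul_zero, add_zero, ha]))
  have hcomm := (Subgroup.mem_center_iff.mp hz) T
  have hmat : (qrefl q w a) * z.1.1 = z.1.1 * (qrefl q w a) := by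
    have := congrArg (fun s : SU n F q => (s.1.1 : Matrix (Fin n) (Fin n) F)) hcomm
    exact this
  have hx := congrArg (fun N : Matrix (Fin n) (Fin n) F => N *ᵥ (Pi.single i 1 : Fin n → F)) hmat
  simp only [← mulVec_mulVec, qrefl_mulVec, mulVec_add, mulVec_smul] at hx
  have hx' := add_left_cancel hx
  have hne : a * hermForm n F q (Pi.single i 1) w ≠ 0 := by
    rw [hermForm_single_left, one_mul]
    exact mul_ne_zero ha0 (pow_ne_zero _ hi)
  refine ⟨(a * hermForm n F q (Pi.single i 1) w)⁻¹ *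
    (a * hermForm n F q (z.1.1 *ᵥ Pi.single i 1) w), ?_⟩
  rw [mul_smul, hx', smul_smul, inv_mul_cancel₀ hne, one_smul]

omit [Fintype F] in
theorem quad_zero {a b c x y z : F} (hxy : x ≠ y) (hxz : x ≠ z) (hyz : y ≠ z)
    (hx : a * x ^ 2 + b * x + c = 0) (hy : a * y ^ 2 + b * y + c = 0)
    (hz : a * z ^ 2 + b * z + c = 0) : a = 0 ∧ b = 0 ∧ c = 0 := by
  have h1 : a * (x + y) + b = 0 := by
    have : (x - y) * (a * (x + y) + b) = 0 := by linear_combination hx - hy
    exact (mul_eq_zero.mp this).resolve_left (sub_ne_zero.mpr hxy)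
  have h2 : a * (x + z) + b = 0 := by
    have : (x - z) * (a * (x + z) + b) = 0 := by linear_combination hx - hz
    exact (mul_eq_zero.mp this).resolve_left (sub_ne_zero.mpr hxz)
  have ha : a = 0 := by
    have : a * (y - z) = 0 := by linear_combination h1 - h2
    exact (mul_eq_zero.mp this).resolve_right (sub_ne_zero.mpr hyz)
  have hb : b = 0 := by rw [ha] at h1; simpa using h1
  refine ⟨ha, hb, ?_⟩
  rw [ha, hb] at hx
  simpa using hx

theorem exists_three_norm_neg_one (hF : Fintype.card F = q ^ 2) :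
    ∃ x y z : F, x ≠ y ∧ x ≠ z ∧ y ≠ z ∧ x * x ^ q = -1 ∧ y * y ^ q = -1 ∧ z * z ^ q = -1 := by
  classical
  have h2 := two_le_of_card_eq_sq hF
  have hc := card_norm_eq hF (d := (-1 : F)) (by rw [neg_pow_q hF, one_pow])
  rw [if_neg (neg_ne_zero.mpr one_ne_zero)] at hc
  have hlt : 2 < Fintype.card {x : F // x * x ^ q = -1} := by
    rw [← Nat.card_eq_fintype_card, hc]; omega
  obtain ⟨x, y, z, hxy, hxz, hyz⟩ := Fintype.two_lt_card_iff.mp hlt
  exact ⟨x.1, y.1, z.1, fun h => hxy (Subtype.ext h), fun h => hxz (Subtype.ext h),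
    fun h => hyz (Subtype.ext h), x.2, y.2, z.2⟩

theorem center_entries (hF : Fintype.card F = q ^ 2) (z : SU n F q)
    (hz : z ∈ Subgroup.center (SU n F q)) (i j : Fin n) (hij : i ≠ j) :
    z.1.1 i j = 0 ∧ z.1.1 i i = z.1.1 j j := by
  have key : ∀ l : F, l * l ^ q = -1 →
      z.1.1 i j * l ^ 2 + (z.1.1 i i - z.1.1 j j) * l + (- z.1.1 j i) = 0 := by
    intro l hl
    have hw : hermForm n F q (Pi.single i 1 + l • Pi.single j 1) (Pi.single i 1 + l • Pi.single j 1) = 0 := by
      rw [hermForm_add_left, hermForm_smul_left, hermForm_single_left, hermForm_single_left]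
      simp [hij, Ne.symm hij, hl]
    have hw0 : (Pi.single i 1 + l • Pi.single j 1 : Fin n → F) ≠ 0 := by
      intro h
      have := congrFun h i
      simp [hij] at this
    obtain ⟨μ, hμ⟩ := center_mulVec_isotropic hF z hz _ hw hw0
    rw [mulVec_add, mulVec_smul, mulVec_single_one, mulVec_single_one] at hμ
    have hi := congrFun hμ i
    have hj := congrFun hμ j
    simp [hij, Ne.symm hij] at hi hj
    rw [← hi] at hj
    linear_combination -hj
  obtain ⟨x, y, w, hxy, hxw, hyw, hx, hy, hw⟩ := exists_three_norm_neg_one hF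
  obtain ⟨h1, h2, -⟩ := quad_zero hxy hxw hyw (key x hx) (key y hy) (key w hw)
  exact ⟨h1, sub_eq_zero.mp h2⟩

end center

section center2
variable {F : Type*} [Field F] [Fintype F] {q : ℕ} {n : ℕ}

/-- Central elements of `SU_n` are scalar. -/
theorem center_eq_smul_one (hF : Fintype.card F = q ^ 2) (z : SU (n + 1) F q)
    (hz : z ∈ Subgroup.center (SU (n + 1) F q)) :
    z.1.1 = (z.1.1 0 0) • (1 : Matrix (Fin (n + 1)) (Fin (n + 1)) F) := by
  ext a b
  rw [Matrix.smul_apply, Matrix.one_apply, smul_eq_mul]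
  by_cases hab : a = b
  · subst hab
    rw [if_pos rfl, mul_one]
    by_cases ha : a = 0
    · rw [ha]
    · exact (center_entries hF z hz a 0 ha).2
  · rw [if_neg hab, mul_zero]
    exact (center_entries hF z hz a b hab).1

/-- The scalar matrix `l • 1` as an element of `SU_n`. -/
noncomputable def scalarSU (hF : Fintype.card F = q ^ 2) (l : F) (h1 : l ^ n = 1) (h2 : l * l ^ q = 1) :
    SU n F q :=
  SUofPreserves (Matrix.diagonal fun _ => l)
    (by rw [det_diagonal, Finset.prod_const, Finset.card_univ, Fintype.card_fin, h1])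
    ((isUnitaryMat_iff_preserves hF _).mp
      (isUnitaryMat_diagonal (by have := two_le_of_card_eq_sq hF; omega) _ (fun _ => h2)))

theorem scalarSU_coe (hF : Fintype.card F = q ^ 2) (l : F) (h1 : l ^ n = 1) (h2 : l * l ^ q = 1) :
    (scalarSU hF l h1 h2).1.1 = Matrix.diagonal fun _ => l := rfl

theorem scalarSU_mem_center (hF : Fintype.card F = q ^ 2) (l : F) (h1 : l ^ n = 1)
    (h2 : l * l ^ q = 1) : scalarSU hF l h1 h2 ∈ Subgroup.center (SU n F q) := by
  rw [Subgroup.mem_center_iff]
  intro g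
  apply Subtype.ext; apply Subtype.ext
  change g.1.1 * (Matrix.diagonal fun _ => l) = (Matrix.diagonal fun _ => l) * g.1.1
  rw [← smul_one_eq_diagonal, Matrix.mul_smul, Matrix.smul_mul, Matrix.mul_one, Matrix.one_mul]

theorem card_center_SU (hF : Fintype.card F = q ^ 2) (hn : 1 ≤ n) :
    Nat.card (Subgroup.center (SU n F q)) = Nat.gcd n (q + 1) := by
  have hq2 := two_le_of_card_eq_sq hF
  obtain ⟨k, rfl⟩ : ∃ k, n = k + 1 := ⟨n - 1, by omega⟩
  have hcard : Nat.card (powMonoidHom (Nat.gcd (k + 1) (q + 1)) : Fˣ →* Fˣ).ker =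
      Nat.gcd (k + 1) (q + 1) := by
    rw [IsCyclic.card_powMonoidHom_ker, card_units_eq_sq_sub_one hF]
    apply Nat.gcd_eq_right
    exact dvd_trans (Nat.gcd_dvd_right _ _) ⟨q - 1, (q_add_one_mul_q_sub_one hF).symm⟩
  rw [← hcard]
  symm
  have hmem : ∀ l : (powMonoidHom (Nat.gcd (k + 1) (q + 1)) : Fˣ →* Fˣ).ker,
      (l.1.1 : F) ^ (k + 1) = 1 ∧ (l.1.1 : F) * (l.1.1 : F) ^ q = 1 := by
    intro l
    have := l.2
    rw [MonoidHom.mem_ker, powMonoidHom_apply, pow_gcd_eq_one] at this
    constructor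
    · rw [← Units.val_pow_eq_pow_val, this.1, Units.val_one]
    · rw [← pow_succ', ← Units.val_pow_eq_pow_val, this.2, Units.val_one]
  apply Nat.card_congr
  refine Equiv.ofBijective
    (fun l => ⟨scalarSU hF l.1.1 (hmem l).1 (hmem l).2, scalarSU_mem_center hF _ _ _⟩) ⟨?_, ?_⟩
  · intro l l' h
    have h1 := congrArg (fun z : Subgroup.center (SU (k + 1) F q) => z.1.1.1 0 0) h
    simp only [scalarSU_coe, diagonal_apply_eq] at h1
    exact Subtype.ext (Units.ext h1)
  · intro z
    have hz := center_eq_smul_one hF z.1 z.2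
    set c := z.1.1.1 0 0 with hc
    have hdet : c ^ (k + 1) = 1 := by
      have := z.1.1.2
      rw [hz, det_smul, det_one, mul_one, Fintype.card_fin] at this
      exact this
    have hc0 : c ≠ 0 := by
      intro h0
      rw [h0, zero_pow (by omega)] at hdet
      exact zero_ne_one hdet
    have hnorm : c * c ^ q = 1 := by
      have hU : IsUnitaryMat q (Matrix.diagonal fun _ : Fin (k + 1) => c) := by
        rw [← smul_one_eq_diagonal, ← hz]
        exact (isUnitaryMat_iff_preserves hF _).mpr (SU_preserves z.1)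
      unfold IsUnitaryMat at hU
      rw [diagonal_transpose, diagonal_map (by simp; omega), diagonal_mul_diagonal] at hU
      have := congrFun (congrFun hU 0) 0
      simpa using this
    refine ⟨⟨Units.mk0 c hc0, ?_⟩, ?_⟩
    · rw [MonoidHom.mem_ker, powMonoidHom_apply, pow_gcd_eq_one]
      constructor
      · apply Units.ext
        rw [Units.val_pow_eq_pow_val, Units.val_mk0, hdet, Units.val_one]
      · apply Units.ext
        rw [Units.val_pow_eq_pow_val, Units.val_mk0, pow_succ', hnorm, Units.val_one]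
    · apply Subtype.ext; apply Subtype.ext; apply Subtype.ext
      change (Matrix.diagonal fun _ => c) = z.1.1.1
      rw [hz, smul_one_eq_diagonal]

end center2

end Cfsg.Agent.Lib.Helper5
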