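import Mathlib
import Cfsg.Prelude.Def_LieClassical
import Cfsg.Agent.Lib.Helper5.UnitaryCenter

set_option autoImplicit false

namespace Cfsg.Agent.Lib.Helper5

open Matrix Cfsg

section su2
variable {F : Type*} [Field F] [Fintype F] {q : ℕ}

/-- The standard alternating matrix. -/
def J2 (F : Type*) [Field F] : Matrix (Fin 2) (Fin 2) F := !![0, 1; -1, 0]

omit [Fintype F] in
theorem transpose_J2_mul (B : Matrix (Fin 2) (Fin 2) F) : Bᵀ * J2 F * B = B.det • J2 F := by
  ext i j
  fin_cases i <;> fin_cases j <;>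
    simp [J2, Matrix.mul_apply, Fin.sum_univ_two, det_fin_two] <;> ring

omit [Fintype F] in
theorem J2_mul_J2 : J2 F * J2 F = -1 := by
  ext i j
  fin_cases i <;> fin_cases j <;> simp [J2, Matrix.mul_apply, Fin.sum_univ_two]

/-- A basis change taking the standard Hermitian form to `ε J`. -/
theorem exists_basis_change (hF : Fintype.card F = q ^ 2) :
    ∃ (P Q : Matrix (Fin 2) (Fin 2) F) (ε : F), ε ≠ 0 ∧ P * Q = 1 ∧ Q * P = 1 ∧
      Pᵀ * P.map (conjHom hF) = ε • J2 F := by
  obtain ⟨x, y, -, hxy, -, -, hx, hy, -⟩ := exists_three_norm_neg_one hF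
  obtain ⟨ε, hε0, hε⟩ := exists_trace_zero hF
  have hy0 : y ^ q ≠ 0 := by
    intro h
    rw [h, mul_zero] at hy
    exact one_ne_zero (neg_eq_zero.mp hy.symm)
  have he : 1 + x * y ^ q ≠ 0 := by
    intro h
    apply hxy
    have : x * y ^ q = y * y ^ q := by rw [hy]; linear_combination h
    exact mul_right_cancel₀ hy0 this
  set e := 1 + x * y ^ q with hedef
  have heq : e ^ q = 1 + x ^ q * y := by
    rw [hedef, add_pow_q hF, one_pow, mul_pow, pow_q_pow_q hF]
  have heq0 : e ^ q ≠ 0 := pow_ne_zero _ he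
  set c := (ε / e) ^ q with hc
  have hcq : c ^ q = ε / e := pow_q_pow_q hF _
  have hc' : c = - ε / e ^ q := by
    rw [hc, div_pow]
    congr 1
    linear_combination hε
  have hc0 : c ≠ 0 := pow_ne_zero _ (div_ne_zero hε0 he)
  have hdet : (!![1, c; x, c * y] : Matrix (Fin 2) (Fin 2) F).det ≠ 0 := by
    rw [det_fin_two_of]
    have : 1 * (c * y) - c * x = c * (y - x) := by ring
    rw [this]
    exact mul_ne_zero hc0 (sub_ne_zero.mpr (Ne.symm hxy))
  have hunit : IsUnit (!![1, c; x, c * y] : Matrix (Fin 2) (Fin 2) F).det := isUnit_iff_ne_zero.mpr hdet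
  refine ⟨!![1, c; x, c * y], (!![1, c; x, c * y])⁻¹, ε, hε0, mul_nonsing_inv _ hunit,
    nonsing_inv_mul _ hunit, ?_⟩
  ext i j
  fin_cases i <;> fin_cases j
  · simp [J2, Matrix.mul_apply, Fin.sum_univ_two]
    linear_combination hx
  · simp [J2, Matrix.mul_apply, Fin.sum_univ_two, mul_pow, hcq]
    field_simp
    rfl
  · simp [J2, Matrix.mul_apply, Fin.sum_univ_two]
    have h : c * e ^ q = -ε := by rw [hc']; field_simp
    rw [← h, heq]; ring
  · simp [J2, Matrix.mul_apply, Fin.sum_univ_two, mul_pow]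
    linear_combination (c * c ^ q) * hy

theorem det_J2 : (J2 F).det = 1 := by
  simp [J2, det_fin_two]

/-- Under the basis change `P`, the unitary matrices of determinant one are exactly the matrices of
determinant one with entries fixed by `x ↦ x ^ q`. -/
theorem unitary_iff_conj_fixed (hF : Fintype.card F = q ^ 2) {P Q : Matrix (Fin 2) (Fin 2) F} {ε : F}
    (hε : ε ≠ 0) (hPQ : P * Q = 1) (hQP : Q * P = 1)
    (hS : Pᵀ * P.map (conjHom hF) = ε • J2 F) (g : Matrix (Fin 2) (Fin 2) F) (hdet : g.det = 1) :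
    gᵀ * g.map (conjHom hF) = 1 ↔ (Q * g * P).map (conjHom hF) = Q * g * P := by
  obtain ⟨B, hB⟩ : ∃ B, B = Q * g * P := ⟨_, rfl⟩
  rw [← hB]
  have hPB : P * B = g * P := by
    rw [hB, ← Matrix.mul_assoc, ← Matrix.mul_assoc, hPQ, Matrix.one_mul]
  have hdetB : B.det = 1 := by
    rw [hB, det_mul, det_mul, hdet, mul_one, ← det_mul, hQP, det_one]
  have hK : Bᵀ * (ε • J2 F) * B.map (conjHom hF) =
      Pᵀ * (gᵀ * g.map (conjHom hF)) * P.map (conjHom hF) := by
    rw [← hS]
    calc Bᵀ * (Pᵀ * P.map (conjHom hF)) * B.map (conjHom hF)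
        = (P * B)ᵀ * (P * B).map (conjHom hF) := by
          rw [transpose_mul, Matrix.map_mul]; simp only [Matrix.mul_assoc]
      _ = (g * P)ᵀ * (g * P).map (conjHom hF) := by rw [hPB]
      _ = Pᵀ * (gᵀ * g.map (conjHom hF)) * P.map (conjHom hF) := by
          rw [transpose_mul, Matrix.map_mul]; simp only [Matrix.mul_assoc]
  have hJB : Bᵀ * J2 F * B = J2 F := by rw [transpose_J2_mul, hdetB, one_smul]
  constructor
  · intro hg
    rw [hg, Matrix.mul_one, hS, Matrix.mul_smul, Matrix.smul_mul] at hK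
    have h1 : Bᵀ * J2 F * B.map (conjHom hF) = J2 F := by
      have := congrArg (fun M => ε⁻¹ • M) hK
      simpa [smul_smul, inv_mul_cancel₀ hε] using this
    have hX : IsUnit (Bᵀ * J2 F).det := by
      rw [det_mul, det_transpose, hdetB, det_J2, one_mul]; exact isUnit_one
    have h2 : Bᵀ * J2 F * B.map (conjHom hF) = Bᵀ * J2 F * B := by rw [h1, hJB]
    have := congrArg (fun M => (Bᵀ * J2 F)⁻¹ * M) h2
    simpa [nonsing_inv_mul_cancel_left _ _ hX] using this
  · intro hfix
    rw [hfix, Matrix.mul_smul, Matrix.smul_mul, hJB, ← hS] at hK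
    have hQP' : Qᵀ * Pᵀ = 1 := by rw [← transpose_mul, hPQ, transpose_one]
    have hcPQ : P.map (conjHom hF) * Q.map (conjHom hF) = 1 := by
      rw [← Matrix.map_mul, hPQ, Matrix.map_one _ (map_zero _) (map_one _)]
    calc gᵀ * g.map (conjHom hF)
        = (Qᵀ * Pᵀ) * (gᵀ * g.map (conjHom hF)) * (P.map (conjHom hF) * Q.map (conjHom hF)) := by
          rw [hQP', hcPQ, Matrix.one_mul, Matrix.mul_one]
      _ = Qᵀ * (Pᵀ * (gᵀ * g.map (conjHom hF)) * P.map (conjHom hF)) * Q.map (conjHom hF) := by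
          simp only [Matrix.mul_assoc]
      _ = Qᵀ * (Pᵀ * P.map (conjHom hF)) * Q.map (conjHom hF) := by rw [← hK]
      _ = (Qᵀ * Pᵀ) * (P.map (conjHom hF) * Q.map (conjHom hF)) := by
          simp only [Matrix.mul_assoc]
      _ = 1 := by rw [hQP', hcPQ, Matrix.one_mul]

end su2

end Cfsg.Agent.Lib.Helper5
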