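import Mathlib
import Cfsg.Prelude.Def_LieClassical
import Cfsg.Agent.Lib.Helper5.UnitarySU2a

set_option autoImplicit false

namespace Cfsg.Agent.Lib.Helper5

open Matrix Cfsg

section fixed
variable {F : Type*} [Field F] [Fintype F] {q : ℕ}

theorem card_fixed (hF : Fintype.card F = q ^ 2) : Nat.card {x : F // x ^ q = x} = q := by
  classical
  have h2 := two_le_of_card_eq_sq hF
  have hker : Nat.card (powMonoidHom (q - 1) : Fˣ →* Fˣ).ker = q - 1 := by
    rw [IsCyclic.card_powMonoidHom_ker, card_units_eq_sq_sub_one hF]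
    exact Nat.gcd_eq_right ⟨q + 1, by rw [← q_add_one_mul_q_sub_one hF, mul_comm]⟩
  have e : {x : F // x ^ q = x} ≃ Option (powMonoidHom (q - 1) : Fˣ →* Fˣ).ker :=
    { toFun := fun x => if h : x.1 = 0 then none else some ⟨Units.mk0 x.1 h, by
          rw [MonoidHom.mem_ker, powMonoidHom_apply]
          apply Units.ext
          rw [Units.val_pow_eq_pow_val, Units.val_mk0, Units.val_one]
          have h1 : x.1 ^ (q - 1) * x.1 = x.1 := by
            rw [← pow_succ, show q - 1 + 1 = q by omega, x.2]
          exact mul_right_cancel₀ h (by rw [h1, one_mul])⟩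
      invFun := fun o => match o with
        | none => ⟨0, zero_pow (by omega)⟩
        | some u => ⟨u.1.1, by
            have := u.2
            rw [MonoidHom.mem_ker, powMonoidHom_apply] at this
            have h := congrArg Units.val this
            rw [Units.val_pow_eq_pow_val, Units.val_one] at h
            calc u.1.1 ^ q = u.1.1 ^ (q - 1) * u.1.1 := by rw [← pow_succ]; congr 1; omega
              _ = u.1.1 := by rw [h, one_mul]⟩
      left_inv := fun x => by
        by_cases h : x.1 = 0
        · simp only [h, dite_true]; exact Subtype.ext h.symm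
        · simp only [h, dite_false]; rfl
      right_inv := fun o => by
        cases o with
        | none => simp
        | some u =>
          have : (u.1 : F) ≠ 0 := u.1.ne_zero
          simp only [this, dite_false]
          exact congrArg some (Subtype.ext (Units.ext rfl)) }
  rw [Nat.card_congr e, Finite.card_option, hker]; omega

/-- The fixed field of `x ↦ x ^ q`. -/
def fixedSubfield (hF : Fintype.card F = q ^ 2) : Subfield F :=
  (conjHom hF).eqLocusField (RingHom.id F)

theorem mem_fixedSubfield (hF : Fintype.card F = q ^ 2) (x : F) :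
    x ∈ fixedSubfield hF ↔ x ^ q = x := Iff.rfl

theorem card_fixedSubfield (hF : Fintype.card F = q ^ 2) : Nat.card (fixedSubfield hF) = q :=
  card_fixed hF

end fixed

section sl
variable {R S : Type*} [CommRing R] [CommRing S]

/-- A ring isomorphism induces an isomorphism of special linear groups. -/
def slMapEquiv (n : Type*) [DecidableEq n] [Fintype n] (e : R ≃+* S) :
    Matrix.SpecialLinearGroup n R ≃* Matrix.SpecialLinearGroup n S where
  toFun := Matrix.SpecialLinearGroup.map e.toRingHom
  invFun := Matrix.SpecialLinearGroup.map e.symm.toRingHom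
  left_inv A := by
    apply Subtype.ext
    ext i j
    change e.symm (e (A.1 i j)) = A.1 i j
    simp
  right_inv A := by
    apply Subtype.ext
    ext i j
    change e (e.symm (A.1 i j)) = A.1 i j
    simp
  map_mul' := map_mul _

end sl

section iso
variable {F : Type*} [Field F] [Fintype F] {q : ℕ}

/-- Conjugation by an invertible matrix on `SL_2`. -/
def conjSL (P Q : Matrix (Fin 2) (Fin 2) F) (hPQ : P * Q = 1) (hQP : Q * P = 1) :
    Matrix.SpecialLinearGroup (Fin 2) F →* Matrix.SpecialLinearGroup (Fin 2) F where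
  toFun g := ⟨P * g.1 * Q, by
    rw [det_mul, det_mul, g.2, mul_one, ← det_mul, hPQ, det_one]⟩
  map_one' := by
    apply Subtype.ext
    change P * (1 : Matrix (Fin 2) (Fin 2) F) * Q = 1
    rw [Matrix.mul_one, hPQ]
  map_mul' g h := by
    apply Subtype.ext
    change P * (g.1 * h.1) * Q = (P * g.1 * Q) * (P * h.1 * Q)
    calc P * (g.1 * h.1) * Q = P * g.1 * (1 : Matrix (Fin 2) (Fin 2) F) * h.1 * Q := by
          rw [Matrix.mul_one]; simp only [Matrix.mul_assoc]
      _ = (P * g.1 * Q) * (P * h.1 * Q) := by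
          rw [← hQP]; simp only [Matrix.mul_assoc]

omit [Fintype F] in
theorem conjSL_coe (P Q : Matrix (Fin 2) (Fin 2) F) (hPQ : P * Q = 1) (hQP : Q * P = 1)
    (g : Matrix.SpecialLinearGroup (Fin 2) F) : (conjSL P Q hPQ hQP g).1 = P * g.1 * Q := rfl

omit [Fintype F] in
theorem conjSL_injective (P Q : Matrix (Fin 2) (Fin 2) F) (hPQ : P * Q = 1) (hQP : Q * P = 1) :
    Function.Injective (conjSL P Q hPQ hQP) := by
  intro g h hgh
  have := congrArg (fun s : Matrix.SpecialLinearGroup (Fin 2) F => Q * s.1 * P) hgh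
  simp only [conjSL_coe] at this
  apply Subtype.ext
  calc g.1 = (Q * P) * g.1 * (Q * P) := by rw [hQP, Matrix.one_mul, Matrix.mul_one]
    _ = Q * (P * g.1 * Q) * P := by simp only [Matrix.mul_assoc]
    _ = Q * (P * h.1 * Q) * P := this
    _ = (Q * P) * h.1 * (Q * P) := by simp only [Matrix.mul_assoc]
    _ = h.1 := by rw [hQP, Matrix.one_mul, Matrix.mul_one]

/-- The embedding `SL_2(K₀) → SL_2(F)`, conjugated by `P`. -/
def phiSL (hF : Fintype.card F = q ^ 2) (P Q : Matrix (Fin 2) (Fin 2) F) (hPQ : P * Q = 1)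
    (hQP : Q * P = 1) :
    Matrix.SpecialLinearGroup (Fin 2) (fixedSubfield hF) →* Matrix.SpecialLinearGroup (Fin 2) F :=
  (conjSL P Q hPQ hQP).comp (Matrix.SpecialLinearGroup.map (fixedSubfield hF).subtype)

theorem phiSL_coe (hF : Fintype.card F = q ^ 2) (P Q : Matrix (Fin 2) (Fin 2) F) (hPQ : P * Q = 1)
    (hQP : Q * P = 1) (A : Matrix.SpecialLinearGroup (Fin 2) (fixedSubfield hF)) :
    (phiSL hF P Q hPQ hQP A).1 = P * A.1.map (fixedSubfield hF).subtype * Q := rfl

theorem phiSL_injective (hF : Fintype.card F = q ^ 2) (P Q : Matrix (Fin 2) (Fin 2) F)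
    (hPQ : P * Q = 1) (hQP : Q * P = 1) : Function.Injective (phiSL hF P Q hPQ hQP) := by
  apply (conjSL_injective P Q hPQ hQP).comp
  intro A B hAB
  apply Subtype.ext
  ext i j
  have := congrArg (fun s : Matrix.SpecialLinearGroup (Fin 2) F => s.1 i j) hAB
  exact this

theorem mem_SU_iff (hF : Fintype.card F = q ^ 2) (s : Matrix.SpecialLinearGroup (Fin 2) F) :
    s ∈ SU 2 F q ↔ s.1ᵀ * s.1.map (conjHom hF) = 1 :=
  (isUnitaryMat_iff_preserves hF s.1).symm

theorem range_phiSL (hF : Fintype.card F = q ^ 2) {P Q : Matrix (Fin 2) (Fin 2) F} {ε : F}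
    (hε : ε ≠ 0) (hPQ : P * Q = 1) (hQP : Q * P = 1)
    (hS : Pᵀ * P.map (conjHom hF) = ε • J2 F) :
    (phiSL hF P Q hPQ hQP).range = SU 2 F q := by
  ext s
  rw [mem_SU_iff hF, unitary_iff_conj_fixed hF hε hPQ hQP hS s.1 s.2]
  constructor
  · rintro ⟨A, rfl⟩
    have : Q * (phiSL hF P Q hPQ hQP A).1 * P = A.1.map (fixedSubfield hF).subtype := by
      rw [phiSL_coe]
      calc Q * (P * A.1.map (fixedSubfield hF).subtype * Q) * P
          = (Q * P) * A.1.map (fixedSubfield hF).subtype * (Q * P) := by simp only [Matrix.mul_assoc]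
        _ = A.1.map (fixedSubfield hF).subtype := by rw [hQP, Matrix.one_mul, Matrix.mul_one]
    rw [this]
    ext i j
    exact (A.1 i j).2
  · intro hfix
    have hentry : ∀ i j, (Q * s.1 * P) i j ∈ fixedSubfield hF := by
      intro i j
      exact congrFun (congrFun hfix i) j
    let A : Matrix (Fin 2) (Fin 2) (fixedSubfield hF) := fun i j => ⟨(Q * s.1 * P) i j, hentry i j⟩
    have hAmap : A.map (fixedSubfield hF).subtype = Q * s.1 * P := by
      ext i j; rfl
    have hdetA : A.det = 1 := by
      apply Subtype.ext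
      have := RingHom.map_det (fixedSubfield hF).subtype A
      rw [RingHom.mapMatrix_apply, hAmap, det_mul, det_mul, s.2, mul_one, ← det_mul, hQP, det_one] at this
      exact this
    refine ⟨(⟨A, hdetA⟩ : Matrix.SpecialLinearGroup (Fin 2) (fixedSubfield hF)), ?_⟩
    apply Subtype.ext
    change P * A.map (fixedSubfield hF).subtype * Q = s.1
    rw [hAmap]
    calc P * (Q * s.1 * P) * Q = (P * Q) * s.1 * (P * Q) := by simp only [Matrix.mul_assoc]
      _ = s.1 := by rw [hPQ, Matrix.one_mul, Matrix.mul_one]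

/-- `SU_2(q) ≅ SL_2(q)`. -/
theorem nonempty_SU2_equiv_SL2 {K : Type*} [Field K] [Fintype K] (hF : Fintype.card F = q ^ 2)
    (hK : Fintype.card K = q) :
    Nonempty (SU 2 F q ≃* Matrix.SpecialLinearGroup (Fin 2) K) := by
  obtain ⟨P, Q, ε, hε, hPQ, hQP, hS⟩ := exists_basis_change hF
  have e1 := MonoidHom.ofInjective (phiSL_injective hF P Q hPQ hQP)
  have e2 := MulEquiv.subgroupCongr (range_phiSL hF hε hPQ hQP hS)
  letI : Fintype (fixedSubfield hF) := Fintype.ofFinite _
  have hcard : Fintype.card K = Fintype.card (fixedSubfield hF) := by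
    rw [hK, ← Nat.card_eq_fintype_card, card_fixedSubfield hF]
  have e3 := slMapEquiv (Fin 2) (FiniteField.ringEquivOfCardEq hcard)
  exact ⟨(e3.trans (e1.trans e2)).symm⟩

end iso

end Cfsg.Agent.Lib.Helper5
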