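import Mathlib
import Cfsg.Prelude.Def_ParabolicCharacters

/-!
# Bruhat decomposition of `GL_n` over a finite field (existence part)
-/

set_option autoImplicit false

namespace Cfsg.Agent.Lib.Helper5.GLU

open Finset Matrix
open scoped MatrixGroups

variable {n : ℕ} {F : Type*} [Field F]

/-- The permutation matrices as a homomorphism into GL: `permGL w` maps `e_j` to `e_{w j}`. -/
noncomputable def permGL : Equiv.Perm (Fin n) →* GL (Fin n) F :=
  (Matrix.permMatrixHom (n := Fin n) (R := F)).toHomUnits

lemma permGL_apply (w : Equiv.Perm (Fin n)) (i j : Fin n) :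
    ((permGL (F := F) w : GL (Fin n) F) : Matrix (Fin n) (Fin n) F) i j =
      if i = w j then 1 else 0 := by
  show (Matrix.permMatrixHom (n := Fin n) (R := F) w) i j = _
  rw [Matrix.permMatrixHom_apply]
  show (w⁻¹).toPEquiv.toMatrix i j = _
  rw [PEquiv.toMatrix_apply, Equiv.toPEquiv_apply]
  simp only [Option.mem_def, Option.some.injEq]
  by_cases h : i = w j
  · rw [if_pos h, if_pos]
    rw [h]; simp
  · rw [if_neg h, if_neg]
    intro h'
    apply h
    rw [← h']; simp

/-- prefix of zeros up to `j` inclusive -/
def pz (r : Fin n → F) (j : Fin n) : Prop := ∀ j' ≤ j, r j' = 0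

open Classical in
/-- number of leading zeros of a row -/
noncomputable def lz (r : Fin n → F) : ℕ := (univ.filter (pz r)).card

lemma lz_le {r r' : Fin n → F} (h : ∀ j, pz r j → pz r' j) : lz r ≤ lz r' := by
  classical
  unfold lz
  apply Finset.card_le_card
  intro j hj
  simp only [mem_filter, mem_univ, true_and] at hj ⊢
  exact h j hj

lemma lz_lt {r r' : Fin n → F} (h : ∀ j, pz r j → pz r' j) (c : Fin n) (h1 : pz r' c)
    (h2 : ¬ pz r c) : lz r < lz r' := by
  classical
  unfold lz
  apply Finset.card_lt_card
  refine ⟨?_, ?_⟩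
  · intro j hj
    simp only [mem_filter, mem_univ, true_and] at hj ⊢
    exact h j hj
  · intro hsub
    have : c ∈ univ.filter (pz r) := hsub (by simp [h1])
    simp only [mem_filter, mem_univ, true_and] at this
    exact h2 this

/-- total number of leading zeros -/
noncomputable def tz (M : Matrix (Fin n) (Fin n) F) : ℕ := ∑ i, lz (M i)

lemma exists_first_nonzero (r : Fin n → F) (hr : r ≠ 0) :
    ∃ c, r c ≠ 0 ∧ ∀ j < c, r j = 0 := by
  classical
  have hne : (univ.filter fun j => r j ≠ 0).Nonempty := by
    by_contra hcon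
    rw [Finset.not_nonempty_iff_eq_empty] at hcon
    apply hr
    funext j
    show r j = 0
    by_contra hj
    have : j ∈ univ.filter fun j => r j ≠ 0 := by simp [hj]
    rw [hcon] at this
    simp at this
  obtain ⟨c, hc, hmin⟩ := Finset.exists_min_image _ (fun j : Fin n => j) hne
  simp only [mem_filter, mem_univ, true_and] at hc
  refine ⟨c, hc, fun j hj => ?_⟩
  by_contra hjne
  have := hmin j (by simp [hjne])
  exact absurd hj (not_lt.mpr this)

/-- The extremal step: two rows with the same leading column can be improved. -/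
lemma tz_lt_of_same_lead (h : Matrix (Fin n) (Fin n) F) (i k c : Fin n) (hik : i ≠ k)
    (hi : h i c ≠ 0) (hk : h k c ≠ 0) (hz : ∀ j < c, h i j = 0 ∧ h k j = 0) :
    tz h < tz (transvection i k (-(h i c / h k c)) * h) := by
  classical
  unfold tz
  apply Finset.sum_lt_sum
  · intro a _
    by_cases ha : a = i
    · subst ha
      apply lz_le
      intro j hj j' hj'
      have hjc : j < c := by
        by_contra hcon
        exact hi (hj c (not_lt.mp hcon))
      rw [transvection_mul_apply_same, hj j' hj', (hz j' (lt_of_le_of_lt hj' hjc)).2]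
      ring
    · apply le_of_eq
      congr 1
      funext b
      rw [transvection_mul_apply_of_ne _ _ _ _ ha]
  · refine ⟨i, mem_univ _, ?_⟩
    apply lz_lt (c := c)
    · intro j hj j' hj'
      have hjc : j < c := by
        by_contra hcon
        exact hi (hj c (not_lt.mp hcon))
      rw [transvection_mul_apply_same, hj j' hj', (hz j' (lt_of_le_of_lt hj' hjc)).2]
      ring
    · intro j' hj'
      rw [transvection_mul_apply_same]
      rcases lt_or_eq_of_le hj' with hlt | heq
      · rw [(hz j' hlt).1, (hz j' hlt).2]; ring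
      · rw [heq]
        field_simp
        ring
    · intro hcon
      exact hi (hcon c le_rfl)

lemma mem_upperTriangularGL (g : GL (Fin n) F) :
    g ∈ Cfsg.upperTriangularGL n F ↔ (g : Matrix (Fin n) (Fin n) F).BlockTriangular id := Iff.rfl

/-- upper triangular transvections as elements of the Borel subgroup -/
lemma transvection_mem_borel (i k : Fin n) (hik : i < k) (t : F) :
    ∃ u ∈ Cfsg.upperTriangularGL n F,
      ((u : GL (Fin n) F) : Matrix (Fin n) (Fin n) F) = transvection i k t := by
  refine ⟨Matrix.GeneralLinearGroup.mkOfDetNeZero (transvection i k t)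
    (by rw [det_transvection_of_ne _ _ (ne_of_lt hik)]; exact one_ne_zero), ?_, rfl⟩
  rw [mem_upperTriangularGL]
  show (transvection i k t).BlockTriangular id
  intro a b hab
  simp only [id] at hab
  rw [transvection, Matrix.add_apply, Matrix.one_apply_ne (ne_of_gt hab), zero_add,
    Matrix.single_apply]
  rw [if_neg]
  rintro ⟨rfl, rfl⟩
  exact absurd hik (not_lt.mpr (le_of_lt hab))

/-- **Bruhat decomposition** (existence): every invertible matrix over a finite field is
`b * w * b'` with `b, b'` upper triangular and `w` a permutation matrix. -/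
theorem bruhat [Finite F] (g : GL (Fin n) F) :
    ∃ b ∈ Cfsg.upperTriangularGL n F, ∃ w : Equiv.Perm (Fin n),
      ∃ b' ∈ Cfsg.upperTriangularGL n F, g = b * permGL w * b' := by
  classical
  have : Finite (Matrix (Fin n) (Fin n) F) := inferInstance
  have : Finite (GL (Fin n) F) := Finite.of_injective (fun g : GL (Fin n) F => (g : Matrix (Fin n) (Fin n) F))
    (fun a b hab => Units.ext hab)
  obtain ⟨b₀, hb₀⟩ := Finite.exists_max
    (fun b : Cfsg.upperTriangularGL n F => tz (((b : GL (Fin n) F) * g : GL (Fin n) F) : Matrix (Fin n) (Fin n) F))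
  set h : Matrix (Fin n) (Fin n) F := (((b₀ : GL (Fin n) F) * g : GL (Fin n) F) : Matrix (Fin n) (Fin n) F) with hh
  have hunit : IsUnit h.det := by
    rw [← Matrix.isUnit_iff_isUnit_det]
    exact ((b₀ : GL (Fin n) F) * g).isUnit
  have hrow : ∀ i, h i ≠ 0 := by
    intro i hi
    have := Matrix.det_eq_zero_of_row_eq_zero (A := h) i (fun j => congrFun hi j)
    rw [this] at hunit
    exact not_isUnit_zero hunit
  choose π hπ1 hπ2 using fun i => exists_first_nonzero (h i) (hrow i)
  -- no two rows have the same leading column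
  have hinj0 : ∀ i k, i < k → π i ≠ π k := by
    intro i k hik hpi
    obtain ⟨u, hu, hum⟩ := transvection_mem_borel (F := F) i k hik (-(h i (π i) / h k (π i)))
    have hlt := tz_lt_of_same_lead h i k (π i) (ne_of_lt hik) (hπ1 i) (by rw [hpi]; exact hπ1 k)
      (fun j hj => ⟨hπ2 i j hj, hπ2 k j (by rw [← hpi]; exact hj)⟩)
    have hle := hb₀ ⟨u * b₀, Subgroup.mul_mem _ hu b₀.2⟩
    simp only at hle
    have e : (((u * (b₀ : GL (Fin n) F)) * g : GL (Fin n) F) : Matrix (Fin n) (Fin n) F) =
        transvection i k (-(h i (π i) / h k (π i))) * h := by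
      rw [mul_assoc, Units.val_mul, hum]
    rw [e] at hle
    exact absurd hlt (not_lt.mpr hle)
  have hinj : Function.Injective π := by
    intro i k hpi
    by_contra hne
    rcases lt_or_gt_of_ne hne with hlt | hgt
    · exact hinj0 i k hlt hpi
    · exact hinj0 k i hgt hpi.symm
  let σ : Equiv.Perm (Fin n) := Equiv.ofBijective π (Finite.injective_iff_bijective.mp hinj)
  have hσ : ∀ i, σ i = π i := fun i => rfl
  -- `M = permGL σ * b₀ * g` is upper triangular
  refine ⟨(b₀ : GL (Fin n) F)⁻¹, Subgroup.inv_mem _ b₀.2, σ⁻¹, permGL σ * (b₀ : GL (Fin n) F) * g, ?_, ?_⟩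
  · rw [mem_upperTriangularGL]
    intro c j hjc
    simp only [id] at hjc
    have e : ((permGL σ * (b₀ : GL (Fin n) F) * g : GL (Fin n) F) : Matrix (Fin n) (Fin n) F) =
        ((permGL (F := F) σ : GL (Fin n) F) : Matrix (Fin n) (Fin n) F) * h := by
      rw [mul_assoc, Units.val_mul]
    rw [e, Matrix.mul_apply]
    apply Finset.sum_eq_zero
    intro i _
    rw [permGL_apply]
    by_cases hci : c = σ i
    · rw [if_pos hci, one_mul]
      apply hπ2
      rw [← hσ, ← hci]
      exact hjc
    · rw [if_neg hci, zero_mul]
  · rw [map_inv]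
    group

end Cfsg.Agent.Lib.Helper5.GLU
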