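import Mathlib

/-!
# The generic Iwahori–Hecke multiplication on `W → R`

For a finite group `W` with length data (a length function, generators, chosen reduced words) and a
parameter `c` in a commutative ring `R` we define a bilinear multiplication `hmul c` on `W → R`
by the rules `T_s T_w = T_{sw}` (`l(sw) > l(w)`), `T_s T_w = (c - 1) T_w + c T_{sw}`
(`l(sw) < l(w)`) and `T_x = T_{s_1} ⋯ T_{s_k}` along the chosen reduced word of `x`.
It is natural in `R`; no associativity is claimed.
-/

set_option autoImplicit false

namespace Cfsg.Agent.Lib.Helper5.HeckeDef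

open Finset

/-- length data on a group -/
structure LenData (W : Type*) [Group W] where
  /-- the length function -/
  len : W → ℕ
  /-- the generators -/
  isGen : W → Prop
  /-- a chosen reduced word for each element -/
  word : W → List W
  word_gen : ∀ w, ∀ s ∈ word w, isGen s
  word_prod : ∀ w, (word w).prod = w
  word_len : ∀ w, (word w).length = len w
  len_one : len 1 = 0
  len_mul : ∀ s, isGen s → ∀ w, len (s * w) = len w + 1 ∨ len (s * w) + 1 = len w
  len_inv : ∀ w, len w⁻¹ = len w
  gen_sq : ∀ s, isGen s → s * s = 1

variable {W : Type*} [Group W] (D : LenData W)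
variable {R : Type*} [CommRing R] {R' : Type*} [CommRing R']

/-- left multiplication by `T_s` -/
def Ls (c : R) (s : W) : (W → R) →ₗ[R] (W → R) where
  toFun g v := if D.len (s * v) < D.len v then g (s * v) + (c - 1) * g v else c * g (s * v)
  map_add' g h := by
    funext v
    simp only [Pi.add_apply]
    split_ifs <;> ring
  map_smul' r g := by
    funext v
    simp only [Pi.smul_apply, smul_eq_mul, RingHom.id_apply]
    split_ifs <;> ring

lemma Ls_apply (c : R) (s : W) (g : W → R) (v : W) :
    Ls D c s g v = if D.len (s * v) < D.len v then g (s * v) + (c - 1) * g v else c * g (s * v) :=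
  rfl

/-- left multiplication by `T_{s_1} ⋯ T_{s_k}` -/
def Lw (c : R) : List W → (W → R) →ₗ[R] (W → R)
  | [] => LinearMap.id
  | s :: l => (Ls D c s).comp (Lw c l)

@[simp] lemma Lw_nil (c : R) : Lw D c [] = LinearMap.id := rfl

@[simp] lemma Lw_cons (c : R) (s : W) (l : List W) :
    Lw D c (s :: l) = (Ls D c s).comp (Lw D c l) := rfl

/-- left multiplication by `T_x` -/
def Mw (c : R) (x : W) : (W → R) →ₗ[R] (W → R) := Lw D c (D.word x)

variable [Fintype W]

/-- the generic Hecke multiplication -/
def hmul (c : R) (f g : W → R) : W → R := ∑ x, f x • Mw D c x g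

lemma hmul_apply (c : R) (f g : W → R) (v : W) :
    hmul D c f g v = ∑ x, f x * Mw D c x g v := by
  unfold hmul
  rw [Finset.sum_apply]
  rfl

lemma hmul_add_left (c : R) (f f' g : W → R) :
    hmul D c (f + f') g = hmul D c f g + hmul D c f' g := by
  unfold hmul
  rw [← Finset.sum_add_distrib]
  exact Finset.sum_congr rfl fun x _ => by rw [Pi.add_apply, add_smul]

lemma hmul_add_right (c : R) (f g g' : W → R) :
    hmul D c f (g + g') = hmul D c f g + hmul D c f g' := by
  unfold hmul
  rw [← Finset.sum_add_distrib]
  exact Finset.sum_congr rfl fun x _ => by rw [map_add, smul_add]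

lemma hmul_smul_left (c : R) (r : R) (f g : W → R) :
    hmul D c (r • f) g = r • hmul D c f g := by
  unfold hmul
  rw [Finset.smul_sum]
  exact Finset.sum_congr rfl fun x _ => by rw [Pi.smul_apply, smul_eq_mul, mul_smul]

lemma hmul_smul_right (c : R) (r : R) (f g : W → R) :
    hmul D c f (r • g) = r • hmul D c f g := by
  unfold hmul
  rw [Finset.smul_sum]
  exact Finset.sum_congr rfl fun x _ => by rw [map_smul, smul_comm]

lemma hmul_sum_left {ι : Type*} (c : R) (s : Finset ι) (f : ι → W → R) (g : W → R) :
    hmul D c (∑ i ∈ s, f i) g = ∑ i ∈ s, hmul D c (f i) g := by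
  classical
  induction s using Finset.induction_on with
  | empty =>
    simp only [Finset.sum_empty]
    unfold hmul
    simp
  | insert a s ha ih => rw [Finset.sum_insert ha, Finset.sum_insert ha, hmul_add_left, ih]

lemma hmul_sum_right {ι : Type*} (c : R) (s : Finset ι) (f : W → R) (g : ι → W → R) :
    hmul D c f (∑ i ∈ s, g i) = ∑ i ∈ s, hmul D c f (g i) := by
  classical
  induction s using Finset.induction_on with
  | empty =>
    simp only [Finset.sum_empty]
    unfold hmul
    simp
  | insert a s ha ih => rw [Finset.sum_insert ha, Finset.sum_insert ha, hmul_add_right, ih]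

variable [DecidableEq W]

lemma hmul_single_left (c : R) (x : W) (g : W → R) :
    hmul D c (Pi.single x 1) g = Mw D c x g := by
  unfold hmul
  rw [Finset.sum_eq_single x]
  · rw [Pi.single_eq_same, one_smul]
  · intro y _ hy
    rw [Pi.single_eq_of_ne hy, zero_smul]
  · intro h
    exact absurd (Finset.mem_univ x) h

/-- every function is the combination of the basis functions -/
lemma eq_sum_single (f : W → R) : f = ∑ x, f x • (Pi.single x (1 : R) : W → R) := by
  funext v
  rw [Finset.sum_apply, Finset.sum_eq_single v]
  · simp
  · intro y _ hy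
    simp [Pi.single_eq_of_ne' hy]
  · intro h
    exact absurd (Finset.mem_univ v) h

/-! ### Naturality in the ring -/

lemma Ls_map (φ : R →+* R') (c : R) (s : W) (g : W → R) :
    (fun v => φ (Ls D c s g v)) = Ls D (φ c) s (fun v => φ (g v)) := by
  funext v
  simp only [Ls_apply]
  split_ifs <;> simp

lemma Lw_map (φ : R →+* R') (c : R) (l : List W) (g : W → R) :
    (fun v => φ (Lw D c l g v)) = Lw D (φ c) l (fun v => φ (g v)) := by
  induction l with
  | nil => rfl
  | cons s l ih =>
    simp only [Lw_cons, LinearMap.comp_apply]
    rw [Ls_map, ih]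

lemma hmul_map (φ : R →+* R') (c : R) (f g : W → R) :
    (fun v => φ (hmul D c f g v)) = hmul D (φ c) (fun v => φ (f v)) (fun v => φ (g v)) := by
  funext v
  rw [hmul_apply, hmul_apply, map_sum]
  refine Finset.sum_congr rfl fun x _ => ?_
  rw [map_mul]
  congr 1
  exact congrFun (Lw_map D φ c (D.word x) g) v

lemma map_single (φ : R →+* R') (x : W) :
    (fun v => φ ((Pi.single x (1 : R) : W → R) v)) = (Pi.single x (1 : R') : W → R') := by
  funext v
  by_cases h : v = x
  · subst h; simp
  · simp [Pi.single_eq_of_ne h]

end Cfsg.Agent.Lib.Helper5.HeckeDef
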