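import Mathlib
import Cfsg.Agent.Lib.Helper5.HeckeDefA

/-!
# The generic Hecke multiplication: units, the symmetrising form and the Casimir map

For a parameter `c` that is *genuine* (`c ≠ 0`, the multiplication `hmul c` is associative and
`τ(T_x T_y) = c^{l(x)} [y = x⁻¹]` for `τ` = the coefficient of `T_1`) the Casimir map
`f ↦ ∑_w c^{L - l(w)} T_w f T_{w⁻¹}` has its values in the centre, and it is onto the centre as soon as
multiplication by `z₀ = cas 1` is injective.
-/

set_option autoImplicit false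

namespace Cfsg.Agent.Lib.Helper5.HeckeDef

open Finset

variable {W : Type*} [Group W] (D : LenData W)
variable {R : Type*} [CommRing R]

/-! ### Reduced words -/

lemma len_prod_le : ∀ l : List W, (∀ s ∈ l, D.isGen s) → D.len l.prod ≤ l.length
  | [], _ => by simp [D.len_one]
  | s :: l, h => by
    have ih := len_prod_le l (fun t ht => h t (List.mem_cons_of_mem _ ht))
    have hs := h s List.mem_cons_self
    rw [List.prod_cons, List.length_cons]
    rcases D.len_mul s hs l.prod with h1 | h1 <;> omega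

/-- a reduced word -/
def IsRedWord (l : List W) : Prop := (∀ s ∈ l, D.isGen s) ∧ l.length = D.len l.prod

lemma isRedWord_word (x : W) : IsRedWord D (D.word x) :=
  ⟨D.word_gen x, by rw [D.word_len, D.word_prod]⟩

lemma IsRedWord.tail {s : W} {l : List W} (h : IsRedWord D (s :: l)) :
    IsRedWord D l ∧ D.isGen s ∧ D.len (s * l.prod) = D.len l.prod + 1 := by
  obtain ⟨hg, hl⟩ := h
  have hs := hg s List.mem_cons_self
  have hg' : ∀ t ∈ l, D.isGen t := fun t ht => hg t (List.mem_cons_of_mem _ ht)
  have h1 := len_prod_le D l hg'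
  rw [List.prod_cons, List.length_cons] at hl
  rcases D.len_mul s hs l.prod with h2 | h2
  · exact ⟨⟨hg', by omega⟩, hs, h2⟩
  · omega

lemma gen_mul_cancel {s : W} (hs : D.isGen s) (v : W) : s * (s * v) = v := by
  rw [← mul_assoc, D.gen_sq s hs, one_mul]

variable [DecidableEq W]

/-! ### The action of `T_s` on the basis -/

lemma Ls_single_up (c : R) {s : W} (hs : D.isGen s) {v : W} (h : D.len (s * v) = D.len v + 1) :
    Ls D c s (Pi.single v 1) = Pi.single (s * v) 1 := by
  funext u
  rw [Ls_apply]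
  have hne : s * v ≠ v := fun e => by rw [e] at h; omega
  by_cases hu : u = s * v
  · rw [hu, gen_mul_cancel D hs, if_pos (by omega), Pi.single_eq_same, Pi.single_eq_same,
      Pi.single_eq_of_ne hne]
    ring
  · have h1 : s * u ≠ v := fun e => hu (by rw [← e, gen_mul_cancel D hs])
    rw [Pi.single_eq_of_ne h1, Pi.single_eq_of_ne hu]
    by_cases h2 : u = v
    · rw [h2, if_neg (by omega)]; ring
    · rw [Pi.single_eq_of_ne h2]
      split_ifs <;> ring

lemma Ls_single_down (c : R) {s : W} (hs : D.isGen s) {v : W} (h : D.len (s * v) + 1 = D.len v) :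
    Ls D c s (Pi.single v 1) = (c - 1) • (Pi.single v 1 : W → R) + c • (Pi.single (s * v) 1 : W → R) := by
  funext u
  rw [Ls_apply, Pi.add_apply, Pi.smul_apply, Pi.smul_apply, smul_eq_mul, smul_eq_mul]
  have hne : s * v ≠ v := fun e => by rw [e] at h; omega
  by_cases hu : u = v
  · rw [hu, if_pos (by omega), Pi.single_eq_same, Pi.single_eq_of_ne hne,
      Pi.single_eq_of_ne hne.symm]
    ring
  · by_cases hu2 : u = s * v
    · rw [hu2, gen_mul_cancel D hs, if_neg (by omega), Pi.single_eq_same, Pi.single_eq_same,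
        Pi.single_eq_of_ne hne]
      ring
    · have h1 : s * u ≠ v := fun e => hu2 (by rw [← e, gen_mul_cancel D hs])
      rw [Pi.single_eq_of_ne h1, Pi.single_eq_of_ne hu, Pi.single_eq_of_ne hu2]
      split_ifs <;> ring

lemma Lw_single_one (c : R) : ∀ l : List W, IsRedWord D l →
    Lw D c l (Pi.single 1 1) = Pi.single l.prod 1
  | [], _ => by simp
  | s :: l, h => by
    obtain ⟨hl, hs, hlen⟩ := IsRedWord.tail D h
    rw [Lw_cons, LinearMap.comp_apply, Lw_single_one c l hl, Ls_single_up D c hs hlen,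
      List.prod_cons]

variable [Fintype W]

lemma word_one : D.word 1 = [] :=
  List.eq_nil_of_length_eq_zero (by rw [D.word_len, D.len_one])

lemma hmul_zero_left (c : R) (g : W → R) : hmul D c 0 g = 0 := by
  unfold hmul; simp

lemma hmul_zero_right (c : R) (f : W → R) : hmul D c f 0 = 0 := by
  unfold hmul; simp

lemma hmul_one_left (c : R) (g : W → R) : hmul D c (Pi.single 1 1) g = g := by
  rw [hmul_single_left]
  unfold Mw
  rw [word_one]
  rfl

lemma Mw_single_one (c : R) (x : W) : Mw D c x (Pi.single 1 1) = Pi.single x 1 := by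
  unfold Mw
  rw [Lw_single_one D c _ (isRedWord_word D x), D.word_prod]

lemma hmul_one_right (c : R) (f : W → R) : hmul D c f (Pi.single 1 1) = f := by
  unfold hmul
  simp_rw [Mw_single_one]
  exact (eq_sum_single f).symm

lemma hmul_single_single (c : R) (x y : W) :
    hmul D c (Pi.single x 1) (Pi.single y 1) = Mw D c x (Pi.single y 1) :=
  hmul_single_left D c x _

/-! ### The Casimir map -/

/-- an upper bound for the lengths -/
def Lmax : ℕ := ∑ w, D.len w

lemma len_le_Lmax (w : W) : D.len w ≤ Lmax D :=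
  Finset.single_le_sum (f := D.len) (fun _ _ => Nat.zero_le _) (Finset.mem_univ w)

/-- The Casimir map `f ↦ ∑_w c^{L - l(w)} T_w f T_{w⁻¹}`. -/
def cas (c : R) : (W → R) →ₗ[R] (W → R) where
  toFun f := ∑ w, c ^ (Lmax D - D.len w) •
    hmul D c (hmul D c (Pi.single w 1) f) (Pi.single w⁻¹ 1)
  map_add' f g := by
    simp only [hmul_add_right, hmul_add_left, smul_add, Finset.sum_add_distrib]
  map_smul' r f := by
    simp only [hmul_smul_right, hmul_smul_left, RingHom.id_apply, Finset.smul_sum]
    exact Finset.sum_congr rfl fun w _ => smul_comm _ _ _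

lemma cas_apply (c : R) (f : W → R) : cas D c f = ∑ w, c ^ (Lmax D - D.len w) •
    hmul D c (hmul D c (Pi.single w 1) f) (Pi.single w⁻¹ 1) := rfl

/-- the element `z₀ = cas 1` -/
def z0 (c : R) : W → R := cas D c (Pi.single 1 1)

/-- `c` is genuine: nonzero, associative multiplication, and the trace formula. -/
def Genuine (c : ℂ) : Prop :=
  c ≠ 0 ∧ (∀ f g h : W → ℂ, hmul D c (hmul D c f g) h = hmul D c f (hmul D c g h)) ∧
    ∀ x y : W, hmul D c (Pi.single x 1) (Pi.single y 1) 1 = if y = x⁻¹ then c ^ D.len x else 0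

/-- the centre of `(W → ℂ, hmul c)` -/
def center (c : ℂ) : Submodule ℂ (W → ℂ) where
  carrier := {z | ∀ y : W, hmul D c z (Pi.single y 1) = hmul D c (Pi.single y 1) z}
  add_mem' := by
    intro a b ha hb y
    rw [hmul_add_left, hmul_add_right, ha y, hb y]
  zero_mem' := by
    intro y
    rw [hmul_zero_left, hmul_zero_right]
  smul_mem' := by
    intro r a ha y
    rw [hmul_smul_left, hmul_smul_right, ha y]

lemma mem_center_iff {c : ℂ} {z : W → ℂ} : z ∈ center D c ↔
    ∀ y : W, hmul D c z (Pi.single y 1) = hmul D c (Pi.single y 1) z := Iff.rfl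

/-- multiplication by `z₀` is injective -/
def ZInj (c : ℂ) : Prop := Function.Injective (fun f : W → ℂ => hmul D c (z0 D c) f)

variable {D}

lemma center_comm {c : ℂ} {z : W → ℂ} (hz : z ∈ center D c) (a : W → ℂ) :
    hmul D c z a = hmul D c a z := by
  have ha := eq_sum_single a
  rw [ha, hmul_sum_right, hmul_sum_left]
  refine Finset.sum_congr rfl fun y _ => ?_
  rw [hmul_smul_right, hmul_smul_left, hz y]

lemma hmul_apply_one {c : ℂ} (hc : Genuine D c) (f g : W → ℂ) :
    hmul D c f g 1 = ∑ x, c ^ D.len x * f x * g x⁻¹ := by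
  have hf := eq_sum_single f
  have hg := eq_sum_single g
  have h1 : hmul D c f g 1 = hmul D c (∑ x, f x • (Pi.single x (1 : ℂ) : W → ℂ))
      (∑ y, g y • (Pi.single y (1 : ℂ) : W → ℂ)) 1 := by rw [← hf, ← hg]
  rw [h1, hmul_sum_left, Finset.sum_apply]
  refine Finset.sum_congr rfl fun x _ => ?_
  rw [hmul_smul_left, hmul_sum_right, Pi.smul_apply, Finset.sum_apply,
    Finset.sum_eq_single x⁻¹]
  · rw [hmul_smul_right, Pi.smul_apply, hc.2.2, if_pos rfl]
    simp only [smul_eq_mul]
    ring
  · intro y _ hy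
    rw [hmul_smul_right, Pi.smul_apply, hc.2.2, if_neg hy, smul_zero]
  · intro h
    exact absurd (Finset.mem_univ _) h

lemma tr_comm {c : ℂ} (hc : Genuine D c) (f g : W → ℂ) : hmul D c f g 1 = hmul D c g f 1 := by
  rw [hmul_apply_one hc, hmul_apply_one hc]
  refine Fintype.sum_equiv (Equiv.inv W) _ _ fun x => ?_
  rw [Equiv.inv_apply, D.len_inv, inv_inv]
  ring

lemma coeff_eq {c : ℂ} (hc : Genuine D c) (g : W → ℂ) (v : W) :
    hmul D c g (Pi.single v⁻¹ 1) 1 = c ^ D.len v * g v := by
  rw [hmul_apply_one hc, Finset.sum_eq_single v]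
  · rw [Pi.single_eq_same, mul_one]
  · intro x _ hx
    rw [Pi.single_eq_of_ne (fun e => hx (inv_injective e)), mul_zero]
  · intro h
    exact absurd (Finset.mem_univ _) h

lemma coeff_swap {c : ℂ} (hc : Genuine D c) (a : W → ℂ) (w v : W) :
    c ^ D.len v * hmul D c a (Pi.single w 1) v =
      c ^ D.len w * hmul D c (Pi.single v⁻¹ 1) a w⁻¹ := by
  have h1 := coeff_eq hc (hmul D c a (Pi.single w 1)) v
  have h2 := coeff_eq hc (hmul D c (Pi.single v⁻¹ 1) a) w⁻¹
  rw [inv_inv, D.len_inv] at h2
  rw [← h1, ← h2, hc.2.1, tr_comm hc, hc.2.1, tr_comm hc]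

/-- **The values of the Casimir map are central.** -/
theorem cas_comm {c : ℂ} (hc : Genuine D c) (f a : W → ℂ) :
    hmul D c a (cas D c f) = hmul D c (cas D c f) a := by
  have hc0 := hc.1
  -- the left side
  have hL : hmul D c a (cas D c f) = ∑ w, ∑ v,
      (c ^ (Lmax D - D.len w) * hmul D c a (Pi.single w 1) v) •
        hmul D c (hmul D c (Pi.single v 1) f) (Pi.single w⁻¹ 1) := by
    rw [cas_apply, hmul_sum_right]
    refine Finset.sum_congr rfl fun w _ => ?_
    rw [hmul_smul_right, ← hc.2.1, ← hc.2.1]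
    have e := eq_sum_single (hmul D c a (Pi.single w 1))
    rw [e, hmul_sum_left, hmul_sum_left, Finset.smul_sum]
    refine Finset.sum_congr rfl fun v _ => ?_
    rw [hmul_smul_left, hmul_smul_left, smul_smul, ← e]
  -- the right side
  have hR : hmul D c (cas D c f) a = ∑ v, ∑ w,
      (c ^ (Lmax D - D.len v) * hmul D c (Pi.single v⁻¹ 1) a w⁻¹) •
        hmul D c (hmul D c (Pi.single v 1) f) (Pi.single w⁻¹ 1) := by
    rw [cas_apply, hmul_sum_left]
    refine Finset.sum_congr rfl fun v _ => ?_
    rw [hmul_smul_left, hc.2.1]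
    have e := eq_sum_single (hmul D c (Pi.single v⁻¹ 1) a)
    rw [e, hmul_sum_right, Finset.smul_sum, ← e]
    rw [← Equiv.sum_comp (Equiv.inv W)]
    refine Finset.sum_congr rfl fun w _ => ?_
    rw [Equiv.inv_apply, hmul_smul_right, smul_smul]
  rw [hL, hR, Finset.sum_comm]
  refine Finset.sum_congr rfl fun v _ => Finset.sum_congr rfl fun w _ => ?_
  congr 1
  have hne : c ^ D.len v * c ^ D.len w ≠ 0 := mul_ne_zero (pow_ne_zero _ hc0) (pow_ne_zero _ hc0)
  apply mul_left_cancel₀ hne
  have e1 : c ^ D.len v * c ^ D.len w * (c ^ (Lmax D - D.len w) * hmul D c a (Pi.single w 1) v) =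
      c ^ Lmax D * (c ^ D.len v * hmul D c a (Pi.single w 1) v) := by
    rw [← Nat.sub_add_cancel (len_le_Lmax D w), pow_add, Nat.add_sub_cancel]
    ring
  have e2 : c ^ D.len v * c ^ D.len w *
      (c ^ (Lmax D - D.len v) * hmul D c (Pi.single v⁻¹ 1) a w⁻¹) =
      c ^ Lmax D * (c ^ D.len w * hmul D c (Pi.single v⁻¹ 1) a w⁻¹) := by
    rw [← Nat.sub_add_cancel (len_le_Lmax D v), pow_add, Nat.add_sub_cancel]
    ring
  rw [e1, e2, coeff_swap hc]

lemma cas_mem_center {c : ℂ} (hc : Genuine D c) (f : W → ℂ) : cas D c f ∈ center D c :=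
  fun y => (cas_comm hc f (Pi.single y 1)).symm

lemma cas_mul_center {c : ℂ} (hc : Genuine D c) {z : W → ℂ} (hz : z ∈ center D c) (f : W → ℂ) :
    cas D c (hmul D c z f) = hmul D c z (cas D c f) := by
  rw [cas_apply, cas_apply, hmul_sum_right]
  refine Finset.sum_congr rfl fun w _ => ?_
  rw [hmul_smul_right, ← hc.2.1 (Pi.single w 1) z f, ← hz w, hc.2.1 z, hc.2.1 z]

lemma z0_mem_center {c : ℂ} (hc : Genuine D c) : z0 D c ∈ center D c := cas_mem_center hc _

/-- **The Casimir map is onto the centre** when multiplication by `z₀` is injective. -/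
theorem cas_onto {c : ℂ} (hc : Genuine D c) (hz : ZInj D c) {z : W → ℂ} (hzc : z ∈ center D c) :
    ∃ f, cas D c f = z := by
  let Lz : (W → ℂ) →ₗ[ℂ] (W → ℂ) :=
    { toFun := fun f => hmul D c (z0 D c) f
      map_add' := fun f g => hmul_add_right D c _ f g
      map_smul' := fun r f => hmul_smul_right D c r _ f }
  have hinj : Function.Injective Lz := hz
  have hsurj : Function.Surjective Lz := LinearMap.injective_iff_surjective.1 hinj
  obtain ⟨a, ha⟩ := hsurj z
  have ha' : hmul D c (z0 D c) a = z := ha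
  have hz0 := z0_mem_center hc
  have hacen : a ∈ center D c := by
    intro y
    apply hz
    show hmul D c (z0 D c) (hmul D c a (Pi.single y 1)) =
      hmul D c (z0 D c) (hmul D c (Pi.single y 1) a)
    rw [← hc.2.1, ha', hzc y, ← ha', ← hc.2.1, ← hz0 y, hc.2.1]
  refine ⟨a, ?_⟩
  have h1 : cas D c a = cas D c (hmul D c a (Pi.single 1 1)) := by rw [hmul_one_right]
  rw [h1, cas_mul_center hc hacen]
  show hmul D c a (z0 D c) = z
  rw [← center_comm hz0 a, ha']

/-- the range of the Casimir map is the centre -/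
theorem range_cas {c : ℂ} (hc : Genuine D c) (hz : ZInj D c) :
    LinearMap.range (cas D c) = center D c := by
  apply le_antisymm
  · rintro _ ⟨f, rfl⟩
    exact cas_mem_center hc f
  · intro z hzc
    obtain ⟨f, hf⟩ := cas_onto hc hz hzc
    exact ⟨f, hf⟩

end Cfsg.Agent.Lib.Helper5.HeckeDef
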