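import Mathlib

set_option autoImplicit false
set_option linter.unusedSimpArgs false

namespace Cfsg.Agent.Lib.Helper5

open Matrix Matrix.SpecialLinearGroup
open scoped commutatorElement

variable {F : Type*} [Field F] {ι : Type*} [DecidableEq ι] [Fintype ι]

/-- Whitehead: `diag(a, a⁻¹)` in positions `i, j` is a product of six transvections. -/
theorem diag2n_eq_prod_transvection {i j : ι} (hij : i ≠ j) (a : F) (ha : a ≠ 0) :
    diag2n hij a ha = transvection hij a * (transvection hij.symm (-a⁻¹) *
      (transvection hij a * (transvection hij (-1) * (transvection hij.symm 1 *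
      transvection hij (-1))))) := by
  apply Subtype.ext
  ext r s
  simp only [diag2n_coe, coe_mul]
  change _ = ((Matrix.transvection i j a * (Matrix.transvection j i (-a⁻¹) * (Matrix.transvection i j a * (Matrix.transvection i j (-1) * (Matrix.transvection j i 1 * Matrix.transvection i j (-1)))))) : Matrix ι ι F) r s
  have hji := hij.symm
  by_cases hri : r = i
  · subst hri
    simp only [transvection_mul_apply_same, transvection_mul_apply_of_ne _ _ _ _ hij,
      transvection_mul_apply_of_ne _ _ _ _ hji]
    by_cases hsi : s = r
    · subst hsi
      simp [Matrix.transvection, hij, hji, Matrix.one_apply]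
      right
      rw [inv_mul_cancel₀ ha]; ring
    · by_cases hsj : s = j
      · subst hsj
        simp [Matrix.transvection, hij, hji, Matrix.one_apply, hsi]
        field_simp
        ring
      · simp [Matrix.transvection, hij, hji, Matrix.one_apply, hsi, hsj, Ne.symm hsi, Ne.symm hsj]
  · by_cases hrj : r = j
    · subst hrj
      simp only [transvection_mul_apply_same, transvection_mul_apply_of_ne _ _ _ _ hij,
        transvection_mul_apply_of_ne _ _ _ _ hji]
      by_cases hsi : s = i
      · subst hsi
        simp [Matrix.transvection, hij, hji, Matrix.one_apply]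
        field_simp
        ring
      · by_cases hsj : s = r
        · subst hsj
          simp [Matrix.transvection, hij, hji, Matrix.one_apply, hsi]
        · simp [Matrix.transvection, hij, hji, Matrix.one_apply, hsi, hsj, Ne.symm hsi, Ne.symm hsj]
    · simp only [transvection_mul_apply_of_ne _ _ _ _ hri, transvection_mul_apply_of_ne _ _ _ _ hrj]
      have hir : i ≠ r := Ne.symm hri
      simp [Matrix.transvection, Matrix.one_apply, hri, hrj, Matrix.diagonal_apply, hir]

end Cfsg.Agent.Lib.Helper5

namespace Cfsg.Agent.Lib.Helper5

open Matrix Matrix.SpecialLinearGroup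
open scoped commutatorElement

variable {F : Type*} [Field F] {ι : Type*} [DecidableEq ι] [Fintype ι]

/-- Induction principle: `SL(ι, F)` is generated by transvections. -/
theorem transvection_induction (P : SpecialLinearGroup ι F → Prop) (h1 : P 1)
    (htransvec : ∀ (i j : ι) (hij : i ≠ j) (c : F), P (transvection hij c))
    (hmul : ∀ A B, P A → P B → P (A * B)) (M : SpecialLinearGroup ι F) : P M := by
  rcases subsingleton_or_nontrivial ι with hι | hι
  · have : M = 1 := Subsingleton.elim _ _
    rw [this]; exact h1
  · refine diagonal_transvection_induction' P M (fun i j hij c hc => ?_) htransvec hmul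
    rw [diag2n_eq_prod_transvection hij c hc]
    refine hmul _ _ (htransvec _ _ _ _) (hmul _ _ (htransvec _ _ _ _) (hmul _ _ (htransvec _ _ _ _)
      (hmul _ _ (htransvec _ _ _ _) (hmul _ _ (htransvec _ _ _ _) (htransvec _ _ _ _)))))

/-- `SL(ι, F)` is the closure of the set of transvections. -/
theorem closure_transvection_eq_top :
    Subgroup.closure {g : SpecialLinearGroup ι F | ∃ (i j : ι) (hij : i ≠ j) (c : F), g = transvection hij c} = ⊤ := by
  rw [eq_top_iff]
  intro M _
  refine transvection_induction (fun M => M ∈ Subgroup.closure {g : SpecialLinearGroup ι F | ∃ (i j : ι) (hij : i ≠ j) (c : F), g = transvection hij c}) (one_mem _) (fun i j hij c => ?_) (fun A B hA hB => mul_mem hA hB) M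
  exact Subgroup.subset_closure ⟨i, j, hij, c, rfl⟩

/-- Steinberg relation: `[T_ik(a), T_kj(b)] = T_ij(ab)` for distinct `i, j, k`. -/
theorem commutator_transvection_transvection {i j k : ι} (hij : i ≠ j) (hik : i ≠ k) (hkj : k ≠ j)
    (a b : F) : ⁅transvection hik a, transvection hkj b⁆ = transvection hij (a * b) := by
  have h : transvection hik a * transvection hkj b =
      transvection hij (a * b) * transvection hkj b * transvection hik a := by
    apply Subtype.ext
    simp only [coe_mul, transvection_coe]
    simp [mul_add, add_mul, single_mul_single_of_ne, hij, hik, hkj, hij.symm, hik.symm, hkj.symm]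
    abel
  rw [commutatorElement_def, h]
  group

end Cfsg.Agent.Lib.Helper5

namespace Cfsg.Agent.Lib.Helper5

open Matrix Matrix.SpecialLinearGroup
open scoped commutatorElement

variable {F : Type*} [Field F] {ι : Type*} [DecidableEq ι] [Fintype ι]

theorem exists_ne_ne_of_three_le_card (h : 3 ≤ Fintype.card ι) (i j : ι) : ∃ k : ι, k ≠ i ∧ k ≠ j := by
  by_contra hcon
  push Not at hcon
  have : (Finset.univ : Finset ι) ⊆ {i, j} := by
    intro k _
    by_cases hk : k = i
    · simp [hk]
    · simp [hcon k hk]
  have h2 := Finset.card_le_card this
  have h3 : ({i, j} : Finset ι).card ≤ 2 := Finset.card_le_two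
  rw [Finset.card_univ] at h2
  omega

/-- `SL(ι, F)` is perfect when `ι` has at least three elements. -/
theorem commutator_SL_eq_top_of_three_le_card (h : 3 ≤ Fintype.card ι) :
    commutator (SpecialLinearGroup ι F) = ⊤ := by
  rw [eq_top_iff]
  intro M _
  refine transvection_induction (fun M => M ∈ commutator (SpecialLinearGroup ι F)) (one_mem _)
    (fun i j hij c => ?_) (fun A B hA hB => mul_mem hA hB) M
  obtain ⟨k, hki, hkj⟩ := exists_ne_ne_of_three_le_card h i j
  have := commutator_transvection_transvection hij (Ne.symm hki) hkj c (1 : F)
  rw [mul_one] at this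
  rw [← this]
  exact Subgroup.commutator_mem_commutator (Subgroup.mem_top _) (Subgroup.mem_top _)

end Cfsg.Agent.Lib.Helper5
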