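import Mathlib
import Cfsg.Agent.Lib.Helper5.Symplectic

set_option autoImplicit false

namespace Cfsg.Agent.Lib.Helper5

open Matrix

variable {l : Type*} [DecidableEq l] [Fintype l] {F : Type*} [Field F]

/-- A matrix all of whose vectors are eigenvectors is scalar. -/
theorem eq_scalar_of_forall_mulVec_mem_span {n : Type*} [DecidableEq n] [Fintype n]
    (A : Matrix n n F) (h : ∀ v : n → F, v ≠ 0 → ∃ c : F, A *ᵥ v = c • v) :
    ∃ a : F, A = Matrix.scalar n a := by
  obtain ⟨a, ha⟩ := (Matrix.toLin' A).exists_eq_smul_id_of_forall_notLinearIndependent fun v => by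
    by_cases hv : v = 0
    · simp [hv, linearIndependent_fin2]
    · obtain ⟨c, hc⟩ := h v hv
      rw [LinearIndependent.pair_iff' hv]
      push Not
      exact ⟨c, by rw [Matrix.toLin'_apply, hc]⟩
  refine ⟨a, ?_⟩
  have h2 : Matrix.toLin' A = Matrix.toLin' (Matrix.scalar n a) := by
    rw [ha]
    ext v i
    simp [Matrix.toLin'_apply, Matrix.scalar_apply, Matrix.mulVec_diagonal]
  exact Matrix.toLin'.injective h2

theorem neg_one_mem_symplecticGroup : (-1 : Matrix (l ⊕ l) (l ⊕ l) F) ∈ symplecticGroup l F :=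
  SymplecticGroup.neg_mem (Submonoid.one_mem _)

/-- Central elements of the symplectic group are `± 1`. -/
theorem symplecticGroup_center_eq_one_or_neg_one [Nonempty l] (g : symplecticGroup l F)
    (hg : g ∈ Subgroup.center (symplecticGroup l F)) :
    (g : Matrix (l ⊕ l) (l ⊕ l) F) = 1 ∨ (g : Matrix (l ⊕ l) (l ⊕ l) F) = -1 := by
  have hcomm : ∀ a : l ⊕ l → F, ∀ x : l ⊕ l → F,
      sympForm l F x a • ((g : Matrix (l ⊕ l) (l ⊕ l) F) *ᵥ a) =
        sympForm l F ((g : Matrix (l ⊕ l) (l ⊕ l) F) *ᵥ x) a • a := by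
    intro a x
    have h1 := Subgroup.mem_center_iff.mp hg (sympTransvec a 1)
    have h2 := congrArg (fun k : symplecticGroup l F => (k : Matrix (l ⊕ l) (l ⊕ l) F) *ᵥ x) h1
    simp only [Submonoid.coe_mul, ← mulVec_mulVec, sympTransvec_mulVec, one_mul, mulVec_add,
      mulVec_smul] at h2
    exact (add_left_cancel h2).symm
  have heig : ∀ v : l ⊕ l → F, v ≠ 0 → ∃ c : F, (g : Matrix (l ⊕ l) (l ⊕ l) F) *ᵥ v = c • v := by
    intro v hv
    obtain ⟨u, hu⟩ := exists_sympForm_ne_zero hv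
    have hu' : sympForm l F u v ≠ 0 := by rw [sympForm_swap (R := F) v u]; simpa using hu
    refine ⟨(sympForm l F u v)⁻¹ * sympForm l F ((g : Matrix (l ⊕ l) (l ⊕ l) F) *ᵥ u) v, ?_⟩
    have := hcomm v u
    rw [mul_smul, ← this, smul_smul, inv_mul_cancel₀ hu', one_smul]
  obtain ⟨a, ha⟩ := eq_scalar_of_forall_mulVec_mem_span _ heig
  -- a ^ 2 = 1
  obtain ⟨i⟩ := ‹Nonempty l›
  have hmem := (mem_symplecticGroup_iff_form.mp g.2) (Pi.single (Sum.inr i) 1) (Pi.single (Sum.inl i) 1)
  rw [ha] at hmem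
  have hd : ∀ v : l ⊕ l → F, (Matrix.scalar (l ⊕ l) a) *ᵥ v = a • v := by
    intro v; ext x; simp [Matrix.scalar_apply, Matrix.mulVec_diagonal]
  rw [hd, hd, sympForm_smul_left, sympForm_smul_right, sympForm_single_inl_right] at hmem
  simp only [Pi.single_eq_same, mul_one] at hmem
  have ha2 : (a - 1) * (a + 1) = 0 := by linear_combination hmem
  rcases mul_eq_zero.mp ha2 with h | h
  · left
    rw [ha, sub_eq_zero.mp h]; simp
  · right
    rw [ha, eq_neg_of_add_eq_zero_left h]
    ext x y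
    simp only [Matrix.scalar_apply, Matrix.diagonal_apply, Matrix.neg_apply, Matrix.one_apply]
    split_ifs <;> simp

end Cfsg.Agent.Lib.Helper5
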