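import Mathlib

set_option autoImplicit false

namespace Cfsg.Agent.Lib.Helper5

open QuadraticMap

section isoGrp
variable {F : Type*} [Field F] {V : Type*} [AddCommGroup V] [Module F V]

/-- The linear automorphisms preserving a function `Q`. -/
def isoGrp (Q : V → F) : Subgroup (V ≃ₗ[F] V) where
  carrier := {φ | ∀ x, Q (φ x) = Q x}
  mul_mem' {a b} ha hb := by
    intro x
    rw [LinearEquiv.mul_apply, ha, hb]
  one_mem' := by
    intro x
    rfl
  inv_mem' {a} ha := by
    intro x
    have := ha (a⁻¹ x)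
    rw [← LinearEquiv.mul_apply, mul_inv_cancel] at this
    exact this.symm

theorem mem_isoGrp {Q : V → F} {φ : V ≃ₗ[F] V} : φ ∈ isoGrp Q ↔ ∀ x, Q (φ x) = Q x := Iff.rfl

variable (Q : QuadraticForm F V)

theorem qf_add (x y : V) : Q (x + y) = Q x + Q y + polar Q x y := QuadraticMap.map_add Q x y

theorem qf_smul (a : F) (x : V) : Q (a • x) = a * a * Q x := by
  rw [QuadraticMap.map_smul, smul_eq_mul]

theorem pol_smul_left (a : F) (x y : V) : polar Q (a • x) y = a * polar Q x y := by
  rw [polar_smul_left, smul_eq_mul]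

theorem pol_smul_right (a : F) (x y : V) : polar Q x (a • y) = a * polar Q x y := by
  rw [polar_smul_right, smul_eq_mul]

theorem pol_self (x : V) : polar Q x x = 2 * Q x := by
  rw [polar_self, two_smul, two_mul]

theorem pol_sub_right (x y y' : V) : polar Q x (y - y') = polar Q x y - polar Q x y' := by
  rw [sub_eq_add_neg, polar_add_right, polar_neg_right, sub_eq_add_neg]

theorem pol_sub_left (x x' y : V) : polar Q (x - x') y = polar Q x y - polar Q x' y := by
  rw [sub_eq_add_neg, polar_add_left, polar_neg_left, sub_eq_add_neg]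

theorem qf_sub (x y : V) : Q (x - y) = Q x + Q y - polar Q x y := by
  rw [sub_eq_add_neg, qf_add, QuadraticMap.map_neg, polar_neg_right]
  ring

theorem isoGrp_polar {φ : V ≃ₗ[F] V} (hφ : φ ∈ isoGrp Q) (x y : V) :
    polar Q (φ x) (φ y) = polar Q x y := by
  unfold polar
  rw [← map_add, hφ, hφ, hφ]

/-- The reflection in a non-singular vector. -/
noncomputable def reflQ (d : V) (hd : Q d ≠ 0) : V ≃ₗ[F] V :=
  Module.reflection (x := d) (f := (Q d)⁻¹ • polarBilin Q d) (by
    rw [LinearMap.smul_apply, polarBilin_apply_apply, pol_self, smul_eq_mul]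
    field_simp)

theorem reflQ_apply (d : V) (hd : Q d ≠ 0) (y : V) :
    reflQ Q d hd y = y - ((Q d)⁻¹ * polar Q d y) • d := by
  rw [reflQ, Module.reflection_apply, LinearMap.smul_apply, polarBilin_apply_apply, smul_eq_mul]

theorem reflQ_mem (d : V) (hd : Q d ≠ 0) : reflQ Q d hd ∈ isoGrp Q := by
  intro y
  rw [reflQ_apply, qf_sub, qf_smul, pol_smul_right, polar_comm Q y d]
  field_simp
  ring

/-- Two singular vectors with non-zero inner product are swapped by a reflection. -/
theorem reflQ_sub_apply {u v : V} (hu : Q u = 0) (hv : Q v = 0) (huv : polar Q u v ≠ 0) :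
    ∃ hd : Q (u - v) ≠ 0, reflQ Q (u - v) hd u = v := by
  have hd : Q (u - v) = - polar Q u v := by rw [qf_sub, hu, hv]; ring
  have hd0 : Q (u - v) ≠ 0 := by rw [hd]; exact neg_ne_zero.mpr huv
  refine ⟨hd0, ?_⟩
  rw [reflQ_apply, pol_sub_left, pol_self, hu, polar_comm Q v u, hd]
  have : (-polar Q u v)⁻¹ * (2 * 0 - polar Q u v) = 1 := by
    field_simp
    ring
  rw [this, one_smul]
  abel

end isoGrp

section siegel
variable {F : Type*} [Field F] {V : Type*} [AddCommGroup V] [Module F V] (Q : QuadraticForm F V)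

/-- The Siegel transformation `E_{u,y}` as a linear map. -/
noncomputable def siegelLin (u y : V) : V →ₗ[F] V :=
  LinearMap.id + (polarBilin Q u).smulRight y - (polarBilin Q y).smulRight u -
    (Q y) • (polarBilin Q u).smulRight u

theorem siegelLin_apply (u y x : V) :
    siegelLin Q u y x = x + (polar Q u x • y + (-(polar Q y x + Q y * polar Q u x)) • u) := by
  simp only [siegelLin, LinearMap.sub_apply, LinearMap.add_apply, LinearMap.id_apply,
    LinearMap.smulRight_apply, LinearMap.smul_apply, polarBilin_apply_apply]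
  module

theorem siegelLin_isometry {u y : V} (hu : Q u = 0) (huy : polar Q u y = 0) (x : V) :
    Q (siegelLin Q u y x) = Q x := by
  have hyu : polar Q y u = 0 := by rw [polar_comm]; exact huy
  rw [siegelLin_apply, qf_add, qf_add, qf_smul, qf_smul, hu, pol_smul_left, pol_smul_right, hyu,
    polar_add_right, pol_smul_right, pol_smul_right, polar_comm Q x y, polar_comm Q x u]
  ring

theorem siegelLin_polar_left {u y : V} (hu : Q u = 0) (huy : polar Q u y = 0) (x : V) :
    polar Q u (siegelLin Q u y x) = polar Q u x := by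
  rw [siegelLin_apply, polar_add_right, polar_add_right, pol_smul_right, pol_smul_right, huy, pol_self,
    hu]
  ring

theorem siegelLin_inv {u y : V} (hu : Q u = 0) (huy : polar Q u y = 0) (x : V) :
    siegelLin Q u (-y) (siegelLin Q u y x) = x := by
  have hyu : polar Q y u = 0 := by rw [polar_comm]; exact huy
  have huy' : polar Q u (-y) = 0 := by rw [polar_neg_right, huy, neg_zero]
  rw [siegelLin_apply Q u (-y), siegelLin_polar_left Q hu huy, QuadraticMap.map_neg, polar_neg_left]
  rw [siegelLin_apply, polar_add_right, polar_add_right, pol_smul_right, pol_smul_right, pol_self, hyu]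
  module

/-- The Siegel transformation as a linear automorphism. -/
noncomputable def siegel (u y : V) (hu : Q u = 0) (huy : polar Q u y = 0) : V ≃ₗ[F] V :=
  LinearEquiv.ofLinear (siegelLin Q u y) (siegelLin Q u (-y))
    (by
      ext x
      have h := siegelLin_inv Q hu (by rw [polar_neg_right, huy, neg_zero] : polar Q u (-y) = 0) x
      rw [neg_neg] at h
      exact h)
    (by
      ext x
      exact siegelLin_inv Q hu huy x)

theorem siegel_apply (u y : V) (hu : Q u = 0) (huy : polar Q u y = 0) (x : V) :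
    siegel Q u y hu huy x = siegelLin Q u y x := rfl

theorem siegel_mem (u y : V) (hu : Q u = 0) (huy : polar Q u y = 0) :
    siegel Q u y hu huy ∈ isoGrp Q := fun x => siegelLin_isometry Q hu huy x

theorem siegel_apply_self (u y : V) (hu : Q u = 0) (huy : polar Q u y = 0) :
    siegel Q u y hu huy u = u := by
  rw [siegel_apply, siegelLin_apply, pol_self, hu, polar_comm Q y u, huy]
  simp

/-- A Siegel transformation fixing `u` moves `v` to `v'`. -/
theorem siegel_apply_pair {u v v' : V} (hu : Q u = 0) (hv : Q v = 0) (hv' : Q v' = 0)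
    (huv : polar Q u v = 1) (huv' : polar Q u v' = 1) :
    ∃ huy : polar Q u (v' - v) = 0, siegel Q u (v' - v) hu huy v = v' := by
  have huy : polar Q u (v' - v) = 0 := by rw [pol_sub_right, huv, huv', sub_self]
  refine ⟨huy, ?_⟩
  rw [siegel_apply, siegelLin_apply, huv, pol_sub_left, pol_self, hv, qf_sub, hv, hv',
    polar_comm Q v' v]
  module

end siegel

section trans
variable {F : Type*} [Field F] {V : Type*} [AddCommGroup V] [Module F V] (Q : QuadraticForm F V)

theorem exists_polar_ne_zero_both (hnd : ∀ x : V, x ≠ 0 → ∃ y, polar Q x y ≠ 0) {u v : V}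
    (hu : u ≠ 0) (hv : v ≠ 0) : ∃ z, polar Q u z ≠ 0 ∧ polar Q v z ≠ 0 := by
  obtain ⟨z1, h1⟩ := hnd u hu
  obtain ⟨z2, h2⟩ := hnd v hv
  by_cases h3 : polar Q v z1 = 0
  · by_cases h4 : polar Q u z2 = 0
    · refine ⟨z1 + z2, ?_, ?_⟩
      · rw [polar_add_right, h4, add_zero]; exact h1
      · rw [polar_add_right, h3, zero_add]; exact h2
    · exact ⟨z2, h4, h2⟩
  · exact ⟨z1, h1, h3⟩

theorem exists_singular_both (hnd : ∀ x : V, x ≠ 0 → ∃ y, polar Q x y ≠ 0) {u v : V}
    (hu0 : u ≠ 0) (hv0 : v ≠ 0) (hu : Q u = 0) (huv : polar Q u v = 0) :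
    ∃ z, Q z = 0 ∧ polar Q u z ≠ 0 ∧ polar Q v z ≠ 0 := by
  obtain ⟨z0, h1, h2⟩ := exists_polar_ne_zero_both Q hnd hu0 hv0
  refine ⟨z0 + (-(Q z0) / polar Q u z0) • u, ?_, ?_, ?_⟩
  · rw [qf_add, qf_smul, hu, pol_smul_right, polar_comm Q z0 u]
    field_simp
    ring
  · rw [polar_add_right, pol_smul_right, pol_self, hu]
    simpa using h1
  · rw [polar_add_right, pol_smul_right, polar_comm Q v u, huv]
    simpa using h2

/-- The isometry group is transitive on non-zero singular vectors. -/
theorem exists_isoGrp_apply_eq (hnd : ∀ x : V, x ≠ 0 → ∃ y, polar Q x y ≠ 0) {u v : V}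
    (hu0 : u ≠ 0) (hv0 : v ≠ 0) (hu : Q u = 0) (hv : Q v = 0) :
    ∃ φ ∈ isoGrp Q, φ u = v := by
  by_cases huv : polar Q u v = 0
  · obtain ⟨z, hz, h1, h2⟩ := exists_singular_both Q hnd hu0 hv0 hu huv
    obtain ⟨hd1, e1⟩ := reflQ_sub_apply Q hu hz h1
    have h2' : polar Q z v ≠ 0 := by rw [polar_comm]; exact h2
    obtain ⟨hd2, e2⟩ := reflQ_sub_apply Q hz hv h2'
    refine ⟨reflQ Q (z - v) hd2 * reflQ Q (u - z) hd1,
      (isoGrp Q).mul_mem (reflQ_mem Q _ hd2) (reflQ_mem Q _ hd1), ?_⟩
    rw [LinearEquiv.mul_apply, e1, e2]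
  · obtain ⟨hd, e⟩ := reflQ_sub_apply Q hu hv huv
    exact ⟨reflQ Q (u - v) hd, reflQ_mem Q _ hd, e⟩

/-- The isometry group is transitive on hyperbolic pairs. -/
theorem exists_isoGrp_pair (hnd : ∀ x : V, x ≠ 0 → ∃ y, polar Q x y ≠ 0) {u v u' v' : V}
    (hu : Q u = 0) (hv : Q v = 0) (hu' : Q u' = 0) (hv' : Q v' = 0)
    (huv : polar Q u v = 1) (huv' : polar Q u' v' = 1) :
    ∃ φ ∈ isoGrp Q, φ u = u' ∧ φ v = v' := by
  have hu0 : u ≠ 0 := by
    rintro rfl
    simp [polar] at huv
  have hu0' : u' ≠ 0 := by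
    rintro rfl
    simp [polar] at huv'
  obtain ⟨φ, hφ, e⟩ := exists_isoGrp_apply_eq Q hnd hu0 hu0' hu hu'
  have h1 : polar Q u' (φ v) = 1 := by rw [← e, isoGrp_polar Q hφ]; exact huv
  have h2 : Q (φ v) = 0 := by rw [hφ]; exact hv
  obtain ⟨huy, e2⟩ := siegel_apply_pair Q hu' h2 hv' h1 huv'
  refine ⟨siegel Q u' (v' - φ v) hu' huy * φ, (isoGrp Q).mul_mem (siegel_mem Q _ _ hu' huy) hφ, ?_, ?_⟩
  · rw [LinearEquiv.mul_apply, e, siegel_apply_self]
  · rw [LinearEquiv.mul_apply, e2]

end trans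

end Cfsg.Agent.Lib.Helper5
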