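import Mathlib
import Cfsg.Agent.Lib.Helper5.OrthGeneric

set_option autoImplicit false

namespace Cfsg.Agent.Lib.Helper5

open QuadraticMap

section hp
variable {F : Type*} [Field F] {V : Type*} [AddCommGroup V] [Module F V] (Q : QuadraticForm F V)

/-- Hyperbolic pairs. -/
def HypPairQ : Type _ := {p : V × V // Q p.1 = 0 ∧ Q p.2 = 0 ∧ polar Q p.1 p.2 = 1}

/-- Non-zero singular vectors. -/
def SingVec : Type _ := {u : V // u ≠ 0 ∧ Q u = 0}

instance hypPairQMulAction : MulAction (isoGrp Q) (HypPairQ Q) where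
  smul φ p := ⟨(φ.1 p.1.1, φ.1 p.1.2), by
    refine ⟨?_, ?_, ?_⟩
    · rw [φ.2]; exact p.2.1
    · rw [φ.2]; exact p.2.2.1
    · rw [isoGrp_polar Q φ.2]; exact p.2.2.2⟩
  one_smul p := rfl
  mul_smul φ ψ p := rfl

theorem hypPairQ_smul_fst (φ : isoGrp Q) (p : HypPairQ Q) : (φ • p).1.1 = φ.1 p.1.1 := rfl
theorem hypPairQ_smul_snd (φ : isoGrp Q) (p : HypPairQ Q) : (φ • p).1.2 = φ.1 p.1.2 := rfl

theorem hypPairQ_isPretransitive (hnd : ∀ x : V, x ≠ 0 → ∃ y, polar Q x y ≠ 0) :
    MulAction.IsPretransitive (isoGrp Q) (HypPairQ Q) := by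
  constructor
  intro p p'
  obtain ⟨φ, hφ, h1, h2⟩ := exists_isoGrp_pair Q hnd p.2.1 p.2.2.1 p'.2.1 p'.2.2.1 p.2.2.2 p'.2.2.2
  exact ⟨⟨φ, hφ⟩, Subtype.ext (Prod.ext h1 h2)⟩

/-- All fibres of `HypPairQ → SingVec` have the same size. -/
theorem card_hypPairQ (hnd : ∀ x : V, x ≠ 0 → ∃ y, polar Q x y ≠ 0) [Finite V] (e : V) (he0 : e ≠ 0)
    (he : Q e = 0) :
    Nat.card (HypPairQ Q) =
      Nat.card (SingVec Q) * Nat.card {v : V // Q v = 0 ∧ polar Q e v = 1} := by
  classical
  have : Fintype V := Fintype.ofFinite V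
  let E : HypPairQ Q ≃ Σ u : SingVec Q, {v : V // Q v = 0 ∧ polar Q u.1 v = 1} :=
    { toFun := fun p => ⟨⟨p.1.1, by
          rintro h0
          have := p.2.2.2
          rw [h0] at this
          simp [polar] at this, p.2.1⟩, ⟨p.1.2, p.2.2.1, p.2.2.2⟩⟩
      invFun := fun s => ⟨(s.1.1, s.2.1), s.1.2.2, s.2.2.1, s.2.2.2⟩
      left_inv := fun p => rfl
      right_inv := fun s => rfl }
  have : Finite (SingVec Q) := Subtype.finite
  have : Fintype (SingVec Q) := Fintype.ofFinite _
  rw [Nat.card_congr E, Nat.card_sigma]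
  have hfib : ∀ u : SingVec Q, Nat.card {v : V // Q v = 0 ∧ polar Q u.1 v = 1} =
      Nat.card {v : V // Q v = 0 ∧ polar Q e v = 1} := by
    intro u
    obtain ⟨φ, hφ, hφe⟩ := exists_isoGrp_apply_eq Q hnd he0 u.2.1 he u.2.2
    symm
    apply Nat.card_congr
    exact
      { toFun := fun v => ⟨φ v.1, by rw [hφ]; exact v.2.1, by
          rw [← hφe, isoGrp_polar Q hφ]; exact v.2.2⟩
        invFun := fun v => ⟨φ.symm v.1, by
            have := hφ (φ.symm v.1)
            rw [LinearEquiv.apply_symm_apply] at this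
            rw [← this]; exact v.2.1, by
            have := isoGrp_polar Q hφ e (φ.symm v.1)
            rw [LinearEquiv.apply_symm_apply, hφe] at this
            rw [← this]; exact v.2.2⟩
        left_inv := fun v => Subtype.ext (φ.symm_apply_apply v.1)
        right_inv := fun v => Subtype.ext (φ.apply_symm_apply v.1) }
  simp only [hfib]
  rw [Finset.sum_const, Finset.card_univ, smul_eq_mul, Nat.card_eq_fintype_card (α := SingVec Q)]

end hp

section hypext
variable {F : Type*} [Field F] {V : Type*} [AddCommGroup V] [Module F V] (Q : QuadraticForm F V)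

/-- The orthogonal sum of a hyperbolic plane and `Q`, on `(F × F) × V`. -/
noncomputable def hypExt : QuadraticForm F ((F × F) × V) :=
  (linMulLin (LinearMap.fst F F F) (LinearMap.snd F F F)).prod Q

theorem hypExt_apply (x : (F × F) × V) : hypExt Q x = x.1.1 * x.1.2 + Q x.2 := by
  simp [hypExt, QuadraticMap.prod_apply, linMulLin_apply]

theorem hypExt_polar (x y : (F × F) × V) :
    polar (hypExt Q) x y = x.1.1 * y.1.2 + y.1.1 * x.1.2 + polar Q x.2 y.2 := by
  simp only [polar, hypExt_apply, Prod.fst_add, Prod.snd_add]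
  ring

theorem hypExt_nondeg (hnd : ∀ x : V, x ≠ 0 → ∃ y, polar Q x y ≠ 0) :
    ∀ x : (F × F) × V, x ≠ 0 → ∃ y, polar (hypExt Q) x y ≠ 0 := by
  intro x hx
  by_cases h1 : x.1.1 = 0
  · by_cases h2 : x.1.2 = 0
    · have h3 : x.2 ≠ 0 := by
        intro h3
        apply hx
        ext <;> simp [h1, h2, h3]
      obtain ⟨y, hy⟩ := hnd x.2 h3
      refine ⟨((0, 0), y), ?_⟩
      rw [hypExt_polar]
      simpa using hy
    · refine ⟨((1, 0), 0), ?_⟩
      rw [hypExt_polar]
      simpa [polar] using h2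
  · refine ⟨((0, 1), 0), ?_⟩
    rw [hypExt_polar]
    simpa [polar] using h1

/-- The standard hyperbolic pair. -/
def stdE (F V : Type*) [Field F] [AddCommGroup V] : (F × F) × V := ((1, 0), 0)
def stdF (F V : Type*) [Field F] [AddCommGroup V] : (F × F) × V := ((0, 1), 0)

theorem hypExt_stdE : hypExt Q (stdE F V) = 0 := by simp [hypExt_apply, stdE]
theorem hypExt_stdF : hypExt Q (stdF F V) = 0 := by simp [hypExt_apply, stdF]
theorem stdE_ne_zero : stdE F V ≠ 0 := by
  intro h
  have := congrArg (fun x : (F × F) × V => x.1.1) h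
  simp [stdE] at this

theorem hypExt_polar_stdE (x : (F × F) × V) : polar (hypExt Q) (stdE F V) x = x.1.2 := by
  rw [hypExt_polar]; simp [stdE, polar]

theorem hypExt_polar_stdF (x : (F × F) × V) : polar (hypExt Q) (stdF F V) x = x.1.1 := by
  rw [hypExt_polar]; simp [stdF, polar]

def stdPairQ : HypPairQ (hypExt Q) :=
  ⟨(stdE F V, stdF F V), hypExt_stdE Q, hypExt_stdF Q, by rw [hypExt_polar_stdE]; rfl⟩

theorem card_fiber_stdE :
    Nat.card {v : (F × F) × V // hypExt Q v = 0 ∧ polar (hypExt Q) (stdE F V) v = 1} = Nat.card V := by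
  apply Nat.card_congr
  exact
    { toFun := fun v => v.1.2
      invFun := fun w => ⟨((-Q w, 1), w), by rw [hypExt_apply]; simp, by rw [hypExt_polar_stdE]⟩
      left_inv := fun v => by
        apply Subtype.ext
        have h1 := v.2.1
        have h2 := v.2.2
        rw [hypExt_polar_stdE] at h2
        rw [hypExt_apply, h2, mul_one] at h1
        ext
        · simp only; linear_combination -h1
        · simp only; exact h2.symm
        · rfl
      right_inv := fun w => rfl }

end hypext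

section stab
variable {F : Type*} [Field F] {V : Type*} [AddCommGroup V] [Module F V] (Q : QuadraticForm F V)

theorem mem_stabilizer_stdPairQ_iff (φ : isoGrp (hypExt Q)) :
    φ ∈ MulAction.stabilizer (isoGrp (hypExt Q)) (stdPairQ Q) ↔
      φ.1 (stdE F V) = stdE F V ∧ φ.1 (stdF F V) = stdF F V := by
  rw [MulAction.mem_stabilizer_iff]
  constructor
  · intro h
    have h1 := congrArg (fun p : HypPairQ (hypExt Q) => p.1.1) h
    have h2 := congrArg (fun p : HypPairQ (hypExt Q) => p.1.2) h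
    exact ⟨h1, h2⟩
  · rintro ⟨h1, h2⟩
    exact Subtype.ext (Prod.ext h1 h2)

variable {Q}

/-- An isometry fixing `e` and `f` preserves the hyperbolic coordinates. -/
theorem fst_apply_of_fix {φ : ((F × F) × V) ≃ₗ[F] ((F × F) × V)} (hφ : φ ∈ isoGrp (hypExt Q))
    (he : φ (stdE F V) = stdE F V) (hf : φ (stdF F V) = stdF F V) (x : (F × F) × V) :
    (φ x).1 = x.1 := by
  have h1 : polar (hypExt Q) (stdE F V) (φ x) = polar (hypExt Q) (stdE F V) x := by
    conv_lhs => rw [← he]
    exact isoGrp_polar _ hφ _ _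
  have h2 : polar (hypExt Q) (stdF F V) (φ x) = polar (hypExt Q) (stdF F V) x := by
    conv_lhs => rw [← hf]
    exact isoGrp_polar _ hφ _ _
  rw [hypExt_polar_stdE, hypExt_polar_stdE] at h1
  rw [hypExt_polar_stdF, hypExt_polar_stdF] at h2
  exact Prod.ext h2 h1

/-- The induced map on the orthogonal complement of the standard hyperbolic plane. -/
noncomputable def compLin (φ : ((F × F) × V) ≃ₗ[F] ((F × F) × V)) : V →ₗ[F] V :=
  (LinearMap.snd F (F × F) V) ∘ₗ φ.toLinearMap ∘ₗ (LinearMap.inr F (F × F) V)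

theorem compLin_apply (φ : ((F × F) × V) ≃ₗ[F] ((F × F) × V)) (w : V) :
    compLin φ w = (φ ((0, 0), w)).2 := rfl

theorem apply_eq_of_fix {φ : ((F × F) × V) ≃ₗ[F] ((F × F) × V)} (hφ : φ ∈ isoGrp (hypExt Q))
    (he : φ (stdE F V) = stdE F V) (hf : φ (stdF F V) = stdF F V) (x : (F × F) × V) :
    φ x = (x.1, compLin φ x.2) := by
  have hx : x = x.1.1 • stdE F V + x.1.2 • stdF F V + ((0, 0), x.2) := by
    ext <;> simp [stdE, stdF]
  have h0 := fst_apply_of_fix hφ he hf ((0, 0), x.2)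
  conv_lhs => rw [hx]
  rw [map_add, map_add, map_smul, map_smul, he, hf]
  ext
  · simp [stdE, stdF, h0]
  · simp [stdE, stdF, h0]
  · simp [stdE, stdF, compLin_apply]

theorem symm_fix {φ : ((F × F) × V) ≃ₗ[F] ((F × F) × V)} {x : (F × F) × V} (h : φ x = x) :
    φ.symm x = x := by
  conv_lhs => rw [← h]
  exact φ.symm_apply_apply x

theorem compLin_symm_comp {φ : ((F × F) × V) ≃ₗ[F] ((F × F) × V)} (hφ : φ ∈ isoGrp (hypExt Q))
    (he : φ (stdE F V) = stdE F V) (hf : φ (stdF F V) = stdF F V) (w : V) :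
    compLin φ.symm (compLin φ w) = w := by
  have h1 := apply_eq_of_fix hφ he hf ((0, 0), w)
  simp only at h1
  rw [compLin_apply φ.symm, ← h1, φ.symm_apply_apply]

/-- The automorphism of `V` induced by an isometry fixing `e` and `f`. -/
noncomputable def compEquiv (φ : ((F × F) × V) ≃ₗ[F] ((F × F) × V)) (hφ : φ ∈ isoGrp (hypExt Q))
    (he : φ (stdE F V) = stdE F V) (hf : φ (stdF F V) = stdF F V) : V ≃ₗ[F] V :=
  LinearEquiv.ofLinear (compLin φ) (compLin φ.symm)
    (by
      ext w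
      have hφ' : φ.symm ∈ isoGrp (hypExt Q) := (isoGrp (hypExt Q)).inv_mem hφ
      have := compLin_symm_comp hφ' (symm_fix he) (symm_fix hf) w
      rw [LinearEquiv.symm_symm] at this
      exact this)
    (by
      ext w
      exact compLin_symm_comp hφ he hf w)

theorem compEquiv_apply (φ : ((F × F) × V) ≃ₗ[F] ((F × F) × V)) (hφ : φ ∈ isoGrp (hypExt Q))
    (he : φ (stdE F V) = stdE F V) (hf : φ (stdF F V) = stdF F V) (w : V) :
    compEquiv φ hφ he hf w = compLin φ w := rfl

theorem compEquiv_mem (φ : ((F × F) × V) ≃ₗ[F] ((F × F) × V)) (hφ : φ ∈ isoGrp (hypExt Q))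
    (he : φ (stdE F V) = stdE F V) (hf : φ (stdF F V) = stdF F V) :
    compEquiv φ hφ he hf ∈ isoGrp Q := by
  intro w
  have h1 := apply_eq_of_fix hφ he hf ((0, 0), w)
  have h2 := hφ ((0, 0), w)
  rw [h1, hypExt_apply, hypExt_apply] at h2
  rw [compEquiv_apply]
  simpa using h2

theorem prodCongr_mem {ψ : V ≃ₗ[F] V} (hψ : ψ ∈ isoGrp Q) :
    (LinearEquiv.refl F (F × F)).prodCongr ψ ∈ isoGrp (hypExt Q) := by
  intro x
  rw [hypExt_apply, hypExt_apply]
  simp [hψ x.2]

variable (Q)

/-- The stabilizer of the standard hyperbolic pair is in bijection with the isometry group of `Q`. -/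
noncomputable def stabStdPairQEquiv :
    MulAction.stabilizer (isoGrp (hypExt Q)) (stdPairQ Q) ≃ isoGrp Q where
  toFun φ := ⟨compEquiv φ.1.1 φ.1.2 ((mem_stabilizer_stdPairQ_iff Q φ.1).mp φ.2).1
      ((mem_stabilizer_stdPairQ_iff Q φ.1).mp φ.2).2,
    compEquiv_mem _ _ _ _⟩
  invFun ψ := ⟨⟨(LinearEquiv.refl F (F × F)).prodCongr ψ.1, prodCongr_mem ψ.2⟩, by
    rw [mem_stabilizer_stdPairQ_iff]
    constructor
    · ext <;> simp [stdE]
    · ext <;> simp [stdF]⟩
  left_inv φ := by
    apply Subtype.ext; apply Subtype.ext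
    apply LinearEquiv.ext
    intro x
    have h := apply_eq_of_fix φ.1.2 ((mem_stabilizer_stdPairQ_iff Q φ.1).mp φ.2).1
      ((mem_stabilizer_stdPairQ_iff Q φ.1).mp φ.2).2 x
    rw [h]
    rfl
  right_inv ψ := by
    apply Subtype.ext
    apply LinearEquiv.ext
    intro w
    rfl

/-- The order of the isometry group of a hyperbolic extension. -/
theorem card_isoGrp_hypExt [Finite V] [Finite F] (hnd : ∀ x : V, x ≠ 0 → ∃ y, polar Q x y ≠ 0) :
    Nat.card (isoGrp (hypExt Q)) =
      Nat.card (SingVec (hypExt Q)) * Nat.card V * Nat.card (isoGrp Q) := by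
  have hnd' := hypExt_nondeg Q hnd
  haveI := hypPairQ_isPretransitive (hypExt Q) hnd'
  have h1 := Subgroup.card_mul_index (MulAction.stabilizer (isoGrp (hypExt Q)) (stdPairQ Q))
  rw [MulAction.index_stabilizer_of_transitive,
    card_hypPairQ (hypExt Q) hnd' (stdE F V) stdE_ne_zero (hypExt_stdE Q), card_fiber_stdE,
    Nat.card_congr (stabStdPairQEquiv Q)] at h1
  rw [← h1, mul_comm]

end stab

end Cfsg.Agent.Lib.Helper5
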