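import Mathlib
import Cfsg.Prelude.Def_Classical
import Cfsg.Agent.Lib.Helper5.OrthHyp

set_option autoImplicit false

namespace Cfsg.Agent.Lib.Helper5

open QuadraticMap Matrix

section transfer
variable {F : Type*} [Field F]

/-- `GL(ι, F)` as the group of linear automorphisms of `ι → F`. -/
noncomputable def glLinEquiv (ι : Type) [Fintype ι] [DecidableEq ι] (F : Type*) [Field F] :
    GL ι F ≃* ((ι → F) ≃ₗ[F] (ι → F)) :=
  Matrix.GeneralLinearGroup.toLin.trans (LinearMap.GeneralLinearGroup.generalLinearEquiv F (ι → F))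

theorem glLinEquiv_apply {ι : Type} [Fintype ι] [DecidableEq ι] (g : GL ι F) (v : ι → F) :
    glLinEquiv ι F g v = g.1 *ᵥ v := rfl

theorem card_isometryGroup_eq {ι : Type} [Fintype ι] [DecidableEq ι] (Q₀ : (ι → F) → F) :
    Nat.card (Cfsg.isometryGroup F Q₀) = Nat.card (isoGrp Q₀) := by
  apply Nat.card_congr
  refine Equiv.subtypeEquiv (glLinEquiv ι F).toEquiv (fun g => ?_)
  constructor
  · intro h x
    exact h x x
  · intro h u v
    exact h u

variable {V₁ V₂ : Type*} [AddCommGroup V₁] [Module F V₁] [AddCommGroup V₂] [Module F V₂]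

theorem card_isoGrp_congr (L : V₁ ≃ₗ[F] V₂) (Q₁ : V₁ → F) (Q₂ : V₂ → F) (h : ∀ x, Q₂ (L x) = Q₁ x) :
    Nat.card (isoGrp Q₁) = Nat.card (isoGrp Q₂) := by
  apply Nat.card_congr
  exact
    { toFun := fun φ => ⟨(L.symm.trans φ.1).trans L, by
        intro x
        change Q₂ (L (φ.1 (L.symm x))) = Q₂ x
        rw [h, φ.2, ← h, L.apply_symm_apply]⟩
      invFun := fun ψ => ⟨(L.trans ψ.1).trans L.symm, by
        intro x
        change Q₁ (L.symm (ψ.1 (L x))) = Q₁ x
        rw [← h, L.apply_symm_apply, ψ.2, h]⟩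
      left_inv := fun φ => by
        apply Subtype.ext
        apply LinearEquiv.ext
        intro x
        change L.symm (L (φ.1 (L.symm (L x)))) = φ.1 x
        simp
      right_inv := fun ψ => by
        apply Subtype.ext
        apply LinearEquiv.ext
        intro x
        change L (L.symm (ψ.1 (L (L.symm x)))) = ψ.1 x
        simp }

theorem card_sing_congr (L : V₁ ≃ₗ[F] V₂) (Q₁ : V₁ → F) (Q₂ : V₂ → F) (h : ∀ x, Q₂ (L x) = Q₁ x) :
    Nat.card {u : V₁ // u ≠ 0 ∧ Q₁ u = 0} = Nat.card {u : V₂ // u ≠ 0 ∧ Q₂ u = 0} := by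
  apply Nat.card_congr
  refine Equiv.subtypeEquiv L.toEquiv (fun u => ?_)
  change u ≠ 0 ∧ Q₁ u = 0 ↔ L u ≠ 0 ∧ Q₂ (L u) = 0
  rw [h, Ne, Ne, L.map_eq_zero_iff]

theorem card_sing_add_one {V : Type*} [AddCommGroup V] [Finite V] (Q : V → F) (h0 : Q 0 = 0) :
    Nat.card {u : V // u ≠ 0 ∧ Q u = 0} + 1 = Nat.card {u : V // Q u = 0} := by
  classical
  have : Fintype V := Fintype.ofFinite V
  have e : {u : V // Q u = 0} ≃ Option {u : V // u ≠ 0 ∧ Q u = 0} :=
    { toFun := fun u => if h : u.1 = 0 then none else some ⟨u.1, h, u.2⟩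
      invFun := fun o => match o with
        | none => ⟨0, h0⟩
        | some u => ⟨u.1, u.2.2⟩
      left_inv := fun u => by
        by_cases h : u.1 = 0
        · simp only [h, dite_true]; exact Subtype.ext h.symm
        · simp only [h, dite_false]
      right_inv := fun o => by
        cases o with
        | none => simp
        | some u =>
          have : u.1 ≠ 0 := u.2.1
          simp only [this, dite_false] }
  rw [Nat.card_congr e, Finite.card_option]

end transfer

end Cfsg.Agent.Lib.Helper5
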