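import Mathlib

set_option autoImplicit false

namespace Cfsg.Agent.Lib.Helper5

open Matrix

section fiber
variable {A B : Type*} [AddCommGroup A] [AddCommGroup B]

/-- All fibres of a surjective additive homomorphism have the same size `|A| / |B|`. -/
theorem card_fiber_mul_card (f : A →+ B) (hf : Function.Surjective f) (c : B) :
    Nat.card {a : A // f a = c} * Nat.card B = Nat.card A := by
  obtain ⟨a₀, ha₀⟩ := hf c
  have e : {a : A // f a = c} ≃ f.ker :=
    { toFun := fun a => ⟨a.1 - a₀, by rw [AddMonoidHom.mem_ker, map_sub, a.2, ha₀, sub_self]⟩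
      invFun := fun k => ⟨k.1 + a₀, by rw [map_add, AddMonoidHom.mem_ker.mp k.2, ha₀, zero_add]⟩
      left_inv := fun a => by simp
      right_inv := fun k => by simp }
  rw [Nat.card_congr e]
  have h1 := AddSubgroup.card_mul_index f.ker
  rw [AddSubgroup.index_ker, AddMonoidHom.range_eq_top.mpr hf, AddSubgroup.card_top] at h1
  exact h1

end fiber

variable {F : Type*} [Field F] [Fintype F]

/-- The dot product with a fixed vector as an additive hom. -/
def dotHom {n : ℕ} (x : Fin n → F) : (Fin n → F) →+ F where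
  toFun y := x ⬝ᵥ y
  map_zero' := by simp
  map_add' y z := by simp [dotProduct_add]

omit [Fintype F] in
theorem dotHom_surjective {n : ℕ} {x : Fin n → F} (hx : x ≠ 0) : Function.Surjective (dotHom x) := by
  obtain ⟨i, hi⟩ : ∃ i, x i ≠ 0 := by
    by_contra h
    push Not at h
    exact hx (funext h)
  intro c
  refine ⟨Pi.single i (c / x i), ?_⟩
  change x ⬝ᵥ Pi.single i (c / x i) = c
  rw [dotProduct_single]
  field_simp

/-- An affine hyperplane in `F^n` has `q^(n-1)` points. -/
theorem card_dot_eq {n : ℕ} {x : Fin n → F} (hx : x ≠ 0) (c : F) :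
    Nat.card {y : Fin n → F // x ⬝ᵥ y = c} = Fintype.card F ^ (n - 1) := by
  have h := card_fiber_mul_card (dotHom x) (dotHom_surjective hx) c
  have hn : 0 < n := by
    rcases Nat.eq_zero_or_pos n with h0 | h0
    · subst h0
      exact absurd (Subsingleton.elim x 0) hx
    · exact h0
  rw [Nat.card_eq_fintype_card (α := F), Nat.card_eq_fintype_card (α := Fin n → F), Fintype.card_fun,
    Fintype.card_fin] at h
  change Nat.card {y : Fin n → F // x ⬝ᵥ y = c} * Fintype.card F = Fintype.card F ^ n at h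
  have hq : 0 < Fintype.card F := Fintype.card_pos
  have : Fintype.card F ^ n = Fintype.card F ^ (n - 1) * Fintype.card F := by
    rw [← pow_succ]; congr 1; omega
  rw [this] at h
  exact Nat.eq_of_mul_eq_mul_right hq h

/-- Counting zeros of `x · y + h(w)`. -/
theorem card_hyperbolic_add (n : ℕ) {W : Type*} [Finite W] (h : W → F) :
    Nat.card {p : (Fin n → F) × (Fin n → F) × W // p.1 ⬝ᵥ p.2.1 + h p.2.2 = 0} =
      Fintype.card F ^ n * Nat.card {w : W // h w = 0} +
        (Fintype.card F ^ n - 1) * (Fintype.card F ^ (n - 1) * Nat.card W) := by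
  classical
  have : Fintype W := Fintype.ofFinite W
  let e : {p : (Fin n → F) × (Fin n → F) × W // p.1 ⬝ᵥ p.2.1 + h p.2.2 = 0} ≃
      Σ x : Fin n → F, {yw : (Fin n → F) × W // x ⬝ᵥ yw.1 + h yw.2 = 0} :=
    { toFun := fun p => ⟨p.1.1, ⟨p.1.2, p.2⟩⟩
      invFun := fun s => ⟨(s.1, s.2.1), s.2.2⟩
      left_inv := fun p => rfl
      right_inv := fun s => rfl }
  rw [Nat.card_congr e, Nat.card_sigma]
  have h0 : Nat.card {yw : (Fin n → F) × W // (0 : Fin n → F) ⬝ᵥ yw.1 + h yw.2 = 0} =
      Fintype.card F ^ n * Nat.card {w : W // h w = 0} := by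
    let e0 : {yw : (Fin n → F) × W // (0 : Fin n → F) ⬝ᵥ yw.1 + h yw.2 = 0} ≃
        (Fin n → F) × {w : W // h w = 0} :=
      { toFun := fun p => (p.1.1, ⟨p.1.2, by simpa using p.2⟩)
        invFun := fun s => ⟨(s.1, s.2.1), by simpa using s.2.2⟩
        left_inv := fun p => rfl
        right_inv := fun s => rfl }
    rw [Nat.card_congr e0, Nat.card_prod, Nat.card_eq_fintype_card (α := Fin n → F), Fintype.card_fun,
      Fintype.card_fin]
  have h1 : ∀ x : Fin n → F, x ≠ 0 →
      Nat.card {yw : (Fin n → F) × W // x ⬝ᵥ yw.1 + h yw.2 = 0} =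
        Fintype.card F ^ (n - 1) * Nat.card W := by
    intro x hx
    let e1 : {yw : (Fin n → F) × W // x ⬝ᵥ yw.1 + h yw.2 = 0} ≃
        Σ w : W, {y : Fin n → F // x ⬝ᵥ y = - h w} :=
      { toFun := fun p => ⟨p.1.2, ⟨p.1.1, eq_neg_of_add_eq_zero_left p.2⟩⟩
        invFun := fun s => ⟨(s.2.1, s.1), by rw [s.2.2]; simp⟩
        left_inv := fun p => rfl
        right_inv := fun s => rfl }
    rw [Nat.card_congr e1, Nat.card_sigma]
    simp only [card_dot_eq hx]
    rw [Finset.sum_const, Finset.card_univ, smul_eq_mul, Nat.card_eq_fintype_card, mul_comm]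
  rw [Fintype.sum_eq_add_sum_compl (0 : Fin n → F), h0]
  congr 1
  rw [Finset.sum_congr rfl (fun x hx => h1 x (by simpa using hx)), Finset.sum_const, smul_eq_mul,
    Finset.card_compl, Finset.card_singleton, Fintype.card_fun, Fintype.card_fin]

end Cfsg.Agent.Lib.Helper5
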