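import Mathlib
import Cfsg.Agent.Lib.Helper5.OrthTransfer
import Cfsg.Agent.Lib.Helper5.QuadCount

set_option autoImplicit false

namespace Cfsg.Agent.Lib.Helper5

open QuadraticMap

section refl
variable {F : Type*} [Field F] {V : Type*} [AddCommGroup V] [Module F V] (Q : QuadraticForm F V)

/-- Two vectors of the same norm are swapped by the reflection in their difference. -/
theorem reflQ_sub_apply' {x x' : V} (h : Q x = Q x') (hd : Q (x - x') ≠ 0) :
    reflQ Q (x - x') hd x = x' := by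
  have h1 : polar Q (x - x') x = Q (x - x') := by
    rw [pol_sub_left, pol_self, qf_sub, ← h, polar_comm Q x' x]
    ring
  rw [reflQ_apply, h1, inv_mul_cancel₀ hd, one_smul]
  abel

theorem reflQ_smul (d : V) (hd : Q d ≠ 0) (c : F) (hc : c ≠ 0) (hcd : Q (c • d) ≠ 0) (y : V) :
    reflQ Q (c • d) hcd y = reflQ Q d hd y := by
  rw [reflQ_apply, reflQ_apply, qf_smul, pol_smul_left, smul_smul]
  congr 2
  field_simp

theorem reflQ_apply_of_polar_eq_zero (d : V) (hd : Q d ≠ 0) {y : V} (h : polar Q d y = 0) :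
    reflQ Q d hd y = y := by
  rw [reflQ_apply, h, mul_zero, zero_smul, sub_zero]

end refl

section unitvec
variable {F : Type*} [Field F] {V : Type*} [AddCommGroup V] [Module F V] (T : QuadraticForm F V)

/-- Vectors of norm one. -/
def UnitVec : Type _ := {x : V // T x = 1}

instance unitVecMulAction : MulAction (isoGrp T) (UnitVec T) where
  smul φ x := ⟨φ.1 x.1, by rw [φ.2]; exact x.2⟩
  one_smul x := rfl
  mul_smul φ ψ x := rfl

theorem unitVec_smul_coe (φ : isoGrp T) (x : UnitVec T) : (φ • x).1 = φ.1 x.1 := rfl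

theorem unitVec_isPretransitive (haniso : ∀ x, T x = 0 → x = 0) :
    MulAction.IsPretransitive (isoGrp T) (UnitVec T) := by
  constructor
  intro x x'
  by_cases h : x.1 = x'.1
  · exact ⟨1, Subtype.ext h⟩
  · have hd : T (x.1 - x'.1) ≠ 0 := fun h0 => h (sub_eq_zero.mp (haniso _ h0))
    refine ⟨⟨reflQ T _ hd, reflQ_mem T _ hd⟩, Subtype.ext ?_⟩
    exact reflQ_sub_apply' T (by rw [x.2, x'.2]) hd

end unitvec

section count
variable {F : Type*} [Field F] {V : Type*} [AddCommGroup V] [Module F V] (T : QuadraticForm F V)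

/-- The image of `z₀` under the reflection in `d`. -/
noncomputable def reflImg (z₀ d : V) : V := z₀ - ((T d)⁻¹ * polar T d z₀) • d

theorem reflImg_eq_reflQ (z₀ d : V) (hd : T d ≠ 0) : reflImg T z₀ d = reflQ T d hd z₀ := by
  rw [reflQ_apply, reflImg]

theorem reflImg_norm (z₀ d : V) (hd : T d ≠ 0) : T (reflImg T z₀ d) = T z₀ := by
  rw [reflImg_eq_reflQ T z₀ d hd, reflQ_mem T d hd]

theorem reflImg_eq_self_iff {z₀ d : V} (hd0 : d ≠ 0) (hd : T d ≠ 0) :
    reflImg T z₀ d = z₀ ↔ polar T z₀ d = 0 := by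
  rw [reflImg, sub_eq_self, smul_eq_zero, polar_comm T z₀ d]
  constructor
  · intro h
    rcases h with h | h
    · rcases mul_eq_zero.mp h with h' | h'
      · exact absurd (inv_eq_zero.mp h') hd
      · exact h'
    · exact absurd h hd0
  · intro h
    left
    rw [h, mul_zero]

theorem reflImg_eq_iff (haniso : ∀ x, T x = 0 → x = 0) {z₀ x' d : V} (hd0 : d ≠ 0)
    (hx' : T x' = T z₀) (hne : x' ≠ z₀) :
    reflImg T z₀ d = x' ↔ ∃ c : F, c ≠ 0 ∧ d = c • (z₀ - x') := by
  have hd : T d ≠ 0 := fun h => hd0 (haniso d h)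
  have hw0 : z₀ - x' ≠ 0 := sub_ne_zero.mpr (Ne.symm hne)
  have hw : T (z₀ - x') ≠ 0 := fun h => hw0 (haniso _ h)
  constructor
  · intro h
    have h1 : ((T d)⁻¹ * polar T d z₀) • d = z₀ - x' := by
      rw [← h, reflImg]; abel
    have hs : (T d)⁻¹ * polar T d z₀ ≠ 0 := by
      intro h0
      rw [h0, zero_smul] at h1
      exact hw0 h1.symm
    refine ⟨((T d)⁻¹ * polar T d z₀)⁻¹, inv_ne_zero hs, ?_⟩
    rw [← h1, smul_smul, inv_mul_cancel₀ hs, one_smul]
  · rintro ⟨c, hc, rfl⟩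
    rw [reflImg_eq_reflQ T z₀ _ hd, reflQ_smul T _ hw c hc hd]
    exact reflQ_sub_apply' T hx'.symm hw

variable [Fintype F] [Finite V]

theorem card_polar_eq_zero (hnd : ∀ x : V, x ≠ 0 → ∃ y, polar T x y ≠ 0)
    (hV : Nat.card V = Fintype.card F ^ 2) {z₀ : V} (hz₀ : z₀ ≠ 0) :
    Nat.card {d : V // d ≠ 0 ∧ polar T z₀ d = 0} + 1 = Fintype.card F := by
  obtain ⟨y, hy⟩ := hnd z₀ hz₀
  let f : V →+ F := (polarBilin T z₀).toAddMonoidHom
  have hf : Function.Surjective f := by
    intro c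
    refine ⟨(c / polar T z₀ y) • y, ?_⟩
    change polar T z₀ ((c / polar T z₀ y) • y) = c
    rw [pol_smul_right]
    field_simp
  have h1 := card_fiber_mul_card f hf 0
  rw [hV, Nat.card_eq_fintype_card (α := F), _root_.sq] at h1
  have h2 : Nat.card {a : V // f a = 0} = Fintype.card F :=
    Nat.eq_of_mul_eq_mul_right Fintype.card_pos h1
  rw [← h2]
  exact card_sing_add_one (fun d => polar T z₀ d) (by simp [polar])

theorem card_reflImg_fiber (haniso : ∀ x, T x = 0 → x = 0)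
    (hnd : ∀ x : V, x ≠ 0 → ∃ y, polar T x y ≠ 0) (hV : Nat.card V = Fintype.card F ^ 2)
    {z₀ : V} (hz₀ : T z₀ = 1) (x' : UnitVec T) :
    Nat.card {d : V // d ≠ 0 ∧ reflImg T z₀ d = x'.1} + 1 = Fintype.card F := by
  have hz0 : z₀ ≠ 0 := by
    rintro rfl
    rw [map_zero] at hz₀
    exact zero_ne_one hz₀
  by_cases hx : x'.1 = z₀
  · rw [← card_polar_eq_zero T hnd hV hz0]
    congr 1
    apply Nat.card_congr
    refine Equiv.subtypeEquivRight (fun d => ?_)
    constructor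
    · rintro ⟨hd0, h⟩
      rw [hx] at h
      exact ⟨hd0, (reflImg_eq_self_iff T hd0 (fun h0 => hd0 (haniso d h0))).mp h⟩
    · rintro ⟨hd0, h⟩
      rw [hx]
      exact ⟨hd0, (reflImg_eq_self_iff T hd0 (fun h0 => hd0 (haniso d h0))).mpr h⟩
  · have hw0 : z₀ - x'.1 ≠ 0 := sub_ne_zero.mpr (Ne.symm hx)
    have e : {c : F // c ≠ 0} ≃ {d : V // d ≠ 0 ∧ reflImg T z₀ d = x'.1} := by
      refine Equiv.ofBijective (fun c => ⟨c.1 • (z₀ - x'.1), smul_ne_zero c.2 hw0, ?_⟩) ⟨?_, ?_⟩
      · exact (reflImg_eq_iff T haniso (smul_ne_zero c.2 hw0) (by rw [x'.2, hz₀]) hx).mpr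
          ⟨c.1, c.2, rfl⟩
      · intro c c' h
        have := congrArg Subtype.val h
        simp only at this
        exact Subtype.ext (smul_left_injective F hw0 this)
      · rintro ⟨d, hd0, hd⟩
        obtain ⟨c, hc, rfl⟩ := (reflImg_eq_iff T haniso hd0 (by rw [x'.2, hz₀]) hx).mp hd
        exact ⟨⟨c, hc⟩, rfl⟩
    rw [← Nat.card_congr e]
    have : Nat.card {c : F // c ≠ 0} = Nat.card Fˣ := Nat.card_congr unitsEquivNeZero.symm
    rw [this, Nat.card_units, Nat.card_eq_fintype_card]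
    have : 0 < Fintype.card F := Fintype.card_pos
    omega

/-- An anisotropic plane over `F_q` has `q + 1` vectors of norm one. -/
theorem card_unitVec (haniso : ∀ x, T x = 0 → x = 0)
    (hnd : ∀ x : V, x ≠ 0 → ∃ y, polar T x y ≠ 0) (hV : Nat.card V = Fintype.card F ^ 2)
    {z₀ : V} (hz₀ : T z₀ = 1) : Nat.card (UnitVec T) = Fintype.card F + 1 := by
  classical
  have hq : 2 ≤ Fintype.card F := Fintype.one_lt_card
  have : Fintype V := Fintype.ofFinite V
  have : Finite (UnitVec T) := Subtype.finite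
  have : Fintype (UnitVec T) := Fintype.ofFinite _
  let E : {d : V // d ≠ 0} ≃ Σ x' : UnitVec T, {d : V // d ≠ 0 ∧ reflImg T z₀ d = x'.1} :=
    { toFun := fun d => ⟨⟨reflImg T z₀ d.1, by
          rw [reflImg_norm T z₀ d.1 (fun h => d.2 (haniso _ h)), hz₀]⟩, ⟨d.1, d.2, rfl⟩⟩
      invFun := fun s => ⟨s.2.1, s.2.2.1⟩
      left_inv := fun d => rfl
      right_inv := fun s => by
        apply Sigma.subtype_ext
        · exact Subtype.ext s.2.2.2
        · rfl }
  have h1 : Nat.card {d : V // d ≠ 0} + 1 = Fintype.card F ^ 2 := by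
    rw [← hV]
    have := card_sing_add_one (F := F) (V := V) (fun _ => (0 : F)) rfl
    simp only [and_true] at this
    rw [this]
    exact Nat.card_congr (Equiv.subtypeUnivEquiv (fun _ => trivial))
  rw [Nat.card_congr E, Nat.card_sigma] at h1
  have h2 : ∀ x' : UnitVec T, Nat.card {d : V // d ≠ 0 ∧ reflImg T z₀ d = x'.1} =
      Fintype.card F - 1 := by
    intro x'
    have := card_reflImg_fiber T haniso hnd hV hz₀ x'
    omega
  simp only [h2] at h1
  rw [Finset.sum_const, Finset.card_univ, smul_eq_mul, ← Nat.card_eq_fintype_card] at h1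
  obtain ⟨t, ht⟩ : ∃ t, Fintype.card F = t + 1 := ⟨Fintype.card F - 1, by omega⟩
  rw [ht] at h1 ⊢
  have h3 : (t + 1) ^ 2 = (t + 1 + 1) * t + 1 := by ring
  rw [h3, Nat.add_sub_cancel] at h1
  have h4 : Nat.card (UnitVec T) * t = (t + 1 + 1) * t := by omega
  exact Nat.eq_of_mul_eq_mul_right (by omega) h4

end count

section stab2
variable {F : Type*} [Field F] {V : Type*} [AddCommGroup V] [Module F V] (T : QuadraticForm F V)

theorem exists_smul_eq_of_polar_zero [FiniteDimensional F V] (h2 : Module.finrank F V = 2)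
    (hnd : ∀ x : V, x ≠ 0 → ∃ y, polar T x y ≠ 0) {z₀ d d' : V} (hz : z₀ ≠ 0) (hd : d ≠ 0)
    (hd' : d' ≠ 0) (h : polar T z₀ d = 0) (h' : polar T z₀ d' = 0) :
    ∃ c : F, c ≠ 0 ∧ d' = c • d := by
  let f : V →ₗ[F] F := polarBilin T z₀
  have hf : LinearMap.range f = ⊤ := by
    obtain ⟨y, hy⟩ := hnd z₀ hz
    rw [LinearMap.range_eq_top]
    intro c
    refine ⟨(c / polar T z₀ y) • y, ?_⟩
    change polar T z₀ ((c / polar T z₀ y) • y) = c
    rw [pol_smul_right]
    field_simp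
  have h1 := LinearMap.finrank_range_add_finrank_ker f
  rw [hf, finrank_top, Module.finrank_self, h2] at h1
  have hker : Module.finrank F (LinearMap.ker f) = 1 := by omega
  have hdm : d ∈ LinearMap.ker f := h
  have hdm' : d' ∈ LinearMap.ker f := h'
  have hnz : (⟨d, hdm⟩ : LinearMap.ker f) ≠ 0 := by
    intro h0
    exact hd (congrArg Subtype.val h0)
  obtain ⟨c, hc⟩ := (finrank_eq_one_iff_of_nonzero' (⟨d, hdm⟩ : LinearMap.ker f) hnz).mp hker ⟨d', hdm'⟩
  have hc' : c • d = d' := congrArg Subtype.val hc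
  refine ⟨c, ?_, hc'.symm⟩
  rintro rfl
  rw [zero_smul] at hc'
  exact hd' hc'.symm

theorem linearEquiv_eq_of_two [FiniteDimensional F V] (h2 : Module.finrank F V = 2)
    {φ ψ : V ≃ₗ[F] V} {z₀ x : V} (hz : φ z₀ = ψ z₀) (hx : φ x = ψ x)
    (hli : ∀ s t : F, s • z₀ + t • x = 0 → s = 0 ∧ t = 0) : φ = ψ := by
  have hli' : LinearIndependent F ![z₀, x] := LinearIndependent.pair_iff.mpr hli
  have hspan := hli'.span_eq_top_of_card_eq_finrank' (by rw [h2]; rfl)
  have : (φ : V →ₗ[F] V) = (ψ : V →ₗ[F] V) := by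
    apply LinearMap.ext_on_range hspan
    intro i
    fin_cases i
    · exact hz
    · exact hx
  exact LinearEquiv.toLinearMap_injective this

theorem stab_eq_refl [FiniteDimensional F V] (h2 : Module.finrank F V = 2)
    (haniso : ∀ x, T x = 0 → x = 0) (hnd : ∀ x : V, x ≠ 0 → ∃ y, polar T x y ≠ 0)
    {z₀ w₀ : V} (hz : z₀ ≠ 0) (hw0 : w₀ ≠ 0) (hw : polar T z₀ w₀ = 0) (hTw : T w₀ ≠ 0)
    {φ : V ≃ₗ[F] V} (hφ : φ ∈ isoGrp T) (hφz : φ z₀ = z₀) (hne : φ ≠ 1) :
    φ = reflQ T w₀ hTw := by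
  obtain ⟨x, hx⟩ : ∃ x, φ x ≠ x := by
    by_contra h
    push Not at h
    exact hne (LinearEquiv.ext h)
  have hd0 : x - φ x ≠ 0 := sub_ne_zero.mpr (Ne.symm hx)
  have hTd : T (x - φ x) ≠ 0 := fun h => hd0 (haniso _ h)
  have h1 : reflQ T (x - φ x) hTd x = φ x := reflQ_sub_apply' T (hφ x).symm hTd
  have h3 : polar T z₀ (x - φ x) = 0 := by
    rw [pol_sub_right]
    conv_lhs => rw [← hφz, isoGrp_polar T hφ, hφz]
    exact sub_self _
  obtain ⟨c, hc, hcd⟩ := exists_smul_eq_of_polar_zero T h2 hnd hz hw0 hd0 hw h3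
  have h4 : reflQ T w₀ hTw x = φ x := by
    have hTcw : T (c • w₀) ≠ 0 := by rw [← hcd]; exact hTd
    rw [← reflQ_smul T w₀ hTw c hc hTcw, ← h1]
    simp only [reflQ_apply, hcd]
  have h5 : reflQ T w₀ hTw z₀ = z₀ :=
    reflQ_apply_of_polar_eq_zero T w₀ hTw (by rw [polar_comm]; exact hw)
  apply linearEquiv_eq_of_two h2 (z₀ := z₀) (x := x) (by rw [hφz, h5]) h4.symm
  intro s t hst
  by_cases ht : t = 0
  · subst ht
    rw [zero_smul, add_zero] at hst
    rcases smul_eq_zero.mp hst with h | h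
    · exact ⟨h, rfl⟩
    · exact absurd h hz
  · exfalso
    apply hx
    have hx' : x = (-(s / t)) • z₀ := by
      have : t • x = (-s) • z₀ := by
        rw [neg_smul]
        exact eq_neg_of_add_eq_zero_right hst
      calc x = t⁻¹ • (t • x) := by rw [smul_smul, inv_mul_cancel₀ ht, one_smul]
        _ = (-(s / t)) • z₀ := by rw [this, smul_smul]; congr 1; field_simp
    rw [hx', map_smul, hφz]

end stab2

section final
variable {F : Type*} [Field F] [Fintype F] {V : Type*} [AddCommGroup V] [Module F V]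
  (T : QuadraticForm F V)

theorem card_stabilizer_unitVec [FiniteDimensional F V] [Finite V] (h2 : Module.finrank F V = 2)
    (haniso : ∀ x, T x = 0 → x = 0) (hnd : ∀ x : V, x ≠ 0 → ∃ y, polar T x y ≠ 0)
    (hV : Nat.card V = Fintype.card F ^ 2) (z : UnitVec T) :
    Nat.card (MulAction.stabilizer (isoGrp T) z) = 2 := by
  have hz0 : z.1 ≠ 0 := by
    intro h
    have := z.2
    rw [h, map_zero] at this
    exact zero_ne_one this
  -- a non-zero vector orthogonal to `z`
  obtain ⟨w₀, hw0, hw⟩ : ∃ w₀ : V, w₀ ≠ 0 ∧ polar T z.1 w₀ = 0 := by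
    have h1 := card_polar_eq_zero T hnd hV hz0
    have hq : 2 ≤ Fintype.card F := Fintype.one_lt_card
    have : 0 < Nat.card {d : V // d ≠ 0 ∧ polar T z.1 d = 0} := by omega
    obtain ⟨d⟩ := (Nat.card_pos_iff.mp this).1
    exact ⟨d.1, d.2.1, d.2.2⟩
  have hTw : T w₀ ≠ 0 := fun h => hw0 (haniso _ h)
  have hρz : reflQ T w₀ hTw z.1 = z.1 :=
    reflQ_apply_of_polar_eq_zero T w₀ hTw (by rw [polar_comm]; exact hw)
  let ρ : MulAction.stabilizer (isoGrp T) z :=
    ⟨⟨reflQ T w₀ hTw, reflQ_mem T w₀ hTw⟩, by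
      rw [MulAction.mem_stabilizer_iff]
      exact Subtype.ext hρz⟩
  rw [Nat.card_eq_two_iff]
  refine ⟨1, ρ, ?_, ?_⟩
  · intro h
    obtain ⟨y, hy⟩ := hnd w₀ hw0
    have h1 : reflQ T w₀ hTw y = y := by
      have := congrArg (fun σ : MulAction.stabilizer (isoGrp T) z => σ.1.1 y) h
      exact this.symm
    rw [reflQ_apply, sub_eq_self, smul_eq_zero] at h1
    rcases h1 with h1 | h1
    · rcases mul_eq_zero.mp h1 with h3 | h3
      · exact hTw (inv_eq_zero.mp h3)
      · exact hy h3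
    · exact hw0 h1
  · ext σ
    simp only [Set.mem_insert_iff, Set.mem_singleton_iff, Set.mem_univ, iff_true]
    by_cases h1 : σ.1.1 = 1
    · left
      exact Subtype.ext (Subtype.ext h1)
    · right
      have hσz : σ.1.1 z.1 = z.1 := by
        have := MulAction.mem_stabilizer_iff.mp σ.2
        exact congrArg Subtype.val this
      exact Subtype.ext (Subtype.ext
        (stab_eq_refl T h2 haniso hnd hz0 hw0 hw hTw σ.1.2 hσz h1))

/-- The isometry group of an anisotropic plane over `F_q` has order `2(q+1)`. -/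
theorem card_isoGrp_aniso [FiniteDimensional F V] [Finite V] (h2 : Module.finrank F V = 2)
    (haniso : ∀ x, T x = 0 → x = 0) (hnd : ∀ x : V, x ≠ 0 → ∃ y, polar T x y ≠ 0)
    (hV : Nat.card V = Fintype.card F ^ 2) {z₀ : V} (hz₀ : T z₀ = 1) :
    Nat.card (isoGrp T) = 2 * (Fintype.card F + 1) := by
  haveI := unitVec_isPretransitive T haniso
  let z : UnitVec T := ⟨z₀, hz₀⟩
  have h1 := Subgroup.card_mul_index (MulAction.stabilizer (isoGrp T) z)
  rw [MulAction.index_stabilizer_of_transitive, card_stabilizer_unitVec T h2 haniso hnd hV,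
    card_unitVec T haniso hnd hV hz₀] at h1
  exact h1.symm

end final

end Cfsg.Agent.Lib.Helper5
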