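import Mathlib
import Cfsg.Prelude.Def_Classical
import Cfsg.Agent.Lib.Helper5.OrthTransfer

set_option autoImplicit false

namespace Cfsg.Agent.Lib.Helper5

open QuadraticMap Matrix

section tail
variable {F : Type*} [Field F] {τ : Type} [Fintype τ] [DecidableEq τ]

/-- `n` hyperbolic planes plus a fixed form `T`. -/
noncomputable def tailForm (n : ℕ) (T : QuadraticForm F (τ → F)) :
    QuadraticForm F ((Fin n ⊕ Fin n) ⊕ τ → F) :=
  (∑ i : Fin n, linMulLin (LinearMap.proj (Sum.inl (Sum.inl i)))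
    (LinearMap.proj (Sum.inl (Sum.inr i)))) + T.comp (LinearMap.funLeft F F Sum.inr)

theorem tailForm_apply (n : ℕ) (T : QuadraticForm F (τ → F)) (v : (Fin n ⊕ Fin n) ⊕ τ → F) :
    tailForm n T v = ∑ i, v (Sum.inl (Sum.inl i)) * v (Sum.inl (Sum.inr i)) + T (v ∘ Sum.inr) := by
  simp only [tailForm, QuadraticMap.add_apply, QuadraticMap.sum_apply, linMulLin_apply,
    LinearMap.proj_apply, QuadraticMap.comp_apply]
  rfl

theorem tailForm_polar (n : ℕ) (T : QuadraticForm F (τ → F)) (x y : (Fin n ⊕ Fin n) ⊕ τ → F) :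
    polar (tailForm n T) x y =
      ∑ i, (x (Sum.inl (Sum.inl i)) * y (Sum.inl (Sum.inr i)) +
        y (Sum.inl (Sum.inl i)) * x (Sum.inl (Sum.inr i))) + polar T (x ∘ Sum.inr) (y ∘ Sum.inr) := by
  unfold polar
  rw [tailForm_apply, tailForm_apply, tailForm_apply]
  have h1 : (x + y) ∘ Sum.inr = x ∘ Sum.inr + y ∘ (Sum.inr : τ → (Fin n ⊕ Fin n) ⊕ τ) := rfl
  have h2 : ∑ i, (x + y) (Sum.inl (Sum.inl i)) * (x + y) (Sum.inl (Sum.inr i)) =
      ∑ i, x (Sum.inl (Sum.inl i)) * x (Sum.inl (Sum.inr i)) +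
      ∑ i, y (Sum.inl (Sum.inl i)) * y (Sum.inl (Sum.inr i)) +
      ∑ i, (x (Sum.inl (Sum.inl i)) * y (Sum.inl (Sum.inr i)) +
        y (Sum.inl (Sum.inl i)) * x (Sum.inl (Sum.inr i))) := by
    rw [← Finset.sum_add_distrib, ← Finset.sum_add_distrib]
    apply Finset.sum_congr rfl
    intro i _
    simp only [Pi.add_apply]
    ring
  rw [h1, h2]
  ring

theorem tailForm_nondeg (n : ℕ) (T : QuadraticForm F (τ → F))
    (hT : ∀ x : τ → F, x ≠ 0 → ∃ y, polar T x y ≠ 0) :
    ∀ x : (Fin n ⊕ Fin n) ⊕ τ → F, x ≠ 0 → ∃ y, polar (tailForm n T) x y ≠ 0 := by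
  intro x hx
  obtain ⟨k, hk⟩ : ∃ k, x k ≠ 0 := by
    by_contra h
    push Not at h
    exact hx (funext h)
  rcases k with (i | i) | t
  · refine ⟨Pi.single (Sum.inl (Sum.inr i)) 1, ?_⟩
    rw [tailForm_polar]
    have : (Pi.single (Sum.inl (Sum.inr i)) (1 : F) : (Fin n ⊕ Fin n) ⊕ τ → F) ∘ Sum.inr = 0 := by
      ext t; simp
    rw [this]
    simp only [polar, add_zero, sub_self, map_zero]
    rw [Finset.sum_eq_single i]
    · simpa using hk
    · intro j _ hj
      simp [hj]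
    · simp
  · refine ⟨Pi.single (Sum.inl (Sum.inl i)) 1, ?_⟩
    rw [tailForm_polar]
    have : (Pi.single (Sum.inl (Sum.inl i)) (1 : F) : (Fin n ⊕ Fin n) ⊕ τ → F) ∘ Sum.inr = 0 := by
      ext t; simp
    rw [this]
    simp only [polar, add_zero, sub_self, map_zero]
    rw [Finset.sum_eq_single i]
    · simpa using hk
    · intro j _ hj
      simp [hj]
    · simp
  · have hx' : x ∘ Sum.inr ≠ (0 : τ → F) := by
      intro h
      exact hk (congrFun h t)
    obtain ⟨y', hy'⟩ := hT _ hx'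
    refine ⟨Sum.elim 0 y', ?_⟩
    rw [tailForm_polar]
    have : (Sum.elim (0 : Fin n ⊕ Fin n → F) y') ∘ Sum.inr = y' := rfl
    rw [this]
    simpa using hy'

end tail

section split
variable {F : Type*} [Field F] {τ : Type} [Fintype τ] [DecidableEq τ]

/-- Split off the first hyperbolic plane. -/
def splitEquiv (n : ℕ) (F : Type*) [Field F] (τ : Type) :
    ((Fin (n + 1) ⊕ Fin (n + 1)) ⊕ τ → F) ≃ₗ[F] (F × F) × ((Fin n ⊕ Fin n) ⊕ τ → F) where
  toFun x := ((x (Sum.inl (Sum.inl 0)), x (Sum.inl (Sum.inr 0))),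
    fun k => x (Sum.map (Sum.map Fin.succ Fin.succ) id k))
  invFun p := Sum.elim (Sum.elim (Fin.cons p.1.1 (fun i => p.2 (Sum.inl (Sum.inl i))))
    (Fin.cons p.1.2 (fun i => p.2 (Sum.inl (Sum.inr i))))) (fun t => p.2 (Sum.inr t))
  map_add' x y := rfl
  map_smul' c x := rfl
  left_inv x := by
    ext k
    rcases k with (i | i) | t
    · refine Fin.cases ?_ (fun j => ?_) i <;> simp
    · refine Fin.cases ?_ (fun j => ?_) i <;> simp
    · simp
  right_inv p := by
    ext k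
    · simp
    · simp
    · rcases k with (i | i) | t <;> simp

theorem hypExt_splitEquiv (n : ℕ) (T : QuadraticForm F (τ → F))
    (x : (Fin (n + 1) ⊕ Fin (n + 1)) ⊕ τ → F) :
    hypExt (tailForm n T) (splitEquiv n F τ x) = tailForm (n + 1) T x := by
  rw [hypExt_apply, tailForm_apply, tailForm_apply, Fin.sum_univ_succ]
  simp only [splitEquiv, LinearEquiv.coe_mk, LinearMap.coe_mk, AddHom.coe_mk]
  rw [add_assoc]
  rfl

variable [Fintype F]

/-- The recursion for the order of the isometry group. -/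
theorem card_isoGrp_tailForm_succ (n : ℕ) (T : QuadraticForm F (τ → F))
    (hT : ∀ x : τ → F, x ≠ 0 → ∃ y, polar T x y ≠ 0) :
    Nat.card (isoGrp (tailForm (n + 1) T)) =
      Nat.card {u : (Fin (n + 1) ⊕ Fin (n + 1)) ⊕ τ → F // u ≠ 0 ∧ tailForm (n + 1) T u = 0} *
        Fintype.card F ^ (2 * n + Fintype.card τ) * Nat.card (isoGrp (tailForm n T)) := by
  rw [card_isoGrp_congr (splitEquiv n F τ) (tailForm (n + 1) T) (hypExt (tailForm n T))
      (hypExt_splitEquiv n T),
    card_isoGrp_hypExt (tailForm n T) (tailForm_nondeg n T hT),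
    card_sing_congr (splitEquiv n F τ) (tailForm (n + 1) T) (hypExt (tailForm n T))
      (hypExt_splitEquiv n T)]
  congr 2
  rw [Nat.card_eq_fintype_card, Fintype.card_fun, Fintype.card_sum, Fintype.card_sum, Fintype.card_fin,
    two_mul]

end split

end Cfsg.Agent.Lib.Helper5
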