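import Mathlib
import Cfsg.Prelude.Def_Classical
import Cfsg.Agent.Lib.Helper5.OrthTail
import Cfsg.Agent.Lib.Helper5.OrthAniso
import Cfsg.Agent.S0290

set_option autoImplicit false

namespace Cfsg.Agent.Lib.Helper5

open QuadraticMap Matrix Cfsg

section minus
variable {F : Type*} [Field F]

/-- The binary form `z₀² + a z₀ z₁ + b z₁²`. -/
noncomputable def binForm (a b : F) : QuadraticForm F (Fin 2 → F) :=
  linMulLin (LinearMap.proj 0) (LinearMap.proj 0) + a • linMulLin (LinearMap.proj 0) (LinearMap.proj 1) +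
    b • linMulLin (LinearMap.proj 1) (LinearMap.proj 1)

theorem binForm_apply (a b : F) (x : Fin 2 → F) :
    binForm a b x = x 0 ^ 2 + a * x 0 * x 1 + b * x 1 ^ 2 := by
  simp only [binForm, QuadraticMap.add_apply, QuadraticMap.smul_apply, linMulLin_apply,
    LinearMap.proj_apply, smul_eq_mul]
  ring

theorem binForm_polar (a b : F) (x y : Fin 2 → F) :
    polar (binForm a b) x y = 2 * x 0 * y 0 + a * (x 0 * y 1 + x 1 * y 0) + 2 * b * x 1 * y 1 := by
  simp only [polar, binForm_apply, Pi.add_apply]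
  ring

theorem binForm_aniso {a b : F}
    (hab : ∀ z₁ z₂ : F, z₁ ^ 2 + a * z₁ * z₂ + b * z₂ ^ 2 = 0 → z₁ = 0 ∧ z₂ = 0) :
    ∀ x : Fin 2 → F, binForm a b x = 0 → x = 0 := by
  intro x hx
  rw [binForm_apply] at hx
  obtain ⟨h0, h1⟩ := hab _ _ hx
  ext i
  fin_cases i
  · exact h0
  · exact h1

theorem tailForm_binForm (m : ℕ) (a b : F) (v : (Fin m ⊕ Fin m) ⊕ Fin 2 → F) :
    tailForm m (binForm a b) v = quadFormMinus m F a b v := by
  rw [tailForm_apply, binForm_apply]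
  rfl

theorem binForm_disc_ne_zero [Finite F] {a b : F}
    (hab : ∀ z₁ z₂ : F, z₁ ^ 2 + a * z₁ * z₂ + b * z₂ ^ 2 = 0 → z₁ = 0 ∧ z₂ = 0) :
    4 * b - a ^ 2 ≠ 0 := by
  intro hΔ
  by_cases h2 : (2 : F) = 0
  · -- characteristic two: `a = 0` and `b` is a square
    have h4 : (4 : F) = 0 := by
      have : (4 : F) = 2 * 2 := by norm_num
      rw [this, h2, mul_zero]
    have ha : a = 0 := by
      rw [h4, zero_mul, zero_sub, neg_eq_zero] at hΔ
      exact pow_eq_zero_iff (two_ne_zero) |>.mp hΔ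
    have hinj : Function.Injective (fun x : F => x ^ 2) := by
      intro x y hxy
      simp only at hxy
      have : (x - y) ^ 2 = 0 := by
        have : (x - y) ^ 2 = x ^ 2 + y ^ 2 - 2 * (x * y) := by ring
        rw [this, h2, zero_mul, sub_zero, hxy, ← two_mul, h2, zero_mul]
      exact sub_eq_zero.mp (pow_eq_zero_iff (two_ne_zero) |>.mp this)
    obtain ⟨β, hβ⟩ := (Finite.injective_iff_surjective.mp hinj) b
    simp only at hβ
    have := hab β 1 (by rw [ha, hβ]; ring_nf; rw [h2, mul_zero])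
    exact one_ne_zero this.2
  · have := hab (-a / 2) 1 (by
      field_simp
      linear_combination hΔ)
    exact one_ne_zero this.2

theorem binForm_nondeg [Finite F] {a b : F}
    (hab : ∀ z₁ z₂ : F, z₁ ^ 2 + a * z₁ * z₂ + b * z₂ ^ 2 = 0 → z₁ = 0 ∧ z₂ = 0) :
    ∀ x : Fin 2 → F, x ≠ 0 → ∃ y, polar (binForm a b) x y ≠ 0 := by
  intro x hx
  have hΔ := binForm_disc_ne_zero hab
  by_contra hall
  push Not at hall
  have h0 := hall (Pi.single 0 1)
  have h1 := hall (Pi.single 1 1)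
  rw [binForm_polar] at h0 h1
  simp at h0 h1
  apply hx
  have hx1 : x 1 = 0 := by
    have : (4 * b - a ^ 2) * x 1 = 0 := by linear_combination 2 * h1 - a * h0
    exact (mul_eq_zero.mp this).resolve_left hΔ
  have hx0 : x 0 = 0 := by
    have : (4 * b - a ^ 2) * x 0 = 0 := by linear_combination 2 * b * h0 - a * h1
    exact (mul_eq_zero.mp this).resolve_left hΔ
  ext i
  fin_cases i
  · exact hx0
  · exact hx1

end minus

section minusformula
variable {F : Type*} [Field F] [Fintype F]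

/-- `(Fin 2 → F) ≃ ((Fin 0 ⊕ Fin 0) ⊕ Fin 2 → F)`. -/
def minusZeroEquiv (F : Type*) [Field F] :
    (Fin 2 → F) ≃ₗ[F] ((Fin 0 ⊕ Fin 0) ⊕ Fin 2 → F) :=
  LinearEquiv.funCongrLeft F F (Equiv.emptySum (Fin 0 ⊕ Fin 0) (Fin 2))

theorem tailForm_minusZeroEquiv (a b : F) (v : Fin 2 → F) :
    tailForm 0 (binForm a b) (minusZeroEquiv F v) = binForm a b v := by
  rw [tailForm_apply]
  simp only [Finset.univ_eq_empty, Finset.sum_empty, zero_add]
  rfl

theorem card_isoGrp_minus_zero {a b : F}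
    (hab : ∀ z₁ z₂ : F, z₁ ^ 2 + a * z₁ * z₂ + b * z₂ ^ 2 = 0 → z₁ = 0 ∧ z₂ = 0) :
    Nat.card (isoGrp (tailForm 0 (binForm a b))) = 2 * (Fintype.card F + 1) := by
  rw [← card_isoGrp_congr (minusZeroEquiv F) (binForm a b) _ (tailForm_minusZeroEquiv a b)]
  apply card_isoGrp_aniso (binForm a b) (Module.finrank_fin_fun F) (binForm_aniso hab)
    (binForm_nondeg hab) (z₀ := Pi.single 0 1)
  · rw [Nat.card_eq_fintype_card, Fintype.card_fun, Fintype.card_fin]
  · rw [binForm_apply]; simp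

theorem card_isometryGroup_minus_eq (m : ℕ) (a b : F) :
    Nat.card (isometryGroup F (quadFormMinus m F a b)) =
      Nat.card (isoGrp (tailForm m (binForm a b))) := by
  rw [card_isometryGroup_eq]
  exact card_isoGrp_congr (LinearEquiv.refl F _) _ _ (fun v => tailForm_binForm m a b v)

theorem card_isometryGroup_minus_succ {a b : F}
    (hab : ∀ z₁ z₂ : F, z₁ ^ 2 + a * z₁ * z₂ + b * z₂ ^ 2 = 0 → z₁ = 0 ∧ z₂ = 0) (m : ℕ) :
    (Nat.card (isometryGroup F (quadFormMinus (m + 1) F a b)) : ℤ) =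
      ((Fintype.card F : ℤ) ^ (2 * m + 3) + (Fintype.card F : ℤ) ^ (m + 1) -
        (Fintype.card F : ℤ) ^ (m + 2) - 1) *
        (Fintype.card F : ℤ) ^ (2 * m + 2) * Nat.card (isometryGroup F (quadFormMinus m F a b)) := by
  rw [card_isometryGroup_minus_eq, card_isometryGroup_minus_eq,
    card_isoGrp_tailForm_succ m _ (binForm_nondeg hab)]
  have h1 := card_sing_congr (LinearEquiv.refl F ((Fin (m + 1) ⊕ Fin (m + 1)) ⊕ Fin 2 → F))
    (quadFormMinus (m + 1) F a b) (tailForm (m + 1) (binForm a b))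
    (fun v => tailForm_binForm (m + 1) a b v)
  have h2' := card_sing_add_one (quadFormMinus (m + 1) F a b) (by simp [quadFormMinus])
  have h3 := Cfsg.Agent.S0290.result (F := F) rfl (m + 2) (by omega) a b hab
  rw [show m + 2 - 1 = m + 1 by omega] at h3
  rw [h3] at h2'
  rw [← h1]
  have hq : 1 ≤ Fintype.card F := Fintype.card_pos
  have hle : Fintype.card F ^ (m + 2) ≤ Fintype.card F ^ (2 * (m + 2) - 1) :=
    Nat.pow_le_pow_right hq (by omega)
  have h4 : (Nat.card {u : (Fin (m + 1) ⊕ Fin (m + 1)) ⊕ Fin 2 → F //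
      u ≠ 0 ∧ quadFormMinus (m + 1) F a b u = 0} : ℤ) =
      (Fintype.card F : ℤ) ^ (2 * m + 3) + (Fintype.card F : ℤ) ^ (m + 1) -
        (Fintype.card F : ℤ) ^ (m + 2) - 1 := by
    have h5 : 2 * (m + 2) - 1 = 2 * m + 3 := by omega
    rw [h5] at h2' hle
    have : Fintype.card F ^ (m + 2) ≤ Fintype.card F ^ (2 * m + 3) + Fintype.card F ^ (m + 1) := by
      omega
    zify [this] at h2'
    linarith
  push_cast
  rw [h4]
  simp

theorem card_isometryGroup_minus_int {a b : F}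
    (hab : ∀ z₁ z₂ : F, z₁ ^ 2 + a * z₁ * z₂ + b * z₂ ^ 2 = 0 → z₁ = 0 ∧ z₂ = 0) (k : ℕ) :
    (Nat.card (isometryGroup F (quadFormMinus k F a b)) : ℤ) =
      2 * (Fintype.card F : ℤ) ^ ((k + 1) * k) * ((Fintype.card F : ℤ) ^ (k + 1) + 1) *
        ∏ i ∈ Finset.range k, ((Fintype.card F : ℤ) ^ (2 * (i + 1)) - 1) := by
  induction k with
  | zero =>
    rw [card_isometryGroup_minus_eq, card_isoGrp_minus_zero hab]
    simp
  | succ k ih =>
    rw [card_isometryGroup_minus_succ hab, ih, Finset.prod_range_succ]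
    ring

/-- The order of `GO^-_{2m}(q)`. -/
theorem card_isometryGroup_minus {q : ℕ} (hF : Fintype.card F = q) (m : ℕ) (hm : 1 ≤ m) (a b : F)
    (hab : ∀ z₁ z₂ : F, z₁ ^ 2 + a * z₁ * z₂ + b * z₂ ^ 2 = 0 → z₁ = 0 ∧ z₂ = 0) :
    Nat.card (isometryGroup F (quadFormMinus (m - 1) F a b)) =
      2 * q ^ (m * (m - 1)) * (q ^ m + 1) * ∏ i ∈ Finset.range (m - 1), (q ^ (2 * (i + 1)) - 1) := by
  subst hF
  obtain ⟨k, rfl⟩ : ∃ k, m = k + 1 := ⟨m - 1, by omega⟩
  have hq : 1 ≤ Fintype.card F := Fintype.card_pos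
  have h1 : ∀ n, 1 ≤ Fintype.card F ^ n := fun n => Nat.one_le_pow _ _ hq
  apply Nat.cast_injective (R := ℤ)
  rw [Nat.add_sub_cancel, card_isometryGroup_minus_int hab]
  push_cast [Nat.cast_sub (h1 _), Nat.cast_prod]
  rfl

end minusformula

end Cfsg.Agent.Lib.Helper5
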