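import Mathlib
import Cfsg.Prelude.Def_GeometricClasses

/-!
# Project ASCHO, second sheet: maximal subgroups and intersections with Ω
-/

set_option autoImplicit false

namespace Cfsg.Agent.Lib.Helper5.AschO

open Cfsg Cfsg.Geo
open scoped MatrixGroups Matrix

/-- a maximal subgroup `H` of `K` contained in `X` with `K ≰ X` equals `X ⊓ K` -/
theorem eq_inf_of_isMaximalIn {G : Type*} [Group G] {K H X : Subgroup G} (hH : IsMaximalIn K H)
    (hle : H ≤ X) (hprop : ¬ K ≤ X) : H = X ⊓ K := by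
  rcases hH.2 (X ⊓ K) (le_inf hle hH.1.le) inf_le_right with h | h
  · exact h.symm
  · exact absurd (h ▸ inf_le_left : K ≤ X) hprop

variable {ι : Type} [Fintype ι] [DecidableEq ι] {F : Type*} [Field F]

theorem omegaGL_le_isometryGroup (Q : (ι → F) → F) : omegaGL Q ≤ isometryGroup F Q := by
  rintro _ ⟨x, -, rfl⟩
  exact x.2

theorem inf_isometryGroup_inf_omegaGL (Q : (ι → F) → F) (X : Subgroup (GL ι F)) :
    (X ⊓ isometryGroup F Q) ⊓ omegaGL Q = X ⊓ omegaGL Q := by
  rw [inf_assoc, inf_eq_right.mpr (omegaGL_le_isometryGroup Q)]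

/-- a maximal subgroup `H` of `Ω` contained in a member `X ⊓ I` with `Ω ≰ X` equals `X ⊓ Ω` -/
theorem eq_inf_omegaGL_of_isMaximalIn {Q : (ι → F) → F} {H X : Subgroup (GL ι F)}
    (hH : IsMaximalIn (omegaGL Q) H) (hle : H ≤ X ⊓ isometryGroup F Q) (hprop : ¬ omegaGL Q ≤ X) :
    H = X ⊓ omegaGL Q :=
  eq_inf_of_isMaximalIn hH (le_trans hle inf_le_left) hprop

end Cfsg.Agent.Lib.Helper5.AschO
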