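import Mathlib
import Cfsg.Prelude.Def_GeometricClasses
import Cfsg.Agent.Lib.Helper99.AschDefs

/-!
# Project ASCHO (S5673): shared vocabulary

Aschbacher's theorem for subgroups of the isometry group of a non-degenerate quadratic form in odd
dimension over a finite field of odd order, in the form of the frozen
`Cfsg.Geo.InOrthogonalOddClass` / `Cfsg.Geo.InOrthogonalResidualClass`.  Only definitions and the
one-line introduction rules here.  The class predicate `InOrthClass` is the frozen one written for an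
arbitrary index type and an arbitrary quadratic form `Q`, split into its eight disjuncts, with the
class-5 disjunct *up to a scalar* `ζ` (for the standard form the scalar is removed at the very end by
a discriminant argument).
-/

set_option autoImplicit false

namespace Cfsg.Agent.Lib.Helper5.AschO

open Cfsg Cfsg.Geo Cfsg.Agent.Lib.Helper99.Asch
open scoped MatrixGroups Matrix Kronecker

variable {ι : Type} [Fintype ι] [DecidableEq ι] {F : Type*} [Field F]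

/-- Every subgroup normalised by `H` *inside `H · scalars`* is scalar or absolutely irreducible. -/
def NAIO (H : Subgroup (GL ι F)) : Prop :=
  ∀ N : Subgroup (GL ι F), Nrm H N → N ≤ H ⊔ scalars ι F →
    N ≤ scalars ι F ∨ ActsAbsolutelyIrreducibly (matrixSet N)

/-- The Gram matrix of the polar form of `Q` in the standard basis. -/
def polarGram (Q : (ι → F) → F) : Matrix ι ι F := gramMatrix (QuadraticMap.polar Q)

/-- The adjoint of the matrix `x` for the polar form of `Q`: `G⁻¹ xᵀ G`. -/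
noncomputable def adj (Q : (ι → F) → F) (x : Matrix ι ι F) : Matrix ι ι F :=
  (polarGram Q)⁻¹ * xᵀ * polarGram Q

section classes

variable [Fintype F] (Q : (ι → F) → F) (M : Subgroup (GL ι F))

/-- class 1, totally singular subspace -/
def IsO1a : Prop :=
  ∃ W : Submodule F (ι → F), W ≠ ⊥ ∧ IsTotallySingularQuad Q W ∧
    M = subspaceStabilizer W ⊓ isometryGroup F Q

/-- class 1, non-degenerate subspace -/
def IsO1b : Prop :=
  ∃ W : Submodule F (ι → F), W ≠ ⊥ ∧ W ≠ ⊤ ∧ IsNondegenerateOn (QuadraticMap.polar Q) W ∧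
    M = subspaceStabilizer W ⊓ isometryGroup F Q

/-- class 2, members of dimension `k > 1` -/
def IsO2a : Prop :=
  ∃ (t k : ℕ) (D : Fin t → Submodule F (ι → F)), 1 < k ∧ IsOrthogonalMDecomposition Q k D ∧
    M = decompositionStabilizer D ⊓ isometryGroup F Q

/-- class 2, members of dimension `1`, prime field -/
def IsO2b : Prop :=
  ∃ (t : ℕ) (D : Fin t → Submodule F (ι → F)), (Fintype.card F).Prime ∧
    IsOrthogonalMDecomposition Q 1 D ∧ M = decompositionStabilizer D ⊓ isometryGroup F Q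

/-- class 3 -/
def IsO3 : Prop :=
  ∃ (r : ℕ) (K : Subalgebra F (Matrix ι ι F)), r.Prime ∧ Fintype.card ι ≠ r ∧
    IsFieldSubalgebra r K ∧ IsSelfAdjointFor (QuadraticMap.polar Q) K ∧
    M = subalgebraNormalizer K ⊓ isometryGroup F Q

/-- class 4 -/
def IsO4 : Prop :=
  ∃ (n₁ n₂ : ℕ) (e : ι ≃ Fin n₁ × Fin n₂) (P : GL ι F)
    (f₁ : (Fin n₁ → F) → (Fin n₁ → F) → F) (f₂ : (Fin n₂ → F) → (Fin n₂ → F) → F),
    3 ≤ n₁ ∧ n₁ < n₂ ∧ IsSymmetricForm f₁ ∧ IsSymmetricForm f₂ ∧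
    IsTensorFormStructure id (QuadraticMap.polar Q) f₁ f₂ e P ∧
    M = tensorProductSubgroup n₁ n₂ e P ⊓ isometryGroup F Q

/-- class 5, up to a scalar `ζ` -/
def IsO5 : Prop :=
  ∃ (F₀ : Subfield F) (r : ℕ) (P : GL ι F) (ζ : F), r.Prime ∧
    Fintype.card F = Nat.card F₀ ^ r ∧ ζ ≠ 0 ∧
    IsQuadFormRationalStructure (fun v => ζ * Q v) F₀ P ∧
    M = subfieldSubgroup F₀ P ⊓ isometryGroup F Q

/-- class 7 -/
def IsO7 : Prop :=
  ∃ (k t : ℕ) (e : ι ≃ (Fin t → Fin k)) (P : GL ι F) (f₁ : (Fin k → F) → (Fin k → F) → F),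
    3 ≤ k ∧ 2 ≤ t ∧ ¬ (Fintype.card F = 3 ∧ k = 3) ∧ IsSymmetricForm f₁ ∧
    IsTensorPowerFormStructure id (QuadraticMap.polar Q) f₁ e P ∧
    M = tensorWreathSubgroup k t e P ⊓ isometryGroup F Q

/-- `M` is a member of one of the geometric classes for the isometry group of `Q`
(class 5 up to a scalar). -/
def InOrthClass : Prop :=
  IsO1a Q M ∨ IsO1b Q M ∨ IsO2a Q M ∨ IsO2b Q M ∨ IsO3 Q M ∨ IsO4 Q M ∨ IsO5 Q M ∨ IsO7 Q M

/-- `H` lies in a member of one of the geometric classes for the isometry group of `Q`. -/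
def GeoO (H : Subgroup (GL ι F)) : Prop := ∃ M : Subgroup (GL ι F), InOrthClass Q M ∧ H ≤ M

variable {Q} {H : Subgroup (GL ι F)}

theorem GeoO.of_1a (hH : H ≤ isometryGroup F Q) (W : Submodule F (ι → F)) (h1 : W ≠ ⊥)
    (h2 : IsTotallySingularQuad Q W) (hle : H ≤ subspaceStabilizer W) : GeoO Q H :=
  ⟨_, Or.inl ⟨W, h1, h2, rfl⟩, le_inf hle hH⟩

theorem GeoO.of_1b (hH : H ≤ isometryGroup F Q) (W : Submodule F (ι → F)) (h1 : W ≠ ⊥) (h2 : W ≠ ⊤)
    (h3 : IsNondegenerateOn (QuadraticMap.polar Q) W) (hle : H ≤ subspaceStabilizer W) : GeoO Q H :=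
  ⟨_, Or.inr (Or.inl ⟨W, h1, h2, h3, rfl⟩), le_inf hle hH⟩

theorem GeoO.of_2a (hH : H ≤ isometryGroup F Q) {t k : ℕ} (D : Fin t → Submodule F (ι → F))
    (h1 : 1 < k) (h2 : IsOrthogonalMDecomposition Q k D) (hle : H ≤ decompositionStabilizer D) :
    GeoO Q H :=
  ⟨_, Or.inr (Or.inr (Or.inl ⟨t, k, D, h1, h2, rfl⟩)), le_inf hle hH⟩

theorem GeoO.of_2b (hH : H ≤ isometryGroup F Q) {t : ℕ} (D : Fin t → Submodule F (ι → F))
    (h1 : (Fintype.card F).Prime) (h2 : IsOrthogonalMDecomposition Q 1 D)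
    (hle : H ≤ decompositionStabilizer D) : GeoO Q H :=
  ⟨_, Or.inr (Or.inr (Or.inr (Or.inl ⟨t, D, h1, h2, rfl⟩))), le_inf hle hH⟩

theorem GeoO.of_3 (hH : H ≤ isometryGroup F Q) (r : ℕ) (K : Subalgebra F (Matrix ι ι F))
    (h1 : r.Prime) (h2 : Fintype.card ι ≠ r) (h3 : IsFieldSubalgebra r K)
    (h4 : IsSelfAdjointFor (QuadraticMap.polar Q) K) (hle : H ≤ subalgebraNormalizer K) : GeoO Q H :=
  ⟨_, Or.inr (Or.inr (Or.inr (Or.inr (Or.inl ⟨r, K, h1, h2, h3, h4, rfl⟩)))), le_inf hle hH⟩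

theorem GeoO.of_4 (hH : H ≤ isometryGroup F Q) {n₁ n₂ : ℕ} (e : ι ≃ Fin n₁ × Fin n₂) (P : GL ι F)
    (f₁ : (Fin n₁ → F) → (Fin n₁ → F) → F) (f₂ : (Fin n₂ → F) → (Fin n₂ → F) → F)
    (h1 : 3 ≤ n₁) (h2 : n₁ < n₂) (h3 : IsSymmetricForm f₁) (h4 : IsSymmetricForm f₂)
    (h5 : IsTensorFormStructure id (QuadraticMap.polar Q) f₁ f₂ e P)
    (hle : H ≤ tensorProductSubgroup n₁ n₂ e P) : GeoO Q H :=
  ⟨_, Or.inr (Or.inr (Or.inr (Or.inr (Or.inr (Or.inl ⟨n₁, n₂, e, P, f₁, f₂, h1, h2, h3, h4, h5, rfl⟩))))),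
    le_inf hle hH⟩

theorem GeoO.of_5 (hH : H ≤ isometryGroup F Q) (F₀ : Subfield F) (r : ℕ) (P : GL ι F) (ζ : F)
    (h1 : r.Prime) (h2 : Fintype.card F = Nat.card F₀ ^ r) (h3 : ζ ≠ 0)
    (h4 : IsQuadFormRationalStructure (fun v => ζ * Q v) F₀ P) (hle : H ≤ subfieldSubgroup F₀ P) :
    GeoO Q H :=
  ⟨_, Or.inr (Or.inr (Or.inr (Or.inr (Or.inr (Or.inr (Or.inl ⟨F₀, r, P, ζ, h1, h2, h3, h4, rfl⟩)))))),
    le_inf hle hH⟩

theorem GeoO.of_7 (hH : H ≤ isometryGroup F Q) {k t : ℕ} (e : ι ≃ (Fin t → Fin k)) (P : GL ι F)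
    (f₁ : (Fin k → F) → (Fin k → F) → F) (h1 : 3 ≤ k) (h2 : 2 ≤ t)
    (h3 : ¬ (Fintype.card F = 3 ∧ k = 3)) (h4 : IsSymmetricForm f₁)
    (h5 : IsTensorPowerFormStructure id (QuadraticMap.polar Q) f₁ e P)
    (hle : H ≤ tensorWreathSubgroup k t e P) : GeoO Q H :=
  ⟨_, Or.inr (Or.inr (Or.inr (Or.inr (Or.inr (Or.inr (Or.inr ⟨k, t, e, P, f₁, h1, h2, h3, h4, h5, rfl⟩)))))),
    le_inf hle hH⟩

end classes

/-- Standing hypotheses of project ASCHO: `|F|` odd, odd dimension `n ≥ 3`, `Q` a non-degenerate quadratic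
form on `F^n`, `H` a group of isometries of `Q`. -/
structure OSetup {n : ℕ} [Fintype F] (Q : (Fin n → F) → F) (H : Subgroup (GL (Fin n) F)) : Prop where
  odd_card : Odd (Fintype.card F)
  odd_dim : Odd n
  three_le : 3 ≤ n
  nondeg : IsNondegenerateQuadraticForm Q
  le : H ≤ isometryGroup F Q

end Cfsg.Agent.Lib.Helper5.AschO
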