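import Mathlib
import Cfsg.Prelude.Def_GeometricClasses
import Cfsg.Agent.Lib.Helper99.AschDefs
import Cfsg.Agent.Lib.Helper5.AschODefs

/-!
# Project ASCHO: basic kit (Gram matrix, adjoint, similarities)
-/

set_option autoImplicit false

namespace Cfsg.Agent.Lib.Helper5.AschO

open Cfsg Cfsg.Geo Cfsg.Agent.Lib.Helper99.Asch
open scoped MatrixGroups Matrix Kronecker

variable {ι : Type} [Fintype ι] [DecidableEq ι] {F : Type*} [Field F]

theorem two_ne_zero_of_odd_card [Fintype F] (h : Odd (Fintype.card F)) : (2 : F) ≠ 0 := by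
  intro h2
  have hc : ringChar F = 2 := CharP.ringChar_of_prime_eq_zero Nat.prime_two (by exact_mod_cast h2)
  have := FiniteField.even_card_iff_char_two.mp hc
  rcases h with ⟨k, hk⟩
  omega

/-- A bilinear form is given by its Gram matrix. -/
theorem bilin_eq_dotProduct {f : (ι → F) → (ι → F) → F} (hf : IsBilinearForm f) (u v : ι → F) :
    f u v = u ⬝ᵥ (gramMatrix f *ᵥ v) := by
  let B : (ι → F) →ₗ[F] (ι → F) →ₗ[F] F :=
    LinearMap.mk₂ F f hf.add_left hf.smul_left hf.add_right hf.smul_right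
  have h1 : B = Matrix.toLinearMap₂' F (LinearMap.toMatrix₂' F B) :=
    (Matrix.toLinearMap₂'_toMatrix' (R := F) B).symm
  have h2 : LinearMap.toMatrix₂' F B = gramMatrix f := by
    ext i j
    rw [LinearMap.toMatrix₂'_apply]
    rfl
  have h3 : f u v = B u v := rfl
  rw [h3, h1, h2, Matrix.toLinearMap₂'_apply']

theorem polar_eq_dotProduct {Q : (ι → F) → F} (hQ : IsNondegenerateQuadraticForm Q) (u v : ι → F) :
    QuadraticMap.polar Q u v = u ⬝ᵥ (polarGram Q *ᵥ v) :=
  bilin_eq_dotProduct hQ.polar_bilinear u v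

theorem polarGram_transpose (Q : (ι → F) → F) : (polarGram Q)ᵀ = polarGram Q := by
  ext i j
  simp only [Matrix.transpose_apply, polarGram, gramMatrix]
  exact QuadraticMap.polar_comm Q _ _

theorem polarGram_isUnit {Q : (ι → F) → F} (hQ : IsNondegenerateQuadraticForm Q) :
    IsUnit (polarGram Q) := by
  rw [← Matrix.mulVec_injective_iff_isUnit]
  intro v w hvw
  by_contra hne
  have hd : v - w ≠ 0 := sub_ne_zero.mpr hne
  obtain ⟨x, hx⟩ := (hQ.nondegenerate _ hd).1
  apply hx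
  rw [polar_eq_dotProduct hQ, Matrix.mulVec_sub]
  have : polarGram Q *ᵥ v = polarGram Q *ᵥ w := hvw
  rw [this, sub_self, dotProduct_zero]

theorem polarGram_isUnit_det {Q : (ι → F) → F} (hQ : IsNondegenerateQuadraticForm Q) :
    IsUnit (polarGram Q).det :=
  (Matrix.isUnit_iff_isUnit_det _).mp (polarGram_isUnit hQ)

theorem polarGram_mul_inv {Q : (ι → F) → F} (hQ : IsNondegenerateQuadraticForm Q) :
    polarGram Q * (polarGram Q)⁻¹ = 1 :=
  Matrix.mul_nonsing_inv _ (polarGram_isUnit_det hQ)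

theorem polarGram_inv_mul {Q : (ι → F) → F} (hQ : IsNondegenerateQuadraticForm Q) :
    (polarGram Q)⁻¹ * polarGram Q = 1 :=
  Matrix.nonsing_inv_mul _ (polarGram_isUnit_det hQ)

theorem polar_self {Q : (ι → F) → F} (hQ : IsNondegenerateQuadraticForm Q) (v : ι → F) :
    QuadraticMap.polar Q v v = 2 * Q v := by
  have h1 : v + v = (2 : F) • v := (two_smul F v).symm
  rw [QuadraticMap.polar, h1, hQ.smul]
  ring

theorem Q_eq_half_polar {Q : (ι → F) → F} (hQ : IsNondegenerateQuadraticForm Q) (h2 : (2 : F) ≠ 0)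
    (v : ι → F) : Q v = QuadraticMap.polar Q v v / 2 := by
  rw [polar_self hQ]
  field_simp

theorem adj_spec {Q : (ι → F) → F} (hQ : IsNondegenerateQuadraticForm Q) (x : Matrix ι ι F)
    (u v : ι → F) :
    QuadraticMap.polar Q (x *ᵥ u) v = QuadraticMap.polar Q u (adj Q x *ᵥ v) := by
  rw [polar_eq_dotProduct hQ, polar_eq_dotProduct hQ, adj, Matrix.mulVec_mulVec,
    ← mul_assoc, ← mul_assoc, polarGram_mul_inv hQ, one_mul, ← Matrix.mulVec_mulVec,
    Matrix.dotProduct_mulVec u xᵀ, Matrix.vecMul_transpose]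

theorem adj_mul {Q : (ι → F) → F} (hQ : IsNondegenerateQuadraticForm Q) (x y : Matrix ι ι F) :
    adj Q (x * y) = adj Q y * adj Q x := by
  simp only [adj, Matrix.transpose_mul]
  calc (polarGram Q)⁻¹ * (yᵀ * xᵀ) * polarGram Q
      = (polarGram Q)⁻¹ * yᵀ * (1 : Matrix ι ι F) * xᵀ * polarGram Q := by
        simp only [mul_one, mul_assoc]
    _ = _ := by rw [← polarGram_mul_inv hQ]; simp only [mul_assoc]

theorem adj_add (Q : (ι → F) → F) (x y : Matrix ι ι F) : adj Q (x + y) = adj Q x + adj Q y := by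
  simp only [adj, Matrix.transpose_add, mul_add, add_mul]

theorem adj_sub (Q : (ι → F) → F) (x y : Matrix ι ι F) : adj Q (x - y) = adj Q x - adj Q y := by
  simp only [adj, Matrix.transpose_sub, mul_sub, sub_mul]

theorem adj_neg (Q : (ι → F) → F) (x : Matrix ι ι F) : adj Q (-x) = -adj Q x := by
  simp only [adj, Matrix.transpose_neg, mul_neg, neg_mul]

theorem adj_zero (Q : (ι → F) → F) : adj Q (0 : Matrix ι ι F) = 0 := by
  simp only [adj, Matrix.transpose_zero, mul_zero, zero_mul]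

theorem adj_smul (Q : (ι → F) → F) (c : F) (x : Matrix ι ι F) : adj Q (c • x) = c • adj Q x := by
  simp only [adj, Matrix.transpose_smul, Matrix.mul_smul, Matrix.smul_mul]

theorem adj_one {Q : (ι → F) → F} (hQ : IsNondegenerateQuadraticForm Q) :
    adj Q (1 : Matrix ι ι F) = 1 := by
  simp only [adj, Matrix.transpose_one, mul_one, polarGram_inv_mul hQ]

theorem adj_adj {Q : (ι → F) → F} (hQ : IsNondegenerateQuadraticForm Q) (x : Matrix ι ι F) :
    adj Q (adj Q x) = x := by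
  have hG := polarGram_transpose Q
  have hGi : ((polarGram Q)⁻¹)ᵀ = (polarGram Q)⁻¹ := by
    rw [Matrix.transpose_nonsing_inv, hG]
  simp only [adj, Matrix.transpose_mul, Matrix.transpose_transpose, hG, hGi]
  calc (polarGram Q)⁻¹ * (polarGram Q * (x * (polarGram Q)⁻¹)) * polarGram Q
      = ((polarGram Q)⁻¹ * polarGram Q) * x * ((polarGram Q)⁻¹ * polarGram Q) := by
        simp only [mul_assoc]
    _ = x := by rw [polarGram_inv_mul hQ, one_mul, mul_one]

theorem mem_isometryGroup_iff {Q : (ι → F) → F} (g : GL ι F) :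
    g ∈ isometryGroup F Q ↔ ∀ v, Q ((g : Matrix ι ι F) *ᵥ v) = Q v := by
  constructor
  · intro h v
    exact h v v
  · intro h u _
    exact h u

/-- a matrix multiplying `Q` by `c` multiplies the polar form by `c` -/
theorem polar_map_of_similarity {Q : (ι → F) → F} (x : Matrix ι ι F) (c : F)
    (h : ∀ v, Q (x *ᵥ v) = c * Q v) (u v : ι → F) :
    QuadraticMap.polar Q (x *ᵥ u) (x *ᵥ v) = c * QuadraticMap.polar Q u v := by
  simp only [QuadraticMap.polar, ← Matrix.mulVec_add, h]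
  ring

/-- a matrix multiplying the polar form by `c` has adjoint `c • x⁻¹` -/
theorem adj_mul_self_of_similarity {Q : (ι → F) → F} (hQ : IsNondegenerateQuadraticForm Q)
    (x : Matrix ι ι F) (c : F)
    (h : ∀ u v, QuadraticMap.polar Q (x *ᵥ u) (x *ᵥ v) = c * QuadraticMap.polar Q u v) :
    adj Q x * x = c • (1 : Matrix ι ι F) := by
  -- compare the Gram-type identities
  have key : ∀ u v : ι → F, u ⬝ᵥ ((polarGram Q * (adj Q x * x)) *ᵥ v) =
      u ⬝ᵥ ((polarGram Q * (c • (1 : Matrix ι ι F))) *ᵥ v) := by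
    intro u v
    have h1 := h u v
    rw [adj_spec hQ, Matrix.mulVec_mulVec, polar_eq_dotProduct hQ, polar_eq_dotProduct hQ,
      Matrix.mulVec_mulVec] at h1
    rw [h1, Matrix.mul_smul, mul_one, Matrix.smul_mulVec, dotProduct_smul, smul_eq_mul]
  have h2 : polarGram Q * (adj Q x * x) = polarGram Q * (c • (1 : Matrix ι ι F)) := by
    ext i j
    have := key (Pi.single i 1) (Pi.single j 1)
    simpa using this
  have h3 := congrArg (fun m => (polarGram Q)⁻¹ * m) h2
  simp only [← mul_assoc, polarGram_inv_mul hQ, one_mul] at h3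
  exact h3

theorem adj_of_similarity {Q : (ι → F) → F} (hQ : IsNondegenerateQuadraticForm Q)
    (x : GL ι F) (c : F)
    (h : ∀ v, Q ((x : Matrix ι ι F) *ᵥ v) = c * Q v) :
    adj Q (x : Matrix ι ι F) = c • ((x⁻¹ : GL ι F) : Matrix ι ι F) := by
  have h1 := adj_mul_self_of_similarity hQ (x : Matrix ι ι F) c (polar_map_of_similarity _ c h)
  have h2 := congrArg (fun m => m * ((x⁻¹ : GL ι F) : Matrix ι ι F)) h1
  simp only [mul_assoc, ← Units.val_mul, mul_inv_cancel, Units.val_one, mul_one, Matrix.smul_mul,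
    one_mul] at h2
  exact h2

theorem adj_of_mem_isometryGroup {Q : (ι → F) → F} (hQ : IsNondegenerateQuadraticForm Q)
    (g : GL ι F) (hg : g ∈ isometryGroup F Q) :
    adj Q (g : Matrix ι ι F) = ((g⁻¹ : GL ι F) : Matrix ι ι F) := by
  have := adj_of_similarity hQ g 1 (by intro v; rw [one_mul]; exact (mem_isometryGroup_iff g).mp hg v)
  rw [one_smul] at this
  exact this

/-- elements of `H ⊔ scalars` are similarities of `Q` when `H` consists of isometries -/
theorem exists_similarity_of_mem_sup {Q : (ι → F) → F} (hQ : IsNondegenerateQuadraticForm Q)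
    {H : Subgroup (GL ι F)} (hH : H ≤ isometryGroup F Q) {x : GL ι F}
    (hx : x ∈ H ⊔ scalars ι F) :
    ∃ c : F, c ≠ 0 ∧ (∀ v, Q ((x : Matrix ι ι F) *ᵥ v) = c * Q v) ∧
      adj Q (x : Matrix ι ι F) = c • ((x⁻¹ : GL ι F) : Matrix ι ι F) := by
  rw [Subgroup.mem_sup_of_normal_right] at hx
  obtain ⟨h, hh, z, hz, rfl⟩ := hx
  obtain ⟨a, ha⟩ := (mem_scalars_iff z).mp hz
  have hsim : ∀ v, Q (((h * z : GL ι F) : Matrix ι ι F) *ᵥ v) = (a : F) ^ 2 * Q v := by
    intro v
    rw [Units.val_mul, ← Matrix.mulVec_mulVec, (mem_isometryGroup_iff h).mp (hH hh), ha,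
      Matrix.smul_mulVec, Matrix.one_mulVec, hQ.smul]
  exact ⟨(a : F) ^ 2, pow_ne_zero 2 a.ne_zero, hsim, adj_of_similarity hQ _ _ hsim⟩

theorem adj_mem_commutant {Q : (ι → F) → F} (hQ : IsNondegenerateQuadraticForm Q)
    {H N : Subgroup (GL ι F)} (hH : H ≤ isometryGroup F Q) (hNle : N ≤ H ⊔ scalars ι F)
    {c : Matrix ι ι F} (hc : c ∈ commutant N) : adj Q c ∈ commutant N := by
  rw [commutant, Subalgebra.mem_centralizer_iff] at hc ⊢
  rintro s ⟨x, hx, rfl⟩
  -- use `x⁻¹ ∈ N`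
  have hxi : x⁻¹ ∈ N := N.inv_mem hx
  obtain ⟨a, ha0, -, hadj⟩ := exists_similarity_of_mem_sup hQ hH (hNle hxi)
  rw [inv_inv] at hadj
  -- `x = a⁻¹ • adj (x⁻¹)`
  have hx' : (x : Matrix ι ι F) = a⁻¹ • adj Q ((x⁻¹ : GL ι F) : Matrix ι ι F) := by
    rw [hadj, smul_smul, inv_mul_cancel₀ ha0, one_smul]
  have hcomm : ((x⁻¹ : GL ι F) : Matrix ι ι F) * c = c * ((x⁻¹ : GL ι F) : Matrix ι ι F) :=
    hc _ ⟨x⁻¹, hxi, rfl⟩
  show (x : Matrix ι ι F) * adj Q c = adj Q c * (x : Matrix ι ι F)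
  rw [hx', Matrix.smul_mul, Matrix.mul_smul, ← adj_mul hQ, ← adj_mul hQ, hcomm]

theorem adj_mem_commutantCenter {Q : (ι → F) → F} (hQ : IsNondegenerateQuadraticForm Q)
    {H N : Subgroup (GL ι F)} (hH : H ≤ isometryGroup F Q) (hNle : N ≤ H ⊔ scalars ι F)
    {c : Matrix ι ι F} (hc : c ∈ commutantCenter N) : adj Q c ∈ commutantCenter N := by
  rw [commutantCenter, Algebra.mem_inf] at hc ⊢
  refine ⟨adj_mem_commutant hQ hH hNle hc.1, ?_⟩
  rw [Subalgebra.mem_centralizer_iff]
  intro y hy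
  have hy' : adj Q y ∈ commutant N := adj_mem_commutant hQ hH hNle hy
  have h1 := (Subalgebra.mem_centralizer_iff F).mp hc.2 (adj Q y) hy'
  -- apply adj to `adj y * c = c * adj y`
  have h2 := congrArg (adj Q) h1
  rw [adj_mul hQ, adj_mul hQ, adj_adj hQ] at h2
  exact h2.symm

/-- `Q` is not identically zero on a non-trivial space -/
theorem exists_Q_ne_zero [Nonempty ι] {Q : (ι → F) → F} (hQ : IsNondegenerateQuadraticForm Q) :
    ∃ v, Q v ≠ 0 := by
  by_contra hcon
  push Not at hcon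
  obtain ⟨i⟩ := (inferInstance : Nonempty ι)
  have hv : (Pi.single i 1 : ι → F) ≠ 0 := by
    intro h
    have := congrFun h i
    simp at this
  obtain ⟨x, hx⟩ := (hQ.nondegenerate _ hv).1
  apply hx
  simp only [QuadraticMap.polar, hcon, sub_zero]

theorem sq_eq_one_of_scalar_mem_isometryGroup [Nonempty ι] {Q : (ι → F) → F}
    (hQ : IsNondegenerateQuadraticForm Q) {g : GL ι F} (hg : g ∈ isometryGroup F Q) (c : F)
    (hc : (g : Matrix ι ι F) = c • (1 : Matrix ι ι F)) : c ^ 2 = 1 := by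
  obtain ⟨v, hv⟩ := exists_Q_ne_zero hQ
  have h1 := (mem_isometryGroup_iff g).mp hg v
  rw [hc, Matrix.smul_mulVec, Matrix.one_mulVec, hQ.smul] at h1
  have : (c ^ 2 - 1) * Q v = 0 := by rw [sub_mul, h1, one_mul, sub_self]
  rcases mul_eq_zero.mp this with h | h
  · exact sub_eq_zero.mp h
  · exact absurd h hv

end Cfsg.Agent.Lib.Helper5.AschO
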