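import Mathlib
import Cfsg.Prelude.Def_GeometricClasses
import Cfsg.Agent.Lib.Helper5.AschODefs

/-!
# Project ASCHO: the quadratic form transported along a bijection of index types
-/

set_option autoImplicit false

namespace Cfsg.Agent.Lib.Helper5.AschO

variable {ι : Type} {n : ℕ} {F : Type*}

/-- The quadratic form `Q` on `F^ι` transported to `F^n` along `e : ι ≃ Fin n`. -/
def reQ (e : ι ≃ Fin n) (Q : (ι → F) → F) : (Fin n → F) → F := fun w => Q (w ∘ e)

end Cfsg.Agent.Lib.Helper5.AschO
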