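import Mathlib
import Cfsg.Prelude.Def_GeometricClasses
import Cfsg.Agent.Lib.Helper99.AschDefs
import Cfsg.Agent.Lib.Helper11.AschResid
import Cfsg.Agent.Lib.Helper5.AschODefs
import Cfsg.Agent.Lib.Helper5.AschOBasic
-- BEGIN-GEN
import Cfsg.Agent.Lib.Helper83.AschONDesc
import Cfsg.Agent.Lib.Helper83.AschOUniDesc
-- END-GEN

/-!
# Project ASCHO: the one-component case (residual class, or class 5)
-/

set_option autoImplicit false

namespace Cfsg.Agent.Lib.Helper5.AschO

open Cfsg Cfsg.Geo Cfsg.Agent.Lib.Helper99.Asch Cfsg.Agent.Lib.Helper11.AschResid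
open scoped MatrixGroups Matrix Kronecker

variable {n : ℕ} {F : Type*} [Field F] [Fintype F]

/-- ASCHO-[RESID] -/
theorem residualO_or_geoO {Q : (Fin n → F) → F} {H : Subgroup (GL (Fin n) F)} (hS : OSetup Q H)
    (hNAI : NAIO H) (P : Subgroup (GL (Fin n) F)) (hP : PerfMin H P)
    (hsimple : ∀ M : Subgroup (GL (Fin n) F), M ≤ P → Nrm P M → M ≤ scalars (Fin n) F ∨ M = P) :
    GeoO Q H ∨ InOrthogonalResidualClass H := by
  have hne : Nonempty (Fin n) := ⟨⟨0, by have := hS.three_le; omega⟩⟩
  have hPle : P ≤ H ⊔ scalars (Fin n) F := le_trans hP.le le_sup_left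
  have habs : ActsAbsolutelyIrreducibly (matrixSet P) := (hNAI P hP.nrm hPle).resolve_left hP.not_le
  by_cases h1 : ∃ F₀ : Subfield F, F₀ ≠ ⊤ ∧ RealisableOver F₀ (matrixSet P)
  · obtain ⟨F₀, hF₀, hreal⟩ := h1
    exact Or.inl (geoO_of_realisable hS P hP.le habs hP.nrm F₀ hF₀ hreal)
  by_cases h4 : ∃ (σ : F ≃+* F) (f : (Fin n → F) → (Fin n → F) → F),
      IsUnitaryForm σ f ∧ FixesForm (matrixSet P) f
  · exfalso
    obtain ⟨σ, u, hu, hufix⟩ := h4
    apply h1
    -- `P` fixes the polar form of `Q`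
    have hbfix : FixesForm (matrixSet P) (QuadraticMap.polar Q) := by
      rintro s ⟨x, hx, rfl⟩ a b
      have hxI : x ∈ isometryGroup F Q := hS.le (hP.le hx)
      have := polar_map_of_similarity (Q := Q) (x : Matrix (Fin n) (Fin n) F) 1
        (by intro v; rw [one_mul]; exact (mem_isometryGroup_iff x).mp hxI v) a b
      rw [one_mul] at this
      exact this
    exact realisable_of_fixes_bilinear_and_unitary P habs (QuadraticMap.polar Q)
      hS.nondeg.polar_bilinear hS.nondeg.nondegenerate hbfix σ u hu hufix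
  right
  refine ⟨P, ?_, h4⟩
  exact
    { le := hP.le
      normal := hP.nrm
      perfect := hP.perfect
      simple := isSimpleGroup_quotient hP.not_le hsimple
      nonabelian := not_isMulCommutative_quotient hP.not_le hP.perfect
      centralizer_scalar := fun h _ hh =>
        mem_scalars_of_commute habs h (commute_of_perfect hP.perfect h hh)
      absIrred := habs
      no_subfield := fun F₀ hF₀ hreal => h1 ⟨F₀, hF₀, hreal⟩ }

end Cfsg.Agent.Lib.Helper5.AschO
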