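import Mathlib
import Cfsg.Prelude.Def_GeometricClasses
import Cfsg.Agent.Lib.Helper99.AschDefs
import Cfsg.Agent.Lib.Helper99.AschUtil4
import Cfsg.Agent.Lib.Helper99.AschPartB
import Cfsg.Agent.Lib.Helper13.AschPerf
import Cfsg.Agent.Lib.Helper42.AschComps
import Cfsg.Agent.Lib.Helper54.AschKFold
import Cfsg.Agent.Lib.Helper47.AschSlotNorm
import Cfsg.Agent.Lib.Helper51.AschNF
import Cfsg.Agent.Lib.Helper5.AschODefs
import Cfsg.Agent.Lib.Helper5.AschOBasic
-- first-sheet modules
import Cfsg.Agent.Lib.Helper52.AschOKForm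
import Cfsg.Agent.Lib.Helper40.AschOSlot33
import Cfsg.Agent.Lib.Helper54.AschOC7
import Cfsg.Agent.Lib.Helper81.AschOSolv33
-- (end of first-sheet modules)
import Cfsg.Agent.Lib.Helper5.AschOResid

/-!
# Project ASCHO, Part II B: the minimal normalised subgroup has a non-scalar commutator: class 7, class 5 or the
residual class.
-/

set_option autoImplicit false

namespace Cfsg.Agent.Lib.Helper5.AschO

open Cfsg Cfsg.Geo Cfsg.Agent.Lib.Helper99.Asch Cfsg.Agent.Lib.Helper99.AschUtil
open scoped MatrixGroups Matrix Kronecker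

variable {n : ℕ} {F : Type*} [Field F] [Fintype F]

theorem glReindex_symm_glReindex {κ : Type} [Fintype κ] [DecidableEq κ] (e : Fin n ≃ κ)
    (T : GL (Fin n) F) : glReindex e.symm (glReindex e T) = T := by
  apply Units.ext
  rw [coe_glReindex, coe_glReindex]
  ext i j
  simp

/-- ASCHO-[PARTB] -/
theorem partIIB_O {Q : (Fin n → F) → F} {H : Subgroup (GL (Fin n) F)} (hS : OSetup Q H)
    (hNAI : NAIO H) (N : Subgroup (GL (Fin n) F)) (hN : IsMinNrm H N) (hnab : ¬ CommScalar N) :
    GeoO Q H ∨ InOrthogonalResidualClass H := by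
  obtain ⟨P, hP⟩ := exists_perfMin H N hN hnab
  obtain ⟨k, Qs, hk, hQ⟩ := exists_compSys H P hP
  have hPle : P ≤ H ⊔ scalars (Fin n) F := le_trans hP.le le_sup_left
  have hPabs : ActsAbsolutelyIrreducibly (matrixSet P) :=
    (hNAI P hP.nrm hPle).resolve_left hP.not_le
  by_cases hk1 : k = 1
  · subst hk1
    have hQP : Qs 0 = P := by
      rw [← hQ.iSup_eq]
      exact (ciSup_unique (s := Qs)).symm
    apply residualO_or_geoO hS hNAI P hP
    intro M hM hnM
    have := hQ.simple 0 M (hQP ▸ hM) (hQP ▸ hnM)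
    rwa [hQP] at this
  · left
    have hk2 : 2 ≤ k := by omega
    have hNF : Cfsg.Agent.Lib.Helper99.AschR.NFStmt F :=
      fun _ hn' N hss hiso hsc => tensorNF_of_isotypic hn' N hss hiso hsc
    have hdim : ∀ i j, Module.finrank F (Submodule.span F (matrixSet (Qs i))) =
        Module.finrank F (Submodule.span F (matrixSet (Qs j))) := by
      intro i j
      obtain ⟨h, _, hh⟩ := hQ.trans i j
      exact finrank_span_eq_of_conj (Qs i) (Qs j) h hh
    obtain ⟨d, idx, B, hslot, hspan⟩ :=
      Cfsg.Agent.Lib.Helper54.AschKFold.kfold_of (Cfsg.Agent.Lib.Helper99.AschR.binStmt_of_nf hNF)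
        hk Qs hQ.commute (by rw [hQ.iSup_eq]; exact hPabs) hdim
    have hnd : n = d ^ k := by
      have := Fintype.card_congr idx
      simpa using this
    have hn3 := hS.three_le
    have hd2 : 2 ≤ d := by
      by_contra hd
      have hd' : d ≤ 1 := by omega
      have : d ^ k ≤ 1 := by
        calc d ^ k ≤ 1 ^ k := Nat.pow_le_pow_left hd' k
          _ = 1 := one_pow k
      omega
    have hd3 : 3 ≤ d := by
      by_contra hd
      have hd2' : d = 2 := by omega
      subst hd2'
      have hodd := hS.odd_dim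
      rw [hnd] at hodd
      have : Even (2 ^ k) := (Nat.even_pow.mpr ⟨even_two, by omega⟩)
      exact (Nat.not_even_iff_odd.mpr hodd) this
    obtain ⟨J, c, hc, hJs, hJu, hJinv, hform⟩ :=
      slotForm hS hk2 Qs (fun i => le_trans (hQ.le i) hP.le) d idx B hslot hspan
    by_cases h33 : Fintype.card F = 3 ∧ d = 3
    · exfalso
      obtain ⟨hF, hd3'⟩ := h33
      subst hd3'
      have i0 : Fin k := ⟨0, hk⟩
      have hbot := slot_eq_bot_of_three_three_of
        (fun A f hf hA hp => eq_bot_of_perfect_three_three hF A f hf hA hp)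
        i0 (Qs i0) (hQ.perfect i0) idx B (hslot i0)
        (J i0) (hJs i0) (hJu i0) (hJinv i0)
      apply hQ.not_le i0
      rw [hbot]
      exact bot_le
    · refine geoO_of_slots hS hk2 d hd3 h33 idx B ?_ J c hc hJs hJu hform
      intro h hh
      obtain ⟨σ, hσ⟩ := hQ.perm h hh
      set g : GL (Fin k → Fin d) F := glReindex idx (B * h * B⁻¹) with hgdef
      have hg : glReindex idx.symm g = B * h * B⁻¹ := glReindex_symm_glReindex idx _
      exact mem_tensorWreathStandard_of_permutes_slots hk g σ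
        (slot_conj Qs idx B hslot hspan h σ hσ g hg)

end Cfsg.Agent.Lib.Helper5.AschO
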