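import Mathlib
import Cfsg.Prelude.Def_GeometricClasses
import Cfsg.Agent.Lib.Helper99.AschDefs
import Cfsg.Agent.Lib.Helper99.AschUtil4
import Cfsg.Agent.Lib.Helper66.AschSS
import Cfsg.Agent.Lib.Helper51.AschField
import Cfsg.Agent.Lib.Helper51.AschNF
import Cfsg.Agent.Lib.Helper47.AschKronNormFinal
import Cfsg.Agent.Lib.Helper5.AschODefs
import Cfsg.Agent.Lib.Helper5.AschOBasic
-- first-sheet modules
import Cfsg.Agent.Lib.Helper54.AschOIsoF
import Cfsg.Agent.Lib.Helper51.AschOPerp
import Cfsg.Agent.Lib.Helper50.AschOC2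
import Cfsg.Agent.Lib.Helper52.AschOC3Final
import Cfsg.Agent.Lib.Helper51.AschOTform
import Cfsg.Agent.Lib.Helper42.AschOC4
import Cfsg.Agent.Lib.Helper36.AschOC7TwoFinal
import Cfsg.Agent.Lib.Helper76.AschOT33Exact
-- (end of first-sheet modules)

/-!
# Project ASCHO, Part I: an irreducible group of isometries (odd dimension, odd characteristic) lies in a
geometric class (2, 3, 4, 5, 7) or every subgroup it normalises inside `H · scalars` is scalar or absolutely
irreducible.
-/

set_option autoImplicit false

namespace Cfsg.Agent.Lib.Helper5.AschO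

open Cfsg Cfsg.Geo Cfsg.Agent.Lib.Helper99.Asch Cfsg.Agent.Lib.Helper99.AschUtil
open scoped MatrixGroups Matrix Kronecker

variable {n : ℕ} {F : Type*} [Field F] [Fintype F]

/-- ASCHO-[PART1] -/
theorem partI_O {Q : (Fin n → F) → F} {H : Subgroup (GL (Fin n) F)} (hS : OSetup Q H)
    (hirr : ActsIrreducibly (matrixSet H)) : GeoO Q H ∨ NAIO H := by
  by_cases hG : GeoO Q H
  · exact Or.inl hG
  right
  intro N hnrm hNle
  have hn0 : 0 < n := by have := hS.three_le; omega
  have hss := semisimple_of_normalized H N hirr hnrm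
  rcases isotypic_or_components H N hirr hnrm with hiso |
    ⟨t, D, ht, hne, hind, htop, hperm, htrans, hcomm, hN, hfield⟩
  swap
  · exfalso
    apply hG
    obtain ⟨k, hk⟩ :=
      orthogonal_of_components hS N hNle t D ht hne hind htop hperm htrans hcomm hN hfield
    exact geoO_of_orthogonal_decomposition hS t k D hk hperm
  have hinv := commutantCenter_inv hn0 N hss hiso
  by_cases hsc : ∀ x ∈ commutantCenter N, ∃ c : F, x = c • (1 : Matrix (Fin n) (Fin n) F)
  · obtain ⟨d, e, idx, B, hNFo⟩ := tensorNF_of_isotypic hn0 N hss hiso hsc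
    have hcard : n = d * e := by
      have := Fintype.card_congr idx
      simpa using this
    have hkr : ∀ h ∈ H, ∃ (a : GL (Fin d) F) (b : GL (Fin e) F),
        ((B * h * B⁻¹ : GL (Fin n) F) : Matrix (Fin n) (Fin n) F) =
        Matrix.reindex idx.symm idx.symm
          ((a : Matrix (Fin d) (Fin d) F) ⊗ₖ (b : Matrix (Fin e) (Fin e) F)) :=
      fun h hh => kronecker_of_normalizes N d e idx B hNFo h (fun x hx => hnrm h hh x hx)
    by_cases hd : 2 ≤ d
    · by_cases he : 2 ≤ e
      · exfalso
        apply hG
        obtain ⟨f₁, f₂, h₁, h₂, hT⟩ := tensorForm_of_tensorNF hS N hNle d e idx B hNFo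
        by_cases hde : d = e
        · subst hde
          by_cases h33 : Fintype.card F = 3 ∧ d = 3
          · obtain ⟨hF, hd3⟩ := h33
            subst hd3
            exact geoO_of_kronecker_three_three hS hF idx B hkr f₁ f₂ h₁ h₂ hT
          · exact geoO_of_kronecker_eq hS d hd h33 idx B hkr f₁ f₂ h₁ h₂ hT
        · exact geoO_of_kronecker_ne hS d e hde hd he idx B hkr f₁ f₂ h₁ h₂ hT
      · have he1 : e = 1 := by
          rcases Nat.lt_or_ge e 1 with h0 | h1
          · have : e = 0 := by omega
            subst this; omega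
          · omega
        subst he1
        exact Or.inr (absIrred_of_tensorNF_one N d idx B hNFo)
    · have hd1 : d = 1 := by
        rcases Nat.lt_or_ge d 1 with h0 | h1
        · have : d = 0 := by omega
          subst this; omega
        · omega
      subst hd1
      exact Or.inl (scalar_of_tensorNF_one N e idx B hNFo)
  · exfalso
    apply hG
    push Not at hsc
    obtain ⟨x, hx, hxs⟩ := hsc
    exact geoO_of_normalized_field hS N hnrm hNle hinv ⟨x, hx, hxs⟩

end Cfsg.Agent.Lib.Helper5.AschO
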