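import Mathlib
import Cfsg.Prelude.Def_GeometricClasses
import Cfsg.Agent.Lib.Helper99.AschDefs
import Cfsg.Agent.Lib.Helper5.AschODefs
import Cfsg.Agent.Lib.Helper5.AschODefsTr
import Cfsg.Agent.Lib.Helper5.AschOBasic
-- first-sheet modules
import Cfsg.Agent.Lib.Helper52.AschOC1
import Cfsg.Agent.Lib.Helper42.AschOSetup
import Cfsg.Agent.Lib.Helper19.AschONoComm
import Cfsg.Agent.Lib.Helper50.AschOTrHyp
import Cfsg.Agent.Lib.Helper50.AschOTr12
import Cfsg.Agent.Lib.Helper95.AschOTr35
import Cfsg.Agent.Lib.Helper95.AschOTr47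
import Cfsg.Agent.Lib.Helper95.AschOTrRes
import Cfsg.Agent.Lib.Helper95.AschOFinal
-- (end of first-sheet modules)
import Cfsg.Agent.Lib.Helper5.AschOPartI
import Cfsg.Agent.Lib.Helper5.AschOPartB
import Cfsg.Agent.Lib.Helper94.OrthStd

/-!
# Project ASCHO: Aschbacher's theorem for groups of isometries of a non-degenerate quadratic form in odd
dimension over a finite field of odd order, and its frozen form for the standard form (S5673).
-/

set_option autoImplicit false

namespace Cfsg.Agent.Lib.Helper5.AschO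

open Cfsg Cfsg.Geo Cfsg.Agent.Lib.Helper99.Asch
open scoped MatrixGroups Matrix Kronecker

variable {n : ℕ} {F : Type*} [Field F] [Fintype F]

/-- an irreducible group in dimension at least 2 is not scalar -/
theorem not_le_scalars_of_irreducible (hn : 2 ≤ n) (H : Subgroup (GL (Fin n) F))
    (hirr : ActsIrreducibly (matrixSet H)) : ¬ H ≤ scalars (Fin n) F := by
  intro hH
  set v : Fin n → F := Pi.single ⟨0, by omega⟩ 1 with hv
  have hv0 : v ≠ 0 := by
    intro h
    have := congrFun h ⟨0, by omega⟩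
    simp [hv] at this
  set W : Submodule F (Fin n → F) := Submodule.span F {v} with hW
  have hinv : ∀ s ∈ matrixSet H, W.map (Matrix.toLin' s) ≤ W := by
    rintro s ⟨g, hg, rfl⟩
    obtain ⟨c, hc⟩ := (mem_scalars_iff g).mp (hH hg)
    rintro w ⟨u, hu, rfl⟩
    show (g : Matrix (Fin n) (Fin n) F) *ᵥ u ∈ W
    rw [hc, Matrix.smul_mulVec, Matrix.one_mulVec]
    exact W.smul_mem _ hu
  rcases hirr W hinv with h | h
  · apply hv0
    have : v ∈ W := Submodule.subset_span rfl
    rw [h] at this
    exact (Submodule.mem_bot F).mp this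
  · have h1 : Module.finrank F W = n := by
      rw [h, finrank_top, Module.finrank_fin_fun]
    have h2 : Module.finrank F W = 1 := finrank_span_singleton hv0
    omega

/-- ASCHO-[MAIN] -/
theorem aschbacher_orthogonal_odd {Q : (Fin n → F) → F} {H : Subgroup (GL (Fin n) F)}
    (hS : OSetup Q H) : GeoO Q H ∨ InOrthogonalResidualClass H := by
  by_cases hirr : ActsIrreducibly (matrixSet H)
  · rcases partI_O hS hirr with hG | hNAI
    · exact Or.inl hG
    · have hnot : ¬ H ≤ scalars (Fin n) F :=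
        not_le_scalars_of_irreducible (by have := hS.three_le; omega) H hirr
      obtain ⟨N, hN⟩ := exists_isMinNrm_of_not_le H hnot
      exact partIIB_O hS hNAI N hN (not_commScalar hS hNAI N hN)
  · exact Or.inl (geoO_of_not_irreducible hS hirr)

section transport

variable {ι : Type} [Fintype ι] [DecidableEq ι]

theorem inOrthClass_comap (e : ι ≃ Fin n) (Q : (ι → F) → F) (M' : Subgroup (GL (Fin n) F))
    (h : InOrthClass (reQ e Q) M') : InOrthClass Q (M'.comap (glReindex e).toMonoidHom) := by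
  rcases h with h | h | h | h | h | h | h | h
  · exact Or.inl (isO1a_comap e Q M' h)
  · exact Or.inr (Or.inl (isO1b_comap e Q M' h))
  · exact Or.inr (Or.inr (Or.inl (isO2a_comap e Q M' h)))
  · exact Or.inr (Or.inr (Or.inr (Or.inl (isO2b_comap e Q M' h))))
  · exact Or.inr (Or.inr (Or.inr (Or.inr (Or.inl (isO3_comap e Q M' h)))))
  · exact Or.inr (Or.inr (Or.inr (Or.inr (Or.inr (Or.inl (isO4_comap e Q M' h))))))
  · exact Or.inr (Or.inr (Or.inr (Or.inr (Or.inr (Or.inr (Or.inl (isO5_comap e Q M' h)))))))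
  · exact Or.inr (Or.inr (Or.inr (Or.inr (Or.inr (Or.inr (Or.inr (isO7_comap e Q M' h)))))))

/-- the theorem for any index type of odd cardinality at least 3 -/
theorem aschbacher_orthogonal_odd_gen (e : ι ≃ Fin n) (Q : (ι → F) → F) (H : Subgroup (GL ι F))
    (hodd : Odd (Fintype.card F)) (hn : Odd n) (h3 : 3 ≤ n) (hQ : IsNondegenerateQuadraticForm Q)
    (hH : H ≤ isometryGroup F Q) : GeoO Q H ∨ InOrthogonalResidualClass H := by
  have hS := oSetup_map e Q H hodd hn h3 hQ hH
  rcases aschbacher_orthogonal_odd hS with hG | hR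
  · left
    obtain ⟨M', hM', hle⟩ := hG
    exact ⟨M'.comap (glReindex e).toMonoidHom, inOrthClass_comap e Q M' hM',
      Subgroup.map_le_iff_le_comap.mp hle⟩
  · right
    exact inOrthogonalResidualClass_of_map e H hR

end transport

/-- S5673 -/
theorem aschbacher_quadFormOdd (hodd : Odd (Fintype.card F)) (m : ℕ) (hm : 3 ≤ m)
    (H : Subgroup (GL (Unit ⊕ (Fin m ⊕ Fin m)) F))
    (hH : H ≤ omegaGL (quadFormOdd m F)) :
    (∃ M : Subgroup (GL (Unit ⊕ (Fin m ⊕ Fin m)) F), InOrthogonalOddClass m F M ∧ H ≤ M) ∨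
      InOrthogonalResidualClass H := by
  have hcard : Fintype.card (Unit ⊕ (Fin m ⊕ Fin m)) = 2 * m + 1 := by
    simp; ring
  let e : (Unit ⊕ (Fin m ⊕ Fin m)) ≃ Fin (2 * m + 1) := Fintype.equivFinOfCardEq hcard
  have hHI : H ≤ isometryGroup F (quadFormOdd m F) := by
    refine le_trans hH ?_
    rintro _ ⟨x, -, rfl⟩
    exact x.2
  have hQ := Cfsg.Agent.Lib.Helper94.isNondegenerateQuadraticForm_quadFormOdd (F := F) m
    (two_ne_zero_of_odd_card hodd)
  rcases aschbacher_orthogonal_odd_gen e (quadFormOdd m F) H hodd ⟨m, rfl⟩ (by omega) hQ hHI with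
    hG | hR
  · left
    obtain ⟨M, hM, hle⟩ := hG
    exact ⟨M, inOrthogonalOddClass_of_inOrthClass hodd m M hM, hle⟩
  · exact Or.inr hR

end Cfsg.Agent.Lib.Helper5.AschO
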