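import Mathlib
import Cfsg.Prelude.Def_Classical

set_option autoImplicit false

namespace Cfsg.Agent.Lib.Helper5

open Matrix
open scoped MatrixGroups commutatorElement

section abstract
variable {G K : Type*} [Group G] [Group K]

theorem commutatorElement_central_mul_left {z : G} (hz : z ∈ Subgroup.center G) (u y : G) :
    ⁅z * u, y⁆ = ⁅u, y⁆ := by
  rw [commutatorElement_def, commutatorElement_def, _root_.mul_inv_rev]
  have hc := Subgroup.mem_center_iff.mp hz
  calc z * u * y * (u⁻¹ * z⁻¹) * y⁻¹ = z * (u * y * u⁻¹) * z⁻¹ * y⁻¹ := by group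
    _ = (u * y * u⁻¹) * z * z⁻¹ * y⁻¹ := by rw [← hc (u * y * u⁻¹)]
    _ = u * y * u⁻¹ * y⁻¹ := by group

theorem commutatorElement_central_mul_right {z : G} (hz : z ∈ Subgroup.center G) (x v : G) :
    ⁅x, z * v⁆ = ⁅x, v⁆ := by
  rw [commutatorElement_def, commutatorElement_def, _root_.mul_inv_rev]
  have hc := Subgroup.mem_center_iff.mp hz
  calc x * (z * v) * x⁻¹ * (v⁻¹ * z⁻¹) = x * z * (v * x⁻¹ * v⁻¹) * z⁻¹ := by group
    _ = z * x * (v * x⁻¹ * v⁻¹) * z⁻¹ := by rw [hc x]
    _ = z * (x * v * x⁻¹ * v⁻¹) * z⁻¹ := by group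
    _ = (x * v * x⁻¹ * v⁻¹) * z * z⁻¹ := by rw [← hc (x * v * x⁻¹ * v⁻¹)]
    _ = x * v * x⁻¹ * v⁻¹ := by group

/-- If the image of `f : K →* G` has index two and misses a central element, then
`G' = f(K')`. -/
theorem commutator_eq_map_of_index_two (f : K →* G) (z : G) (hz : z ∈ Subgroup.center G)
    (hzf : z ∉ f.range) (hidx : f.range.index = 2) :
    commutator G = (commutator K).map f := by
  apply le_antisymm
  · rw [commutator_def, Subgroup.commutator_le]
    intro x _ y _
    have key : ∀ x : G, ∃ k : K, x = f k ∨ x = z * f k := by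
      intro x
      by_cases hx : x ∈ f.range
      · obtain ⟨k, rfl⟩ := hx; exact ⟨k, Or.inl rfl⟩
      · have : z⁻¹ * x ∈ f.range := by
          rw [Subgroup.mul_mem_iff_of_index_two hidx]
          constructor
          · intro h; exact absurd (inv_mem_iff.mp h) hzf
          · intro h; exact absurd h hx
        obtain ⟨k, hk⟩ := this
        exact ⟨k, Or.inr (by rw [hk]; group)⟩
    obtain ⟨k₁, h₁⟩ := key x
    obtain ⟨k₂, h₂⟩ := key y
    have hcomm : ⁅x, y⁆ = f ⁅k₁, k₂⁆ := by
      rw [map_commutatorElement]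
      rcases h₁ with rfl | rfl <;> rcases h₂ with rfl | rfl
      · rfl
      · rw [commutatorElement_central_mul_right hz]
      · rw [commutatorElement_central_mul_left hz]
      · rw [commutatorElement_central_mul_left hz, commutatorElement_central_mul_right hz]
    rw [hcomm]
    exact Subgroup.mem_map_of_mem f
      (Subgroup.commutator_mem_commutator (Subgroup.mem_top _) (Subgroup.mem_top _))
  · rw [commutator_def, commutator_def, Subgroup.map_commutator]
    exact Subgroup.commutator_mono le_top le_top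

end abstract

section adjoint
variable {F : Type*} [Field F]

/-- Index type of the 3-dimensional odd quadratic form. -/
abbrev I3 : Type := Unit ⊕ (Fin 1 ⊕ Fin 1)

/-- Trace-zero matrix attached to a vector. -/
def toMat2 (F : Type*) [Field F] : (I3 → F) →ₗ[F] Matrix (Fin 2) (Fin 2) F where
  toFun v := !![v (.inl ()), v (.inr (.inl 0)); v (.inr (.inr 0)), - v (.inl ())]
  map_add' u v := by
    ext i j; fin_cases i <;> fin_cases j <;> simp [add_comm]
  map_smul' a v := by
    ext i j; fin_cases i <;> fin_cases j <;> simp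

/-- Coordinates of a matrix. -/
def ofMat2 (F : Type*) [Field F] : Matrix (Fin 2) (Fin 2) F →ₗ[F] (I3 → F) where
  toFun M := Sum.elim (fun _ => M 0 0) (Sum.elim (fun _ => M 0 1) (fun _ => M 1 0))
  map_add' M N := by
    ext i; rcases i with _ | _ | _ <;> simp
  map_smul' a M := by
    ext i; rcases i with _ | _ | _ <;> simp

theorem ofMat2_toMat2 (v : I3 → F) : ofMat2 F (toMat2 F v) = v := by
  ext i
  rcases i with ⟨⟩ | i | i
  · simp [ofMat2, toMat2]
  · have : i = 0 := Subsingleton.elim _ _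
    subst this; simp [ofMat2, toMat2]
  · have : i = 0 := Subsingleton.elim _ _
    subst this; simp [ofMat2, toMat2]

theorem toMat2_ofMat2 (M : Matrix (Fin 2) (Fin 2) F) (hM : M.trace = 0) :
    toMat2 F (ofMat2 F M) = M := by
  rw [Matrix.trace_fin_two] at hM
  ext i j
  fin_cases i <;> fin_cases j <;> simp [ofMat2, toMat2]
  linear_combination (-1 : F) * hM

theorem trace_toMat2 (v : I3 → F) : (toMat2 F v).trace = 0 := by
  rw [Matrix.trace_fin_two]; simp [toMat2]

theorem quadFormOdd_eq (v : I3 → F) : Cfsg.quadFormOdd 1 F v = - (toMat2 F v).det := by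
  rw [Matrix.det_fin_two]
  simp [Cfsg.quadFormOdd, toMat2]
  ring

/-- Conjugation by `g` as a linear map on matrices. -/
def conjLin (g : GL (Fin 2) F) : Matrix (Fin 2) (Fin 2) F →ₗ[F] Matrix (Fin 2) (Fin 2) F where
  toFun M := g.1 * M * (g⁻¹).1
  map_add' M N := by rw [mul_add, add_mul]
  map_smul' a M := by simp

theorem conjLin_apply (g : GL (Fin 2) F) (M : Matrix (Fin 2) (Fin 2) F) :
    conjLin g M = g.1 * M * (g⁻¹).1 := rfl

theorem trace_conjLin (g : GL (Fin 2) F) (M : Matrix (Fin 2) (Fin 2) F) :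
    (conjLin g M).trace = M.trace := by
  rw [conjLin_apply, Matrix.trace_mul_comm, ← mul_assoc, ← Units.val_mul, inv_mul_cancel,
    Units.val_one, one_mul]

theorem det_conjLin (g : GL (Fin 2) F) (M : Matrix (Fin 2) (Fin 2) F) :
    (conjLin g M).det = M.det := by
  rw [conjLin_apply, Matrix.det_mul, Matrix.det_mul, mul_right_comm, ← Matrix.det_mul,
    ← Units.val_mul, mul_inv_cancel, Units.val_one, Matrix.det_one, one_mul]

/-- The adjoint action of `GL₂` on trace-zero matrices in coordinates. -/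
def adj (g : GL (Fin 2) F) : Module.End F (I3 → F) :=
  (ofMat2 F).comp ((conjLin g).comp (toMat2 F))

theorem adj_apply (g : GL (Fin 2) F) (v : I3 → F) :
    adj g v = ofMat2 F (conjLin g (toMat2 F v)) := rfl

theorem toMat2_adj (g : GL (Fin 2) F) (v : I3 → F) :
    toMat2 F (adj g v) = conjLin g (toMat2 F v) := by
  rw [adj_apply, toMat2_ofMat2]
  rw [trace_conjLin, trace_toMat2]

theorem adj_one : adj (1 : GL (Fin 2) F) = 1 := by
  apply LinearMap.ext
  intro v
  rw [adj_apply, conjLin_apply]
  simp [ofMat2_toMat2]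

theorem adj_mul (g h : GL (Fin 2) F) : adj (g * h) = adj g * adj h := by
  apply LinearMap.ext
  intro v
  rw [Module.End.mul_apply, adj_apply g, toMat2_adj, adj_apply]
  congr 1
  simp only [conjLin_apply, _root_.mul_inv_rev, Units.val_mul]
  simp only [mul_assoc]

/-- `adj` as a monoid hom. -/
def adjHom (F : Type*) [Field F] : GL (Fin 2) F →* Module.End F (I3 → F) where
  toFun := adj
  map_one' := adj_one
  map_mul' := adj_mul

/-- The adjoint representation `GL₂(F) → GL₃(F)`. -/
def adjGL (F : Type*) [Field F] : GL (Fin 2) F →* GL I3 F :=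
  (Matrix.GeneralLinearGroup.toLin (n := I3) (R := F)).symm.toMonoidHom.comp (adjHom F).toHomUnits

theorem adjGL_mulVec (g : GL (Fin 2) F) (v : I3 → F) : (adjGL F g).1 *ᵥ v = adj g v := by
  have h : Matrix.GeneralLinearGroup.toLin (adjGL F g) = (adjHom F).toHomUnits g := by
    simp [adjGL]
  have h2 : (Matrix.GeneralLinearGroup.toLin (adjGL F g)).1 v = (adjGL F g).1 *ᵥ v := rfl
  rw [← h2, h]
  rfl

theorem quadFormOdd_adj (g : GL (Fin 2) F) (v : I3 → F) :
    Cfsg.quadFormOdd 1 F (adj g v) = Cfsg.quadFormOdd 1 F v := by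
  rw [quadFormOdd_eq, quadFormOdd_eq, toMat2_adj, det_conjLin]

theorem adjGL_mem (g : GL (Fin 2) F) : adjGL F g ∈ Cfsg.isometryGroup F (Cfsg.quadFormOdd 1 F) := by
  intro u v
  change Cfsg.quadFormOdd 1 F ((adjGL F g).1 *ᵥ u) = Cfsg.quadFormOdd 1 F u
  rw [adjGL_mulVec, quadFormOdd_adj]

end adjoint

end Cfsg.Agent.Lib.Helper5
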