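import Mathlib
import Cfsg.Prelude.Def_Classical
import Cfsg.Agent.Lib.Helper5.Adjoint3

set_option autoImplicit false

namespace Cfsg.Agent.Lib.Helper5

open Matrix
open scoped MatrixGroups commutatorElement

section general
variable {G H : Type*} [Group G] [Group H]

theorem center_eq_bot_of_mulEquiv (e : G ≃* H) (h : Subgroup.center H = ⊥) :
    Subgroup.center G = ⊥ := by
  rw [eq_bot_iff]
  intro x hx
  rw [Subgroup.mem_bot]
  have : e x ∈ Subgroup.center H := by
    rw [Subgroup.mem_center_iff]
    intro y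
    have := Subgroup.mem_center_iff.mp hx (e.symm y)
    have h2 := congrArg e this
    simpa using h2
  rw [h, Subgroup.mem_bot] at this
  exact (MulEquiv.map_eq_one_iff e).mp this

end general

section
variable {F : Type*} [Field F]

/-- upper unitriangular -/
def uU (F : Type*) [Field F] : SL(2, F) := ⟨!![1, 1; 0, 1], by simp [Matrix.det_fin_two_of]⟩
/-- lower unitriangular -/
def uL (F : Type*) [Field F] : SL(2, F) := ⟨!![1, 0; 1, 1], by simp [Matrix.det_fin_two_of]⟩
theorem uU_val : (uU F).1 = !![1, 1; 0, 1] := rfl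
theorem uL_val : (uL F).1 = !![1, 0; 1, 1] := rfl

theorem center_PSL2_eq_bot (h2 : (2 : F) ≠ 0) :
    Subgroup.center (Matrix.ProjectiveSpecialLinearGroup (Fin 2) F) = ⊥ := by
  rw [eq_bot_iff]
  intro x hx
  rw [Subgroup.mem_bot]
  obtain ⟨g, rfl⟩ := QuotientGroup.mk_surjective x
  rw [QuotientGroup.eq_one_iff]
  have hcomm : ∀ h : SL(2, F), ∃ r : F, r ^ 2 = 1 ∧ (h * g).1 = r • (g * h).1 := by
    intro h
    have h1 := Subgroup.mem_center_iff.mp hx (QuotientGroup.mk h)
    rw [← QuotientGroup.mk_mul, ← QuotientGroup.mk_mul] at h1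
    have h3 := QuotientGroup.eq.mp h1.symm
    obtain ⟨r, hr, hr'⟩ := Matrix.SpecialLinearGroup.mem_center_iff.mp h3
    rw [Fintype.card_fin] at hr
    refine ⟨r, hr, ?_⟩
    have h4 : (h * g) = (g * h) * ((g * h)⁻¹ * (h * g)) := by group
    rw [h4, Matrix.SpecialLinearGroup.coe_mul (g * h), ← hr', Matrix.scalar_apply,
      ← Matrix.smul_eq_mul_diagonal]
  have hdet : g.1 0 0 * g.1 1 1 - g.1 0 1 * g.1 1 0 = 1 := by
    have := g.2
    rwa [Matrix.det_fin_two] at this
  -- upper unipotent
  obtain ⟨r, hr, hru⟩ := hcomm (uU F)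
  obtain ⟨r', hr', hrl⟩ := hcomm (uL F)
  rw [Matrix.SpecialLinearGroup.coe_mul, Matrix.SpecialLinearGroup.coe_mul, uU_val] at hru
  rw [Matrix.SpecialLinearGroup.coe_mul, Matrix.SpecialLinearGroup.coe_mul, uL_val] at hrl
  have e00 := congrFun (congrFun hru 0) 0
  have e01 := congrFun (congrFun hru 0) 1
  have e10 := congrFun (congrFun hru 1) 0
  have e11 := congrFun (congrFun hru 1) 1
  have f00 := congrFun (congrFun hrl 0) 0
  have f01 := congrFun (congrFun hrl 0) 1
  have f10 := congrFun (congrFun hrl 1) 0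
  have f11 := congrFun (congrFun hrl 1) 1
  simp [Matrix.mul_apply, Fin.sum_univ_two] at e00 e01 e10 e11 f00 f01 f10 f11
  have hr1 : r = 1 ∨ r = -1 := by
    have : (r - 1) * (r + 1) = 0 := by linear_combination hr
    rcases mul_eq_zero.mp this with h | h
    · left; linear_combination h
    · right; linear_combination h
  have hr1' : r' = 1 ∨ r' = -1 := by
    have : (r' - 1) * (r' + 1) = 0 := by linear_combination hr'
    rcases mul_eq_zero.mp this with h | h
    · left; linear_combination h
    · right; linear_combination h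
  have hc : g.1 1 0 = 0 := by
    rcases hr1 with rfl | rfl
    · linear_combination e00
    · have : 2 * g.1 1 0 = 0 := by linear_combination e10
      exact (mul_eq_zero.mp this).resolve_left h2
  have hb : g.1 0 1 = 0 := by
    rcases hr1' with rfl | rfl
    · linear_combination (-1 : F) * f00
    · have : 2 * g.1 0 1 = 0 := by linear_combination f01
      exact (mul_eq_zero.mp this).resolve_left h2
  have had : g.1 0 0 = g.1 1 1 := by
    rcases hr1 with rfl | rfl
    · linear_combination (-1 : F) * e01
    · exfalso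
      have ha : 2 * g.1 0 0 = 0 := by linear_combination e00 - hc
      have ha0 : g.1 0 0 = 0 := (mul_eq_zero.mp ha).resolve_left h2
      rw [ha0, hc] at hdet
      simp at hdet
  rw [Matrix.SpecialLinearGroup.mem_center_iff]
  refine ⟨g.1 0 0, ?_, ?_⟩
  · rw [Fintype.card_fin]
    rw [hb, ← had] at hdet
    linear_combination hdet
  · ext i j
    fin_cases i <;> fin_cases j <;> simp [hb, hc, had]

end

end Cfsg.Agent.Lib.Helper5
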