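import Mathlib
import Cfsg.Prelude.Def_LieClassical
import Cfsg.Agent.Lib.Helper5.UnitarySU2b
import Cfsg.Agent.Lib.Helper5.SL2Sylow

set_option autoImplicit false

namespace Cfsg.Agent.Lib.Helper5

open Matrix Cfsg

section general
variable {G : Type*} [Group G] [Finite G]

/-- If a cyclic subgroup `T` carries the full `r`-part of `|G|`, the Sylow `r`-subgroups of `G` are
cyclic. -/
theorem sylow_isCyclic_of_cyclic_subgroup {r : ℕ} [Fact r.Prime] (T : Subgroup G) [IsCyclic T]
    (h : (Nat.card G).factorization r = (Nat.card T).factorization r) (R : Sylow r G) :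
    IsCyclic R := by
  obtain ⟨P₀⟩ : Nonempty (Sylow r T) := inferInstance
  have hP₀ : Nat.card P₀ = r ^ (Nat.card T).factorization r := P₀.card_eq_multiplicity
  let Q : Subgroup G := (P₀ : Subgroup T).map T.subtype
  have hQcard : Nat.card Q = r ^ (Nat.card G).factorization r := by
    rw [h, ← hP₀]
    exact Subgroup.card_map_of_injective T.subtype_injective
  let Q' : Sylow r G := Sylow.ofCard Q hQcard
  have e : R ≃* Q' := Sylow.equiv R Q'
  have hQcyc : IsCyclic Q := by
    have : IsCyclic (P₀ : Subgroup T) := inferInstance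
    exact isCyclic_of_surjective ((P₀ : Subgroup T).equivMapOfInjective T.subtype T.subtype_injective)
      (MulEquiv.surjective _)
  have hQ'cyc : IsCyclic Q' := hQcyc
  exact isCyclic_of_surjective e.symm e.symm.surjective

end general

section tori
variable {F : Type*} [Field F]

/-- The split torus `a ↦ diag(a, a⁻¹)`. -/
def splitTorusHom (F : Type*) [Field F] : Fˣ →* Matrix.SpecialLinearGroup (Fin 2) F where
  toFun a := ⟨!![(a : F), 0; 0, ((a⁻¹ : Fˣ) : F)], by simp [det_fin_two]⟩
  map_one' := by
    apply Subtype.ext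
    ext i j
    fin_cases i <;> fin_cases j <;> simp
  map_mul' a b := by
    apply Subtype.ext
    change !![((a * b : Fˣ) : F), 0; 0, (((a * b)⁻¹ : Fˣ) : F)] =
      !![(a : F), 0; 0, ((a⁻¹ : Fˣ) : F)] * !![(b : F), 0; 0, ((b⁻¹ : Fˣ) : F)]
    ext i j
    fin_cases i <;> fin_cases j <;> simp [Matrix.mul_apply, Fin.sum_univ_two, mul_comm]

theorem splitTorusHom_injective : Function.Injective (splitTorusHom F) := by
  intro a b h
  have : (splitTorusHom F a).1 0 0 = (splitTorusHom F b).1 0 0 := by rw [h]
  change (a : F) = (b : F) at this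
  exact Units.ext this

theorem exists_cyclic_card_sub_one [Fintype F] :
    ∃ T : Subgroup (Matrix.SpecialLinearGroup (Fin 2) F), IsCyclic T ∧
      Nat.card T = Fintype.card F - 1 := by
  refine ⟨(splitTorusHom F).range, ?_, ?_⟩
  · exact isCyclic_of_surjective (splitTorusHom F).rangeRestrict
      (splitTorusHom F).rangeRestrict_surjective
  · rw [← Nat.card_congr (MonoidHom.ofInjective (splitTorusHom_injective (F := F))).toEquiv,
      Nat.card_units, Nat.card_eq_fintype_card]

variable [Fintype F] {q : ℕ}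

/-- The diagonal torus of `SU_2`. -/
noncomputable def unitaryTorusHom (hF : Fintype.card F = q ^ 2) :
    (powMonoidHom (q + 1) : Fˣ →* Fˣ).ker →* SU 2 F q where
  toFun l := SUofPreserves (Matrix.diagonal ![(l.1 : F), ((l.1⁻¹ : Fˣ) : F)])
    (by rw [det_diagonal, Fin.prod_univ_two]; simp)
    ((isUnitaryMat_iff_preserves hF _).mp (isUnitaryMat_diagonal
      (by have := two_le_of_card_eq_sq hF; omega) _ (by
        have hl := l.2
        rw [MonoidHom.mem_ker, powMonoidHom_apply] at hl
        have h1 : (l.1 : F) * (l.1 : F) ^ q = 1 := by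
          rw [← pow_succ', ← Units.val_pow_eq_pow_val, hl, Units.val_one]
        intro i
        fin_cases i
        · simpa using h1
        · simp only [Fin.mk_one, Matrix.cons_val_one, Matrix.cons_val_fin_one]
          rw [Units.val_inv_eq_inv_val, inv_pow, ← mul_inv, h1, inv_one])))
  map_one' := by
    apply Subtype.ext; apply Subtype.ext
    change Matrix.diagonal ![((1 : Fˣ) : F), (((1 : Fˣ)⁻¹ : Fˣ) : F)] = 1
    rw [← diagonal_one]
    congr 1
    ext i
    fin_cases i <;> simp
  map_mul' a b := by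
    apply Subtype.ext; apply Subtype.ext
    change Matrix.diagonal ![((a.1 * b.1 : Fˣ) : F), (((a.1 * b.1)⁻¹ : Fˣ) : F)] =
      Matrix.diagonal ![(a.1 : F), ((a.1⁻¹ : Fˣ) : F)] * Matrix.diagonal ![(b.1 : F), ((b.1⁻¹ : Fˣ) : F)]
    rw [diagonal_mul_diagonal]
    congr 1
    ext i
    fin_cases i <;> simp [mul_comm]

theorem unitaryTorusHom_injective (hF : Fintype.card F = q ^ 2) :
    Function.Injective (unitaryTorusHom hF) := by
  intro a b h
  have := congrArg (fun s : SU 2 F q => s.1.1 0 0) h
  simp only [unitaryTorusHom, MonoidHom.coe_mk, OneHom.coe_mk, SUofPreserves_coe, diagonal_apply_eq,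
    Matrix.cons_val_zero] at this
  exact Subtype.ext (Units.ext this)

theorem exists_cyclic_card_add_one_SU (hF : Fintype.card F = q ^ 2) :
    ∃ T : Subgroup (SU 2 F q), IsCyclic T ∧ Nat.card T = q + 1 := by
  refine ⟨(unitaryTorusHom hF).range, ?_, ?_⟩
  · exact isCyclic_of_surjective (unitaryTorusHom hF).rangeRestrict
      (unitaryTorusHom hF).rangeRestrict_surjective
  · rw [← Nat.card_congr (MonoidHom.ofInjective (unitaryTorusHom_injective hF)).toEquiv,
      card_ker_pow_q_add_one hF]

end tori

section main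
variable {F : Type*} [Field F] [Fintype F]

/-- A cyclic subgroup of order `q + 1` in `SL_2(q)` (non-split torus). -/
theorem exists_cyclic_card_add_one (p : ℕ) [Fact p.Prime] [CharP F p] :
    ∃ T : Subgroup (Matrix.SpecialLinearGroup (Fin 2) F), IsCyclic T ∧
      Nat.card T = Fintype.card F + 1 := by
  obtain ⟨k, -, hk⟩ := FiniteField.card F p
  let F' := GaloisField p (2 * (k : ℕ))
  letI : Fintype F' := Fintype.ofFinite F'
  have hF' : Fintype.card F' = (Fintype.card F) ^ 2 := by
    rw [← Nat.card_eq_fintype_card, GaloisField.card p _ (by positivity), hk, ← pow_mul, mul_comm]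
  obtain ⟨e⟩ := nonempty_SU2_equiv_SL2 (K := F) hF' rfl
  obtain ⟨T, hTc, hTcard⟩ := exists_cyclic_card_add_one_SU hF'
  refine ⟨T.map e.toMonoidHom, ?_, ?_⟩
  · exact isCyclic_of_surjective (T.equivMapOfInjective e.toMonoidHom e.injective)
      (MulEquiv.surjective _)
  · rw [Subgroup.card_map_of_injective e.injective, hTcard]

theorem sylow_isCyclic_SL2 (p : ℕ) [Fact p.Prime] [CharP F p] (r : ℕ) [Fact r.Prime] (hr : r ≠ 2)
    (hrp : r ≠ p) (R : Sylow r (Matrix.SpecialLinearGroup (Fin 2) F)) :
    IsCyclic (R : Subgroup (Matrix.SpecialLinearGroup (Fin 2) F)) := by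
  have hrprime : r.Prime := Fact.out
  have hpprime : p.Prime := Fact.out
  obtain ⟨k, -, hk⟩ := FiniteField.card F p
  set q := Fintype.card F with hq
  have hq2 : 2 ≤ q := Fintype.one_lt_card
  have hcard : Nat.card (Matrix.SpecialLinearGroup (Fin 2) F) = q * ((q - 1) * (q + 1)) := by
    rw [card_SL2]
    congr 1
    obtain ⟨t, ht⟩ : ∃ t, q = t + 1 := ⟨q - 1, by omega⟩
    rw [← hq, ht]
    have : (t + 1) ^ 2 = (t + 1 + 1) * t + 1 := by ring
    rw [this]; simp [mul_comm]
  have hrq : ¬ r ∣ q := by
    intro h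
    rw [hk] at h
    exact hrp ((Nat.prime_dvd_prime_iff_eq hrprime hpprime).mp (hrprime.dvd_of_dvd_pow h))
  have hfac : (Nat.card (Matrix.SpecialLinearGroup (Fin 2) F)).factorization r =
      (q - 1).factorization r + (q + 1).factorization r := by
    rw [hcard, Nat.factorization_mul (by omega) (Nat.mul_ne_zero (by omega) (by omega)),
      Nat.factorization_mul (by omega) (by omega)]
    simp [Nat.factorization_eq_zero_of_not_dvd hrq]
  have hnot : ¬ (r ∣ q - 1 ∧ r ∣ q + 1) := by
    rintro ⟨h1, h2⟩
    have : r ∣ (q + 1) - (q - 1) := Nat.dvd_sub h2 h1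
    have h2' : (q + 1) - (q - 1) = 2 := by omega
    rw [h2'] at this
    exact hr ((Nat.prime_dvd_prime_iff_eq hrprime Nat.prime_two).mp this)
  by_cases h1 : r ∣ q - 1
  · have h2 : ¬ r ∣ q + 1 := fun h => hnot ⟨h1, h⟩
    obtain ⟨T, hTc, hTcard⟩ := exists_cyclic_card_sub_one (F := F)
    exact sylow_isCyclic_of_cyclic_subgroup T (by
      rw [hfac, hTcard, Nat.factorization_eq_zero_of_not_dvd h2, add_zero]) R
  · by_cases h2 : r ∣ q + 1
    · obtain ⟨T, hTc, hTcard⟩ := exists_cyclic_card_add_one (F := F) p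
      exact sylow_isCyclic_of_cyclic_subgroup T (by
        rw [hfac, hTcard, Nat.factorization_eq_zero_of_not_dvd h1, zero_add]) R
    · exact sylow_isCyclic_of_cyclic_subgroup (⊥ : Subgroup (Matrix.SpecialLinearGroup (Fin 2) F)) (by
        rw [hfac, Nat.factorization_eq_zero_of_not_dvd h1, Nat.factorization_eq_zero_of_not_dvd h2,
          Subgroup.card_bot]
        simp) R

end main

end Cfsg.Agent.Lib.Helper5
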