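import Mathlib
import Cfsg.Prelude.Def_Classical
import Cfsg.Agent.Lib.Helper5.OrthTail
import Cfsg.Agent.S0291

set_option autoImplicit false

namespace Cfsg.Agent.Lib.Helper5

open QuadraticMap Matrix Cfsg

section odd
variable {F : Type*} [Field F]

/-- The form `x²` on `Unit → F`. -/
noncomputable def sqForm (F : Type*) [Field F] : QuadraticForm F (Unit → F) :=
  linMulLin (LinearMap.proj ()) (LinearMap.proj ())

theorem sqForm_apply (x : Unit → F) : sqForm F x = x () * x () := rfl

theorem sqForm_nondeg (h2 : (2 : F) ≠ 0) :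
    ∀ x : Unit → F, x ≠ 0 → ∃ y, polar (sqForm F) x y ≠ 0 := by
  intro x hx
  have hx0 : x () ≠ 0 := by
    intro h
    apply hx
    ext u
    exact h
  refine ⟨x, ?_⟩
  rw [pol_self, sqForm_apply]
  exact mul_ne_zero h2 (mul_ne_zero hx0 hx0)

/-- Reindexing `Unit ⊕ (Fin m ⊕ Fin m)` as `(Fin m ⊕ Fin m) ⊕ Unit`. -/
def oddEquiv (m : ℕ) (F : Type*) [Field F] :
    (Unit ⊕ (Fin m ⊕ Fin m) → F) ≃ₗ[F] ((Fin m ⊕ Fin m) ⊕ Unit → F) :=
  LinearEquiv.funCongrLeft F F (Equiv.sumComm (Fin m ⊕ Fin m) Unit)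

theorem tailForm_oddEquiv (m : ℕ) (v : Unit ⊕ (Fin m ⊕ Fin m) → F) :
    tailForm m (sqForm F) (oddEquiv m F v) = quadFormOdd m F v := by
  rw [tailForm_apply, sqForm_apply, quadFormOdd, add_comm, pow_two]
  rfl

/-- The isometry group of `x²` in dimension one. -/
noncomputable def isoGrpOddZeroEquiv :
    isoGrp (tailForm 0 (sqForm F)) ≃ {c : F // c * c = 1} where
  toFun φ := ⟨(φ.1 (fun _ => 1)) (Sum.inr ()), by
    have := φ.2 (fun _ => 1)
    rw [tailForm_apply, tailForm_apply, sqForm_apply, sqForm_apply] at this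
    simpa using this⟩
  invFun c := ⟨LinearEquiv.smulOfUnit (Units.mkOfMulEqOne c.1 c.1 c.2), by
    intro x
    change tailForm 0 (sqForm F) (c.1 • x) = _
    rw [qf_smul, c.2, one_mul]⟩
  left_inv φ := by
    apply Subtype.ext
    apply LinearEquiv.ext
    intro x
    have hx : x = x (Sum.inr ()) • (fun _ => (1 : F)) := by
      ext k
      rcases k with (i | i) | t
      · exact i.elim0
      · exact i.elim0
      · simp
    change (φ.1 (fun _ => 1)) (Sum.inr ()) • x = φ.1 x
    conv_rhs => rw [hx, map_smul]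
    ext k
    rcases k with (i | i) | t
    · exact i.elim0
    · exact i.elim0
    · simp [mul_comm]
  right_inv c := by
    apply Subtype.ext
    change (c.1 • (fun _ => (1 : F)) : (Fin 0 ⊕ Fin 0) ⊕ Unit → F) (Sum.inr ()) = c.1
    simp

theorem card_sq_eq_one (h2 : (2 : F) ≠ 0) : Nat.card {c : F // c * c = 1} = 2 := by
  rw [Nat.card_eq_two_iff]
  refine ⟨⟨1, by simp⟩, ⟨-1, by simp⟩, ?_, ?_⟩
  · intro h
    have := congrArg Subtype.val h
    simp only at this
    apply h2
    linear_combination this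
  · ext c
    simp only [Set.mem_insert_iff, Set.mem_singleton_iff, Set.mem_univ, iff_true]
    have hc := c.2
    have : (c.1 - 1) * (c.1 + 1) = 0 := by linear_combination hc
    rcases mul_eq_zero.mp this with h | h
    · left; exact Subtype.ext (sub_eq_zero.mp h)
    · right; exact Subtype.ext (eq_neg_of_add_eq_zero_left h)

theorem card_isoGrp_odd_zero (h2 : (2 : F) ≠ 0) :
    Nat.card (isoGrp (tailForm 0 (sqForm F))) = 2 := by
  rw [Nat.card_congr isoGrpOddZeroEquiv, card_sq_eq_one h2]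

variable [Fintype F]

theorem card_isometryGroup_odd_eq (m : ℕ) :
    Nat.card (isometryGroup F (quadFormOdd m F)) = Nat.card (isoGrp (tailForm m (sqForm F))) := by
  rw [card_isometryGroup_eq, card_isoGrp_congr (oddEquiv m F) _ _ (tailForm_oddEquiv m)]

theorem card_isometryGroup_odd_succ (hodd : Odd (Fintype.card F)) (h2 : (2 : F) ≠ 0) (m : ℕ) :
    (Nat.card (isometryGroup F (quadFormOdd (m + 1) F)) : ℤ) =
      ((Fintype.card F : ℤ) ^ (2 * (m + 1)) - 1) *
        (Fintype.card F : ℤ) ^ (2 * m + 1) * Nat.card (isometryGroup F (quadFormOdd m F)) := by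
  rw [card_isometryGroup_odd_eq, card_isometryGroup_odd_eq,
    card_isoGrp_tailForm_succ m _ (sqForm_nondeg h2)]
  have h1 := card_sing_congr (oddEquiv (m + 1) F) (quadFormOdd (m + 1) F)
    (tailForm (m + 1) (sqForm F)) (tailForm_oddEquiv (m + 1))
  have h2' := card_sing_add_one (quadFormOdd (m + 1) F) (by simp [quadFormOdd])
  have h3 := Cfsg.Agent.S0291.result (F := F) rfl hodd (m + 1)
  rw [h3] at h2'
  rw [← h1]
  have h4 : (Nat.card {u : Unit ⊕ (Fin (m + 1) ⊕ Fin (m + 1)) → F // u ≠ 0 ∧ quadFormOdd (m + 1) F u = 0} : ℤ) =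
      (Fintype.card F : ℤ) ^ (2 * (m + 1)) - 1 := by
    zify at h2'
    linarith
  push_cast
  rw [h4]
  simp

theorem card_isometryGroup_odd_int (hodd : Odd (Fintype.card F)) (h2 : (2 : F) ≠ 0) (m : ℕ) :
    (Nat.card (isometryGroup F (quadFormOdd m F)) : ℤ) =
      2 * (Fintype.card F : ℤ) ^ (m ^ 2) *
        ∏ i ∈ Finset.range m, ((Fintype.card F : ℤ) ^ (2 * (i + 1)) - 1) := by
  induction m with
  | zero =>
    rw [card_isometryGroup_odd_eq, card_isoGrp_odd_zero h2]
    simp
  | succ m ih =>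
    rw [card_isometryGroup_odd_succ hodd h2, ih, Finset.prod_range_succ]
    ring

/-- The order of `GO_{2m+1}(q)`, `q` odd. -/
theorem card_isometryGroup_odd {q : ℕ} (hF : Fintype.card F = q) (hodd : Odd q) (m : ℕ) :
    Nat.card (isometryGroup F (quadFormOdd m F)) =
      2 * q ^ (m ^ 2) * ∏ i ∈ Finset.range m, (q ^ (2 * (i + 1)) - 1) := by
  subst hF
  have h2 : (2 : F) ≠ 0 := by
    have h : ringChar F ≠ 2 := by
      intro h
      have := FiniteField.even_card_iff_char_two.mp h
      rcases hodd with ⟨k, hk⟩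
      omega
    exact Ring.two_ne_zero h
  have hq : 1 ≤ Fintype.card F := Fintype.card_pos
  have h1 : ∀ n, 1 ≤ Fintype.card F ^ n := fun n => Nat.one_le_pow _ _ hq
  apply Nat.cast_injective (R := ℤ)
  rw [card_isometryGroup_odd_int hodd h2]
  push_cast [Nat.cast_sub (h1 _), Nat.cast_prod]
  rfl

end odd

end Cfsg.Agent.Lib.Helper5
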