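import Mathlib
import Cfsg.Prelude.Def_Classical
import Cfsg.Agent.Lib.Helper5.Adjoint3

set_option autoImplicit false

namespace Cfsg.Agent.Lib.Helper5

open Matrix
open scoped MatrixGroups commutatorElement

section
variable {F : Type*} [Field F]

theorem adjGL_eq_one_iff (g : GL (Fin 2) F) : adjGL F g = 1 ↔ adj g = 1 := by
  unfold adjGL
  rw [MonoidHom.comp_apply]
  constructor
  · intro h
    have h1 : (adjHom F).toHomUnits g = 1 := by
      have := (MulEquiv.map_eq_one_iff (Matrix.GeneralLinearGroup.toLin (n := I3) (R := F)).symm).mp h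
      exact this
    have h2 := congrArg Units.val h1
    exact h2
  · intro h
    have h1 : (adjHom F).toHomUnits g = 1 := by
      apply Units.ext
      exact h
    change (Matrix.GeneralLinearGroup.toLin (n := I3) (R := F)).symm ((adjHom F).toHomUnits g) = 1
    rw [h1, map_one]

/-- Standard vectors -/
def vH (F : Type*) [Field F] : I3 → F := Sum.elim (fun _ => 1) (Sum.elim (fun _ => 0) (fun _ => 0))
def vE (F : Type*) [Field F] : I3 → F := Sum.elim (fun _ => 0) (Sum.elim (fun _ => 1) (fun _ => 0))
def vF (F : Type*) [Field F] : I3 → F := Sum.elim (fun _ => 0) (Sum.elim (fun _ => 0) (fun _ => 1))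

theorem toMat2_vH : toMat2 F (vH F) = !![1, 0; 0, -1] := by
  ext i j; fin_cases i <;> fin_cases j <;> simp [toMat2, vH]
theorem toMat2_vE : toMat2 F (vE F) = !![0, 1; 0, 0] := by
  ext i j; fin_cases i <;> fin_cases j <;> simp [toMat2, vE]
theorem toMat2_vF : toMat2 F (vF F) = !![0, 0; 1, 0] := by
  ext i j; fin_cases i <;> fin_cases j <;> simp [toMat2, vF]

/-- If `adj g v = c • v` then `g X = c X g`. -/
theorem mul_toMat2_of_adj_eq {g : GL (Fin 2) F} {c : F} {v : I3 → F} (h : adj g v = c • v) :
    g.1 * toMat2 F v = c • (toMat2 F v * g.1) := by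
  have h1 := congrArg (toMat2 F) h
  rw [toMat2_adj, conjLin_apply, map_smul] at h1
  have h2 : g.1 * toMat2 F v * (g⁻¹).1 * g.1 = c • (toMat2 F v) * g.1 := by rw [h1]
  rw [mul_assoc, ← Units.val_mul, inv_mul_cancel, Units.val_one, mul_one] at h2
  rw [h2, Matrix.smul_mul]

theorem adj_eq_one_iff (g : GL (Fin 2) F) : adj g = 1 ↔ g ∈ Subgroup.center (GL (Fin 2) F) := by
  constructor
  · intro h
    have hE : adj g (vE F) = (1 : F) • vE F := by rw [h, one_smul]; rfl
    have hF : adj g (vF F) = (1 : F) • vF F := by rw [h, one_smul]; rfl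
    have hE' := mul_toMat2_of_adj_eq hE
    have hF' := mul_toMat2_of_adj_eq hF
    rw [toMat2_vE, one_smul, Matrix.eta_fin_two g.1] at hE'
    rw [toMat2_vF, one_smul, Matrix.eta_fin_two g.1] at hF'
    have e00 := congrFun (congrFun hE' 0) 0
    have e01 := congrFun (congrFun hE' 0) 1
    have f00 := congrFun (congrFun hF' 0) 0
    simp [Matrix.mul_apply, Fin.sum_univ_two] at e00 e01 f00
    rw [GeneralLinearGroup.center_eq_range_scalar]
    have hg00 : g.1 0 0 ≠ 0 := by
      intro h0
      have hd : g.1.det ≠ 0 := by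
        have := g.det.ne_zero
        simpa using this
      apply hd
      rw [Matrix.det_fin_two, h0, ← e00]
      simp
    refine ⟨Units.mk0 (g.1 0 0) hg00, ?_⟩
    apply Units.ext
    ext i j
    fin_cases i <;> fin_cases j <;> simp [GeneralLinearGroup.scalar, ← e00, f00, e01]
  · intro h
    rw [GeneralLinearGroup.center_eq_range_scalar] at h
    obtain ⟨r, rfl⟩ := h
    apply LinearMap.ext
    intro v
    rw [adj_apply, conjLin_apply]
    have : (GeneralLinearGroup.scalar (Fin 2) r).1 * toMat2 F v * ((GeneralLinearGroup.scalar (Fin 2) r)⁻¹).1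
        = toMat2 F v := by
      rw [← map_inv]
      simp only [GeneralLinearGroup.coe_scalar]
      rw [(Matrix.scalar_commute (n := Fin 2) (r : F) (Commute.all _) (toMat2 F v)).eq, mul_assoc,
        ← map_mul]
      simp
    rw [this, ofMat2_toMat2]
    rfl

theorem adj_ne_neg (h2 : (2 : F) ≠ 0) (g : GL (Fin 2) F) : ¬ ∀ v, adj g v = -v := by
  intro h
  have hE : adj g (vE F) = (-1 : F) • vE F := by rw [h]; simp
  have hF : adj g (vF F) = (-1 : F) • vF F := by rw [h]; simp
  have hH : adj g (vH F) = (-1 : F) • vH F := by rw [h]; simp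
  have hE' := mul_toMat2_of_adj_eq hE
  have hF' := mul_toMat2_of_adj_eq hF
  have hH' := mul_toMat2_of_adj_eq hH
  rw [toMat2_vE, Matrix.eta_fin_two g.1] at hE'
  rw [toMat2_vF, Matrix.eta_fin_two g.1] at hF'
  rw [toMat2_vH, Matrix.eta_fin_two g.1] at hH'
  have e00 := congrFun (congrFun hE' 0) 0
  have e01 := congrFun (congrFun hE' 0) 1
  have f00 := congrFun (congrFun hF' 0) 0
  have h00 := congrFun (congrFun hH' 0) 0
  simp [Matrix.mul_apply, Fin.sum_univ_two] at e00 e01 f00 h00
  have hg00 : g.1 0 0 = 0 := by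
    have : 2 * g.1 0 0 = 0 := by linear_combination h00
    exact (mul_eq_zero.mp this).resolve_left h2
  have hd : g.1.det ≠ 0 := by
    have := g.det.ne_zero
    simpa using this
  apply hd
  rw [Matrix.det_fin_two, hg00, e00]
  simp

end

end Cfsg.Agent.Lib.Helper5
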