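import Mathlib
import Cfsg.Prelude.Def_Classical

set_option autoImplicit false

namespace Cfsg.Agent.Lib.Helper5

open Matrix
open scoped MatrixGroups commutatorElement

section plus4
variable {F : Type*} [Field F]

/-- Index type of the 4-dimensional plus-type form. -/
abbrev I4 : Type := Fin 2 ⊕ Fin 2

/-- The 2×2 matrix attached to a vector: `det` becomes `quadFormPlus 2`. -/
def toMat4 (F : Type*) [Field F] : (I4 → F) ≃ₗ[F] Matrix (Fin 2) (Fin 2) F where
  toFun v := !![v (.inl 0), v (.inl 1); - v (.inr 1), v (.inr 0)]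
  invFun M := Sum.elim ![M 0 0, M 0 1] ![M 1 1, - M 1 0]
  map_add' u v := by
    ext i j; fin_cases i <;> fin_cases j <;> simp [add_comm]
  map_smul' a v := by
    ext i j; fin_cases i <;> fin_cases j <;> simp
  left_inv v := by
    ext i; rcases i with i | i <;> fin_cases i <;> simp
  right_inv M := by
    ext i j; fin_cases i <;> fin_cases j <;> simp

theorem toMat4_apply (v : I4 → F) :
    toMat4 F v = !![v (.inl 0), v (.inl 1); - v (.inr 1), v (.inr 0)] := rfl

theorem det_toMat4 (v : I4 → F) : (toMat4 F v).det = Cfsg.quadFormPlus 2 F v := by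
  rw [toMat4_apply, Matrix.det_fin_two_of, Cfsg.quadFormPlus, Fin.sum_univ_two]
  ring

/-- `X ↦ g X h⁻¹` as a linear map. -/
def biLin (g h : GL (Fin 2) F) : Matrix (Fin 2) (Fin 2) F →ₗ[F] Matrix (Fin 2) (Fin 2) F where
  toFun M := g.1 * M * (h⁻¹).1
  map_add' M N := by rw [mul_add, add_mul]
  map_smul' a M := by simp

theorem biLin_apply (g h : GL (Fin 2) F) (M : Matrix (Fin 2) (Fin 2) F) :
    biLin g h M = g.1 * M * (h⁻¹).1 := rfl

/-- The action of `GL₂ × GL₂` on 2×2 matrices in coordinates. -/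
def bi (p : GL (Fin 2) F × GL (Fin 2) F) : Module.End F (I4 → F) :=
  (toMat4 F).symm.toLinearMap ∘ₗ biLin p.1 p.2 ∘ₗ (toMat4 F).toLinearMap

theorem toMat4_bi (p : GL (Fin 2) F × GL (Fin 2) F) (v : I4 → F) :
    toMat4 F (bi p v) = p.1.1 * toMat4 F v * (p.2⁻¹).1 := by
  simp [bi, biLin_apply]

theorem bi_one : bi (1 : GL (Fin 2) F × GL (Fin 2) F) = 1 := by
  apply LinearMap.ext
  intro v
  apply (toMat4 F).injective
  rw [toMat4_bi]
  simp

theorem bi_mul (p p' : GL (Fin 2) F × GL (Fin 2) F) : bi (p * p') = bi p * bi p' := by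
  apply LinearMap.ext
  intro v
  apply (toMat4 F).injective
  rw [Module.End.mul_apply, toMat4_bi, toMat4_bi, toMat4_bi]
  simp only [Prod.fst_mul, Prod.snd_mul, _root_.mul_inv_rev, Units.val_mul]
  simp only [mul_assoc]

/-- `bi` as a monoid hom. -/
def biHom (F : Type*) [Field F] : GL (Fin 2) F × GL (Fin 2) F →* Module.End F (I4 → F) where
  toFun := bi
  map_one' := bi_one
  map_mul' := bi_mul

/-- The representation `GL₂ × GL₂ → GL₄`. -/
def biGL (F : Type*) [Field F] : GL (Fin 2) F × GL (Fin 2) F →* GL I4 F :=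
  (Matrix.GeneralLinearGroup.toLin (n := I4) (R := F)).symm.toMonoidHom.comp (biHom F).toHomUnits

theorem biGL_mulVec (p : GL (Fin 2) F × GL (Fin 2) F) (v : I4 → F) :
    (biGL F p).1 *ᵥ v = bi p v := by
  have h : Matrix.GeneralLinearGroup.toLin (biGL F p) = (biHom F).toHomUnits p := by
    simp [biGL]
  have h2 : (Matrix.GeneralLinearGroup.toLin (biGL F p)).1 v = (biGL F p).1 *ᵥ v := rfl
  rw [← h2, h]
  rfl

theorem biGL_eq_one_iff (p : GL (Fin 2) F × GL (Fin 2) F) : biGL F p = 1 ↔ bi p = 1 := by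
  unfold biGL
  rw [MonoidHom.comp_apply]
  constructor
  · intro h
    have h1 : (biHom F).toHomUnits p = 1 :=
      (MulEquiv.map_eq_one_iff (Matrix.GeneralLinearGroup.toLin (n := I4) (R := F)).symm).mp h
    exact congrArg Units.val h1
  · intro h
    have h1 : (biHom F).toHomUnits p = 1 := by
      apply Units.ext
      exact h
    change (Matrix.GeneralLinearGroup.toLin (n := I4) (R := F)).symm ((biHom F).toHomUnits p) = 1
    rw [h1, map_one]

theorem quadFormPlus_bi (p : GL (Fin 2) F × GL (Fin 2) F) (hp : p.1.1.det = p.2.1.det) (v : I4 → F) :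
    Cfsg.quadFormPlus 2 F (bi p v) = Cfsg.quadFormPlus 2 F v := by
  rw [← det_toMat4, ← det_toMat4, toMat4_bi, Matrix.det_mul, Matrix.det_mul, hp, mul_right_comm,
    ← Matrix.det_mul, ← Units.val_mul, mul_inv_cancel, Units.val_one, Matrix.det_one, one_mul]

/-- `bi p = 1` iff `p = (λ, λ)` for a scalar `λ`. -/
theorem bi_eq_one_iff (p : GL (Fin 2) F × GL (Fin 2) F) :
    bi p = 1 ↔ ∃ r : Fˣ, p = (GeneralLinearGroup.scalar (Fin 2) r, GeneralLinearGroup.scalar (Fin 2) r) := by
  constructor
  · intro h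
    have key : ∀ X : Matrix (Fin 2) (Fin 2) F, p.1.1 * X = X * p.2.1 := by
      intro X
      have h1 : bi p ((toMat4 F).symm X) = (toMat4 F).symm X := by rw [h]; rfl
      have h2 := congrArg (toMat4 F) h1
      rw [toMat4_bi, LinearEquiv.apply_symm_apply] at h2
      have h3 : p.1.1 * X * (p.2⁻¹).1 * p.2.1 = X * p.2.1 := by rw [h2]
      rwa [mul_assoc, ← Units.val_mul, inv_mul_cancel, Units.val_one, mul_one] at h3
    have h12 : p.1.1 = p.2.1 := by
      have := key 1
      rwa [mul_one, one_mul] at this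
    have hE := key !![0, 1; 0, 0]
    have hF := key !![0, 0; 1, 0]
    rw [← h12, Matrix.eta_fin_two p.1.1] at hE hF
    have e00 := congrFun (congrFun hE 0) 0
    have e01 := congrFun (congrFun hE 0) 1
    have f00 := congrFun (congrFun hF 0) 0
    simp [Matrix.mul_apply, Fin.sum_univ_two] at e00 e01 f00
    have hg00 : p.1.1 0 0 ≠ 0 := by
      intro h0
      have hd : p.1.1.det ≠ 0 := by
        have := p.1.det.ne_zero
        simpa using this
      apply hd
      rw [Matrix.det_fin_two, h0, ← e00]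
      simp
    refine ⟨Units.mk0 (p.1.1 0 0) hg00, ?_⟩
    have h1 : p.1 = GeneralLinearGroup.scalar (Fin 2) (Units.mk0 (p.1.1 0 0) hg00) := by
      apply Units.ext
      ext i j
      fin_cases i <;> fin_cases j <;> simp [GeneralLinearGroup.scalar, ← e00, f00, e01]
    apply Prod.ext
    · exact h1
    · rw [← h1]
      exact (Units.ext h12).symm
  · rintro ⟨r, rfl⟩
    apply LinearMap.ext
    intro v
    apply (toMat4 F).injective
    rw [toMat4_bi]
    simp only
    rw [← map_inv]
    simp only [GeneralLinearGroup.coe_scalar]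
    rw [(Matrix.scalar_commute (n := Fin 2) (r : F) (Commute.all _) (toMat4 F v)).eq, mul_assoc,
      ← map_mul]
    simp

end plus4

end Cfsg.Agent.Lib.Helper5
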