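import Mathlib
import Cfsg.Prelude.Def_Classical
import Cfsg.Agent.Lib.Helper5.OmegaPlus4a
import Cfsg.Agent.S0264

set_option autoImplicit false

namespace Cfsg.Agent.Lib.Helper5

open Matrix
open scoped MatrixGroups commutatorElement

section plus4b
variable {F : Type*} [Field F]

/-- `δ(g,h) = det g / det h` -/
def detRatio (F : Type*) [Field F] : GL (Fin 2) F × GL (Fin 2) F →* Fˣ :=
  (GeneralLinearGroup.det.comp (MonoidHom.fst _ _)) / (GeneralLinearGroup.det.comp (MonoidHom.snd _ _))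

theorem detRatio_apply (p : GL (Fin 2) F × GL (Fin 2) F) :
    detRatio F p = GeneralLinearGroup.det p.1 / GeneralLinearGroup.det p.2 := rfl

/-- pairs with equal determinants -/
def G0 (F : Type*) [Field F] : Subgroup (GL (Fin 2) F × GL (Fin 2) F) := (detRatio F).ker

theorem mem_G0 {p : GL (Fin 2) F × GL (Fin 2) F} :
    p ∈ G0 F ↔ GeneralLinearGroup.det p.1 = GeneralLinearGroup.det p.2 := by
  rw [G0, MonoidHom.mem_ker, detRatio_apply, div_eq_one]

theorem mem_G0' {p : GL (Fin 2) F × GL (Fin 2) F} (hp : p ∈ G0 F) : p.1.1.det = p.2.1.det := by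
  have := congrArg Units.val (mem_G0.mp hp)
  simpa using this

/-- The map `G₀ → O⁺₄`. -/
def phi0 (F : Type*) [Field F] : G0 F →* Cfsg.isometryGroup F (Cfsg.quadFormPlus 2 F) :=
  ((biGL F).comp (G0 F).subtype).codRestrict _ (fun p => by
    intro u v
    change Cfsg.quadFormPlus 2 F ((biGL F p.1).1 *ᵥ u) = Cfsg.quadFormPlus 2 F u
    rw [biGL_mulVec, quadFormPlus_bi _ (mem_G0' p.2)])

theorem phi0_val (p : G0 F) : (phi0 F p).1 = biGL F p.1 := rfl

/-- diag(a, 1) -/
def dgHom (F : Type*) [Field F] : F →* Matrix (Fin 2) (Fin 2) F :=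
  (Matrix.diagonalRingHom (Fin 2) F).toMonoidHom.comp (MonoidHom.mulSingle (fun _ : Fin 2 => F) 0)

def dg (F : Type*) [Field F] : Fˣ →* GL (Fin 2) F := Units.map (dgHom F)

theorem det_dg (a : Fˣ) : GeneralLinearGroup.det (dg F a) = a := by
  apply Units.ext
  change (Matrix.diagonal (Pi.mulSingle 0 (a : F))).det = a
  rw [Matrix.det_diagonal, Fin.prod_univ_two]
  simp

/-- `g ↦ (g, diag(det g, 1))` -/
def sig1 (F : Type*) [Field F] : GL (Fin 2) F →* G0 F :=
  (MonoidHom.prod (MonoidHom.id _) ((dg F).comp GeneralLinearGroup.det)).codRestrict _ (fun g => by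
    rw [mem_G0]
    change GeneralLinearGroup.det g = GeneralLinearGroup.det (dg F (GeneralLinearGroup.det g))
    rw [det_dg])

/-- `g ↦ (diag(det g, 1), g)` -/
def sig2 (F : Type*) [Field F] : GL (Fin 2) F →* G0 F :=
  (MonoidHom.prod ((dg F).comp GeneralLinearGroup.det) (MonoidHom.id _)).codRestrict _ (fun g => by
    rw [mem_G0]
    change GeneralLinearGroup.det (dg F (GeneralLinearGroup.det g)) = GeneralLinearGroup.det g
    rw [det_dg])

/-- `SL₂ × SL₂ → G₀` -/
def iota0 (F : Type*) [Field F] : SL(2, F) × SL(2, F) →* G0 F :=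
  (MonoidHom.prodMap Matrix.SpecialLinearGroup.toGL Matrix.SpecialLinearGroup.toGL).codRestrict _
    (fun p => by
      rw [mem_G0]
      change GeneralLinearGroup.det (Matrix.SpecialLinearGroup.toGL p.1)
        = GeneralLinearGroup.det (Matrix.SpecialLinearGroup.toGL p.2)
      rw [Matrix.SpecialLinearGroup.coeToGL_det, Matrix.SpecialLinearGroup.coeToGL_det])

theorem iota0_val (p : SL(2, F) × SL(2, F)) :
    (iota0 F p).1 = (Matrix.SpecialLinearGroup.toGL p.1, Matrix.SpecialLinearGroup.toGL p.2) := rfl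

theorem iota0_eq (p : SL(2, F) × SL(2, F)) :
    iota0 F p = sig1 F (Matrix.SpecialLinearGroup.toGL p.1) * sig2 F (Matrix.SpecialLinearGroup.toGL p.2) := by
  apply Subtype.ext
  rw [Subgroup.coe_mul, iota0_val]
  change _ = ((Matrix.SpecialLinearGroup.toGL p.1, dg F (GeneralLinearGroup.det (Matrix.SpecialLinearGroup.toGL p.1)))
    * (dg F (GeneralLinearGroup.det (Matrix.SpecialLinearGroup.toGL p.2)), Matrix.SpecialLinearGroup.toGL p.2))
  rw [Matrix.SpecialLinearGroup.coeToGL_det, Matrix.SpecialLinearGroup.coeToGL_det, map_one]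
  simp

theorem mem_range_iota0 {p : G0 F} (h : GeneralLinearGroup.det p.1.1 = 1) : p ∈ (iota0 F).range := by
  have h1 : p.1.1.1.det = 1 := by
    have := congrArg Units.val h
    simpa using this
  have h2 : p.1.2.1.det = 1 := by rw [← mem_G0' p.2]; exact h1
  refine ⟨(⟨p.1.1.1, h1⟩, ⟨p.1.2.1, h2⟩), ?_⟩
  apply Subtype.ext
  rw [iota0_val]
  apply Prod.ext
  · apply Units.ext; rfl
  · apply Units.ext; rfl

theorem commutator_GL2 (hF : ∃ a : F, a ≠ 0 ∧ a ≠ 1) :
    commutator (GL (Fin 2) F) = (GeneralLinearGroup.det : GL (Fin 2) F →* Fˣ).ker :=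
  Cfsg.Agent.S0264.result 2 (fun _ => hF)

theorem commutator_G0 (hF : ∃ a : F, a ≠ 0 ∧ a ≠ 1) : commutator (G0 F) = (iota0 F).range := by
  apply le_antisymm
  · rw [commutator_def, Subgroup.commutator_le]
    intro a _ b _
    apply mem_range_iota0
    change GeneralLinearGroup.det (⁅a, b⁆ : G0 F).1.1 = 1
    have : (⁅a, b⁆ : G0 F).1.1 = ⁅a.1.1, b.1.1⁆ := rfl
    rw [this, map_commutatorElement]
    exact commutatorElement_eq_one_iff_commute.mpr (Commute.all _ _)
  · rintro _ ⟨p, rfl⟩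
    rw [iota0_eq]
    have hmem : ∀ (s : GL (Fin 2) F →* G0 F) (x : SL(2, F)),
        s (Matrix.SpecialLinearGroup.toGL x) ∈ commutator (G0 F) := by
      intro s x
      have hx : Matrix.SpecialLinearGroup.toGL x ∈ commutator (GL (Fin 2) F) := by
        rw [commutator_GL2 hF, MonoidHom.mem_ker]
        exact Matrix.SpecialLinearGroup.coeToGL_det x
      have h1 : (commutator (GL (Fin 2) F)).map s ≤ commutator (G0 F) := by
        rw [commutator_def, commutator_def, Subgroup.map_commutator]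
        exact Subgroup.commutator_mono le_top le_top
      exact h1 (Subgroup.mem_map_of_mem s hx)
    exact mul_mem (hmem _ _) (hmem _ _)

/-- `SL₂ × SL₂ → O⁺₄` -/
def psi0 (F : Type*) [Field F] : SL(2, F) × SL(2, F) →* Cfsg.isometryGroup F (Cfsg.quadFormPlus 2 F) :=
  (phi0 F).comp (iota0 F)

theorem commutator_range_phi0 (hF : ∃ a : F, a ≠ 0 ∧ a ≠ 1) :
    ⁅(phi0 F).range, (phi0 F).range⁆ = (psi0 F).range := by
  rw [MonoidHom.range_eq_map, ← Subgroup.map_commutator, ← commutator_def, commutator_G0 hF,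
    MonoidHom.map_range]
  rfl

end plus4b

end Cfsg.Agent.Lib.Helper5
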