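import Mathlib
import Cfsg.Prelude.Def_Classical
import Cfsg.Agent.Lib.Helper5.OrthTail
import Cfsg.Agent.S0289

set_option autoImplicit false

namespace Cfsg.Agent.Lib.Helper5

open QuadraticMap Matrix Cfsg

section plus
variable {F : Type*} [Field F]

/-- Reindexing `Fin m ⊕ Fin m` as `(Fin m ⊕ Fin m) ⊕ Empty`. -/
def plusEquiv (m : ℕ) (F : Type*) [Field F] :
    (Fin m ⊕ Fin m → F) ≃ₗ[F] ((Fin m ⊕ Fin m) ⊕ Empty → F) :=
  LinearEquiv.funCongrLeft F F (Equiv.sumEmpty (Fin m ⊕ Fin m) Empty)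

theorem tailForm_plusEquiv (m : ℕ) (v : Fin m ⊕ Fin m → F) :
    tailForm m (0 : QuadraticForm F (Empty → F)) (plusEquiv m F v) = quadFormPlus m F v := by
  rw [tailForm_apply]
  simp [plusEquiv, quadFormPlus, LinearEquiv.funCongrLeft_apply, LinearMap.funLeft_apply]

theorem zeroForm_nondeg : ∀ x : Empty → F, x ≠ 0 → ∃ y, polar (0 : QuadraticForm F (Empty → F)) x y ≠ 0 := by
  intro x hx
  exact absurd (Subsingleton.elim x 0) hx

variable [Fintype F]

theorem card_isoGrp_plus_zero :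
    Nat.card (isoGrp (tailForm 0 (0 : QuadraticForm F (Empty → F)))) = 1 := by
  rw [Nat.card_eq_one_iff_unique]
  refine ⟨⟨fun a b => ?_⟩, ⟨1⟩⟩
  apply Subtype.ext
  apply LinearEquiv.ext
  intro x
  ext k
  rcases k with (i | i) | t
  · exact i.elim0
  · exact i.elim0
  · exact t.elim

/-- `A_m = |O^+_{2m}(q)|`. -/
theorem card_isometryGroup_plus_eq (m : ℕ) :
    Nat.card (isometryGroup F (quadFormPlus m F)) =
      Nat.card (isoGrp (tailForm m (0 : QuadraticForm F (Empty → F)))) := by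
  rw [card_isometryGroup_eq, card_isoGrp_congr (plusEquiv m F) _ _ (tailForm_plusEquiv m)]

theorem card_isometryGroup_plus_succ (m : ℕ) :
    (Nat.card (isometryGroup F (quadFormPlus (m + 1) F)) : ℤ) =
      ((Fintype.card F : ℤ) ^ (2 * m + 1) + (Fintype.card F : ℤ) ^ (m + 1) - (Fintype.card F : ℤ) ^ m - 1) *
        (Fintype.card F : ℤ) ^ (2 * m) * Nat.card (isometryGroup F (quadFormPlus m F)) := by
  rw [card_isometryGroup_plus_eq, card_isometryGroup_plus_eq, card_isoGrp_tailForm_succ m _ zeroForm_nondeg]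
  have h1 := card_sing_congr (plusEquiv (m + 1) F) (quadFormPlus (m + 1) F)
    (tailForm (m + 1) (0 : QuadraticForm F (Empty → F))) (tailForm_plusEquiv (m + 1))
  have h2 := card_sing_add_one (quadFormPlus (m + 1) F) (by simp [quadFormPlus])
  have h3 := Cfsg.Agent.S0289.result (F := F) rfl (m + 1) (by omega)
  rw [h3] at h2
  rw [← h1]
  have hq : 1 ≤ Fintype.card F := Fintype.card_pos
  have hle : Fintype.card F ^ m ≤ Fintype.card F ^ (m + 1) := Nat.pow_le_pow_right hq (by omega)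
  have h4 : (Nat.card {u : Fin (m + 1) ⊕ Fin (m + 1) → F // u ≠ 0 ∧ quadFormPlus (m + 1) F u = 0} : ℤ) =
      (Fintype.card F : ℤ) ^ (2 * m + 1) + (Fintype.card F : ℤ) ^ (m + 1) - (Fintype.card F : ℤ) ^ m - 1 := by
    have h5 : 2 * (m + 1) - 1 = 2 * m + 1 := by omega
    rw [h5, Nat.add_sub_cancel] at h2
    have : Fintype.card F ^ m ≤ Fintype.card F ^ (2 * m + 1) + Fintype.card F ^ (m + 1) := by omega
    zify [this] at h2
    linarith
  push_cast
  rw [h4]
  simp

end plus

section plusformula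
variable {F : Type*} [Field F] [Fintype F]

theorem card_isometryGroup_plus_zero : Nat.card (isometryGroup F (quadFormPlus 0 F)) = 1 := by
  rw [card_isometryGroup_plus_eq, card_isoGrp_plus_zero]

theorem card_isometryGroup_plus_int (k : ℕ) :
    (Nat.card (isometryGroup F (quadFormPlus (k + 1) F)) : ℤ) =
      2 * (Fintype.card F : ℤ) ^ ((k + 1) * k) * ((Fintype.card F : ℤ) ^ (k + 1) - 1) *
        ∏ i ∈ Finset.range k, ((Fintype.card F : ℤ) ^ (2 * (i + 1)) - 1) := by
  induction k with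
  | zero =>
    rw [card_isometryGroup_plus_succ, card_isometryGroup_plus_zero]
    simp
    ring
  | succ k ih =>
    rw [card_isometryGroup_plus_succ, ih, Finset.prod_range_succ]
    ring

/-- The order of `GO^+_{2m}(q)`. -/
theorem card_isometryGroup_plus {q : ℕ} (hF : Fintype.card F = q) (m : ℕ) (hm : 1 ≤ m) :
    Nat.card (isometryGroup F (quadFormPlus m F)) =
      2 * q ^ (m * (m - 1)) * (q ^ m - 1) * ∏ i ∈ Finset.range (m - 1), (q ^ (2 * (i + 1)) - 1) := by
  subst hF
  obtain ⟨k, rfl⟩ : ∃ k, m = k + 1 := ⟨m - 1, by omega⟩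
  have hq : 1 ≤ Fintype.card F := Fintype.card_pos
  have h1 : ∀ n, 1 ≤ Fintype.card F ^ n := fun n => Nat.one_le_pow _ _ hq
  apply Nat.cast_injective (R := ℤ)
  rw [card_isometryGroup_plus_int, Nat.add_sub_cancel]
  push_cast [Nat.cast_sub (h1 _), Nat.cast_prod]
  rfl

end plusformula

end Cfsg.Agent.Lib.Helper5
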