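import Mathlib
import Cfsg.Prelude.Def_Classical
import Cfsg.Agent.Lib.Helper5.OmegaPlus4b
import Cfsg.Agent.Lib.Helper5.SL2Sylow
import Cfsg.Agent.Lib.Helper5.OrthPlus
import Cfsg.Agent.S0265

set_option autoImplicit false

namespace Cfsg.Agent.Lib.Helper5

open Matrix
open scoped MatrixGroups commutatorElement

section plus4c
variable {F : Type*} [Field F]

theorem phi0_ker_iff (p : G0 F) : p ∈ (phi0 F).ker ↔
    ∃ r : Fˣ, p.1 = (GeneralLinearGroup.scalar (Fin 2) r, GeneralLinearGroup.scalar (Fin 2) r) := by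
  rw [MonoidHom.mem_ker, ← bi_eq_one_iff, ← biGL_eq_one_iff]
  constructor
  · intro h; exact congrArg Subtype.val h
  · intro h; exact Subtype.ext h

/-- scalars `(λ, λ)` in `G₀` -/
def sc0 (F : Type*) [Field F] : Fˣ →* G0 F :=
  (MonoidHom.prod (GeneralLinearGroup.scalar (Fin 2)) (GeneralLinearGroup.scalar (Fin 2))).codRestrict _
    (fun r => by rw [mem_G0]; rfl)

theorem sc0_injective : Function.Injective (sc0 F) := by
  intro r s h
  have h1 := congrArg (fun p : G0 F => p.1.1.1 0 0) h
  simp [sc0] at h1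
  exact Units.ext h1

theorem sc0_range : (sc0 F).range = (phi0 F).ker := by
  ext p
  rw [phi0_ker_iff]
  constructor
  · rintro ⟨r, rfl⟩; exact ⟨r, rfl⟩
  · rintro ⟨r, hr⟩; exact ⟨r, Subtype.ext hr.symm⟩

variable [Fintype F]

theorem card_phi0_ker : Nat.card (phi0 F).ker = Nat.card Fˣ := by
  rw [← sc0_range]
  exact (Nat.card_congr (MonoidHom.ofInjective sc0_injective).toEquiv).symm

theorem detRatio_surjective : Function.Surjective (detRatio F) := by
  intro a
  refine ⟨(dg F a, 1), ?_⟩
  rw [detRatio_apply, det_dg]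
  simp

theorem card_G0_mul : Nat.card (G0 F) * Nat.card Fˣ = Nat.card (GL (Fin 2) F) * Nat.card (GL (Fin 2) F) := by
  have h1 := Subgroup.card_mul_index (detRatio F).ker
  rw [Subgroup.index_ker, MonoidHom.range_eq_top.mpr detRatio_surjective, Subgroup.card_top,
    Nat.card_prod] at h1
  exact h1

theorem card_range_phi0 : Nat.card (phi0 F).range = Nat.card SL(2, F) * Nat.card SL(2, F) := by
  have h1 : Nat.card (G0 F) = Nat.card (phi0 F).range * Nat.card (phi0 F).ker := by
    rw [Subgroup.card_eq_card_quotient_mul_card_subgroup (phi0 F).ker,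
      Nat.card_congr (QuotientGroup.quotientKerEquivRange (phi0 F)).toEquiv]
  have h2 := card_G0_mul (F := F)
  rw [h1, card_phi0_ker, Cfsg.Agent.S0265.card_GL_eq_SL_mul 2 (by norm_num)] at h2
  have hu : 0 < Nat.card Fˣ := Nat.card_pos
  have h3 : Nat.card (phi0 F).range * (Nat.card Fˣ * Nat.card Fˣ)
      = Nat.card SL(2, F) * Nat.card SL(2, F) * (Nat.card Fˣ * Nat.card Fˣ) := by
    rw [← mul_assoc, h2]; ring
  exact Nat.eq_of_mul_eq_mul_right (Nat.mul_pos hu hu) h3

theorem card_O4 : Nat.card (Cfsg.isometryGroup F (Cfsg.quadFormPlus 2 F))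
    = 2 * (Nat.card SL(2, F) * Nat.card SL(2, F)) := by
  rw [Cfsg.Agent.Lib.Helper5.card_SL2, Cfsg.Agent.Lib.Helper5.card_isometryGroup_plus rfl 2 (by norm_num)]
  simp only [Finset.range_one, Finset.prod_singleton, Nat.add_one_sub_one]
  ring

theorem index_range_phi0 : (phi0 F).range.index = 2 := by
  have h := (phi0 F).range.card_mul_index
  rw [card_O4, card_range_phi0] at h
  have hpos : 0 < Nat.card SL(2, F) * Nat.card SL(2, F) := Nat.mul_pos Nat.card_pos Nat.card_pos
  have : Nat.card SL(2, F) * Nat.card SL(2, F) * (phi0 F).range.index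
      = Nat.card SL(2, F) * Nat.card SL(2, F) * 2 := by rw [h]; ring
  exact Nat.eq_of_mul_eq_mul_left hpos this

theorem psi0_ker_iff (p : SL(2, F) × SL(2, F)) : p ∈ (psi0 F).ker ↔
    ∃ r : F, r ^ 2 = 1 ∧ p.1.1 = Matrix.scalar (Fin 2) r ∧ p.2.1 = Matrix.scalar (Fin 2) r := by
  rw [MonoidHom.mem_ker]
  change phi0 F (iota0 F p) = 1 ↔ _
  rw [← MonoidHom.mem_ker, phi0_ker_iff, iota0_val]
  constructor
  · rintro ⟨r, hr⟩
    have h1 := congrArg (fun q : GL (Fin 2) F × GL (Fin 2) F => q.1.1) hr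
    have h2 := congrArg (fun q : GL (Fin 2) F × GL (Fin 2) F => q.2.1) hr
    simp only [GeneralLinearGroup.coe_scalar] at h1 h2
    refine ⟨r, ?_, h1, h2⟩
    have hd := p.1.2
    have h1' : p.1.1 = Matrix.scalar (Fin 2) (r : F) := h1
    rw [h1', Matrix.scalar_apply, Matrix.det_diagonal, Fin.prod_univ_two] at hd
    rw [pow_two]; exact hd
  · rintro ⟨r, hr, h1, h2⟩
    have hr0 : r ≠ 0 := by
      rintro rfl
      simp at hr
    refine ⟨Units.mk0 r hr0, ?_⟩
    apply Prod.ext
    · apply Units.ext; exact h1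
    · apply Units.ext; exact h2

theorem card_psi0_ker_le : Nat.card (psi0 F).ker ≤ 2 := by
  classical
  let f : (psi0 F).ker → ({1, -1} : Finset F) := fun p => ⟨p.1.1.1 0 0, by
    obtain ⟨r, hr, h1, h2⟩ := (psi0_ker_iff p.1).mp p.2
    rw [h1]
    simp only [Matrix.scalar_apply, Matrix.diagonal_apply_eq, Finset.mem_insert, Finset.mem_singleton]
    have : (r - 1) * (r + 1) = 0 := by linear_combination hr
    rcases mul_eq_zero.mp this with h | h
    · left; linear_combination h
    · right; linear_combination h⟩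
  have hf : Function.Injective f := by
    intro p p' h
    have h0 : p.1.1.1 0 0 = p'.1.1.1 0 0 := congrArg Subtype.val h
    obtain ⟨r, hr, h1, h2⟩ := (psi0_ker_iff p.1).mp p.2
    obtain ⟨r', hr', h1', h2'⟩ := (psi0_ker_iff p'.1).mp p'.2
    rw [h1, h1'] at h0
    simp only [Matrix.scalar_apply, Matrix.diagonal_apply_eq] at h0
    subst h0
    apply Subtype.ext
    apply Prod.ext
    · apply Subtype.ext; rw [h1, h1']
    · apply Subtype.ext; rw [h2, h2']
  calc Nat.card (psi0 F).ker ≤ Nat.card ({1, -1} : Finset F) := Nat.card_le_card_of_injective f hf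
    _ = ({1, -1} : Finset F).card := Nat.card_eq_finsetCard _
    _ ≤ 2 := Finset.card_le_two

theorem index_range_psi0 : (psi0 F).range.index = 2 ∨ (psi0 F).range.index = 4 := by
  have h := (psi0 F).range.card_mul_index
  rw [card_O4] at h
  have h1 : Nat.card (SL(2, F) × SL(2, F)) = Nat.card (psi0 F).range * Nat.card (psi0 F).ker := by
    rw [Subgroup.card_eq_card_quotient_mul_card_subgroup (psi0 F).ker,
      Nat.card_congr (QuotientGroup.quotientKerEquivRange (psi0 F)).toEquiv]
  rw [Nat.card_prod] at h1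
  rw [h1] at h
  have hr : 0 < Nat.card (psi0 F).range := Nat.card_pos
  have hk : 0 < Nat.card (psi0 F).ker := Nat.card_pos
  have hk2 := card_psi0_ker_le (F := F)
  have h3 : Nat.card (psi0 F).range * (psi0 F).range.index
      = Nat.card (psi0 F).range * (2 * Nat.card (psi0 F).ker) := by rw [h]; ring
  have h4 := Nat.eq_of_mul_eq_mul_left hr h3
  rw [h4]
  have : Nat.card (psi0 F).ker = 1 ∨ Nat.card (psi0 F).ker = 2 := by omega
  rcases this with h | h <;> rw [h]
  · left; rfl
  · right; rfl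

end plus4c

end Cfsg.Agent.Lib.Helper5
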