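import Mathlib
import Cfsg.Prelude.Def_Classical
import Cfsg.Agent.Lib.Helper5.UnitaryField

set_option autoImplicit false

namespace Cfsg.Agent.Lib.Helper5

open Matrix
open scoped MatrixGroups

/-- Index type of the 4-dimensional minus-type form. -/
abbrev J4 : Type := (Fin 1 ⊕ Fin 1) ⊕ Fin 2

/-- Data realising the anisotropic binary form `z₁² + a z₁ z₂ + b z₂²` as the norm form of `K/k`. -/
structure MinusData (k K : Type*) [Field k] [Field K] (q : ℕ) (a b : k) where
  φ : k →+* K
  θ : K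
  fix : ∀ x, (φ x) ^ q = φ x
  surj : ∀ y : K, y ^ q = y → ∃ x, φ x = y
  tr : θ + θ ^ q = φ a
  nm : θ * θ ^ q = φ b
  ne : θ ^ q ≠ θ

section minus4
variable {k K : Type*} [Field k] [Field K] [Fintype K] {q : ℕ} {a b : k}

/-- conjugate transpose -/
def ctr (hK : Fintype.card K = q ^ 2) (M : Matrix (Fin 2) (Fin 2) K) : Matrix (Fin 2) (Fin 2) K :=
  (M.map (conjHom hK))ᵀ

theorem ctr_apply (hK : Fintype.card K = q ^ 2) (M : Matrix (Fin 2) (Fin 2) K) (i j : Fin 2) :
    ctr hK M i j = (M j i) ^ q := rfl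

theorem ctr_mul (hK : Fintype.card K = q ^ 2) (M N : Matrix (Fin 2) (Fin 2) K) :
    ctr hK (M * N) = ctr hK N * ctr hK M := by
  unfold ctr
  rw [Matrix.map_mul, Matrix.transpose_mul]

theorem ctr_one (hK : Fintype.card K = q ^ 2) : ctr hK (1 : Matrix (Fin 2) (Fin 2) K) = 1 := by
  unfold ctr
  rw [Matrix.map_one _ (map_zero _) (map_one _), Matrix.transpose_one]

theorem ctr_ctr (hK : Fintype.card K = q ^ 2) (M : Matrix (Fin 2) (Fin 2) K) :
    ctr hK (ctr hK M) = M := by
  ext i j
  rw [ctr_apply, ctr_apply, pow_q_pow_q hK]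

theorem ctr_add (hK : Fintype.card K = q ^ 2) (M N : Matrix (Fin 2) (Fin 2) K) :
    ctr hK (M + N) = ctr hK M + ctr hK N := by
  ext i j
  simp only [ctr_apply, Matrix.add_apply, add_pow_q hK]

theorem det_ctr (hK : Fintype.card K = q ^ 2) (M : Matrix (Fin 2) (Fin 2) K) :
    (ctr hK M).det = M.det ^ q := by
  unfold ctr
  rw [Matrix.det_transpose, ← RingHom.mapMatrix_apply, ← RingHom.map_det]
  rfl

/-- Hermitian matrices -/
def IsHerm (hK : Fintype.card K = q ^ 2) (M : Matrix (Fin 2) (Fin 2) K) : Prop := ctr hK M = M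

theorem isHerm_conj (hK : Fintype.card K = q ^ 2) (g M : Matrix (Fin 2) (Fin 2) K) (hM : IsHerm hK M) :
    IsHerm hK (g * M * ctr hK g) := by
  unfold IsHerm at *
  rw [ctr_mul, ctr_mul, ctr_ctr, hM, mul_assoc]

variable (D : MinusData k K q a b)

/-- the off-diagonal entry -/
def MinusData.zeta (v : J4 → k) : K := D.φ (v (.inr 0)) + D.φ (v (.inr 1)) * D.θ

/-- The Hermitian matrix attached to a vector. -/
def MinusData.Hm (v : J4 → k) : Matrix (Fin 2) (Fin 2) K :=
  !![D.φ (v (.inl (.inl 0))), D.zeta v; (D.zeta v) ^ q, - D.φ (v (.inl (.inr 0)))]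

theorem MinusData.zeta_add (u v : J4 → k) : D.zeta (u + v) = D.zeta u + D.zeta v := by
  simp only [MinusData.zeta, Pi.add_apply, map_add]; ring

theorem MinusData.zeta_smul (c : k) (v : J4 → k) : D.zeta (c • v) = D.φ c * D.zeta v := by
  simp only [MinusData.zeta, Pi.smul_apply, smul_eq_mul, map_mul]; ring

theorem MinusData.Hm_add (hK : Fintype.card K = q ^ 2) (u v : J4 → k) :
    D.Hm (u + v) = D.Hm u + D.Hm v := by
  ext i j
  fin_cases i <;> fin_cases j <;>
    simp [MinusData.Hm, D.zeta_add, add_pow_q hK, add_comm]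

theorem MinusData.Hm_smul (c : k) (v : J4 → k) : D.Hm (c • v) = D.φ c • D.Hm v := by
  ext i j
  fin_cases i <;> fin_cases j <;>
    simp [MinusData.Hm, D.zeta_smul, mul_pow, D.fix c]

theorem MinusData.isHerm_Hm (hK : Fintype.card K = q ^ 2) (v : J4 → k) : IsHerm hK (D.Hm v) := by
  unfold IsHerm
  ext i j
  fin_cases i <;> fin_cases j <;>
    simp [ctr_apply, MinusData.Hm, D.fix, pow_q_pow_q hK, neg_pow_q hK]

theorem MinusData.norm_zeta (hK : Fintype.card K = q ^ 2) (v : J4 → k) :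
    D.zeta v * (D.zeta v) ^ q
      = D.φ (v (.inr 0) ^ 2 + a * v (.inr 0) * v (.inr 1) + b * v (.inr 1) ^ 2) := by
  have h1 : (D.zeta v) ^ q = D.φ (v (.inr 0)) + D.φ (v (.inr 1)) * D.θ ^ q := by
    rw [MinusData.zeta, add_pow_q hK, mul_pow, D.fix, D.fix]
  rw [h1, MinusData.zeta]
  simp only [map_add, map_mul, map_pow, ← D.tr, ← D.nm]
  ring

theorem MinusData.det_Hm (hK : Fintype.card K = q ^ 2) (v : J4 → k) :
    (D.Hm v).det = - D.φ (Cfsg.quadFormMinus 1 k a b v) := by
  rw [MinusData.Hm, Matrix.det_fin_two_of, Cfsg.quadFormMinus, map_add, ← D.norm_zeta hK]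
  simp only [Finset.univ_unique, Fin.default_eq_zero, Fin.isValue, Finset.sum_singleton, map_mul]
  ring

theorem MinusData.phi_injective : Function.Injective D.φ := D.φ.injective

theorem MinusData.theta_sub_ne : D.θ - D.θ ^ q ≠ 0 := by
  intro h
  exact D.ne (sub_eq_zero.mp h).symm

/-- A left inverse of `φ`. -/
noncomputable def MinusData.rho (y : K) : k := Function.invFun D.φ y

theorem MinusData.rho_phi (x : k) : D.rho (D.φ x) = x :=
  Function.leftInverse_invFun D.phi_injective x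

theorem MinusData.phi_rho {y : K} (hy : y ^ q = y) : D.φ (D.rho y) = y := by
  obtain ⟨x, rfl⟩ := D.surj y hy
  rw [D.rho_phi]

/-- Coordinates of a (Hermitian) matrix. -/
noncomputable def MinusData.vec (M : Matrix (Fin 2) (Fin 2) K) : J4 → k :=
  Sum.elim (Sum.elim (fun _ => D.rho (M 0 0)) (fun _ => D.rho (- M 1 1)))
    ![D.rho ((D.θ * (M 0 1) ^ q - D.θ ^ q * M 0 1) / (D.θ - D.θ ^ q)),
      D.rho ((M 0 1 - (M 0 1) ^ q) / (D.θ - D.θ ^ q))]

theorem MinusData.Hm_vec (hK : Fintype.card K = q ^ 2) {M : Matrix (Fin 2) (Fin 2) K}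
    (hM : IsHerm hK M) : D.Hm (D.vec M) = M := by
  have h00 : (M 0 0) ^ q = M 0 0 := by
    have := congrFun (congrFun hM 0) 0
    rwa [ctr_apply] at this
  have h11 : (M 1 1) ^ q = M 1 1 := by
    have := congrFun (congrFun hM 1) 1
    rwa [ctr_apply] at this
  have h10 : (M 0 1) ^ q = M 1 0 := by
    have := congrFun (congrFun hM 1) 0
    rwa [ctr_apply] at this
  have hne := D.theta_sub_ne
  have hden : (D.θ - D.θ ^ q) ^ q = -(D.θ - D.θ ^ q) := by
    rw [sub_pow_q hK, pow_q_pow_q hK]; ring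
  have hfix1 : ((D.θ * (M 0 1) ^ q - D.θ ^ q * M 0 1) / (D.θ - D.θ ^ q)) ^ q
      = (D.θ * (M 0 1) ^ q - D.θ ^ q * M 0 1) / (D.θ - D.θ ^ q) := by
    rw [div_pow, hden, sub_pow_q hK, mul_pow, mul_pow, pow_q_pow_q hK, pow_q_pow_q hK]
    field_simp
    ring
  have hfix2 : ((M 0 1 - (M 0 1) ^ q) / (D.θ - D.θ ^ q)) ^ q
      = (M 0 1 - (M 0 1) ^ q) / (D.θ - D.θ ^ q) := by
    rw [div_pow, hden, sub_pow_q hK, pow_q_pow_q hK]
    field_simp
    ring
  have hz : D.zeta (D.vec M) = M 0 1 := by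
    simp only [MinusData.zeta, MinusData.vec, Sum.elim_inr, Matrix.cons_val_zero, Matrix.cons_val_one]
    rw [D.phi_rho hfix1, D.phi_rho hfix2]
    field_simp
    ring
  ext i j
  fin_cases i <;> fin_cases j
  · simp [MinusData.Hm, MinusData.vec, D.phi_rho h00]
  · simp only [MinusData.Hm]
    simpa using hz
  · simp only [MinusData.Hm]
    simp [hz, h10]
  · have : (- M 1 1) ^ q = - M 1 1 := by rw [neg_pow_q hK, h11]
    simp [MinusData.Hm, MinusData.vec, D.phi_rho this]

theorem MinusData.Hm_injective (hK : Fintype.card K = q ^ 2) : Function.Injective D.Hm := by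
  intro u v h
  have hsub : D.Hm (u - v) = 0 := by
    have := D.Hm_add hK (u - v) v
    rw [sub_add_cancel, h] at this
    exact (add_eq_right.mp this.symm)
  have h00 := congrFun (congrFun hsub 0) 0
  have h01 := congrFun (congrFun hsub 0) 1
  have h11 := congrFun (congrFun hsub 1) 1
  simp only [MinusData.Hm, Matrix.of_apply, Matrix.cons_val', Matrix.cons_val_zero,
    Matrix.cons_val_one, Matrix.zero_apply, Matrix.cons_val_fin_one] at h00 h01 h11
  have hx : (u - v) (.inl (.inl 0)) = 0 := D.phi_injective (by rw [h00, map_zero])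
  have hy : (u - v) (.inl (.inr 0)) = 0 := D.phi_injective (by rw [neg_eq_zero.mp h11, map_zero])
  have hz2 : (u - v) (.inr 1) = 0 := by
    by_contra hne
    have h1 : D.φ ((u - v) (.inr 1)) ≠ 0 := fun h => hne (D.phi_injective (by rw [h, map_zero]))
    have hθ : D.θ = - D.φ ((u - v) (.inr 0)) / D.φ ((u - v) (.inr 1)) := by
      rw [MinusData.zeta] at h01
      field_simp
      linear_combination h01
    apply D.ne
    rw [hθ, div_pow, neg_pow_q hK, D.fix, D.fix]
  have hz1 : (u - v) (.inr 0) = 0 := by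
    rw [MinusData.zeta, hz2, map_zero, zero_mul, add_zero] at h01
    exact D.phi_injective (by rw [h01, map_zero])
  have : u - v = 0 := by
    ext i
    rcases i with (i | i) | i
    · have : i = 0 := Subsingleton.elim _ _
      subst this; exact hx
    · have : i = 0 := Subsingleton.elim _ _
      subst this; exact hy
    · fin_cases i
      · exact hz1
      · exact hz2
  exact sub_eq_zero.mp this

end minus4

end Cfsg.Agent.Lib.Helper5
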