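import Mathlib
import Cfsg.Prelude.Def_Classical
import Cfsg.Agent.Lib.Helper5.OmegaMinus4a

set_option autoImplicit false

namespace Cfsg.Agent.Lib.Helper5

open Matrix
open scoped MatrixGroups

section minus4b
variable {k K : Type*} [Field k] [Field K] [Fintype K] {q : ℕ} {a b : k}
variable (D : MinusData k K q a b) (hK : Fintype.card K = q ^ 2)

/-- The action of `GL₂(K)` on `k⁴` through Hermitian matrices. -/
noncomputable def MinusData.act (g : GL (Fin 2) K) : Module.End k (J4 → k) where
  toFun v := D.vec (g.1 * D.Hm v * ctr hK g.1)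
  map_add' u v := by
    apply D.Hm_injective hK
    have hu := D.Hm_vec hK (isHerm_conj hK g.1 _ (D.isHerm_Hm hK u))
    have hv := D.Hm_vec hK (isHerm_conj hK g.1 _ (D.isHerm_Hm hK v))
    have huv := D.Hm_vec hK (isHerm_conj hK g.1 _ (D.isHerm_Hm hK (u + v)))
    rw [huv, D.Hm_add hK (D.vec _) (D.vec _), hu, hv, D.Hm_add hK u v, mul_add, add_mul]
  map_smul' c v := by
    apply D.Hm_injective hK
    have hv := D.Hm_vec hK (isHerm_conj hK g.1 _ (D.isHerm_Hm hK v))
    have hcv := D.Hm_vec hK (isHerm_conj hK g.1 _ (D.isHerm_Hm hK (c • v)))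
    rw [RingHom.id_apply, hcv, D.Hm_smul c (D.vec _), hv, D.Hm_smul c v, Matrix.mul_smul,
      Matrix.smul_mul]

theorem MinusData.Hm_act (g : GL (Fin 2) K) (v : J4 → k) :
    D.Hm (D.act hK g v) = g.1 * D.Hm v * ctr hK g.1 :=
  D.Hm_vec hK (isHerm_conj hK _ _ (D.isHerm_Hm hK _))

theorem MinusData.act_one : D.act hK (1 : GL (Fin 2) K) = 1 := by
  apply LinearMap.ext
  intro v
  apply D.Hm_injective hK
  rw [D.Hm_act]
  simp [ctr_one]

theorem MinusData.act_mul (g h : GL (Fin 2) K) : D.act hK (g * h) = D.act hK g * D.act hK h := by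
  apply LinearMap.ext
  intro v
  apply D.Hm_injective hK
  rw [Module.End.mul_apply, D.Hm_act, D.Hm_act, D.Hm_act, Units.val_mul, ctr_mul]
  simp only [mul_assoc]

/-- `act` as a monoid hom. -/
noncomputable def MinusData.actHom : GL (Fin 2) K →* Module.End k (J4 → k) where
  toFun := D.act hK
  map_one' := D.act_one hK
  map_mul' := D.act_mul hK

/-- The representation `GL₂(K) → GL₄(k)`. -/
noncomputable def MinusData.actGL : GL (Fin 2) K →* GL J4 k :=
  (Matrix.GeneralLinearGroup.toLin (n := J4) (R := k)).symm.toMonoidHom.comp (D.actHom hK).toHomUnits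

theorem MinusData.actGL_mulVec (g : GL (Fin 2) K) (v : J4 → k) :
    (D.actGL hK g).1 *ᵥ v = D.act hK g v := by
  have h : Matrix.GeneralLinearGroup.toLin (D.actGL hK g) = (D.actHom hK).toHomUnits g := by
    simp [MinusData.actGL]
  have h2 : (Matrix.GeneralLinearGroup.toLin (D.actGL hK g)).1 v = (D.actGL hK g).1 *ᵥ v := rfl
  rw [← h2, h]
  rfl

theorem MinusData.actGL_eq_one_iff (g : GL (Fin 2) K) : D.actGL hK g = 1 ↔ D.act hK g = 1 := by
  unfold MinusData.actGL
  rw [MonoidHom.comp_apply]
  constructor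
  · intro h
    have h1 : (D.actHom hK).toHomUnits g = 1 :=
      (MulEquiv.map_eq_one_iff (Matrix.GeneralLinearGroup.toLin (n := J4) (R := k)).symm).mp h
    exact congrArg Units.val h1
  · intro h
    have h1 : (D.actHom hK).toHomUnits g = 1 := by
      apply Units.ext
      exact h
    change (Matrix.GeneralLinearGroup.toLin (n := J4) (R := k)).symm ((D.actHom hK).toHomUnits g) = 1
    rw [h1, map_one]

theorem MinusData.quadFormMinus_act (g : GL (Fin 2) K) (hg : g.1.det * g.1.det ^ q = 1) (v : J4 → k) :
    Cfsg.quadFormMinus 1 k a b (D.act hK g v) = Cfsg.quadFormMinus 1 k a b v := by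
  apply D.phi_injective
  have h1 := D.det_Hm hK (D.act hK g v)
  rw [D.Hm_act, Matrix.det_mul, Matrix.det_mul, det_ctr, D.det_Hm hK] at h1
  have h2 : D.φ (Cfsg.quadFormMinus 1 k a b (D.act hK g v))
      = (g.1.det * g.1.det ^ q) * D.φ (Cfsg.quadFormMinus 1 k a b v) := by
    linear_combination h1
  rw [h2, hg, one_mul]

theorem MinusData.act_eq_one_iff (g : GL (Fin 2) K) :
    D.act hK g = 1 ↔ ∃ r : Kˣ, r ^ (q + 1) = 1 ∧ g = GeneralLinearGroup.scalar (Fin 2) r := by
  constructor
  · intro h
    have key : ∀ M : Matrix (Fin 2) (Fin 2) K, IsHerm hK M → g.1 * M * ctr hK g.1 = M := by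
      intro M hM
      have h1 : D.act hK g (D.vec M) = D.vec M := by rw [h]; rfl
      have h2 := congrArg D.Hm h1
      rwa [D.Hm_act, D.Hm_vec hK hM] at h2
    have h1 : g.1 * ctr hK g.1 = 1 := by
      have := key 1 (ctr_one hK)
      rwa [mul_one] at this
    have h1' : ctr hK g.1 * g.1 = 1 := _root_.mul_eq_one_comm.mp h1
    have key' : ∀ M : Matrix (Fin 2) (Fin 2) K, IsHerm hK M → g.1 * M = M * g.1 := by
      intro M hM
      have h3 : g.1 * M * ctr hK g.1 * g.1 = M * g.1 := by rw [key M hM]
      rwa [mul_assoc, h1', mul_one] at h3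
    have hE : IsHerm hK !![1, 0; 0, 0] := by
      unfold IsHerm
      ext i j
      fin_cases i <;> fin_cases j <;> simp [ctr_apply]
      all_goals
        have := two_le_of_card_eq_sq hK
        omega
    have hS : IsHerm hK !![0, 1; 1, 0] := by
      unfold IsHerm
      ext i j
      fin_cases i <;> fin_cases j <;> simp [ctr_apply]
      all_goals
        have := two_le_of_card_eq_sq hK
        omega
    have eE := key' _ hE
    have eS := key' _ hS
    rw [Matrix.eta_fin_two g.1] at eE eS
    have e01 := congrFun (congrFun eE 0) 1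
    have e10 := congrFun (congrFun eE 1) 0
    have s00 := congrFun (congrFun eS 0) 1
    simp [Matrix.mul_apply, Fin.sum_univ_two] at e01 e10 s00
    have hg00 : g.1 0 0 ≠ 0 := by
      intro h0
      have hd : g.1.det ≠ 0 := by
        have := g.det.ne_zero
        simpa using this
      apply hd
      rw [Matrix.det_fin_two, h0, e10]
      simp
    have hscal : g = GeneralLinearGroup.scalar (Fin 2) (Units.mk0 (g.1 0 0) hg00) := by
      apply Units.ext
      ext i j
      fin_cases i <;> fin_cases j <;> simp [GeneralLinearGroup.scalar, ← e01, e10, s00]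
    refine ⟨Units.mk0 (g.1 0 0) hg00, ?_, hscal⟩
    apply Units.ext
    have h00 := congrFun (congrFun h1 0) 0
    rw [Matrix.mul_apply, Fin.sum_univ_two, ctr_apply, ctr_apply, ← e01] at h00
    simp only [zero_mul, add_zero, Matrix.one_apply_eq] at h00
    rw [Units.val_pow_eq_pow_val, Units.val_mk0, Units.val_one, pow_succ, mul_comm]
    exact h00
  · rintro ⟨r, hr, rfl⟩
    apply LinearMap.ext
    intro v
    apply D.Hm_injective hK
    rw [D.Hm_act]
    simp only [GeneralLinearGroup.coe_scalar, Module.End.one_apply]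
    have hr' : (r : K) * (r : K) ^ q = 1 := by
      have := congrArg Units.val hr
      rw [Units.val_pow_eq_pow_val, Units.val_one, pow_succ, mul_comm] at this
      exact this
    have h1 : ctr hK (Matrix.scalar (Fin 2) (r : K)) = Matrix.scalar (Fin 2) ((r : K) ^ q) := by
      ext i j
      rw [ctr_apply]
      fin_cases i <;> fin_cases j <;> simp
      all_goals
        have := two_le_of_card_eq_sq hK
        omega
    rw [h1, (Matrix.scalar_commute (n := Fin 2) (r : K) (Commute.all _) (D.Hm v)).eq, mul_assoc,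
      ← map_mul, hr', map_one, mul_one]

end minus4b

end Cfsg.Agent.Lib.Helper5
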