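import Mathlib
import Cfsg.Prelude.Def_Classical
import Cfsg.Agent.Lib.Helper5.OmegaMinus4b
import Cfsg.Agent.Lib.Helper5.SL2Sylow
import Cfsg.Agent.S0265
import Cfsg.Agent.S0288

set_option autoImplicit false

namespace Cfsg.Agent.Lib.Helper5

open Matrix
open scoped MatrixGroups commutatorElement

section minus4c0
variable {K : Type*} [Field K] {q : ℕ}

/-- `η(g) = (det g)^(q+1)` -/
def etaHom (K : Type*) [Field K] (q : ℕ) : GL (Fin 2) K →* Kˣ :=
  (powMonoidHom (q + 1)).comp GeneralLinearGroup.det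

/-- matrices whose determinant has norm one -/
def G1 (K : Type*) [Field K] (q : ℕ) : Subgroup (GL (Fin 2) K) := (etaHom K q).ker

theorem mem_G1 {g : GL (Fin 2) K} : g ∈ G1 K q ↔ (GeneralLinearGroup.det g) ^ (q + 1) = 1 := Iff.rfl

theorem mem_G1' {g : GL (Fin 2) K} (hg : g ∈ G1 K q) : g.1.det * g.1.det ^ q = 1 := by
  have := congrArg Units.val (mem_G1.mp hg)
  rw [Units.val_pow_eq_pow_val, Units.val_one, pow_succ, mul_comm] at this
  simpa using this

theorem det_scalar2 (r : Kˣ) : GeneralLinearGroup.det (GeneralLinearGroup.scalar (Fin 2) r) = r ^ 2 := by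
  apply Units.ext
  simp [GeneralLinearGroup.scalar, Matrix.det_diagonal, Fin.prod_univ_two, pow_two]

/-- norm-one scalars in `G₁` -/
def sc1 (K : Type*) [Field K] (q : ℕ) : (powMonoidHom (q + 1) : Kˣ →* Kˣ).ker →* G1 K q :=
  ((GeneralLinearGroup.scalar (Fin 2)).comp (Subgroup.subtype _)).codRestrict _ (fun r => by
    rw [mem_G1]
    change (GeneralLinearGroup.det (GeneralLinearGroup.scalar (Fin 2) r.1)) ^ (q + 1) = 1
    have hr : (r.1 : Kˣ) ^ (q + 1) = 1 := r.2
    rw [det_scalar2, ← pow_mul, mul_comm, pow_mul, hr, one_pow])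

theorem sc1_val (r : (powMonoidHom (q + 1) : Kˣ →* Kˣ).ker) :
    (sc1 K q r).1 = GeneralLinearGroup.scalar (Fin 2) r.1 := rfl

theorem sc1_injective : Function.Injective (sc1 K q) := by
  intro r s h
  have h1 := congrArg (fun p : G1 K q => p.1.1 0 0) h
  simp only [sc1_val, GeneralLinearGroup.coe_scalar, Matrix.scalar_apply, Matrix.diagonal_apply_eq] at h1
  exact Subtype.ext (Units.ext h1)

/-- `SL₂(K) → G₁` -/
def iota1 (K : Type*) [Field K] (q : ℕ) : SL(2, K) →* G1 K q :=
  (Matrix.SpecialLinearGroup.toGL).codRestrict _ (fun s => by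
    rw [mem_G1, Matrix.SpecialLinearGroup.coeToGL_det, one_pow])

theorem iota1_val (s : SL(2, K)) : (iota1 K q s).1 = Matrix.SpecialLinearGroup.toGL s := rfl

theorem mem_range_iota1 {g : G1 K q} (h : GeneralLinearGroup.det g.1 = 1) : g ∈ (iota1 K q).range := by
  have h1 : g.1.1.det = 1 := by
    have := congrArg Units.val h
    simpa using this
  refine ⟨(⟨g.1.1, h1⟩ : SL(2, K)), ?_⟩
  apply Subtype.ext
  apply Units.ext
  rfl

theorem commutator_G1 (hperf : commutator SL(2, K) = ⊤) : commutator (G1 K q) = (iota1 K q).range := by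
  apply le_antisymm
  · rw [commutator_def, Subgroup.commutator_le]
    intro x _ y _
    apply mem_range_iota1
    have : (⁅x, y⁆ : G1 K q).1 = ⁅x.1, y.1⁆ := rfl
    rw [this, map_commutatorElement]
    exact commutatorElement_eq_one_iff_commute.mpr (Commute.all _ _)
  · rw [MonoidHom.range_eq_map, ← hperf, commutator_def, Subgroup.map_commutator, commutator_def]
    exact Subgroup.commutator_mono le_top le_top

end minus4c0

section minus4c
variable {k K : Type*} [Field k] [Field K] [Fintype K] {q : ℕ} {a b : k}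
variable (D : MinusData k K q a b) (hK : Fintype.card K = q ^ 2)

/-- The map `G₁ → O⁻₄`. -/
noncomputable def MinusData.phi1 : G1 K q →* Cfsg.isometryGroup k (Cfsg.quadFormMinus 1 k a b) :=
  ((D.actGL hK).comp (G1 K q).subtype).codRestrict _ (fun g => by
    intro u v
    change Cfsg.quadFormMinus 1 k a b ((D.actGL hK g.1).1 *ᵥ u) = Cfsg.quadFormMinus 1 k a b u
    rw [D.actGL_mulVec, D.quadFormMinus_act hK _ (mem_G1' g.2)])

theorem MinusData.phi1_val (g : G1 K q) : (D.phi1 hK g).1 = D.actGL hK g.1 := rfl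

theorem MinusData.phi1_ker_iff (g : G1 K q) : g ∈ (D.phi1 hK).ker ↔
    ∃ r : Kˣ, r ^ (q + 1) = 1 ∧ g.1 = GeneralLinearGroup.scalar (Fin 2) r := by
  rw [MonoidHom.mem_ker, ← D.act_eq_one_iff hK, ← D.actGL_eq_one_iff hK]
  constructor
  · intro h; exact congrArg Subtype.val h
  · intro h; exact Subtype.ext h

theorem MinusData.sc1_range : (sc1 K q).range = (D.phi1 hK).ker := by
  ext p
  rw [D.phi1_ker_iff hK]
  constructor
  · rintro ⟨r, rfl⟩; exact ⟨r.1, r.2, rfl⟩
  · rintro ⟨r, hr, hp⟩; exact ⟨⟨r, hr⟩, Subtype.ext hp.symm⟩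

theorem MinusData.card_phi1_ker : Nat.card (D.phi1 hK).ker = q + 1 := by
  rw [← D.sc1_range hK]
  have := (Nat.card_congr (MonoidHom.ofInjective (sc1_injective (K := K) (q := q))).toEquiv).symm
  rw [this]
  exact card_ker_pow_q_add_one hK

theorem card_G1_mul (hK : Fintype.card K = q ^ 2) : Nat.card (G1 K q) * (q - 1) = Nat.card (GL (Fin 2) K) := by
  have h1 := Subgroup.card_mul_index (etaHom K q).ker
  rw [Subgroup.index_ker] at h1
  have h2 : (etaHom K q).range = (powMonoidHom (q + 1) : Kˣ →* Kˣ).range := by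
    unfold etaHom
    rw [MonoidHom.range_comp, MonoidHom.range_eq_top.mpr GeneralLinearGroup.det_surjective,
      ← MonoidHom.range_eq_map]
  rw [h2, range_pow_q_add_one hK, IsCyclic.card_powMonoidHom_ker, card_units_eq_sq_sub_one hK] at h1
  have h3 : (q ^ 2 - 1).gcd (q - 1) = q - 1 :=
    Nat.gcd_eq_right ⟨q + 1, by rw [← q_add_one_mul_q_sub_one hK, mul_comm]⟩
  rw [h3] at h1
  exact h1

theorem MinusData.card_range_phi1 : Nat.card (D.phi1 hK).range = Nat.card SL(2, K) := by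
  have h1 : Nat.card (G1 K q) = Nat.card (D.phi1 hK).range * Nat.card (D.phi1 hK).ker := by
    rw [Subgroup.card_eq_card_quotient_mul_card_subgroup (D.phi1 hK).ker,
      Nat.card_congr (QuotientGroup.quotientKerEquivRange (D.phi1 hK)).toEquiv]
  have h2 := card_G1_mul (K := K) hK
  rw [h1, D.card_phi1_ker hK, Cfsg.Agent.S0265.card_GL_eq_SL_mul 2 (by norm_num),
    card_units_eq_sq_sub_one hK, ← q_add_one_mul_q_sub_one hK] at h2
  have hq := two_le_of_card_eq_sq hK
  have hpos : 0 < (q + 1) * (q - 1) := Nat.mul_pos (by omega) (by omega)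
  have h3 : Nat.card (D.phi1 hK).range * ((q + 1) * (q - 1))
      = Nat.card SL(2, K) * ((q + 1) * (q - 1)) := by
    rw [← h2]; ring
  exact Nat.eq_of_mul_eq_mul_right hpos h3

theorem card_O4m [Fintype k] (hk : Fintype.card k = q) (hK : Fintype.card K = q ^ 2)
    (hab : ∀ z₁ z₂ : k, z₁ ^ 2 + a * z₁ * z₂ + b * z₂ ^ 2 = 0 → z₁ = 0 ∧ z₂ = 0) :
    Nat.card (Cfsg.isometryGroup k (Cfsg.quadFormMinus 1 k a b)) = 2 * Nat.card SL(2, K) := by
  have h1 := Cfsg.Agent.S0288.result hk 2 (by norm_num) a b hab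
  have h1' : Nat.card (Cfsg.isometryGroup k (Cfsg.quadFormMinus 1 k a b))
      = 2 * q ^ (2 * (2 - 1)) * (q ^ 2 + 1) * ∏ i ∈ Finset.range (2 - 1), (q ^ (2 * (i + 1)) - 1) := h1
  rw [h1', Cfsg.Agent.Lib.Helper5.card_SL2, hK]
  simp only [Nat.add_one_sub_one, Finset.range_one, Finset.prod_singleton, zero_add, mul_one]
  have hq := two_le_of_card_eq_sq hK
  obtain ⟨r, hr⟩ : ∃ r, q ^ 2 = r + 1 := ⟨q ^ 2 - 1, by
    have : 1 ≤ q ^ 2 := Nat.one_le_pow _ _ (by omega)
    omega⟩
  rw [hr]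
  have : (r + 1) ^ 2 - 1 = (r + 1 + 1) * r := by
    have : (r + 1) ^ 2 = (r + 1 + 1) * r + 1 := by ring
    rw [this]; rfl
  rw [this]
  simp only [Nat.add_one_sub_one]
  ring

theorem MinusData.index_range_phi1 [Fintype k] (hk : Fintype.card k = q)
    (hab : ∀ z₁ z₂ : k, z₁ ^ 2 + a * z₁ * z₂ + b * z₂ ^ 2 = 0 → z₁ = 0 ∧ z₂ = 0) :
    (D.phi1 hK).range.index = 2 := by
  have h := (D.phi1 hK).range.card_mul_index
  rw [card_O4m hk hK hab, D.card_range_phi1 hK] at h
  have hpos : 0 < Nat.card SL(2, K) := Nat.card_pos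
  have : Nat.card SL(2, K) * (D.phi1 hK).range.index = Nat.card SL(2, K) * 2 := by rw [h]; ring
  exact Nat.eq_of_mul_eq_mul_left hpos this

/-- `SL₂(K) → O⁻₄(k)` -/
noncomputable def MinusData.psi1 : SL(2, K) →* Cfsg.isometryGroup k (Cfsg.quadFormMinus 1 k a b) :=
  (D.phi1 hK).comp (iota1 K q)

theorem MinusData.commutator_range_phi1 (hperf : commutator SL(2, K) = ⊤) :
    ⁅(D.phi1 hK).range, (D.phi1 hK).range⁆ = (D.psi1 hK).range := by
  rw [MonoidHom.range_eq_map, ← Subgroup.map_commutator, ← commutator_def, commutator_G1 hperf,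
    MonoidHom.map_range]
  rfl

theorem MinusData.psi1_ker_iff (s : SL(2, K)) : s ∈ (D.psi1 hK).ker →
    ∃ r : K, r ^ 2 = 1 ∧ s.1 = Matrix.scalar (Fin 2) r := by
  rw [MonoidHom.mem_ker]
  change D.phi1 hK (iota1 K q s) = 1 → _
  rw [← MonoidHom.mem_ker, D.phi1_ker_iff hK, iota1_val]
  rintro ⟨r, _, hr⟩
  have h1 : s.1 = Matrix.scalar (Fin 2) (r : K) := by
    have := congrArg (fun g : GL (Fin 2) K => g.1) hr
    simpa using this
  refine ⟨r, ?_, h1⟩
  have hd := s.2
  rw [h1, Matrix.scalar_apply, Matrix.det_diagonal, Fin.prod_univ_two] at hd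
  rw [pow_two]; exact hd

theorem MinusData.card_psi1_ker_le : Nat.card (D.psi1 hK).ker ≤ 2 := by
  classical
  let f : (D.psi1 hK).ker → ({1, -1} : Finset K) := fun p => ⟨p.1.1 0 0, by
    obtain ⟨r, hr, h1⟩ := D.psi1_ker_iff hK p.1 p.2
    rw [h1]
    simp only [Matrix.scalar_apply, Matrix.diagonal_apply_eq, Finset.mem_insert, Finset.mem_singleton]
    have : (r - 1) * (r + 1) = 0 := by linear_combination hr
    rcases mul_eq_zero.mp this with h | h
    · left; linear_combination h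
    · right; linear_combination h⟩
  have hf : Function.Injective f := by
    intro p p' h
    have h0 : p.1.1 0 0 = p'.1.1 0 0 := congrArg Subtype.val h
    obtain ⟨r, hr, h1⟩ := D.psi1_ker_iff hK p.1 p.2
    obtain ⟨r', hr', h1'⟩ := D.psi1_ker_iff hK p'.1 p'.2
    rw [h1, h1'] at h0
    simp only [Matrix.scalar_apply, Matrix.diagonal_apply_eq] at h0
    subst h0
    apply Subtype.ext
    apply Subtype.ext; rw [h1, h1']
  calc Nat.card (D.psi1 hK).ker ≤ Nat.card ({1, -1} : Finset K) := Nat.card_le_card_of_injective f hf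
    _ = ({1, -1} : Finset K).card := Nat.card_eq_finsetCard _
    _ ≤ 2 := Finset.card_le_two

theorem MinusData.index_range_psi1 [Fintype k] (hk : Fintype.card k = q)
    (hab : ∀ z₁ z₂ : k, z₁ ^ 2 + a * z₁ * z₂ + b * z₂ ^ 2 = 0 → z₁ = 0 ∧ z₂ = 0) :
    (D.psi1 hK).range.index = 2 ∨ (D.psi1 hK).range.index = 4 := by
  have h := (D.psi1 hK).range.card_mul_index
  rw [card_O4m hk hK hab] at h
  have h1 : Nat.card SL(2, K) = Nat.card (D.psi1 hK).range * Nat.card (D.psi1 hK).ker := by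
    rw [Subgroup.card_eq_card_quotient_mul_card_subgroup (D.psi1 hK).ker,
      Nat.card_congr (QuotientGroup.quotientKerEquivRange (D.psi1 hK)).toEquiv]
  rw [h1] at h
  have hr : 0 < Nat.card (D.psi1 hK).range := Nat.card_pos
  have hk' : 0 < Nat.card (D.psi1 hK).ker := Nat.card_pos
  have hk2 := D.card_psi1_ker_le hK
  have h3 : Nat.card (D.psi1 hK).range * (D.psi1 hK).range.index
      = Nat.card (D.psi1 hK).range * (2 * Nat.card (D.psi1 hK).ker) := by rw [h]; ring
  have h4 := Nat.eq_of_mul_eq_mul_left hr h3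
  rw [h4]
  have : Nat.card (D.psi1 hK).ker = 1 ∨ Nat.card (D.psi1 hK).ker = 2 := by omega
  rcases this with h | h <;> rw [h]
  · left; rfl
  · right; rfl

end minus4c

end Cfsg.Agent.Lib.Helper5
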