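import Mathlib
import Cfsg.Prelude.Def_Classical
import Cfsg.Agent.Lib.Helper5.OmegaMinus4a
import Cfsg.Agent.Lib.Helper5.UnitarySU2b

set_option autoImplicit false

namespace Cfsg.Agent.Lib.Helper5

open Polynomial

section exist
variable {k K : Type*} [Field k] [Fintype k] [Field K] [Fintype K] {q : ℕ}

/-- `X² - aX + b` -/
noncomputable def quadPoly (a b : k) : k[X] := X ^ 2 - C a * X + C b

theorem quadPoly_monic (a b : k) : (quadPoly a b).Monic := by
  unfold quadPoly
  have : (X : k[X]) ^ 2 - C a * X + C b = X ^ 2 + (- C a * X + C b) := by ring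
  rw [this]
  apply Polynomial.monic_X_pow_add
  rw [← C_neg]
  calc (C (-a) * X + C b).degree ≤ 1 := Polynomial.degree_linear_le
    _ < ((2 : ℕ) : WithBot ℕ) := by norm_num

theorem quadPoly_natDegree (a b : k) : (quadPoly a b).natDegree = 2 := by
  unfold quadPoly
  have : (X : k[X]) ^ 2 - C a * X + C b = X ^ 2 + (- C a * X + C b) := by ring
  rw [this, ← C_neg]
  have hd : (C (-a) * X + C b).degree < ((2 : ℕ) : WithBot ℕ) :=
    calc (C (-a) * X + C b).degree ≤ 1 := Polynomial.degree_linear_le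
      _ < ((2 : ℕ) : WithBot ℕ) := by norm_num
  have hm := Polynomial.monic_X_pow_add hd
  apply Polynomial.natDegree_eq_of_degree_eq_some
  rw [Polynomial.degree_add_eq_left_of_degree_lt (by rw [degree_X_pow]; exact hd), degree_X_pow]

theorem quadPoly_eval (a b r : k) : (quadPoly a b).eval r = r ^ 2 - a * r + b := by
  simp [quadPoly]

theorem quadPoly_eval₂ {R : Type*} [CommRing R] (f : k →+* R) (x : R) (a b : k) :
    (quadPoly a b).eval₂ f x = x ^ 2 - f a * x + f b := by
  simp [quadPoly, eval₂_add, eval₂_sub, eval₂_mul, eval₂_pow]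

theorem quadPoly_irreducible {a b : k}
    (hab : ∀ z₁ z₂ : k, z₁ ^ 2 + a * z₁ * z₂ + b * z₂ ^ 2 = 0 → z₁ = 0 ∧ z₂ = 0) :
    Irreducible (quadPoly a b) := by
  rw [(quadPoly_monic a b).irreducible_iff_roots_eq_zero_of_degree_le_three
    (by rw [quadPoly_natDegree]) (by rw [quadPoly_natDegree]; norm_num)]
  rw [Multiset.eq_zero_iff_forall_notMem]
  intro r hr
  rw [mem_roots (quadPoly_monic a b).ne_zero, IsRoot.def, quadPoly_eval] at hr
  have := hab (-r) 1 (by linear_combination hr)
  exact one_ne_zero this.2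

theorem exists_minusData (hk : Fintype.card k = q) (hK : Fintype.card K = q ^ 2) {a b : k}
    (hab : ∀ z₁ z₂ : k, z₁ ^ 2 + a * z₁ * z₂ + b * z₂ ^ 2 = 0 → z₁ = 0 ∧ z₂ = 0) :
    Nonempty (MinusData k K q a b) := by
  haveI : Fact (Irreducible (quadPoly a b)) := ⟨quadPoly_irreducible hab⟩
  let L := AdjoinRoot (quadPoly a b)
  let pb := AdjoinRoot.powerBasis' (quadPoly_monic a b)
  haveI : Module.Finite k L := pb.finite
  haveI : Finite L := Module.finite_of_finite k
  letI : Fintype L := Fintype.ofFinite L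
  have hfr : Module.finrank k L = 2 := by
    rw [pb.finrank]
    exact quadPoly_natDegree a b
  have hcardL : Fintype.card L = q ^ 2 := by
    rw [Module.card_eq_pow_finrank (K := k) (V := L), hfr, hk]
  let e : L ≃+* K := FiniteField.ringEquivOfCardEq (by rw [hcardL, hK])
  obtain ⟨φ, hφ⟩ : ∃ φ : k →+* K, ∀ x, φ x = e (AdjoinRoot.of (quadPoly a b) x) :=
    ⟨e.toRingHom.comp (AdjoinRoot.of (quadPoly a b)), fun _ => rfl⟩
  obtain ⟨θ, hθ⟩ : ∃ θ : K, θ = e (AdjoinRoot.root (quadPoly a b)) := ⟨_, rfl⟩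
  have hroot : θ ^ 2 - φ a * θ + φ b = 0 := by
    have h1 := AdjoinRoot.eval₂_root (quadPoly a b)
    rw [quadPoly_eval₂] at h1
    have h3 := congrArg e h1
    rw [map_add, map_sub, map_mul, map_pow, map_zero, ← hφ, ← hφ, ← hθ] at h3
    exact h3
  have hfix : ∀ x, (φ x) ^ q = φ x := by
    intro x
    rw [← map_pow, ← hk, FiniteField.pow_card]
  have hsurj : ∀ y : K, y ^ q = y → ∃ x, φ x = y := by
    intro y hy
    let f : k → {y : K // y ^ q = y} := fun x => ⟨φ x, hfix x⟩
    have hf : Function.Injective f := by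
      intro x x' h
      exact φ.injective (congrArg Subtype.val h)
    have hcard : Nat.card {y : K // y ^ q = y} = Nat.card k := by
      rw [card_fixed hK, Nat.card_eq_fintype_card, hk]
    have hbij : Function.Bijective f := by
      haveI : Finite {y : K // y ^ q = y} := inferInstance
      exact (Function.Injective.bijective_of_nat_card_le hf (le_of_eq hcard))
    obtain ⟨x, hx⟩ := hbij.2 ⟨y, hy⟩
    exact ⟨x, congrArg Subtype.val hx⟩
  have hne : θ ^ q ≠ θ := by
    intro h
    obtain ⟨r, hr⟩ := hsurj θ h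
    rw [← hr] at hroot
    have : φ (r ^ 2 - a * r + b) = 0 := by
      rw [map_add, map_sub, map_mul, map_pow]; exact hroot
    have h0 : r ^ 2 - a * r + b = 0 := φ.injective (by rw [this, map_zero])
    have := hab (-r) 1 (by linear_combination h0)
    exact one_ne_zero this.2
  have hroot' : (θ ^ q) ^ 2 - φ a * θ ^ q + φ b = 0 := by
    have h1 : (θ ^ 2 - φ a * θ + φ b) ^ q = 0 ^ q := by rw [hroot]
    rw [add_pow_q hK, sub_pow_q hK, mul_pow, hfix, hfix, ← pow_mul, mul_comm 2 q, pow_mul,
      zero_pow (by have := two_le_of_card_eq_sq hK; omega)] at h1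
    exact h1
  have htr : θ + θ ^ q = φ a := by
    have h1 : (θ - θ ^ q) * (θ + θ ^ q - φ a) = 0 := by linear_combination hroot - hroot'
    rcases mul_eq_zero.mp h1 with h | h
    · exact absurd (sub_eq_zero.mp h).symm hne
    · exact sub_eq_zero.mp h
  have hnm : θ * θ ^ q = φ b := by
    have : θ ^ q = φ a - θ := by linear_combination htr
    rw [this]
    linear_combination (-1 : K) * hroot
  exact ⟨⟨φ, θ, hfix, hsurj, htr, hnm, hne⟩⟩

end exist

end Cfsg.Agent.Lib.Helper5
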