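import Mathlib
import Cfsg.Prelude.Def_Classical

set_option autoImplicit false

namespace Cfsg.Agent.Lib.Helper5

open Matrix
open scoped MatrixGroups

section plus6
variable {F : Type*} [Field F]

/-- Index type of the 6-dimensional plus-type form. -/
abbrev I6 : Type := Fin 3 ⊕ Fin 3

/-- The Pfaffian of a 4×4 matrix (read off the upper triangle). -/
def pf4 (A : Matrix (Fin 4) (Fin 4) F) : F := A 0 1 * A 2 3 - A 0 2 * A 1 3 + A 0 3 * A 1 2

/-- alternating matrices -/
def IsAlt4 (A : Matrix (Fin 4) (Fin 4) F) : Prop := Aᵀ = -A ∧ ∀ i, A i i = 0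

set_option maxHeartbeats 4000000 in
theorem pf4_conj (g A : Matrix (Fin 4) (Fin 4) F) (hA : IsAlt4 A) :
    pf4 (g * A * gᵀ) = g.det * pf4 A := by
  obtain ⟨hA, hd⟩ := hA
  have h10 : A 1 0 = - A 0 1 := by have := congrFun (congrFun hA 0) 1; simpa using this
  have h20 : A 2 0 = - A 0 2 := by have := congrFun (congrFun hA 0) 2; simpa using this
  have h30 : A 3 0 = - A 0 3 := by have := congrFun (congrFun hA 0) 3; simpa using this
  have h21 : A 2 1 = - A 1 2 := by have := congrFun (congrFun hA 1) 2; simpa using this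
  have h31 : A 3 1 = - A 1 3 := by have := congrFun (congrFun hA 1) 3; simpa using this
  have h32 : A 3 2 = - A 2 3 := by have := congrFun (congrFun hA 2) 3; simpa using this
  simp only [pf4, Matrix.mul_apply, Matrix.transpose_apply, Matrix.det_succ_row_zero,
    Fin.sum_univ_succ, Matrix.submatrix_apply]
  simp [Fin.succAbove, h10, h20, h30, h21, h31, h32, hd]
  ring

/-- The alternating matrix attached to a vector. -/
def altLin (F : Type*) [Field F] : (I6 → F) →ₗ[F] Matrix (Fin 4) (Fin 4) F where
  toFun v := !![0, v (.inl 0), v (.inl 1), v (.inl 2);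
                - v (.inl 0), 0, v (.inr 2), - v (.inr 1);
                - v (.inl 1), - v (.inr 2), 0, v (.inr 0);
                - v (.inl 2), v (.inr 1), - v (.inr 0), 0]
  map_add' u v := by
    ext i j; fin_cases i <;> fin_cases j <;> simp [add_comm]
  map_smul' a v := by
    ext i j; fin_cases i <;> fin_cases j <;> simp

theorem altLin_apply (v : I6 → F) : altLin F v =
    !![0, v (.inl 0), v (.inl 1), v (.inl 2);
       - v (.inl 0), 0, v (.inr 2), - v (.inr 1);
       - v (.inl 1), - v (.inr 2), 0, v (.inr 0);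
       - v (.inl 2), v (.inr 1), - v (.inr 0), 0] := rfl

/-- Coordinates of a matrix. -/
def vecLin (F : Type*) [Field F] : Matrix (Fin 4) (Fin 4) F →ₗ[F] (I6 → F) where
  toFun M := Sum.elim ![M 0 1, M 0 2, M 0 3] ![M 2 3, - M 1 3, M 1 2]
  map_add' M N := by
    ext i; rcases i with i | i <;> fin_cases i <;> simp [add_comm]
  map_smul' a M := by
    ext i; rcases i with i | i <;> fin_cases i <;> simp

theorem vecLin_altLin (v : I6 → F) : vecLin F (altLin F v) = v := by
  ext i; rcases i with i | i <;> fin_cases i <;> simp [vecLin, altLin_apply]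

theorem isAlt4_altLin (v : I6 → F) : IsAlt4 (altLin F v) := by
  constructor
  · ext i j; fin_cases i <;> fin_cases j <;> simp [altLin_apply]
  · intro i; fin_cases i <;> simp [altLin_apply]

theorem altLin_vecLin {M : Matrix (Fin 4) (Fin 4) F} (hM : IsAlt4 M) : altLin F (vecLin F M) = M := by
  obtain ⟨hA, hd⟩ := hM
  have h10 : M 1 0 = - M 0 1 := by have := congrFun (congrFun hA 0) 1; simpa using this
  have h20 : M 2 0 = - M 0 2 := by have := congrFun (congrFun hA 0) 2; simpa using this
  have h30 : M 3 0 = - M 0 3 := by have := congrFun (congrFun hA 0) 3; simpa using this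
  have h21 : M 2 1 = - M 1 2 := by have := congrFun (congrFun hA 1) 2; simpa using this
  have h31 : M 3 1 = - M 1 3 := by have := congrFun (congrFun hA 1) 3; simpa using this
  have h32 : M 3 2 = - M 2 3 := by have := congrFun (congrFun hA 2) 3; simpa using this
  ext i j
  fin_cases i <;> fin_cases j <;> simp [altLin_apply, vecLin, hd, h10, h20, h30, h21, h31, h32]

theorem pf4_altLin (v : I6 → F) : pf4 (altLin F v) = Cfsg.quadFormPlus 3 F v := by
  simp [pf4, altLin_apply, Cfsg.quadFormPlus, Fin.sum_univ_three]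

theorem isAlt4_conj (g A : Matrix (Fin 4) (Fin 4) F) (hA : IsAlt4 A) : IsAlt4 (g * A * gᵀ) := by
  obtain ⟨hA, hd⟩ := hA
  constructor
  · rw [Matrix.transpose_mul, Matrix.transpose_mul, Matrix.transpose_transpose, hA, mul_assoc]
    simp
  · intro i
    have h10 : A 1 0 = - A 0 1 := by have := congrFun (congrFun hA 0) 1; simpa using this
    have h20 : A 2 0 = - A 0 2 := by have := congrFun (congrFun hA 0) 2; simpa using this
    have h30 : A 3 0 = - A 0 3 := by have := congrFun (congrFun hA 0) 3; simpa using this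
    have h21 : A 2 1 = - A 1 2 := by have := congrFun (congrFun hA 1) 2; simpa using this
    have h31 : A 3 1 = - A 1 3 := by have := congrFun (congrFun hA 1) 3; simpa using this
    have h32 : A 3 2 = - A 2 3 := by have := congrFun (congrFun hA 2) 3; simpa using this
    simp only [Matrix.mul_apply, Matrix.transpose_apply, Fin.sum_univ_four]
    rw [hd 0, hd 1, hd 2, hd 3, h10, h20, h30, h21, h31, h32]
    ring

/-- `A ↦ g A gᵀ` as a linear map. -/
def conj6 (g : GL (Fin 4) F) : Matrix (Fin 4) (Fin 4) F →ₗ[F] Matrix (Fin 4) (Fin 4) F where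
  toFun M := g.1 * M * g.1ᵀ
  map_add' M N := by rw [mul_add, add_mul]
  map_smul' a M := by simp

theorem conj6_apply (g : GL (Fin 4) F) (M : Matrix (Fin 4) (Fin 4) F) :
    conj6 g M = g.1 * M * g.1ᵀ := rfl

/-- The action of `GL₄` on `Λ²` in coordinates. -/
def act6 (g : GL (Fin 4) F) : Module.End F (I6 → F) :=
  (vecLin F).comp ((conj6 g).comp (altLin F))

theorem act6_apply (g : GL (Fin 4) F) (v : I6 → F) :
    act6 g v = vecLin F (g.1 * altLin F v * g.1ᵀ) := rfl

theorem altLin_act6 (g : GL (Fin 4) F) (v : I6 → F) :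
    altLin F (act6 g v) = g.1 * altLin F v * g.1ᵀ := by
  rw [act6_apply, altLin_vecLin (isAlt4_conj _ _ (isAlt4_altLin v))]

theorem altLin_injective : Function.Injective (altLin F) := by
  intro u v h
  rw [← vecLin_altLin u, ← vecLin_altLin v, h]

theorem act6_one : act6 (1 : GL (Fin 4) F) = 1 := by
  apply LinearMap.ext
  intro v
  apply altLin_injective
  rw [altLin_act6]
  simp

theorem act6_mul (g h : GL (Fin 4) F) : act6 (g * h) = act6 g * act6 h := by
  apply LinearMap.ext
  intro v
  apply altLin_injective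
  rw [Module.End.mul_apply, altLin_act6, altLin_act6, altLin_act6, Units.val_mul,
    Matrix.transpose_mul]
  simp only [mul_assoc]

/-- `act6` as a monoid hom. -/
def act6Hom (F : Type*) [Field F] : GL (Fin 4) F →* Module.End F (I6 → F) where
  toFun := act6
  map_one' := act6_one
  map_mul' := act6_mul

/-- The representation `GL₄ → GL₆`. -/
def act6GL (F : Type*) [Field F] : GL (Fin 4) F →* GL I6 F :=
  (Matrix.GeneralLinearGroup.toLin (n := I6) (R := F)).symm.toMonoidHom.comp (act6Hom F).toHomUnits

theorem act6GL_mulVec (g : GL (Fin 4) F) (v : I6 → F) : (act6GL F g).1 *ᵥ v = act6 g v := by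
  have h : Matrix.GeneralLinearGroup.toLin (act6GL F g) = (act6Hom F).toHomUnits g := by
    simp [act6GL]
  have h2 : (Matrix.GeneralLinearGroup.toLin (act6GL F g)).1 v = (act6GL F g).1 *ᵥ v := rfl
  rw [← h2, h]
  rfl

theorem act6GL_eq_one_iff (g : GL (Fin 4) F) : act6GL F g = 1 ↔ act6 g = 1 := by
  unfold act6GL
  rw [MonoidHom.comp_apply]
  constructor
  · intro h
    have h1 : (act6Hom F).toHomUnits g = 1 :=
      (MulEquiv.map_eq_one_iff (Matrix.GeneralLinearGroup.toLin (n := I6) (R := F)).symm).mp h
    exact congrArg Units.val h1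
  · intro h
    have h1 : (act6Hom F).toHomUnits g = 1 := by
      apply Units.ext
      exact h
    change (Matrix.GeneralLinearGroup.toLin (n := I6) (R := F)).symm ((act6Hom F).toHomUnits g) = 1
    rw [h1, map_one]

theorem quadFormPlus_act6 (g : GL (Fin 4) F) (v : I6 → F) :
    Cfsg.quadFormPlus 3 F (act6 g v) = g.1.det * Cfsg.quadFormPlus 3 F v := by
  rw [← pf4_altLin, ← pf4_altLin, altLin_act6, pf4_conj _ _ (isAlt4_altLin v)]

end plus6

end Cfsg.Agent.Lib.Helper5
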