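import Mathlib
import Cfsg.Prelude.Def_Classical
import Cfsg.Agent.Lib.Helper5.OmegaPlus6a
import Cfsg.Agent.Lib.Helper5.OrthPlus
import Cfsg.Agent.S0265

set_option autoImplicit false

namespace Cfsg.Agent.Lib.Helper5

open Matrix
open scoped MatrixGroups commutatorElement

section plus6b
variable {F : Type*} [Field F]

/-- `SL₄ → O⁺₆` -/
def psi6 (F : Type*) [Field F] : SL(4, F) →* Cfsg.isometryGroup F (Cfsg.quadFormPlus 3 F) :=
  ((act6GL F).comp Matrix.SpecialLinearGroup.toGL).codRestrict _ (fun s => by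
    intro u v
    change Cfsg.quadFormPlus 3 F ((act6GL F (Matrix.SpecialLinearGroup.toGL s)).1 *ᵥ u)
      = Cfsg.quadFormPlus 3 F u
    rw [act6GL_mulVec, quadFormPlus_act6]
    have : (Matrix.SpecialLinearGroup.toGL s).1.det = 1 := s.2
    rw [this, one_mul])

theorem psi6_val (s : SL(4, F)) : (psi6 F s).1 = act6GL F (Matrix.SpecialLinearGroup.toGL s) := rfl

/-- basis vectors -/
def bx (F : Type*) [Field F] (i : Fin 3) : I6 → F := Sum.elim (Pi.single i 1) 0
def by' (F : Type*) [Field F] (i : Fin 3) : I6 → F := Sum.elim 0 (Pi.single i 1)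

theorem psi6_ker (s : SL(4, F)) (hs : s ∈ (psi6 F).ker) :
    ∃ r : F, r ^ 2 = 1 ∧ s.1 = Matrix.scalar (Fin 4) r := by
  rw [MonoidHom.mem_ker] at hs
  have h1 : act6 (Matrix.SpecialLinearGroup.toGL s) = 1 := by
    rw [← act6GL_eq_one_iff, ← psi6_val, hs]; rfl
  obtain ⟨g, hg⟩ : ∃ g : Matrix (Fin 4) (Fin 4) F, g = s.1 := ⟨_, rfl⟩
  have key : ∀ v : I6 → F, g * altLin F v * gᵀ = altLin F v := by
    intro v
    have := altLin_act6 (Matrix.SpecialLinearGroup.toGL s) v
    rw [h1] at this
    rw [hg]
    exact this.symm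
  obtain ⟨h, hh⟩ : ∃ h : Matrix (Fin 4) (Fin 4) F, gᵀ * h = 1 := by
    refine ⟨(s⁻¹).1ᵀ, ?_⟩
    rw [hg, ← Matrix.transpose_mul, ← Matrix.SpecialLinearGroup.coe_mul, inv_mul_cancel]
    simp
  have key2 : ∀ v : I6 → F, g * altLin F v = altLin F v * h := by
    intro v
    have h2 : g * altLin F v * gᵀ * h = altLin F v * h := by rw [key v]
    rwa [mul_assoc, hh, mul_one] at h2
  -- off-diagonal entries vanish
  have k01 := key2 (bx F 0)
  have k23 := key2 (by' F 0)
  have k02 := key2 (bx F 1)
  have k13 := key2 (by' F 1)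
  have g20 : g 2 0 = 0 := by
    have := congrFun (congrFun k01 2) 1
    simpa [altLin_apply, bx, Matrix.mul_apply, Fin.sum_univ_four] using this
  have g21 : g 2 1 = 0 := by
    have := congrFun (congrFun k01 2) 0
    simpa [altLin_apply, bx, Matrix.mul_apply, Fin.sum_univ_four] using this
  have g30 : g 3 0 = 0 := by
    have := congrFun (congrFun k01 3) 1
    simpa [altLin_apply, bx, Matrix.mul_apply, Fin.sum_univ_four] using this
  have g31 : g 3 1 = 0 := by
    have := congrFun (congrFun k01 3) 0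
    simpa [altLin_apply, bx, Matrix.mul_apply, Fin.sum_univ_four] using this
  have g02 : g 0 2 = 0 := by
    have := congrFun (congrFun k23 0) 3
    simpa [altLin_apply, by', Matrix.mul_apply, Fin.sum_univ_four] using this
  have g03 : g 0 3 = 0 := by
    have := congrFun (congrFun k23 0) 2
    simpa [altLin_apply, by', Matrix.mul_apply, Fin.sum_univ_four] using this
  have g12 : g 1 2 = 0 := by
    have := congrFun (congrFun k23 1) 3
    simpa [altLin_apply, by', Matrix.mul_apply, Fin.sum_univ_four] using this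
  have g13 : g 1 3 = 0 := by
    have := congrFun (congrFun k23 1) 2
    simpa [altLin_apply, by', Matrix.mul_apply, Fin.sum_univ_four] using this
  have g10 : g 1 0 = 0 := by
    have := congrFun (congrFun k02 1) 2
    simpa [altLin_apply, bx, Matrix.mul_apply, Fin.sum_univ_four] using this
  have g32 : g 3 2 = 0 := by
    have := congrFun (congrFun k02 3) 0
    simpa [altLin_apply, bx, Matrix.mul_apply, Fin.sum_univ_four] using this
  have g01 : g 0 1 = 0 := by
    have := congrFun (congrFun k13 0) 3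
    simpa [altLin_apply, by', Matrix.mul_apply, Fin.sum_univ_four] using this
  have g23 : g 2 3 = 0 := by
    have := congrFun (congrFun k13 2) 1
    simpa [altLin_apply, by', Matrix.mul_apply, Fin.sum_univ_four] using this
  -- diagonal relations
  have d01 : g 0 0 * g 1 1 = 1 := by
    have := congrFun (congrFun (key (bx F 0)) 0) 1
    simpa [altLin_apply, bx, Matrix.mul_apply, Fin.sum_univ_four, g01, g02, g03, g10, g12, g13] using this
  have d02 : g 0 0 * g 2 2 = 1 := by
    have := congrFun (congrFun (key (bx F 1)) 0) 2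
    simpa [altLin_apply, bx, Matrix.mul_apply, Fin.sum_univ_four, g01, g02, g03, g20, g21, g23] using this
  have d03 : g 0 0 * g 3 3 = 1 := by
    have := congrFun (congrFun (key (bx F 2)) 0) 3
    simpa [altLin_apply, bx, Matrix.mul_apply, Fin.sum_univ_four, g01, g02, g03, g30, g31, g32] using this
  have d12 : g 1 1 * g 2 2 = 1 := by
    have := congrFun (congrFun (key (by' F 2)) 1) 2
    simpa [altLin_apply, by', Matrix.mul_apply, Fin.sum_univ_four, g10, g12, g13, g20, g21, g23] using this
  have h00 : g 0 0 ≠ 0 := by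
    intro h0; rw [h0, zero_mul] at d01; exact zero_ne_one d01
  have e12 : g 1 1 = g 2 2 := mul_left_cancel₀ h00 (d01.trans d02.symm)
  have e13 : g 1 1 = g 3 3 := mul_left_cancel₀ h00 (d01.trans d03.symm)
  have hsq : g 1 1 ^ 2 = 1 := by rw [pow_two]; rw [← e12] at d12; exact d12
  have e01 : g 0 0 = g 1 1 := by
    have h11 : g 1 1 ≠ 0 := by
      intro h0; rw [h0, mul_zero] at d01; exact zero_ne_one d01
    have : g 0 0 * g 1 1 = g 1 1 * g 1 1 := by rw [d01, ← pow_two, hsq]
    exact mul_right_cancel₀ h11 this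
  refine ⟨g 1 1, hsq, ?_⟩
  rw [← hg]
  ext i j
  fin_cases i <;> fin_cases j <;>
    simp [g01, g02, g03, g10, g12, g13, g20, g21, g23, g30, g31, g32, e01, ← e12, ← e13]

end plus6b

end Cfsg.Agent.Lib.Helper5
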