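import Mathlib

set_option autoImplicit false

namespace Cfsg.Agent.Lib.Helper5

open scoped commutatorElement

section
variable {G : Type*} [Group G]

theorem isMulCommutative_of_card_two_or_four {H : Type*} [Group H]
    (h : Nat.card H = 2 ∨ Nat.card H = 4) : IsMulCommutative H := by
  haveI : Fact (Nat.Prime 2) := ⟨Nat.prime_two⟩
  rcases h with h | h
  · haveI := isCyclic_of_prime_card h
    infer_instance
  · have h' : Nat.card H = 2 ^ 2 := h
    exact IsPGroup.isMulCommutative_of_card_eq_prime_sq h'

theorem commutator_le_of_index_two_or_four (N : Subgroup G) [N.Normal]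
    (h : N.index = 2 ∨ N.index = 4) : commutator G ≤ N := by
  have hcomm : IsMulCommutative (G ⧸ N) := by
    apply isMulCommutative_of_card_two_or_four
    rwa [← Subgroup.index_eq_card]
  exact Subgroup.Normal.quotient_commutative_iff_commutator_le.mp hcomm

/-- A perfect subgroup of index 2 or 4 in a non-perfect group is the commutator subgroup. -/
theorem commutator_eq_of_perfect_index (N : Subgroup G) (hN : ⁅N, N⁆ = N)
    (hidx : N.index = 2 ∨ N.index = 4) (hnp : N.index = 4 → commutator G ≠ ⊤) :
    commutator G = N := by
  have hle : N ≤ commutator G := by
    rw [commutator_def]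
    calc N = ⁅N, N⁆ := hN.symm
      _ ≤ ⁅⊤, ⊤⁆ := Subgroup.commutator_mono le_top le_top
  rcases hidx with h2 | h4
  · haveI : N.Normal := Subgroup.normal_of_index_eq_two h2
    exact le_antisymm (commutator_le_of_index_two_or_four N (Or.inl h2)) hle
  · have hdvd : (commutator G).index ∣ 4 := h4 ▸ Subgroup.index_dvd_of_le hle
    have hne1 : (commutator G).index ≠ 1 := fun h => hnp h4 (Subgroup.index_eq_one.mp h)
    have hrel := Subgroup.relIndex_mul_index hle
    rw [h4] at hrel
    have hcases : (commutator G).index = 2 ∨ (commutator G).index = 4 := by
      have hle4 : (commutator G).index ≤ 4 := Nat.le_of_dvd (by norm_num) hdvd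
      have hpos : (commutator G).index ≠ 0 := fun h => by rw [h] at hdvd; simp at hdvd
      interval_cases h : (commutator G).index <;> simp_all
    -- key: N is normal
    have hnormal : N.Normal := by
      rcases hcases with h | h
      · -- N has index 2 in Ω
        have hrel2 : N.relIndex (commutator G) = 2 := by
          rw [h] at hrel; omega
        have hidx2 : (N.subgroupOf (commutator G)).index = 2 := hrel2
        haveI : (N.subgroupOf (commutator G)).Normal := Subgroup.normal_of_index_eq_two hidx2
        have h1 := commutator_le_of_index_two_or_four (N.subgroupOf (commutator G)) (Or.inl hidx2)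
        have h2 : ⁅commutator G, commutator G⁆ ≤ N := by
          rw [Subgroup.commutator_le]
          intro x hx y hy
          have : ⁅(⟨x, hx⟩ : commutator G), ⟨y, hy⟩⁆ ∈ N.subgroupOf (commutator G) := by
            apply h1
            exact Subgroup.commutator_mem_commutator (Subgroup.mem_top _) (Subgroup.mem_top _)
          exact Subgroup.mem_subgroupOf.mp this
        have h3 : N = ⁅commutator G, commutator G⁆ := by
          apply le_antisymm _ h2
          calc N = ⁅N, N⁆ := hN.symm
            _ ≤ ⁅commutator G, commutator G⁆ := Subgroup.commutator_mono hle hle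
        rw [h3]
        exact Subgroup.commutator_normal _ _
      · have hrel1 : N.relIndex (commutator G) = 1 := by
          rw [h] at hrel; omega
        have := Subgroup.relIndex_eq_one.mp hrel1
        have heq : N = commutator G := le_antisymm hle this
        rw [heq]
        infer_instance
    exact le_antisymm (commutator_le_of_index_two_or_four N (Or.inr h4)) hle

end

end Cfsg.Agent.Lib.Helper5
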