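import Mathlib
import Cfsg.Prelude.Def_Classical
import Cfsg.Agent.Lib.Helper5.OmegaPlus6b
import Cfsg.Agent.Lib.Helper5.PerfectIndex
import Cfsg.Agent.Lib.Helper5.SLGen

set_option autoImplicit false

namespace Cfsg.Agent.Lib.Helper5

open Matrix
open scoped MatrixGroups commutatorElement

section plus6c
variable {F : Type*} [Field F]

theorem card_psi6_ker_le : Nat.card (psi6 F).ker ≤ 2 := by
  classical
  let f : (psi6 F).ker → ({1, -1} : Finset F) := fun p => ⟨p.1.1 0 0, by
    obtain ⟨r, hr, h1⟩ := psi6_ker p.1 p.2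
    rw [h1]
    simp only [Matrix.scalar_apply, Matrix.diagonal_apply_eq, Finset.mem_insert, Finset.mem_singleton]
    have : (r - 1) * (r + 1) = 0 := by linear_combination hr
    rcases mul_eq_zero.mp this with h | h
    · left; linear_combination h
    · right; linear_combination h⟩
  have hf : Function.Injective f := by
    intro p p' h
    have h0 : p.1.1 0 0 = p'.1.1 0 0 := congrArg Subtype.val h
    obtain ⟨r, hr, h1⟩ := psi6_ker p.1 p.2
    obtain ⟨r', hr', h1'⟩ := psi6_ker p'.1 p'.2
    rw [h1, h1'] at h0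
    simp only [Matrix.scalar_apply, Matrix.diagonal_apply_eq] at h0
    subst h0
    apply Subtype.ext
    apply Subtype.ext; rw [h1, h1']
  calc Nat.card (psi6 F).ker ≤ Nat.card ({1, -1} : Finset F) := Nat.card_le_card_of_injective f hf
    _ = ({1, -1} : Finset F).card := Nat.card_eq_finsetCard _
    _ ≤ 2 := Finset.card_le_two

/-- If the kernel is non-trivial, the characteristic is not two. -/
theorem two_ne_zero_of_psi6_ker [Finite F] (h : Nat.card (psi6 F).ker = 2) : (2 : F) ≠ 0 := by
  intro h2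
  have hbot : (psi6 F).ker = ⊥ := by
    rw [eq_bot_iff]
    intro s hs
    rw [Subgroup.mem_bot]
    obtain ⟨r, hr, h1⟩ := psi6_ker s hs
    have hr1 : r = 1 := by
      have : (r - 1) ^ 2 = 0 := by linear_combination hr + (1 - r) * h2
      have := pow_eq_zero_iff (two_ne_zero) |>.mp this
      exact sub_eq_zero.mp this
    apply Subtype.ext
    rw [h1, hr1]
    simp
  rw [hbot, Subgroup.card_bot] at h
  omega

/-- The swap of the first hyperbolic pair. -/
def swapMat (F : Type*) [Field F] : Matrix I6 I6 F :=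
  (Equiv.swap (Sum.inl 0 : I6) (Sum.inr 0)).permMatrix F

theorem det_swapMat : (swapMat F).det = -1 := by
  unfold swapMat
  rw [Matrix.det_permutation, Equiv.Perm.sign_swap (by simp)]
  simp

/-- The swap as an element of `O⁺₆`. -/
def swapO (F : Type*) [Field F] : Cfsg.isometryGroup F (Cfsg.quadFormPlus 3 F) :=
  ⟨GeneralLinearGroup.mkOfDetNeZero (swapMat F) (by rw [det_swapMat]; simp), by
    intro u v
    change Cfsg.quadFormPlus 3 F (swapMat F *ᵥ u) = Cfsg.quadFormPlus 3 F u
    unfold swapMat
    rw [Matrix.permMatrix_mulVec]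
    simp only [Cfsg.quadFormPlus, Fin.sum_univ_three, Function.comp_apply]
    simp [Equiv.swap_apply_def]
    ring⟩

theorem commutator_O6_ne_top (h2 : (2 : F) ≠ 0) :
    commutator (Cfsg.isometryGroup F (Cfsg.quadFormPlus 3 F)) ≠ ⊤ := by
  intro htop
  let d : Cfsg.isometryGroup F (Cfsg.quadFormPlus 3 F) →* Fˣ :=
    GeneralLinearGroup.det.comp (Subgroup.subtype _)
  have hker : commutator (Cfsg.isometryGroup F (Cfsg.quadFormPlus 3 F)) ≤ d.ker :=
    Abelianization.commutator_subset_ker d
  rw [htop] at hker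
  have h1 : d (swapO F) = 1 := hker (Subgroup.mem_top _)
  have h3 : ((d (swapO F) : Fˣ) : F) = -1 := by
    rw [← det_swapMat (F := F)]
    simp [d, swapO, GeneralLinearGroup.mkOfDetNeZero]
  rw [h1] at h3
  apply h2
  have : (1 : F) = -1 := by simpa using h3
  linear_combination this

variable [Fintype F]

theorem card_GL4 : Nat.card (GL (Fin 4) F) * 2
    = Nat.card (Cfsg.isometryGroup F (Cfsg.quadFormPlus 3 F)) * (Fintype.card F - 1) := by
  rw [Matrix.card_GL_field, card_isometryGroup_plus rfl 3 (by norm_num)]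
  have hq : 2 ≤ Fintype.card F := Fintype.one_lt_card
  set q := Fintype.card F with hqdef
  simp only [Fin.prod_univ_four, Fin.val_zero, Fin.val_one, Fin.val_two, pow_zero, pow_one,
    Finset.prod_range_succ, Finset.range_zero, Finset.prod_empty, one_mul]
  have e3 : (3 : Fin 4).val = 3 := rfl
  rw [e3]
  have h1 : 1 ≤ q := by omega
  have hp : ∀ n, 1 ≤ q ^ n := fun n => Nat.one_le_pow _ _ (by omega)
  have hle1 : q ≤ q ^ 4 := by calc q = q ^ 1 := (pow_one q).symm
    _ ≤ q ^ 4 := Nat.pow_le_pow_right h1 (by norm_num)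
  have hle2 : q ^ 2 ≤ q ^ 4 := Nat.pow_le_pow_right h1 (by norm_num)
  have hle3 : q ^ 3 ≤ q ^ 4 := Nat.pow_le_pow_right h1 (by norm_num)
  zify [hp 4, hp 3, hp 2, hle1, hle2, hle3, h1, hp (2 * (0 + 1)), hp (2 * (1 + 1))]
  ring

theorem card_O6 : Nat.card (Cfsg.isometryGroup F (Cfsg.quadFormPlus 3 F)) = 2 * Nat.card SL(4, F) := by
  have h1 := card_GL4 (F := F)
  rw [Cfsg.Agent.S0265.card_GL_eq_SL_mul 4 (by norm_num), Nat.card_units, Nat.card_eq_fintype_card (α := F)] at h1
  have hq : 2 ≤ Fintype.card F := Fintype.one_lt_card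
  have hpos : 0 < Fintype.card F - 1 := by omega
  have h2 : 2 * Nat.card SL(4, F) * (Fintype.card F - 1)
      = Nat.card (Cfsg.isometryGroup F (Cfsg.quadFormPlus 3 F)) * (Fintype.card F - 1) := by
    rw [← h1]; ring
  exact (Nat.eq_of_mul_eq_mul_right hpos h2).symm

theorem index_range_psi6 :
    (psi6 F).range.index = 2 ∨ ((psi6 F).range.index = 4 ∧ (2 : F) ≠ 0) := by
  have h := (psi6 F).range.card_mul_index
  rw [card_O6] at h
  have h1 : Nat.card SL(4, F) = Nat.card (psi6 F).range * Nat.card (psi6 F).ker := by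
    rw [Subgroup.card_eq_card_quotient_mul_card_subgroup (psi6 F).ker,
      Nat.card_congr (QuotientGroup.quotientKerEquivRange (psi6 F)).toEquiv]
  rw [h1] at h
  have hr : 0 < Nat.card (psi6 F).range := Nat.card_pos
  have hk' : 0 < Nat.card (psi6 F).ker := Nat.card_pos
  have hk2 := card_psi6_ker_le (F := F)
  have h3 : Nat.card (psi6 F).range * (psi6 F).range.index
      = Nat.card (psi6 F).range * (2 * Nat.card (psi6 F).ker) := by rw [h]; ring
  have h4 := Nat.eq_of_mul_eq_mul_left hr h3
  rw [h4]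
  have : Nat.card (psi6 F).ker = 1 ∨ Nat.card (psi6 F).ker = 2 := by omega
  rcases this with h | h
  · left; rw [h]
  · right; exact ⟨by rw [h], two_ne_zero_of_psi6_ker h⟩

theorem Omega_plus6 : Cfsg.Omega F (Cfsg.quadFormPlus 3 F) = (psi6 F).range := by
  change commutator _ = _
  apply commutator_eq_of_perfect_index
  · rw [MonoidHom.range_eq_map, ← Subgroup.map_commutator, ← commutator_def,
      Cfsg.Agent.Lib.Helper5.commutator_SL_eq_top_of_three_le_card (by simp)]
  · rcases index_range_psi6 (F := F) with h | h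
    · exact Or.inl h
    · exact Or.inr h.1
  · intro h4
    rcases index_range_psi6 (F := F) with h | h
    · rw [h] at h4; omega
    · exact commutator_O6_ne_top h.2

end plus6c

end Cfsg.Agent.Lib.Helper5
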