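import Mathlib
import Cfsg.Prelude.Def_Classical
import Cfsg.Agent.Lib.Helper5.OmegaPlus6c

set_option autoImplicit false

namespace Cfsg.Agent.Lib.Helper5

open Matrix
open scoped MatrixGroups commutatorElement

section odd5
variable {F : Type*} [Field F]

/-- Index type of the 5-dimensional odd form. -/
abbrev I5 : Type := Unit ⊕ (Fin 2 ⊕ Fin 2)

/-- explicit equivalence `Fin 2 ⊕ Fin 2 ≃ Fin 4` -/
def e4 : Fin 2 ⊕ Fin 2 ≃ Fin 4 where
  toFun := Sum.elim ![0, 1] ![2, 3]
  invFun := ![Sum.inl 0, Sum.inl 1, Sum.inr 0, Sum.inr 1]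
  left_inv := by rintro (i | i) <;> fin_cases i <;> rfl
  right_inv := by intro i; fin_cases i <;> rfl

/-- reindexing `Fin 2 ⊕ Fin 2 ≃ Fin 4` for matrices, as a monoid hom -/
def rg (F : Type*) [Field F] : Matrix (Fin 2 ⊕ Fin 2) (Fin 2 ⊕ Fin 2) F →* Matrix (Fin 4) (Fin 4) F :=
  (Matrix.reindexAlgEquiv F F e4).toAlgHom.toRingHom.toMonoidHom

theorem rg_apply (M : Matrix (Fin 2 ⊕ Fin 2) (Fin 2 ⊕ Fin 2) F) :
    rg F M = Matrix.reindex e4 e4 M := rfl

theorem rg_apply' (M : Matrix (Fin 2 ⊕ Fin 2) (Fin 2 ⊕ Fin 2) F) (i j : Fin 4) :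
    rg F M i j = M (e4.symm i) (e4.symm j) := rfl

theorem rg_transpose (M : Matrix (Fin 2 ⊕ Fin 2) (Fin 2 ⊕ Fin 2) F) : rg F Mᵀ = (rg F M)ᵀ := by
  rw [rg_apply, rg_apply]
  rfl

theorem det_rg (M : Matrix (Fin 2 ⊕ Fin 2) (Fin 2 ⊕ Fin 2) F) : (rg F M).det = M.det := by
  rw [rg_apply, Matrix.det_reindex_self]

theorem rg_injective : Function.Injective (rg F) :=
  (Matrix.reindexAlgEquiv F F e4).injective

/-- the vector of `Λ²` corresponding to the symplectic form -/
def j0 (F : Type*) [Field F] : I6 → F := Sum.elim ![0, -1, 0] ![0, 1, 0]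

theorem rg_J : rg F (Matrix.J (Fin 2) F) = altLin F (j0 F) := by
  rw [altLin_apply]
  ext i j
  rw [rg_apply']
  fin_cases i <;> fin_cases j <;>
    simp [Matrix.J, j0, Matrix.fromBlocks, e4, Matrix.one_apply]

theorem pf4_J : pf4 (altLin F (j0 F)) = -1 := by
  rw [pf4_altLin]
  simp [Cfsg.quadFormPlus, j0, Fin.sum_univ_three]

theorem rg_symplectic (g : symplecticGroup (Fin 2) F) :
    rg F g.1 * altLin F (j0 F) * (rg F g.1)ᵀ = altLin F (j0 F) := by
  have h := SymplecticGroup.mem_iff.mp g.2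
  have h2 := congrArg (rg F) h
  rwa [map_mul, map_mul, rg_transpose, rg_J] at h2

theorem det_rg_symplectic (g : symplecticGroup (Fin 2) F) : (rg F g.1).det = 1 := by
  have h1 := pf4_conj (rg F g.1) (altLin F (j0 F)) (isAlt4_altLin _)
  rw [rg_symplectic, pf4_J] at h1
  have : (rg F g.1).det * (-1) = -1 := h1.symm
  linear_combination (-1 : F) * this

/-- `Sp₄ → SL₄` -/
def spToSL (F : Type*) [Field F] : symplecticGroup (Fin 2) F →* SL(4, F) where
  toFun g := ⟨rg F g.1, det_rg_symplectic g⟩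
  map_one' := by
    apply Subtype.ext
    change rg F 1 = 1
    exact map_one _
  map_mul' g h := by
    apply Subtype.ext
    change rg F (g.1 * h.1) = rg F g.1 * rg F h.1
    exact map_mul _ _ _

theorem spToSL_val (g : symplecticGroup (Fin 2) F) : (spToSL F g).1 = rg F g.1 := rfl

theorem spToSL_injective : Function.Injective (spToSL F) := by
  intro g h hgh
  apply Subtype.ext
  apply rg_injective
  exact congrArg Subtype.val hgh

end odd5

end Cfsg.Agent.Lib.Helper5
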