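import Mathlib
import Cfsg.Prelude.Def_Classical
import Cfsg.Agent.Lib.Helper5.OmegaOdd5a

set_option autoImplicit false

namespace Cfsg.Agent.Lib.Helper5

open Matrix
open scoped MatrixGroups commutatorElement

section odd5b
variable {F : Type*} [Field F]

/-- embedding of the 5-space as the hyperplane `j0^⊥` of the 6-space -/
def emb5 (F : Type*) [Field F] : (I5 → F) →ₗ[F] (I6 → F) where
  toFun w := Sum.elim ![w (.inr (.inl 0)), w (.inl ()), w (.inr (.inl 1))]
    ![w (.inr (.inr 0)), w (.inl ()), w (.inr (.inr 1))]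
  map_add' u v := by
    ext i; rcases i with i | i <;> fin_cases i <;> simp
  map_smul' a v := by
    ext i; rcases i with i | i <;> fin_cases i <;> simp

/-- projection back -/
def proj5 (F : Type*) [Field F] : (I6 → F) →ₗ[F] (I5 → F) where
  toFun v := Sum.elim (fun _ => v (.inl 1))
    (Sum.elim ![v (.inl 0), v (.inl 2)] ![v (.inr 0), v (.inr 2)])
  map_add' u v := by
    ext i; rcases i with _ | i | i
    · simp
    · fin_cases i <;> simp
    · fin_cases i <;> simp
  map_smul' a v := by
    ext i; rcases i with _ | i | i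
    · simp
    · fin_cases i <;> simp
    · fin_cases i <;> simp

theorem proj5_emb5 (w : I5 → F) : proj5 F (emb5 F w) = w := by
  ext i; rcases i with _ | i | i
  · simp [proj5, emb5]
  · fin_cases i <;> simp [proj5, emb5]
  · fin_cases i <;> simp [proj5, emb5]

/-- the linear functional cutting out the hyperplane -/
def lam (v : I6 → F) : F := v (.inl 1) - v (.inr 1)

theorem emb5_proj5 {v : I6 → F} (hv : lam v = 0) : emb5 F (proj5 F v) = v := by
  have h : v (.inl 1) = v (.inr 1) := sub_eq_zero.mp hv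
  ext i; rcases i with i | i <;> fin_cases i <;> simp [proj5, emb5, h]

theorem lam_emb5 (w : I5 → F) : lam (emb5 F w) = 0 := by
  simp [lam, emb5]

theorem quadFormPlus_emb5 (w : I5 → F) :
    Cfsg.quadFormPlus 3 F (emb5 F w) = Cfsg.quadFormOdd 2 F w := by
  simp [Cfsg.quadFormPlus, Cfsg.quadFormOdd, emb5, Fin.sum_univ_three, Fin.sum_univ_two]
  ring

theorem quadFormPlus_add_j0 (v : I6 → F) :
    Cfsg.quadFormPlus 3 F (v + j0 F) = Cfsg.quadFormPlus 3 F v + lam v - 1 := by
  simp [Cfsg.quadFormPlus, j0, lam, Fin.sum_univ_three]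
  ring

/-- the element of `GL₄` attached to a symplectic matrix -/
def spGL (g : symplecticGroup (Fin 2) F) : GL (Fin 4) F :=
  Matrix.SpecialLinearGroup.toGL (spToSL F g)

theorem spGL_val (g : symplecticGroup (Fin 2) F) : (spGL g).1 = rg F g.1 := rfl

theorem spGL_mul (g h : symplecticGroup (Fin 2) F) : spGL (g * h) = spGL g * spGL h := by
  unfold spGL
  rw [map_mul, map_mul]

theorem spGL_one : spGL (1 : symplecticGroup (Fin 2) F) = 1 := by
  unfold spGL
  rw [map_one, map_one]

theorem act6_spGL_j0 (g : symplecticGroup (Fin 2) F) : act6 (spGL g) (j0 F) = j0 F := by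
  apply altLin_injective
  rw [altLin_act6, spGL_val, rg_symplectic]

theorem quadFormPlus_act6_spGL (g : symplecticGroup (Fin 2) F) (v : I6 → F) :
    Cfsg.quadFormPlus 3 F (act6 (spGL g) v) = Cfsg.quadFormPlus 3 F v := by
  rw [quadFormPlus_act6, spGL_val, det_rg_symplectic, one_mul]

theorem lam_act6_spGL (g : symplecticGroup (Fin 2) F) (v : I6 → F) :
    lam (act6 (spGL g) v) = lam v := by
  have h1 := quadFormPlus_act6_spGL g (v + j0 F)
  rw [map_add, act6_spGL_j0, quadFormPlus_add_j0, quadFormPlus_add_j0, quadFormPlus_act6_spGL] at h1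
  linear_combination h1

/-- The action of `Sp₄` on the 5-space. -/
def act5 (g : symplecticGroup (Fin 2) F) : Module.End F (I5 → F) :=
  (proj5 F).comp ((act6 (spGL g)).comp (emb5 F))

theorem act5_apply (g : symplecticGroup (Fin 2) F) (w : I5 → F) :
    act5 g w = proj5 F (act6 (spGL g) (emb5 F w)) := rfl

theorem emb5_act5 (g : symplecticGroup (Fin 2) F) (w : I5 → F) :
    emb5 F (act5 g w) = act6 (spGL g) (emb5 F w) := by
  rw [act5_apply, emb5_proj5]
  rw [lam_act6_spGL, lam_emb5]

theorem emb5_injective : Function.Injective (emb5 F) := by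
  intro u v h
  rw [← proj5_emb5 u, ← proj5_emb5 v, h]

theorem act5_one : act5 (1 : symplecticGroup (Fin 2) F) = 1 := by
  apply LinearMap.ext
  intro w
  apply emb5_injective
  rw [emb5_act5, spGL_one, act6_one]
  rfl

theorem act5_mul (g h : symplecticGroup (Fin 2) F) : act5 (g * h) = act5 g * act5 h := by
  apply LinearMap.ext
  intro w
  apply emb5_injective
  rw [Module.End.mul_apply, emb5_act5, emb5_act5, emb5_act5, spGL_mul, act6_mul]
  rfl

/-- `act5` as a monoid hom. -/
def act5Hom (F : Type*) [Field F] : symplecticGroup (Fin 2) F →* Module.End F (I5 → F) where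
  toFun := act5
  map_one' := act5_one
  map_mul' := act5_mul

/-- The representation `Sp₄ → GL₅`. -/
def act5GL (F : Type*) [Field F] : symplecticGroup (Fin 2) F →* GL I5 F :=
  (Matrix.GeneralLinearGroup.toLin (n := I5) (R := F)).symm.toMonoidHom.comp (act5Hom F).toHomUnits

theorem act5GL_mulVec (g : symplecticGroup (Fin 2) F) (v : I5 → F) :
    (act5GL F g).1 *ᵥ v = act5 g v := by
  have h : Matrix.GeneralLinearGroup.toLin (act5GL F g) = (act5Hom F).toHomUnits g := by
    simp [act5GL]
  have h2 : (Matrix.GeneralLinearGroup.toLin (act5GL F g)).1 v = (act5GL F g).1 *ᵥ v := rfl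
  rw [← h2, h]
  rfl

theorem act5GL_eq_one_iff (g : symplecticGroup (Fin 2) F) : act5GL F g = 1 ↔ act5 g = 1 := by
  unfold act5GL
  rw [MonoidHom.comp_apply]
  constructor
  · intro h
    have h1 : (act5Hom F).toHomUnits g = 1 :=
      (MulEquiv.map_eq_one_iff (Matrix.GeneralLinearGroup.toLin (n := I5) (R := F)).symm).mp h
    exact congrArg Units.val h1
  · intro h
    have h1 : (act5Hom F).toHomUnits g = 1 := by
      apply Units.ext
      exact h
    change (Matrix.GeneralLinearGroup.toLin (n := I5) (R := F)).symm ((act5Hom F).toHomUnits g) = 1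
    rw [h1, map_one]

theorem quadFormOdd_act5 (g : symplecticGroup (Fin 2) F) (w : I5 → F) :
    Cfsg.quadFormOdd 2 F (act5 g w) = Cfsg.quadFormOdd 2 F w := by
  rw [← quadFormPlus_emb5, emb5_act5, quadFormPlus_act6_spGL, quadFormPlus_emb5]

/-- `Sp₄ → O₅` -/
def psi5 (F : Type*) [Field F] : symplecticGroup (Fin 2) F →* Cfsg.isometryGroup F (Cfsg.quadFormOdd 2 F) :=
  (act5GL F).codRestrict _ (fun g => by
    intro u v
    change Cfsg.quadFormOdd 2 F ((act5GL F g).1 *ᵥ u) = Cfsg.quadFormOdd 2 F u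
    rw [act5GL_mulVec, quadFormOdd_act5])

theorem psi5_val (g : symplecticGroup (Fin 2) F) : (psi5 F g).1 = act5GL F g := rfl

theorem psi5_ker (h2 : (2 : F) ≠ 0) (g : symplecticGroup (Fin 2) F) (hg : g ∈ (psi5 F).ker) :
    ∃ r : F, r ^ 2 = 1 ∧ g.1 = Matrix.scalar (Fin 2 ⊕ Fin 2) r := by
  rw [MonoidHom.mem_ker] at hg
  have h1 : act5 g = 1 := by
    rw [← act5GL_eq_one_iff, ← psi5_val, hg]; rfl
  have h6 : act6 (spGL g) = 1 := by
    apply LinearMap.ext
    intro v
    obtain ⟨c, hc⟩ : ∃ c : F, c = (v (.inr 1) - v (.inl 1)) / 2 := ⟨_, rfl⟩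
    have hlam : lam (v - c • j0 F) = 0 := by
      simp only [lam, j0, Pi.sub_apply, Pi.smul_apply, Sum.elim_inl, Sum.elim_inr, smul_eq_mul]
      simp
      rw [hc]; field_simp; ring
    have hv : v = emb5 F (proj5 F (v - c • j0 F)) + c • j0 F := by
      rw [emb5_proj5 hlam]; abel
    rw [Module.End.one_apply]
    conv_lhs => rw [hv]
    rw [map_add, map_smul, ← emb5_act5, h1, act6_spGL_j0]
    exact hv.symm
  have hker : spToSL F g ∈ (psi6 F).ker := by
    rw [MonoidHom.mem_ker]
    apply Subtype.ext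
    rw [psi6_val]
    exact (act6GL_eq_one_iff _).mpr h6
  obtain ⟨r, hr, hs⟩ := psi6_ker _ hker
  refine ⟨r, hr, ?_⟩
  rw [spToSL_val] at hs
  ext i j
  have h3 : rg F g.1 (e4 i) (e4 j) = g.1 i j := by
    rw [rg_apply', Equiv.symm_apply_apply, Equiv.symm_apply_apply]
  rw [← h3, hs, Matrix.scalar_apply, Matrix.scalar_apply, Matrix.diagonal_apply, Matrix.diagonal_apply]
  simp only [EmbeddingLike.apply_eq_iff_eq]

end odd5b

end Cfsg.Agent.Lib.Helper5
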