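import Mathlib
import Cfsg.Agent.Lib.Helper5.Symplectic
import Cfsg.Agent.Lib.Helper5.QuadCount

set_option autoImplicit false

namespace Cfsg.Agent.Lib.Helper5

open Matrix

variable {l : Type*} [DecidableEq l] [Fintype l] {F : Type*} [Field F]

/-- Hyperbolic pairs: `(u, v)` with `ω(u, v) = 1`. -/
def HypPair (l : Type*) [DecidableEq l] [Fintype l] (F : Type*) [Field F] : Type _ :=
  {p : (l ⊕ l → F) × (l ⊕ l → F) // sympForm l F p.1 p.2 = 1}

theorem sympForm_mulVec (g : symplecticGroup l F) (u v : l ⊕ l → F) :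
    sympForm l F ((g : Matrix (l ⊕ l) (l ⊕ l) F) *ᵥ u) ((g : Matrix (l ⊕ l) (l ⊕ l) F) *ᵥ v) =
      sympForm l F u v :=
  mem_symplecticGroup_iff_form.mp g.2 u v

instance hypPairMulAction : MulAction (symplecticGroup l F) (HypPair l F) where
  smul g p := ⟨((g : Matrix (l ⊕ l) (l ⊕ l) F) *ᵥ p.1.1, (g : Matrix (l ⊕ l) (l ⊕ l) F) *ᵥ p.1.2), by
    rw [sympForm_mulVec]; exact p.2⟩
  one_smul p := by
    apply Subtype.ext
    change ((1 : Matrix (l ⊕ l) (l ⊕ l) F) *ᵥ p.1.1, (1 : Matrix (l ⊕ l) (l ⊕ l) F) *ᵥ p.1.2) = p.1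
    simp
  mul_smul g h p := by
    apply Subtype.ext
    change (((g : Matrix (l ⊕ l) (l ⊕ l) F) * (h : Matrix (l ⊕ l) (l ⊕ l) F)) *ᵥ p.1.1,
      ((g : Matrix (l ⊕ l) (l ⊕ l) F) * (h : Matrix (l ⊕ l) (l ⊕ l) F)) *ᵥ p.1.2) = _
    simp only [← mulVec_mulVec]
    rfl

theorem hypPair_smul_fst (g : symplecticGroup l F) (p : HypPair l F) :
    (g • p).1.1 = (g : Matrix (l ⊕ l) (l ⊕ l) F) *ᵥ p.1.1 := rfl

theorem hypPair_smul_snd (g : symplecticGroup l F) (p : HypPair l F) :
    (g • p).1.2 = (g : Matrix (l ⊕ l) (l ⊕ l) F) *ᵥ p.1.2 := rfl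

/-- Fixing `u`, the symplectic group moves `v` to `v'` when `ω(u,v) = ω(u,v') = 1`. -/
theorem exists_fix_mulVec_eq {u v v' : l ⊕ l → F} (h1 : sympForm l F u v = 1)
    (h2 : sympForm l F u v' = 1) :
    ∃ g : symplecticGroup l F, (g : Matrix (l ⊕ l) (l ⊕ l) F) *ᵥ u = u ∧
      (g : Matrix (l ⊕ l) (l ⊕ l) F) *ᵥ v = v' := by
  -- a single transvection along `v - v'` when `ω(v, v') ≠ 0`
  have step : ∀ {x y : l ⊕ l → F}, sympForm l F u x = 1 → sympForm l F u y = 1 →
      sympForm l F x y ≠ 0 →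
      (sympTransvec (x - y) (sympForm l F x y)⁻¹ : Matrix (l ⊕ l) (l ⊕ l) F) *ᵥ u = u ∧
      (sympTransvec (x - y) (sympForm l F x y)⁻¹ : Matrix (l ⊕ l) (l ⊕ l) F) *ᵥ x = y := by
    intro x y hx hy hxy
    refine ⟨?_, exists_sympTransvec_mulVec_eq hxy⟩
    rw [sympTransvec_mulVec, sympForm_sub_right, hx, hy, sub_self, mul_zero, zero_smul, add_zero]
  by_cases h : sympForm l F v v' = 0
  · -- go through `u + v`
    have huv : sympForm l F u (u + v) = 1 := by rw [sympForm_add_right, sympForm_self, zero_add, h1]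
    have h3 : sympForm l F v (u + v) ≠ 0 := by
      rw [sympForm_add_right, sympForm_self, add_zero, sympForm_swap (R := F) u v, h1]
      simp
    have h4 : sympForm l F (u + v) v' ≠ 0 := by
      rw [sympForm_add_left, h2, h, add_zero]; exact one_ne_zero
    obtain ⟨a1, a2⟩ := step h1 huv h3
    obtain ⟨b1, b2⟩ := step huv h2 h4
    refine ⟨sympTransvec (u + v - v') (sympForm l F (u + v) v')⁻¹ *
      sympTransvec (v - (u + v)) (sympForm l F v (u + v))⁻¹, ?_, ?_⟩
    · rw [Submonoid.coe_mul, ← mulVec_mulVec, a1, b1]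
    · rw [Submonoid.coe_mul, ← mulVec_mulVec, a2, b2]
  · obtain ⟨a1, a2⟩ := step h1 h2 h
    exact ⟨_, a1, a2⟩

instance hypPair_isPretransitive : MulAction.IsPretransitive (symplecticGroup l F) (HypPair l F) := by
  constructor
  intro p p'
  have hp1 : p.1.1 ≠ 0 := by
    intro h0; have := p.2; rw [h0, sympForm_zero_left] at this; exact zero_ne_one this
  have hp1' : p'.1.1 ≠ 0 := by
    intro h0; have := p'.2; rw [h0, sympForm_zero_left] at this; exact zero_ne_one this
  obtain ⟨g, hg⟩ := symplecticGroup_transitive hp1 hp1'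
  have h1 : sympForm l F p'.1.1 ((g : Matrix (l ⊕ l) (l ⊕ l) F) *ᵥ p.1.2) = 1 := by
    rw [← hg, sympForm_mulVec]; exact p.2
  obtain ⟨k, hk1, hk2⟩ := exists_fix_mulVec_eq h1 p'.2
  refine ⟨k * g, ?_⟩
  apply Subtype.ext
  apply Prod.ext
  · rw [hypPair_smul_fst, Submonoid.coe_mul, ← mulVec_mulVec, hg, hk1]
  · rw [hypPair_smul_snd, Submonoid.coe_mul, ← mulVec_mulVec, hk2]

end Cfsg.Agent.Lib.Helper5

namespace Cfsg.Agent.Lib.Helper5

open Matrix

variable {l : Type*} [DecidableEq l] [Fintype l] {F : Type*} [Field F]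

/-- `ω(u, ·)` as an additive hom. -/
def sympFormHom (u : l ⊕ l → F) : (l ⊕ l → F) →+ F where
  toFun v := sympForm l F u v
  map_zero' := sympForm_zero_right u
  map_add' v w := sympForm_add_right u v w

theorem sympFormHom_surjective {u : l ⊕ l → F} (hu : u ≠ 0) : Function.Surjective (sympFormHom u) := by
  obtain ⟨w, hw⟩ := exists_sympForm_ne_zero hu
  intro c
  refine ⟨(c / sympForm l F u w) • w, ?_⟩
  change sympForm l F u ((c / sympForm l F u w) • w) = c
  rw [sympForm_smul_right]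
  field_simp

theorem card_sympForm_eq [Fintype F] {u : l ⊕ l → F} (hu : u ≠ 0) (c : F) :
    Nat.card {v : l ⊕ l → F // sympForm l F u v = c} = Fintype.card F ^ (2 * Fintype.card l - 1) := by
  have h := card_fiber_mul_card (sympFormHom u) (sympFormHom_surjective hu) c
  have hn : 0 < Fintype.card l := by
    rw [Fintype.card_pos_iff]
    by_contra h0
    rw [not_nonempty_iff] at h0
    exact hu (Subsingleton.elim u 0)
  rw [Nat.card_eq_fintype_card (α := F), Nat.card_eq_fintype_card (α := l ⊕ l → F), Fintype.card_fun,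
    Fintype.card_sum] at h
  change Nat.card {v : l ⊕ l → F // sympForm l F u v = c} * Fintype.card F = _ at h
  have hq : 0 < Fintype.card F := Fintype.card_pos
  have : Fintype.card F ^ (Fintype.card l + Fintype.card l) =
      Fintype.card F ^ (2 * Fintype.card l - 1) * Fintype.card F := by
    rw [← pow_succ]; congr 1; omega
  rw [this] at h
  exact Nat.eq_of_mul_eq_mul_right hq h

theorem card_hypPair [Fintype F] :
    Nat.card (HypPair l F) =
      (Fintype.card F ^ (2 * Fintype.card l) - 1) * Fintype.card F ^ (2 * Fintype.card l - 1) := by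
  classical
  let e : HypPair l F ≃ Σ u : l ⊕ l → F, {v : l ⊕ l → F // sympForm l F u v = 1} :=
    { toFun := fun p => ⟨p.1.1, ⟨p.1.2, p.2⟩⟩
      invFun := fun s => ⟨(s.1, s.2.1), s.2.2⟩
      left_inv := fun p => rfl
      right_inv := fun s => rfl }
  rw [Nat.card_congr e, Nat.card_sigma, Fintype.sum_eq_add_sum_compl (0 : l ⊕ l → F)]
  have h0 : Nat.card {v : l ⊕ l → F // sympForm l F 0 v = 1} = 0 := by
    rw [Nat.card_eq_zero]
    left
    constructor
    rintro ⟨v, hv⟩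
    rw [sympForm_zero_left] at hv
    exact zero_ne_one hv
  rw [h0, zero_add, Finset.sum_congr rfl (fun u hu => card_sympForm_eq (by simpa using hu) 1),
    Finset.sum_const, smul_eq_mul, Finset.card_compl, Finset.card_singleton, Fintype.card_fun,
    Fintype.card_sum, two_mul]

end Cfsg.Agent.Lib.Helper5

namespace Cfsg.Agent.Lib.Helper5

open Matrix

variable {m : ℕ} {F : Type*} [Field F]

/-- Reindexing: split off the first hyperbolic plane. -/
def spTau (m : ℕ) : (Fin 1 ⊕ Fin 1) ⊕ (Fin m ⊕ Fin m) ≃ Fin (m + 1) ⊕ Fin (m + 1) where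
  toFun := Sum.elim (Sum.elim (fun _ => Sum.inl 0) (fun _ => Sum.inr 0)) (Sum.map Fin.succ Fin.succ)
  invFun := Sum.elim (Fin.cases (Sum.inl (Sum.inl 0)) (fun i => Sum.inr (Sum.inl i)))
    (Fin.cases (Sum.inl (Sum.inr 0)) (fun i => Sum.inr (Sum.inr i)))
  left_inv x := by
    rcases x with (x | x) | (x | x)
    · fin_cases x; rfl
    · fin_cases x; rfl
    · rfl
    · rfl
  right_inv x := by
    rcases x with x | x
    · refine Fin.cases ?_ (fun i => ?_) x <;> rfl
    · refine Fin.cases ?_ (fun i => ?_) x <;> rfl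

@[simp] theorem spTau_inl_inl (m : ℕ) (i : Fin 1) : spTau m (Sum.inl (Sum.inl i)) = Sum.inl 0 := rfl
@[simp] theorem spTau_inl_inr (m : ℕ) (i : Fin 1) : spTau m (Sum.inl (Sum.inr i)) = Sum.inr 0 := rfl
@[simp] theorem spTau_inr_inl (m : ℕ) (i : Fin m) : spTau m (Sum.inr (Sum.inl i)) = Sum.inl i.succ := rfl
@[simp] theorem spTau_inr_inr (m : ℕ) (i : Fin m) : spTau m (Sum.inr (Sum.inr i)) = Sum.inr i.succ := rfl

@[simp] theorem spTau_symm_inl_zero (m : ℕ) : (spTau m).symm (Sum.inl 0) = Sum.inl (Sum.inl 0) := by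
  rw [Equiv.symm_apply_eq]; rfl
@[simp] theorem spTau_symm_inr_zero (m : ℕ) : (spTau m).symm (Sum.inr 0) = Sum.inl (Sum.inr 0) := by
  rw [Equiv.symm_apply_eq]; rfl
@[simp] theorem spTau_symm_inl_succ (m : ℕ) (i : Fin m) :
    (spTau m).symm (Sum.inl i.succ) = Sum.inr (Sum.inl i) := by
  rw [Equiv.symm_apply_eq]; rfl
@[simp] theorem spTau_symm_inr_succ (m : ℕ) (i : Fin m) :
    (spTau m).symm (Sum.inr i.succ) = Sum.inr (Sum.inr i) := by
  rw [Equiv.symm_apply_eq]; rfl

theorem fromBlocks_submatrix_mulVec_inr_zero {m : ℕ} {F : Type*} [Field F]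
    (B : Matrix (Fin m ⊕ Fin m) (Fin m ⊕ Fin m) F) :
    (fromBlocks (1 : Matrix (Fin 1 ⊕ Fin 1) (Fin 1 ⊕ Fin 1) F) 0 0 B).submatrix (spTau m).symm (spTau m).symm *ᵥ
      Pi.single (Sum.inr 0) 1 = Pi.single (Sum.inr 0) 1 := by
  ext x
  rw [mulVec_single_one]
  rcases x with x | x <;> refine Fin.cases ?_ (fun i => ?_) x
  · simp
  · simp
  · simp
  · simp [Fin.succ_ne_zero]

theorem fromBlocks_submatrix_mulVec_inl_zero {m : ℕ} {F : Type*} [Field F]
    (B : Matrix (Fin m ⊕ Fin m) (Fin m ⊕ Fin m) F) :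
    (fromBlocks (1 : Matrix (Fin 1 ⊕ Fin 1) (Fin 1 ⊕ Fin 1) F) 0 0 B).submatrix (spTau m).symm (spTau m).symm *ᵥ
      Pi.single (Sum.inl 0) 1 = Pi.single (Sum.inl 0) 1 := by
  ext x
  rw [mulVec_single_one]
  rcases x with x | x <;> refine Fin.cases ?_ (fun i => ?_) x
  · simp
  · simp [Fin.succ_ne_zero]
  · simp
  · simp

theorem J_submatrix_spTau (m : ℕ) :
    (J (Fin (m + 1)) F).submatrix (spTau m) (spTau m) = fromBlocks (J (Fin 1) F) 0 0 (J (Fin m) F) := by
  ext x y
  rcases x with (x | x) | (x | x) <;> rcases y with (y | y) | (y | y) <;>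
    simp [J, Matrix.one_apply, Fin.succ_ne_zero, (Fin.succ_ne_zero _).symm] <;>
    exact Subsingleton.elim _ _

end Cfsg.Agent.Lib.Helper5

namespace Cfsg.Agent.Lib.Helper5

open Matrix

variable {m : ℕ} {F : Type*} [Field F]

theorem mem_symp_iff_blocks (g : Matrix (Fin (m + 1) ⊕ Fin (m + 1)) (Fin (m + 1) ⊕ Fin (m + 1)) F) :
    g ∈ symplecticGroup (Fin (m + 1)) F ↔
      (g.submatrix (spTau m) (spTau m))ᵀ * fromBlocks (J (Fin 1) F) 0 0 (J (Fin m) F) *
        g.submatrix (spTau m) (spTau m) = fromBlocks (J (Fin 1) F) 0 0 (J (Fin m) F) := by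
  rw [SymplecticGroup.mem_iff', ← J_submatrix_spTau, transpose_submatrix, submatrix_mul_equiv,
    submatrix_mul_equiv]
  constructor
  · intro h; rw [h]
  · intro h
    have := congrArg (fun M => M.submatrix (spTau m).symm (spTau m).symm) h
    simpa using this

theorem blocks_mem_symp_iff (B : Matrix (Fin m ⊕ Fin m) (Fin m ⊕ Fin m) F) :
    (fromBlocks (1 : Matrix (Fin 1 ⊕ Fin 1) (Fin 1 ⊕ Fin 1) F) 0 0 B).submatrix (spTau m).symm (spTau m).symm ∈
      symplecticGroup (Fin (m + 1)) F ↔ B ∈ symplecticGroup (Fin m) F := by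
  rw [mem_symp_iff_blocks, SymplecticGroup.mem_iff']
  have : ((fromBlocks (1 : Matrix (Fin 1 ⊕ Fin 1) (Fin 1 ⊕ Fin 1) F) 0 0 B).submatrix (spTau m).symm
      (spTau m).symm).submatrix (spTau m) (spTau m) = fromBlocks 1 0 0 B := by
    simp
  rw [this, fromBlocks_transpose, fromBlocks_multiply, fromBlocks_multiply]
  simp only [transpose_one, transpose_zero, Matrix.one_mul, Matrix.mul_one, Matrix.zero_mul,
    Matrix.mul_zero, add_zero, zero_add]
  rw [fromBlocks_inj]
  simp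

/-- Structure of symplectic matrices fixing the first hyperbolic pair. -/
theorem symp_blocks_of_fix {g : Matrix (Fin (m + 1) ⊕ Fin (m + 1)) (Fin (m + 1) ⊕ Fin (m + 1)) F}
    (hg : g ∈ symplecticGroup (Fin (m + 1)) F)
    (h1 : g *ᵥ Pi.single (Sum.inr 0) 1 = Pi.single (Sum.inr 0) 1)
    (h2 : g *ᵥ Pi.single (Sum.inl 0) 1 = Pi.single (Sum.inl 0) 1) :
    g.submatrix (spTau m) (spTau m) =
      fromBlocks 1 0 0 (g.submatrix (spTau m) (spTau m)).toBlocks₂₂ ∧
    (g.submatrix (spTau m) (spTau m)).toBlocks₂₂ ∈ symplecticGroup (Fin m) F := by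
  set P := g.submatrix (spTau m) (spTau m) with hP
  have hcol1 : ∀ x, g x (Sum.inr 0) = (Pi.single (Sum.inr 0) 1 : Fin (m + 1) ⊕ Fin (m + 1) → F) x := by
    intro x
    have := congrFun h1 x
    rwa [mulVec_single_one] at this
  have hcol2 : ∀ x, g x (Sum.inl 0) = (Pi.single (Sum.inl 0) 1 : Fin (m + 1) ⊕ Fin (m + 1) → F) x := by
    intro x
    have := congrFun h2 x
    rwa [mulVec_single_one] at this
  have h11 : P.toBlocks₁₁ = 1 := by
    ext a b
    rcases a with a | a <;> rcases b with b | b <;>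
      simp [P, toBlocks₁₁, hcol1, hcol2, Matrix.one_apply, Subsingleton.elim a 0, Subsingleton.elim b 0]
  have h21 : P.toBlocks₂₁ = 0 := by
    ext a b
    rcases a with a | a <;> rcases b with b | b <;>
      simp [P, toBlocks₂₁, hcol1, hcol2, Fin.succ_ne_zero]
  have hmem := (mem_symp_iff_blocks g).mp hg
  rw [← hP, ← fromBlocks_toBlocks P, h11, h21, fromBlocks_transpose, fromBlocks_multiply,
    fromBlocks_multiply] at hmem
  simp only [transpose_one, transpose_zero, Matrix.one_mul, Matrix.mul_one, Matrix.zero_mul,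
    Matrix.mul_zero, add_zero, zero_add] at hmem
  rw [fromBlocks_inj] at hmem
  obtain ⟨-, e12, -, e22⟩ := hmem
  have h12 : P.toBlocks₁₂ = 0 := by
    have : J (Fin 1) F * (J (Fin 1) F * P.toBlocks₁₂) = 0 := by rw [e12, Matrix.mul_zero]
    rw [← Matrix.mul_assoc, J_squared] at this
    simpa using this
  rw [h12] at e22
  simp only [transpose_zero, Matrix.zero_mul, Matrix.mul_zero, zero_add] at e22
  refine ⟨?_, ?_⟩
  · conv_lhs => rw [← fromBlocks_toBlocks P, h11, h21, h12]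
  · rw [SymplecticGroup.mem_iff']
    exact e22

end Cfsg.Agent.Lib.Helper5

namespace Cfsg.Agent.Lib.Helper5

open Matrix

variable {m : ℕ} {F : Type*} [Field F]

/-- The standard hyperbolic pair `(e₀, f₀)`. -/
def stdPair (m : ℕ) (F : Type*) [Field F] : HypPair (Fin (m + 1)) F :=
  ⟨(Pi.single (Sum.inr 0) 1, Pi.single (Sum.inl 0) 1), by
    rw [sympForm_single_inl_right]; simp⟩

theorem mem_stabilizer_stdPair_iff (g : symplecticGroup (Fin (m + 1)) F) :
    g ∈ MulAction.stabilizer (symplecticGroup (Fin (m + 1)) F) (stdPair m F) ↔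
      (g : Matrix (Fin (m + 1) ⊕ Fin (m + 1)) (Fin (m + 1) ⊕ Fin (m + 1)) F) *ᵥ Pi.single (Sum.inr 0) 1 =
        Pi.single (Sum.inr 0) 1 ∧
      (g : Matrix (Fin (m + 1) ⊕ Fin (m + 1)) (Fin (m + 1) ⊕ Fin (m + 1)) F) *ᵥ Pi.single (Sum.inl 0) 1 =
        Pi.single (Sum.inl 0) 1 := by
  rw [MulAction.mem_stabilizer_iff]
  constructor
  · intro h
    have h1 := congrArg (fun p : HypPair (Fin (m + 1)) F => p.1.1) h
    have h2 := congrArg (fun p : HypPair (Fin (m + 1)) F => p.1.2) h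
    exact ⟨h1, h2⟩
  · rintro ⟨h1, h2⟩
    apply Subtype.ext
    exact Prod.ext h1 h2

/-- The stabilizer of the standard hyperbolic pair in `Sp_{2m+2}` is in bijection with `Sp_{2m}`. -/
noncomputable def stabilizerStdPairEquiv :
    MulAction.stabilizer (symplecticGroup (Fin (m + 1)) F) (stdPair m F) ≃ symplecticGroup (Fin m) F where
  toFun g := ⟨((g.1 : Matrix (Fin (m + 1) ⊕ Fin (m + 1)) (Fin (m + 1) ⊕ Fin (m + 1)) F).submatrix
      (spTau m) (spTau m)).toBlocks₂₂,
    (symp_blocks_of_fix g.1.2 ((mem_stabilizer_stdPair_iff g.1).mp g.2).1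
      ((mem_stabilizer_stdPair_iff g.1).mp g.2).2).2⟩
  invFun B := ⟨⟨(fromBlocks 1 0 0 (B : Matrix (Fin m ⊕ Fin m) (Fin m ⊕ Fin m) F)).submatrix
      (spTau m).symm (spTau m).symm, (blocks_mem_symp_iff _).mpr B.2⟩, by
    rw [mem_stabilizer_stdPair_iff]
    exact ⟨fromBlocks_submatrix_mulVec_inr_zero _, fromBlocks_submatrix_mulVec_inl_zero _⟩⟩
  left_inv g := by
    apply Subtype.ext; apply Subtype.ext
    have h := (symp_blocks_of_fix g.1.2 ((mem_stabilizer_stdPair_iff g.1).mp g.2).1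
      ((mem_stabilizer_stdPair_iff g.1).mp g.2).2).1
    change (fromBlocks 1 0 0 ((g.1 : Matrix (Fin (m + 1) ⊕ Fin (m + 1)) (Fin (m + 1) ⊕ Fin (m + 1)) F).submatrix
      (spTau m) (spTau m)).toBlocks₂₂).submatrix
      (spTau m).symm (spTau m).symm = (g.1 : Matrix (Fin (m + 1) ⊕ Fin (m + 1)) (Fin (m + 1) ⊕ Fin (m + 1)) F)
    rw [← h]
    simp
  right_inv B := by
    apply Subtype.ext
    change (((fromBlocks 1 0 0 (B : Matrix (Fin m ⊕ Fin m) (Fin m ⊕ Fin m) F)).submatrix
      (spTau m).symm (spTau m).symm).submatrix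
      (spTau m) (spTau m)).toBlocks₂₂ = (B : Matrix (Fin m ⊕ Fin m) (Fin m ⊕ Fin m) F)
    simp

theorem card_symplecticGroup_succ [Fintype F] :
    Nat.card (symplecticGroup (Fin (m + 1)) F) =
      (Fintype.card F ^ (2 * (m + 1)) - 1) * Fintype.card F ^ (2 * (m + 1) - 1) *
        Nat.card (symplecticGroup (Fin m) F) := by
  have h1 := Subgroup.card_mul_index
    (MulAction.stabilizer (symplecticGroup (Fin (m + 1)) F) (stdPair m F))
  rw [MulAction.index_stabilizer_of_transitive, card_hypPair, Nat.card_congr stabilizerStdPairEquiv,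
    Fintype.card_fin] at h1
  rw [← h1]
  ring

/-- The order of the symplectic group. -/
theorem card_symplecticGroup [Fintype F] (m : ℕ) :
    Nat.card (symplecticGroup (Fin m) F) =
      Fintype.card F ^ (m ^ 2) * ∏ i ∈ Finset.range m, (Fintype.card F ^ (2 * (i + 1)) - 1) := by
  induction m with
  | zero =>
    have : Subsingleton (symplecticGroup (Fin 0) F) := by
      constructor
      intro a b
      apply Subtype.ext
      ext i j
      rcases i with i | i <;> exact i.elim0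
    simp
  | succ m ih =>
    rw [card_symplecticGroup_succ, ih, Finset.prod_range_succ]
    have e : (m + 1) ^ 2 = (2 * (m + 1) - 1) + m ^ 2 := by
      have : 2 * (m + 1) - 1 = 2 * m + 1 := by omega
      rw [this]; ring
    rw [e, pow_add]
    ring

end Cfsg.Agent.Lib.Helper5
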