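import Mathlib
import Cfsg.Prelude.Def_Classical
import Cfsg.Agent.Lib.Helper5.OmegaPlus6a

set_option autoImplicit false

namespace Cfsg.Agent.Lib.Helper5

open Matrix
open scoped MatrixGroups

section minus6a
variable {K : Type*} [Field K]

/-- `A ↦ M A Mᵀ` as a linear map, for an arbitrary matrix `M`. -/
def conjM (M : Matrix (Fin 4) (Fin 4) K) :
    Matrix (Fin 4) (Fin 4) K →ₗ[K] Matrix (Fin 4) (Fin 4) K where
  toFun A := M * A * Mᵀ
  map_add' A B := by rw [mul_add, add_mul]
  map_smul' a A := by simp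

/-- The action of a matrix on `Λ²` in coordinates. -/
def actM (M : Matrix (Fin 4) (Fin 4) K) : Module.End K (I6 → K) :=
  (vecLin K).comp ((conjM M).comp (altLin K))

theorem actM_apply (M : Matrix (Fin 4) (Fin 4) K) (v : I6 → K) :
    actM M v = vecLin K (M * altLin K v * Mᵀ) := rfl

theorem act6_eq_actM (g : GL (Fin 4) K) : act6 g = actM g.1 := rfl

theorem altLin_actM (M : Matrix (Fin 4) (Fin 4) K) (v : I6 → K) :
    altLin K (actM M v) = M * altLin K v * Mᵀ := by
  rw [actM_apply, altLin_vecLin (isAlt4_conj _ _ (isAlt4_altLin v))]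

theorem actM_one : actM (1 : Matrix (Fin 4) (Fin 4) K) = 1 := by
  apply LinearMap.ext
  intro v
  apply altLin_injective
  rw [altLin_actM]
  simp

theorem actM_mul (M N : Matrix (Fin 4) (Fin 4) K) : actM (M * N) = actM M * actM N := by
  apply LinearMap.ext
  intro v
  apply altLin_injective
  rw [Module.End.mul_apply, altLin_actM, altLin_actM, altLin_actM, Matrix.transpose_mul]
  simp only [mul_assoc]

theorem quadFormPlus_actM (M : Matrix (Fin 4) (Fin 4) K) (v : I6 → K) :
    Cfsg.quadFormPlus 3 K (actM M v) = M.det * Cfsg.quadFormPlus 3 K v := by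
  rw [← pf4_altLin, ← pf4_altLin, altLin_actM, pf4_conj _ _ (isAlt4_altLin v)]

/-- swap the two halves of the coordinates (the Hodge star). -/
def sw6 (v : I6 → K) : I6 → K := fun i => v (Sum.swap i)

theorem sw6_apply (v : I6 → K) (i : I6) : sw6 v i = v (Sum.swap i) := rfl

theorem quadFormPlus_add (u v : I6 → K) :
    Cfsg.quadFormPlus 3 K (u + v)
      = Cfsg.quadFormPlus 3 K u + Cfsg.quadFormPlus 3 K v + u ⬝ᵥ sw6 v := by
  simp only [Cfsg.quadFormPlus, Fin.sum_univ_three, dotProduct, Fintype.sum_sum_type, sw6,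
    Pi.add_apply, Sum.swap_inl, Sum.swap_inr]
  ring

theorem polar_actM (M : Matrix (Fin 4) (Fin 4) K) (u v : I6 → K) :
    actM M u ⬝ᵥ sw6 (actM M v) = M.det * (u ⬝ᵥ sw6 v) := by
  have h1 := quadFormPlus_add (actM M u) (actM M v)
  rw [← map_add, quadFormPlus_actM, quadFormPlus_actM, quadFormPlus_actM, quadFormPlus_add] at h1
  linear_combination -h1

set_option maxHeartbeats 1600000 in
theorem actM_dotProduct (M : Matrix (Fin 4) (Fin 4) K) (u w : I6 → K) :
    actM M u ⬝ᵥ w = u ⬝ᵥ actM Mᵀ w := by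
  simp only [actM_apply, vecLin, altLin_apply, dotProduct, Fintype.sum_sum_type,
    Fin.sum_univ_three, Matrix.mul_apply, Fin.sum_univ_four, Matrix.transpose_apply,
    LinearMap.coe_mk, AddHom.coe_mk, Sum.elim_inl, Sum.elim_inr]
  simp
  ring

theorem actM_transpose_sw6 (M : Matrix (Fin 4) (Fin 4) K) (v : I6 → K) :
    actM Mᵀ (sw6 (actM M v)) = M.det • sw6 v := by
  apply dotProduct_eq
  intro u
  rw [dotProduct_comm, ← actM_dotProduct, polar_actM, dotProduct_comm (M.det • sw6 v),
    dotProduct_smul, smul_eq_mul]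

theorem altLin_map (f : K →+* K) (v : I6 → K) :
    altLin K (fun i => f (v i)) = (altLin K v).map f := by
  ext i j
  fin_cases i <;> fin_cases j <;> simp [altLin_apply]

theorem vecLin_map (f : K →+* K) (A : Matrix (Fin 4) (Fin 4) K) :
    vecLin K (A.map f) = fun i => f (vecLin K A i) := by
  ext i
  rcases i with i | i <;> fin_cases i <;> simp [vecLin]

theorem actM_map (f : K →+* K) (M : Matrix (Fin 4) (Fin 4) K) (v : I6 → K) :
    actM (M.map f) (fun i => f (v i)) = fun i => f (actM M v i) := by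
  rw [actM_apply, actM_apply, altLin_map, ← vecLin_map, Matrix.map_mul, Matrix.map_mul,
    Matrix.transpose_map]

/-- The real structure `sw6 v = v̄` is preserved by unitary matrices of determinant one. -/
theorem actM_mem_W (f : K →+* K) (M : Matrix (Fin 4) (Fin 4) K) (hdet : M.det = 1)
    (hU : Mᵀ * M.map f = 1) (v : I6 → K) (hv : sw6 v = fun i => f (v i)) :
    sw6 (actM M v) = fun i => f (actM M v i) := by
  have hU' : M.map f * Mᵀ = 1 := mul_eq_one_comm.mp hU
  have hinj : Function.Injective (actM Mᵀ) := by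
    intro x y hxy
    have := congrArg (actM (M.map f)) hxy
    rwa [← Module.End.mul_apply, ← Module.End.mul_apply, ← actM_mul, hU', actM_one] at this
  apply hinj
  rw [actM_transpose_sw6, hdet, one_smul, hv, ← actM_map, ← Module.End.mul_apply, ← actM_mul, hU,
    actM_one]
  rfl

end minus6a

end Cfsg.Agent.Lib.Helper5
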