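import Mathlib
import Cfsg.Prelude.Def_Classical
import Cfsg.Agent.Lib.Helper5.OmegaMinus6a
import Cfsg.Agent.Lib.Helper5.OmegaMinus4a

set_option autoImplicit false

namespace Cfsg.Agent.Lib.Helper5

open Matrix
open scoped MatrixGroups

/-- Index type of the 6-dimensional minus-type form. -/
abbrev J6 : Type := (Fin 2 ⊕ Fin 2) ⊕ Fin 2

section minus6b
variable {k K : Type*} [Field k] [Field K] [Fintype K] {q : ℕ} {a b : k}

omit [Fintype K] in
theorem MinusData.lin_indep (D : MinusData k K q a b) {s t : k}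
    (h : D.φ s + D.φ t * D.θ = 0) : s = 0 ∧ t = 0 := by
  have ht : t = 0 := by
    by_contra hne
    have h1 : D.φ t ≠ 0 := fun h => hne (D.φ.injective (by rw [h, map_zero]))
    have hθ : D.θ = D.φ (- s / t) := by
      rw [map_div₀, map_neg]
      field_simp
      linear_combination h
    apply D.ne
    rw [hθ, D.fix]
  refine ⟨?_, ht⟩
  rw [ht, map_zero, zero_mul, add_zero] at h
  exact D.φ.injective (by rw [h, map_zero])

variable (D : MinusData k K q a b)

/-- first coordinate -/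
def MinusData.xx (v : J6 → k) : K :=
  (D.φ (v (.inl (.inr 0))) * D.θ - D.φ (v (.inl (.inr 1))) - D.φ (v (.inl (.inl 0))) * D.θ ^ q
    - D.φ (v (.inl (.inl 1))) * (D.θ * D.θ ^ q)) / (D.θ - D.θ ^ q)

/-- second coordinate (before twisting by an element of norm `-1`) -/
def MinusData.yy (v : J6 → k) : K :=
  (D.φ (v (.inl (.inr 0))) * D.θ - D.φ (v (.inl (.inr 1))) - D.φ (v (.inl (.inl 0))) * D.θ
    - D.φ (v (.inl (.inl 1))) * (D.θ * D.θ)) / (D.θ - D.θ ^ q)

/-- third coordinate -/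
def MinusData.zz (v : J6 → k) : K := D.φ (v (.inr 0)) + D.φ (v (.inr 1)) * D.θ

omit [Fintype K] in
theorem MinusData.xx_add (u v : J6 → k) : D.xx (u + v) = D.xx u + D.xx v := by
  simp only [MinusData.xx, Pi.add_apply, map_add]; ring

omit [Fintype K] in
theorem MinusData.yy_add (u v : J6 → k) : D.yy (u + v) = D.yy u + D.yy v := by
  simp only [MinusData.yy, Pi.add_apply, map_add]; ring

omit [Fintype K] in
theorem MinusData.zz_add (u v : J6 → k) : D.zz (u + v) = D.zz u + D.zz v := by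
  simp only [MinusData.zz, Pi.add_apply, map_add]; ring

omit [Fintype K] in
theorem MinusData.xx_smul (c : k) (v : J6 → k) : D.xx (c • v) = D.φ c * D.xx v := by
  simp only [MinusData.xx, Pi.smul_apply, smul_eq_mul, map_mul]; ring

omit [Fintype K] in
theorem MinusData.yy_smul (c : k) (v : J6 → k) : D.yy (c • v) = D.φ c * D.yy v := by
  simp only [MinusData.yy, Pi.smul_apply, smul_eq_mul, map_mul]; ring

omit [Fintype K] in
theorem MinusData.zz_smul (c : k) (v : J6 → k) : D.zz (c • v) = D.φ c * D.zz v := by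
  simp only [MinusData.zz, Pi.smul_apply, smul_eq_mul, map_mul]; ring

theorem MinusData.xx_pow (hK : Fintype.card K = q ^ 2) (v : J6 → k) :
    (D.xx v) ^ q = (D.φ (v (.inl (.inr 0))) * D.θ ^ q - D.φ (v (.inl (.inr 1)))
      - D.φ (v (.inl (.inl 0))) * D.θ - D.φ (v (.inl (.inl 1))) * (D.θ ^ q * D.θ))
        / (D.θ ^ q - D.θ) := by
  simp only [MinusData.xx, div_pow, sub_pow_q hK, mul_pow, D.fix, pow_q_pow_q hK]

theorem MinusData.yy_pow (hK : Fintype.card K = q ^ 2) (v : J6 → k) :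
    (D.yy v) ^ q = (D.φ (v (.inl (.inr 0))) * D.θ ^ q - D.φ (v (.inl (.inr 1)))
      - D.φ (v (.inl (.inl 0))) * D.θ ^ q - D.φ (v (.inl (.inl 1))) * (D.θ ^ q * D.θ ^ q))
        / (D.θ ^ q - D.θ) := by
  simp only [MinusData.yy, div_pow, sub_pow_q hK, mul_pow, D.fix, pow_q_pow_q hK]

theorem MinusData.zz_pow (hK : Fintype.card K = q ^ 2) (v : J6 → k) :
    (D.zz v) ^ q = D.φ (v (.inr 0)) + D.φ (v (.inr 1)) * D.θ ^ q := by
  simp only [MinusData.zz, add_pow_q hK, mul_pow, D.fix]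

theorem MinusData.norm_xx_sub (hK : Fintype.card K = q ^ 2) (v : J6 → k) :
    D.xx v * (D.xx v) ^ q - D.yy v * (D.yy v) ^ q
      = D.φ (v (.inl (.inl 0))) * D.φ (v (.inl (.inr 0)))
        + D.φ (v (.inl (.inl 1))) * D.φ (v (.inl (.inr 1))) := by
  rw [D.xx_pow hK, D.yy_pow hK, MinusData.xx, MinusData.yy]
  have h1 : D.θ - D.θ ^ q ≠ 0 := D.theta_sub_ne
  have h2 : D.θ ^ q - D.θ ≠ 0 := fun h => D.ne (sub_eq_zero.mp h)
  field_simp
  ring

theorem MinusData.norm_zz (hK : Fintype.card K = q ^ 2) (v : J6 → k) :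
    D.zz v * (D.zz v) ^ q
      = D.φ (v (.inr 0) ^ 2 + a * v (.inr 0) * v (.inr 1) + b * v (.inr 1) ^ 2) := by
  rw [D.zz_pow hK, MinusData.zz]
  simp only [map_add, map_mul, map_pow, ← D.tr, ← D.nm]
  ring

/-- The three `K`-coordinates. -/
def MinusData.emb3 (ε : K) (v : J6 → k) : Fin 3 → K := ![D.xx v, ε * D.yy v, D.zz v]

/-- The embedding of `k⁶` into `Λ² K⁴`. -/
def MinusData.emb6 (ε : K) (v : J6 → k) : I6 → K :=
  Sum.elim (D.emb3 ε v) (fun i => (D.emb3 ε v i) ^ q)

omit [Fintype K] in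
theorem MinusData.emb3_add (ε : K) (u v : J6 → k) :
    D.emb3 ε (u + v) = D.emb3 ε u + D.emb3 ε v := by
  ext i
  fin_cases i <;> simp [MinusData.emb3, D.xx_add, D.yy_add, D.zz_add, mul_add]

omit [Fintype K] in
theorem MinusData.emb3_smul (ε : K) (c : k) (v : J6 → k) :
    D.emb3 ε (c • v) = D.φ c • D.emb3 ε v := by
  ext i
  fin_cases i <;> simp [MinusData.emb3, D.xx_smul, D.yy_smul, D.zz_smul, mul_left_comm]

theorem MinusData.emb6_add (hK : Fintype.card K = q ^ 2) (ε : K) (u v : J6 → k) :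
    D.emb6 ε (u + v) = D.emb6 ε u + D.emb6 ε v := by
  ext i
  rcases i with i | i
  · simp [MinusData.emb6, D.emb3_add]
  · simp [MinusData.emb6, D.emb3_add, add_pow_q hK]

omit [Fintype K] in
theorem MinusData.emb6_smul (ε : K) (c : k) (v : J6 → k) :
    D.emb6 ε (c • v) = D.φ c • D.emb6 ε v := by
  ext i
  rcases i with i | i
  · simp [MinusData.emb6, D.emb3_smul]
  · simp [MinusData.emb6, D.emb3_smul, mul_pow, D.fix]

theorem MinusData.emb6_mem_W (hK : Fintype.card K = q ^ 2) (ε : K) (v : J6 → k) :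
    sw6 (D.emb6 ε v) = fun i => (D.emb6 ε v i) ^ q := by
  ext i
  rcases i with i | i
  · simp [MinusData.emb6, sw6]
  · simp [MinusData.emb6, sw6, pow_q_pow_q hK]

theorem MinusData.quadFormPlus_emb6 (hK : Fintype.card K = q ^ 2) (ε : K)
    (hε : ε * ε ^ q = -1) (v : J6 → k) :
    Cfsg.quadFormPlus 3 K (D.emb6 ε v) = D.φ (Cfsg.quadFormMinus 2 k a b v) := by
  have h1 := D.norm_xx_sub hK v
  have h2 := D.norm_zz hK v
  have h3 : (ε * D.yy v) * (ε * D.yy v) ^ q = - (D.yy v * (D.yy v) ^ q) := by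
    rw [mul_pow]
    linear_combination (D.yy v * (D.yy v) ^ q) * hε
  simp only [Cfsg.quadFormPlus, Cfsg.quadFormMinus, Fin.sum_univ_three, Fin.sum_univ_two,
    MinusData.emb6, MinusData.emb3, Sum.elim_inl, Sum.elim_inr, Matrix.cons_val_zero,
    Matrix.cons_val_one, Matrix.cons_val_two, Matrix.head_cons, Matrix.tail_cons, map_add, map_mul,
    map_pow]
  simp only [map_add, map_mul, map_pow] at h2
  linear_combination h1 + h2 + h3

end minus6b

end Cfsg.Agent.Lib.Helper5
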