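import Mathlib
import Cfsg.Prelude.Def_Classical
import Cfsg.Agent.Lib.Helper5.OmegaMinus6b
import Cfsg.Agent.Lib.Helper5.OmegaMinus4d
import Cfsg.Agent.Lib.Helper5.UnitaryGroup

set_option autoImplicit false

namespace Cfsg.Agent.Lib.Helper5

open Matrix
open scoped MatrixGroups

section minus6c
variable {k K : Type*} [Field k] [Field K] [Fintype K] {q : ℕ} {a b : k}

theorem MinusData.emb6_injective (D : MinusData k K q a b) (hK : Fintype.card K = q ^ 2) (ε : K)
    (hε : ε ≠ 0) : Function.Injective (D.emb6 ε) := by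
  intro u v h
  have hsub : D.emb6 ε (u - v) = 0 := by
    have := D.emb6_add hK ε (u - v) v
    rw [sub_add_cancel, h] at this
    exact (add_eq_right.mp this.symm)
  obtain ⟨w, hw⟩ : ∃ w, w = u - v := ⟨_, rfl⟩
  rw [← hw] at hsub
  have hx : D.xx w = 0 := by
    have := congrFun hsub (.inl 0)
    simpa [MinusData.emb6, MinusData.emb3] using this
  have hy : D.yy w = 0 := by
    have := congrFun hsub (.inl 1)
    simpa [MinusData.emb6, MinusData.emb3, hε] using this
  have hz : D.zz w = 0 := by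
    have := congrFun hsub (.inl 2)
    simpa [MinusData.emb6, MinusData.emb3] using this
  have hne := D.theta_sub_ne
  rw [MinusData.xx, div_eq_zero_iff, or_iff_left hne] at hx
  rw [MinusData.yy, div_eq_zero_iff, or_iff_left hne] at hy
  obtain ⟨hz1, hz2⟩ := D.lin_indep hz
  have h1 : D.φ (w (.inl (.inl 0))) + D.φ (w (.inl (.inl 1))) * D.θ = 0 := by
    have : (D.θ - D.θ ^ q) * (D.φ (w (.inl (.inl 0))) + D.φ (w (.inl (.inl 1))) * D.θ) = 0 := by
      linear_combination hx - hy
    exact (mul_eq_zero.mp this).resolve_left hne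
  obtain ⟨hp, hr⟩ := D.lin_indep h1
  have h2 : D.φ (- w (.inl (.inr 1))) + D.φ (w (.inl (.inr 0))) * D.θ = 0 := by
    rw [hp, hr, map_zero, zero_mul, zero_mul, sub_zero, sub_zero] at hx
    rw [map_neg]
    linear_combination hx
  obtain ⟨hR, hP⟩ := D.lin_indep h2
  have hR' : w (.inl (.inr 1)) = 0 := neg_eq_zero.mp hR
  have hw0 : w = 0 := by
    ext i
    rcases i with (i | i) | i <;> fin_cases i
    · exact hp
    · exact hr
    · exact hP
    · exact hR'
    · exact hz1
    · exact hz2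
  rw [hw0] at hw
  exact (sub_eq_zero.mp hw.symm)

/-- The real form of `Λ² K⁴`: the fixed points of the star composed with the Frobenius. -/
def W6 (K : Type*) [Field K] (q : ℕ) : Type _ := {w : I6 → K // sw6 w = fun i => (w i) ^ q}

instance : Finite (W6 K q) := Subtype.finite

/-- The real form is `K³`. -/
def W6equiv (hK : Fintype.card K = q ^ 2) : W6 K q ≃ (Fin 3 → K) where
  toFun w := fun i => w.1 (.inl i)
  invFun t := ⟨Sum.elim t (fun i => (t i) ^ q), by
    ext i
    rcases i with i | i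
    · simp [sw6]
    · simp [sw6, pow_q_pow_q hK]⟩
  left_inv w := by
    apply Subtype.ext
    ext i
    rcases i with i | i
    · rfl
    · have := congrFun w.2 (.inl i)
      simp only [sw6, Sum.swap_inl] at this
      simp [this]
  right_inv t := rfl

theorem card_W6 (hK : Fintype.card K = q ^ 2) : Nat.card (W6 K q) = q ^ 6 := by
  rw [Nat.card_congr (W6equiv hK), Nat.card_fun, Nat.card_eq_fintype_card,
    Nat.card_eq_fintype_card, hK, Fintype.card_fin, ← pow_mul]

omit [Fintype K] in
theorem card_J6_fun [Fintype k] (hk : Fintype.card k = q) : Nat.card (J6 → k) = q ^ 6 := by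
  rw [Nat.card_fun, Nat.card_eq_fintype_card, Nat.card_eq_fintype_card, hk]
  simp

/-- Bundled data for the six-dimensional minus-type form. -/
structure MinusData6 (k K : Type*) [Field k] [Field K] [Fintype k] [Fintype K] (q : ℕ) (a b : k)
    extends MinusData k K q a b where
  hk : Fintype.card k = q
  hK : Fintype.card K = q ^ 2
  ε : K
  hε : ε * ε ^ q = -1

theorem exists_minusData6 [Fintype k] (hk : Fintype.card k = q) (hK : Fintype.card K = q ^ 2)
    (hab : ∀ z₁ z₂ : k, z₁ ^ 2 + a * z₁ * z₂ + b * z₂ ^ 2 = 0 → z₁ = 0 ∧ z₂ = 0) :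
    Nonempty (MinusData6 k K q a b) := by
  obtain ⟨D⟩ := exists_minusData hk hK hab
  obtain ⟨ε, hε⟩ := exists_norm_eq hK (d := (-1 : K)) (by rw [neg_pow_q hK, one_pow])
  exact ⟨⟨D, hk, hK, ε, hε⟩⟩

variable [Fintype k] (E : MinusData6 k K q a b)

theorem MinusData6.eps_ne : E.ε ≠ 0 := by
  intro h
  have := E.hε
  rw [h, zero_mul] at this
  exact (neg_ne_zero.mpr one_ne_zero) this.symm

/-- The embedding. -/
def MinusData6.emb (v : J6 → k) : I6 → K := E.toMinusData.emb6 E.ε v

theorem MinusData6.emb_add (u v : J6 → k) : E.emb (u + v) = E.emb u + E.emb v :=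
  E.toMinusData.emb6_add E.hK E.ε u v

theorem MinusData6.emb_smul (c : k) (v : J6 → k) : E.emb (c • v) = E.φ c • E.emb v :=
  E.toMinusData.emb6_smul E.ε c v

theorem MinusData6.emb_mem_W (v : J6 → k) : sw6 (E.emb v) = fun i => (E.emb v i) ^ q :=
  E.toMinusData.emb6_mem_W E.hK E.ε v

theorem MinusData6.emb_injective : Function.Injective E.emb :=
  E.toMinusData.emb6_injective E.hK E.ε E.eps_ne

theorem MinusData6.quadFormPlus_emb (v : J6 → k) :
    Cfsg.quadFormPlus 3 K (E.emb v) = E.φ (Cfsg.quadFormMinus 2 k a b v) :=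
  E.toMinusData.quadFormPlus_emb6 E.hK E.ε E.hε v

/-- The embedding into the real form. -/
def MinusData6.embW (v : J6 → k) : W6 K q := ⟨E.emb v, E.emb_mem_W v⟩

theorem MinusData6.embW_bijective : Function.Bijective E.embW := by
  apply Function.Injective.bijective_of_nat_card_le
  · intro u v h
    exact E.emb_injective (congrArg Subtype.val h)
  · rw [card_W6 E.hK, card_J6_fun E.hk]

theorem MinusData6.exists_emb_eq (w : I6 → K) (hw : sw6 w = fun i => (w i) ^ q) :
    ∃ v, E.emb v = w := by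
  obtain ⟨v, hv⟩ := E.embW_bijective.2 ⟨w, hw⟩
  exact ⟨v, congrArg Subtype.val hv⟩

/-- The real form spans. -/
theorem MinusData6.eq_of_forall_emb (f g : Module.End K (I6 → K))
    (h : ∀ v, f (E.emb v) = g (E.emb v)) : f = g := by
  apply LinearMap.ext
  intro w
  have hK := E.hK
  have hne : E.θ ^ q - E.θ ≠ 0 := fun h => E.ne (sub_eq_zero.mp h)
  obtain ⟨s, hs⟩ : ∃ s : I6 → K, s = fun i => (w (Sum.swap i)) ^ q := ⟨_, rfl⟩
  have hW1 : sw6 (w + s) = fun i => ((w + s) i) ^ q := by
    ext i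
    simp only [sw6, Pi.add_apply, hs, Sum.swap_swap, add_pow_q hK, pow_q_pow_q hK]
    ring
  have hW2 : sw6 (E.θ • w + E.θ ^ q • s) = fun i => ((E.θ • w + E.θ ^ q • s) i) ^ q := by
    ext i
    simp only [sw6, Pi.add_apply, Pi.smul_apply, smul_eq_mul, hs, Sum.swap_swap, add_pow_q hK,
      mul_pow, pow_q_pow_q hK]
    ring
  obtain ⟨v1, hv1⟩ := E.exists_emb_eq _ hW1
  obtain ⟨v2, hv2⟩ := E.exists_emb_eq _ hW2
  have hdec : (E.θ ^ q - E.θ) • w = E.θ ^ q • (w + s) - (E.θ • w + E.θ ^ q • s) := by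
    ext i
    simp only [Pi.smul_apply, Pi.add_apply, Pi.sub_apply, smul_eq_mul]
    ring
  have h1 := h v1
  have h2 := h v2
  rw [hv1] at h1
  rw [hv2] at h2
  have h3 : f ((E.θ ^ q - E.θ) • w) = g ((E.θ ^ q - E.θ) • w) := by
    rw [hdec, map_sub, map_sub, map_smul, map_smul, h1, h2]
  rw [map_smul, map_smul] at h3
  exact smul_right_injective _ hne h3

end minus6c

end Cfsg.Agent.Lib.Helper5
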