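import Mathlib
import Cfsg.Prelude.Def_Classical
import Cfsg.Agent.Lib.Helper5.OmegaMinus6c
import Cfsg.Agent.Lib.Helper5.OmegaPlus6b

set_option autoImplicit false

namespace Cfsg.Agent.Lib.Helper5

open Matrix Cfsg
open scoped MatrixGroups

section minus6d
variable {k K : Type*} [Field k] [Field K] [Fintype K] [Fintype k] {q : ℕ} {a b : k}
variable (E : MinusData6 k K q a b)

theorem MinusData6.unitary (g : SU 4 K q) : g.1.1ᵀ * g.1.1.map (conjHom E.hK) = 1 :=
  (preserves_iff_matrix E.hK g.1.1).mp g.2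

theorem MinusData6.actM_emb_mem_W (g : SU 4 K q) (v : J6 → k) :
    sw6 (actM g.1.1 (E.emb v)) = fun i => (actM g.1.1 (E.emb v) i) ^ q :=
  actM_mem_W (conjHom E.hK) g.1.1 g.1.2 (E.unitary g) _ (E.emb_mem_W v)

theorem MinusData6.exists_act (g : SU 4 K q) (v : J6 → k) :
    ∃ v', E.emb v' = actM g.1.1 (E.emb v) :=
  E.exists_emb_eq _ (E.actM_emb_mem_W g v)

/-- The action of `SU₄` on `k⁶`. -/
noncomputable def MinusData6.actFun (g : SU 4 K q) (v : J6 → k) : J6 → k :=
  (E.exists_act g v).choose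

theorem MinusData6.emb_actFun (g : SU 4 K q) (v : J6 → k) :
    E.emb (E.actFun g v) = actM g.1.1 (E.emb v) :=
  (E.exists_act g v).choose_spec

/-- The action as a linear map. -/
noncomputable def MinusData6.act (g : SU 4 K q) : Module.End k (J6 → k) where
  toFun := E.actFun g
  map_add' u v := by
    apply E.emb_injective
    rw [E.emb_actFun, E.emb_add, map_add, E.emb_add, E.emb_actFun, E.emb_actFun]
  map_smul' c v := by
    apply E.emb_injective
    simp only [RingHom.id_apply]
    rw [E.emb_actFun, E.emb_smul, map_smul, E.emb_smul, E.emb_actFun]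

theorem MinusData6.emb_act (g : SU 4 K q) (v : J6 → k) :
    E.emb (E.act g v) = actM g.1.1 (E.emb v) := E.emb_actFun g v

/-- The action as a monoid hom. -/
noncomputable def MinusData6.actHom : SU 4 K q →* Module.End k (J6 → k) where
  toFun := E.act
  map_one' := by
    apply LinearMap.ext
    intro v
    apply E.emb_injective
    rw [E.emb_act]
    change actM (1 : Matrix (Fin 4) (Fin 4) K) (E.emb v) = _
    rw [actM_one]
    rfl
  map_mul' g h := by
    apply LinearMap.ext
    intro v
    apply E.emb_injective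
    rw [Module.End.mul_apply, E.emb_act, E.emb_act, E.emb_act]
    change actM (g.1.1 * h.1.1) (E.emb v) = _
    rw [actM_mul]
    rfl

/-- The representation `SU₄ → GL₆(k)`. -/
noncomputable def MinusData6.actGL : SU 4 K q →* GL J6 k :=
  (Matrix.GeneralLinearGroup.toLin (n := J6) (R := k)).symm.toMonoidHom.comp E.actHom.toHomUnits

theorem MinusData6.actGL_mulVec (g : SU 4 K q) (v : J6 → k) : (E.actGL g).1 *ᵥ v = E.act g v := by
  have h : Matrix.GeneralLinearGroup.toLin (E.actGL g) = E.actHom.toHomUnits g := by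
    simp [MinusData6.actGL]
  have h2 : (Matrix.GeneralLinearGroup.toLin (E.actGL g)).1 v = (E.actGL g).1 *ᵥ v := rfl
  rw [← h2, h]
  rfl

theorem MinusData6.actGL_eq_one_iff (g : SU 4 K q) : E.actGL g = 1 ↔ E.act g = 1 := by
  unfold MinusData6.actGL
  rw [MonoidHom.comp_apply]
  constructor
  · intro h
    have h1 : E.actHom.toHomUnits g = 1 :=
      (MulEquiv.map_eq_one_iff (Matrix.GeneralLinearGroup.toLin (n := J6) (R := k)).symm).mp h
    exact congrArg Units.val h1
  · intro h
    have h1 : E.actHom.toHomUnits g = 1 := by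
      apply Units.ext
      exact h
    change (Matrix.GeneralLinearGroup.toLin (n := J6) (R := k)).symm (E.actHom.toHomUnits g) = 1
    rw [h1, map_one]

theorem MinusData6.quadFormMinus_act (g : SU 4 K q) (v : J6 → k) :
    Cfsg.quadFormMinus 2 k a b (E.act g v) = Cfsg.quadFormMinus 2 k a b v := by
  apply E.φ.injective
  rw [← E.quadFormPlus_emb, E.emb_act, quadFormPlus_actM, g.1.2, one_mul, E.quadFormPlus_emb]

/-- `SU₄(q) → O⁻₆(q)`. -/
noncomputable def MinusData6.psi : SU 4 K q →* Cfsg.isometryGroup k (Cfsg.quadFormMinus 2 k a b) :=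
  E.actGL.codRestrict _ (fun g => by
    intro u v
    change Cfsg.quadFormMinus 2 k a b ((E.actGL g).1 *ᵥ u) = Cfsg.quadFormMinus 2 k a b u
    rw [E.actGL_mulVec, E.quadFormMinus_act])

theorem MinusData6.psi_val (g : SU 4 K q) : (E.psi g).1 = E.actGL g := rfl

theorem MinusData6.psi_ker (g : SU 4 K q) (hg : g ∈ E.psi.ker) :
    ∃ r : K, r ^ 2 = 1 ∧ g.1.1 = Matrix.scalar (Fin 4) r := by
  rw [MonoidHom.mem_ker] at hg
  have h1 : E.act g = 1 := by
    rw [← E.actGL_eq_one_iff, ← E.psi_val, hg]; rfl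
  have h2 : actM g.1.1 = 1 := by
    apply E.eq_of_forall_emb
    intro v
    rw [← E.emb_act, h1]
    rfl
  apply psi6_ker g.1
  rw [MonoidHom.mem_ker]
  apply Subtype.ext
  rw [psi6_val]
  change act6GL K (Matrix.SpecialLinearGroup.toGL g.1) = 1
  rw [act6GL_eq_one_iff, act6_eq_actM]
  exact h2

theorem MinusData6.psi_ker_le_center : E.psi.ker ≤ Subgroup.center (SU 4 K q) := by
  intro g hg
  obtain ⟨r, -, h1⟩ := E.psi_ker g hg
  rw [Subgroup.mem_center_iff]
  intro h
  apply Subtype.ext; apply Subtype.ext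
  change h.1.1 * g.1.1 = g.1.1 * h.1.1
  rw [h1]
  exact (Matrix.scalar_commute r (fun _ => Commute.all _ _) h.1.1).eq.symm

end minus6d

end Cfsg.Agent.Lib.Helper5
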