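import Mathlib
import Cfsg.Agent.S0244

set_option autoImplicit false

namespace Cfsg.Agent.Lib.Helper5

open Matrix

section blocksum
variable {R : Type*} [CommRing R]
variable {l₁ l₂ : Type*} [DecidableEq l₁] [Fintype l₁] [DecidableEq l₂] [Fintype l₂]

/-- block sum of two matrices, reindexed to `(l₁ ⊕ l₂) ⊕ (l₁ ⊕ l₂)` -/
def blockSum (A : Matrix (l₁ ⊕ l₁) (l₁ ⊕ l₁) R) (B : Matrix (l₂ ⊕ l₂) (l₂ ⊕ l₂) R) :
    Matrix ((l₁ ⊕ l₂) ⊕ (l₁ ⊕ l₂)) ((l₁ ⊕ l₂) ⊕ (l₁ ⊕ l₂)) R :=
  (Matrix.fromBlocks A 0 0 B).submatrix (Equiv.sumSumSumComm l₁ l₂ l₁ l₂)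
    (Equiv.sumSumSumComm l₁ l₂ l₁ l₂)

theorem blockSum_mul (A A' : Matrix (l₁ ⊕ l₁) (l₁ ⊕ l₁) R) (B B' : Matrix (l₂ ⊕ l₂) (l₂ ⊕ l₂) R) :
    blockSum A B * blockSum A' B' = blockSum (A * A') (B * B') := by
  unfold blockSum
  rw [Matrix.submatrix_mul_equiv, Matrix.fromBlocks_multiply]
  simp

theorem blockSum_one :
    blockSum (1 : Matrix (l₁ ⊕ l₁) (l₁ ⊕ l₁) R) (1 : Matrix (l₂ ⊕ l₂) (l₂ ⊕ l₂) R) = 1 := by
  unfold blockSum
  rw [Matrix.fromBlocks_one, Matrix.submatrix_one_equiv]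

theorem blockSum_transpose (A : Matrix (l₁ ⊕ l₁) (l₁ ⊕ l₁) R) (B : Matrix (l₂ ⊕ l₂) (l₂ ⊕ l₂) R) :
    (blockSum A B)ᵀ = blockSum Aᵀ Bᵀ := by
  unfold blockSum
  rw [Matrix.transpose_submatrix, Matrix.fromBlocks_transpose]
  simp

theorem blockSum_injective {A A' : Matrix (l₁ ⊕ l₁) (l₁ ⊕ l₁) R}
    {B B' : Matrix (l₂ ⊕ l₂) (l₂ ⊕ l₂) R} (h : blockSum A B = blockSum A' B') :
    A = A' ∧ B = B' := by
  unfold blockSum at h
  have h2 : Matrix.fromBlocks A 0 0 B = Matrix.fromBlocks A' 0 0 B' :=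
    (Matrix.reindex (Equiv.sumSumSumComm l₁ l₂ l₁ l₂).symm
      (Equiv.sumSumSumComm l₁ l₂ l₁ l₂).symm).injective h
  rw [Matrix.fromBlocks_inj] at h2
  exact ⟨h2.1, h2.2.2.2⟩

theorem J_sum : J (l₁ ⊕ l₂) R = blockSum (J l₁ R) (J l₂ R) := by
  unfold blockSum
  ext i j
  rcases i with (i | i) | (i | i) <;> rcases j with (j | j) | (j | j) <;>
    simp [J, Matrix.one_apply, Matrix.neg_apply]

theorem blockSum_mem {A : Matrix (l₁ ⊕ l₁) (l₁ ⊕ l₁) R} {B : Matrix (l₂ ⊕ l₂) (l₂ ⊕ l₂) R}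
    (hA : A ∈ symplecticGroup l₁ R) (hB : B ∈ symplecticGroup l₂ R) :
    blockSum A B ∈ symplecticGroup (l₁ ⊕ l₂) R := by
  rw [_root_.SymplecticGroup.mem_iff] at hA hB ⊢
  rw [J_sum, blockSum_transpose, blockSum_mul, blockSum_mul, hA, hB]

/-- `Sp(l₁) × Sp(l₂) → Sp(l₁ ⊕ l₂)` -/
def spProd : symplecticGroup l₁ R × symplecticGroup l₂ R →* symplecticGroup (l₁ ⊕ l₂) R where
  toFun x := ⟨blockSum x.1.1 x.2.1, blockSum_mem x.1.2 x.2.2⟩
  map_one' := by
    apply Subtype.ext
    exact blockSum_one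
  map_mul' x y := by
    apply Subtype.ext
    exact (blockSum_mul x.1.1 y.1.1 x.2.1 y.2.1).symm

theorem spProd_coe (x : symplecticGroup l₁ R × symplecticGroup l₂ R) :
    (spProd x).1 = blockSum x.1.1 x.2.1 := rfl

theorem spProd_injective :
    Function.Injective (spProd : symplecticGroup l₁ R × symplecticGroup l₂ R →* _) := by
  intro x y h
  have := blockSum_injective (congrArg Subtype.val h)
  exact Prod.ext (Subtype.ext this.1) (Subtype.ext this.2)

end blocksum

section swap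
variable {R : Type*} [CommRing R]
variable {l : Type*} [DecidableEq l] [Fintype l]

/-- the matrix swapping the two summands -/
def swapMat (l : Type*) [DecidableEq l] [Fintype l] (R : Type*) [CommRing R] :
    Matrix ((l ⊕ l) ⊕ (l ⊕ l)) ((l ⊕ l) ⊕ (l ⊕ l)) R :=
  (Matrix.fromBlocks (0 : Matrix (l ⊕ l) (l ⊕ l) R) 1 1 0).submatrix (Equiv.sumSumSumComm l l l l)
    (Equiv.sumSumSumComm l l l l)

theorem swapMat_mul_self : swapMat l R * swapMat l R = 1 := by
  unfold swapMat
  rw [Matrix.submatrix_mul_equiv, Matrix.fromBlocks_multiply]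
  simp [Matrix.fromBlocks_one]

theorem swapMat_transpose : (swapMat l R)ᵀ = swapMat l R := by
  unfold swapMat
  rw [Matrix.transpose_submatrix, Matrix.fromBlocks_transpose]
  simp

theorem swapMat_mul_blockSum_mul (A B : Matrix (l ⊕ l) (l ⊕ l) R) :
    swapMat l R * blockSum A B * swapMat l R = blockSum B A := by
  unfold swapMat blockSum
  rw [Matrix.submatrix_mul_equiv, Matrix.submatrix_mul_equiv, Matrix.fromBlocks_multiply,
    Matrix.fromBlocks_multiply]
  simp

theorem swapMat_mem : swapMat l R ∈ symplecticGroup (l ⊕ l) R := by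
  rw [_root_.SymplecticGroup.mem_iff, J_sum, swapMat_transpose, swapMat_mul_blockSum_mul]

/-- the swap as an element of the symplectic group -/
def spSwap (l : Type*) [DecidableEq l] [Fintype l] (R : Type*) [CommRing R] :
    symplecticGroup (l ⊕ l) R := ⟨swapMat l R, swapMat_mem⟩

theorem spSwap_mul_self : spSwap l R * spSwap l R = 1 := by
  apply Subtype.ext
  exact swapMat_mul_self

theorem spSwap_inv : (spSwap l R)⁻¹ = spSwap l R := inv_eq_of_mul_eq_one_left spSwap_mul_self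

theorem spSwap_conj (a b : symplecticGroup l R) :
    spSwap l R * spProd (a, b) * (spSwap l R)⁻¹ = spProd (b, a) := by
  rw [spSwap_inv]
  apply Subtype.ext
  exact swapMat_mul_blockSum_mul a.1 b.1

theorem spSwap_not_mem_range [Nonempty l] [Nontrivial R] :
    spSwap l R ∉ (spProd : symplecticGroup l R × symplecticGroup l R →* _).range := by
  rintro ⟨⟨a, b⟩, h⟩
  have h1 := congrArg Subtype.val h
  obtain ⟨i⟩ := ‹Nonempty l›
  have h2 := congrFun (congrFun h1 (Sum.inl (Sum.inl i))) (Sum.inl (Sum.inr i))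
  simp [spProd_coe, spSwap, swapMat, blockSum] at h2

end swap

section reindex
variable {R : Type*} [CommRing R]
variable {l l' : Type*} [DecidableEq l] [Fintype l] [DecidableEq l'] [Fintype l']

theorem J_submatrix (e : l ≃ l') :
    (J l R).submatrix (e.symm.sumCongr e.symm) (e.symm.sumCongr e.symm) = J l' R := by
  ext i j
  rcases i with i | i <;> rcases j with j | j <;> simp [J, Matrix.one_apply]

theorem submatrix_mem (e : l ≃ l') {A : Matrix (l ⊕ l) (l ⊕ l) R} (hA : A ∈ symplecticGroup l R) :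
    A.submatrix (e.symm.sumCongr e.symm) (e.symm.sumCongr e.symm) ∈ symplecticGroup l' R := by
  rw [_root_.SymplecticGroup.mem_iff] at hA ⊢
  rw [← J_submatrix (R := R) e, Matrix.transpose_submatrix, Matrix.submatrix_mul_equiv,
    Matrix.submatrix_mul_equiv, hA]

/-- reindexing isomorphism of symplectic groups -/
def spReindex (e : l ≃ l') : symplecticGroup l R ≃* symplecticGroup l' R where
  toFun A := ⟨A.1.submatrix (e.symm.sumCongr e.symm) (e.symm.sumCongr e.symm), submatrix_mem e A.2⟩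
  invFun A := ⟨A.1.submatrix (e.sumCongr e) (e.sumCongr e), by
    have := submatrix_mem e.symm A.2
    simpa using this⟩
  left_inv A := by
    apply Subtype.ext
    ext i j
    rcases i with i | i <;> rcases j with j | j <;> simp
  right_inv A := by
    apply Subtype.ext
    ext i j
    rcases i with i | i <;> rcases j with j | j <;> simp
  map_mul' A B := by
    apply Subtype.ext
    show (A.1 * B.1).submatrix _ _ = A.1.submatrix _ _ * B.1.submatrix _ _
    rw [Matrix.submatrix_mul_equiv]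

end reindex

section sl2
variable {F : Type*} [Field F]

/-- `Fin 1 ⊕ Fin 1 ≃ Fin 2` -/
def e11 : Fin 1 ⊕ Fin 1 ≃ Fin 2 := finSumFinEquiv

/-- `Sp₂(F) ≃* SL₂(F)` -/
def spOneEquivSL2 : symplecticGroup (Fin 1) F ≃* Matrix.SpecialLinearGroup (Fin 2) F where
  toFun A := ⟨A.1.submatrix e11.symm e11.symm, by
    rw [Matrix.det_submatrix_equiv_self]
    exact (Cfsg.Agent.S0244.result A.1).1 A.2⟩
  invFun B := ⟨B.1.submatrix e11 e11, by
    apply (Cfsg.Agent.S0244.result _).2
    rw [Matrix.det_submatrix_equiv_self]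
    exact B.2⟩
  left_inv A := by
    apply Subtype.ext
    simp
  right_inv B := by
    apply Subtype.ext
    simp
  map_mul' A B := by
    apply Subtype.ext
    show (A.1 * B.1).submatrix _ _ = A.1.submatrix _ _ * B.1.submatrix _ _
    rw [Matrix.submatrix_mul_equiv]

end sl2

end Cfsg.Agent.Lib.Helper5
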