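import Cfsg.Agent.Lib.Helper5.BNStIrr

/-!
# The Steinberg character of a finite group with a (B,N)-pair, restricted to `B`

`St|_B` is the permutation character of `B` on the cosets of `B ∩ n₀ B n₀⁻¹`, `n₀` a representative
of the longest element of the Weyl group.
-/

set_option autoImplicit false

namespace Cfsg.Agent.Lib.Helper5.BNSt

open Finset Cfsg Cfsg.Agent.Lib.Helper6 Cfsg.Agent.Lib.Helper5.CoxEx MulAction

universe u

section cells

variable {G : Type*} [Group G] (P : Cfsg.BNPair G)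

lemma len_inv' {n : G} (hn : n ∈ P.N) : len P n⁻¹ = len P n := by
  rw [← wlen_clG P (P.N.inv_mem hn), ← wlen_clG P hn, clG_inv P hn, wlen_inv (exSys P)]

lemma len_mul_le' {a b : G} (ha : a ∈ P.N) (hb : b ∈ P.N) :
    len P (a * b) ≤ len P a + len P b := by
  rw [← wlen_clG P (P.N.mul_mem ha hb), ← wlen_clG P ha, ← wlen_clG P hb, clG_mul P ha hb]
  exact wlen_mul_le (exSys P) _ _

/-- right-handed version of `good_of_len_le'` -/
lemma inDC_mul_S_right {n s : G} (hn : n ∈ P.N) (hs : s ∈ P.S) (h : len P n ≤ len P (n * s))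
    {b : G} (hb : b ∈ P.B) : InDC P (n * s) (n * b * s) := by
  have hsN := P.subset hs
  have hninv : n⁻¹ ∈ P.N := P.N.inv_mem hn
  have h1 : len P (s * n⁻¹) = len P (n * s) := by
    have e : s * n⁻¹ = (n * s⁻¹)⁻¹ := by group
    rw [e, len_inv' P (P.N.mul_mem hn (P.N.inv_mem hsN)), len_congr P (rel_mul_inv P hs)]
  have hg : Good P s n⁻¹ := good_of_len_le' P hninv hs (by rw [len_inv' P hn, h1]; exact h)
  have h2 := inDC_inv P (hg b⁻¹ (P.B.inv_mem hb))
  have e1 : (s * n⁻¹)⁻¹ = n * s⁻¹ := by group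
  have e2 : (s * b⁻¹ * n⁻¹)⁻¹ = n * b * s⁻¹ := by group
  rw [e1, e2] at h2
  obtain ⟨t, ht, e⟩ := S_inv_eq P hs
  have h3 : InDC P (n * s⁻¹) (n * b * s) := by
    have : n * b * s = n * b * s⁻¹ * t⁻¹ := by rw [e]; group
    rw [this]
    exact inDC_mul_right P (P.B.inv_mem ht.1) h2
  exact inDC_of_rel P (rel_mul_inv P hs) h3

lemma inDC_mul_word : ∀ (l : List G), IsWord P.S l → ∀ n ∈ P.N,
    len P (n * l.prod) = len P n + l.length → ∀ b ∈ P.B,
    InDC P (n * l.prod) (n * b * l.prod) := by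
  intro l
  induction l with
  | nil =>
    intro _ n _ _ b hb
    simp only [List.prod_nil, mul_one]
    exact inDC_mul_right P hb (inDC_self P n)
  | cons s l ih =>
    intro hl n hn hlen b hb
    obtain ⟨hs, hl'⟩ := isWord_cons.1 hl
    have hsN := P.subset hs
    have hlN : l.prod ∈ P.N := prod_mem_N P hl'
    have hnsN : n * s ∈ P.N := P.N.mul_mem hn hsN
    have e1 : n * (s * l.prod) = n * s * l.prod := by group
    rw [List.prod_cons, e1] at hlen
    simp only [List.length_cons] at hlen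
    have h1 : len P (n * s * l.prod) ≤ len P (n * s) + len P l.prod := len_mul_le' P hnsN hlN
    have h2 : len P l.prod ≤ l.length := len_le_of_rep P (rep_prod P hl')
    have h3 : len P (n * s) ≤ len P n + 1 := len_mul_right_le P hs hn
    have h5 : len P (n * s * l.prod) = len P (n * s) + l.length := by omega
    obtain ⟨x, hx, y, hy, e⟩ := inDC_mul_S_right P hn hs (by omega) hb
    have e2 : n * b * (s * l.prod) = x * (n * s * y * l.prod) := by
      have : n * b * (s * l.prod) = (n * b * s) * l.prod := by group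
      rw [this, e]; group
    rw [List.prod_cons, e1, e2]
    exact inDC_mul_left P hx (ih hl' (n * s) hnsN h5 y hy)

/-- `B n B · B y B = B n y B` when the lengths add up. -/
lemma inDC_mul_of_len_add {n y : G} (hn : n ∈ P.N) (hy : y ∈ P.N)
    (hlen : len P (n * y) = len P n + len P y) {b : G} (hb : b ∈ P.B) :
    InDC P (n * y) (n * b * y) := by
  obtain ⟨l, ⟨hl, hrel⟩, hll⟩ := exists_rep_len P hy
  have hrel' : Helper6.Rel P (n * l.prod) (n * y) := rel_mul_left P n hrel
  have h1 : len P (n * l.prod) = len P n + l.length := by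
    rw [len_congr P hrel', hlen, hll]
  have h2 := inDC_mul_word P l hl n hn h1 b hb
  have e : n * b * y = n * b * l.prod * (l.prod⁻¹ * y) := by group
  rw [e]
  exact inDC_mul_right P hrel (inDC_of_rel P hrel' h2)

/-- **Key lemma**: if `n` has no right descent in `K` then `B ∩ n P_K n⁻¹ ⊆ n B n⁻¹`,
in the form: `g, g q ∈ B n B` and `q ∈ P_K` imply `q ∈ B`. -/
lemma mem_B_of_inDC {K : Set G} (hK : K ⊆ P.S) {n : G} (hn : n ∈ P.N)
    (hred : ∀ s ∈ K, len P n < len P (n * s)) {g q : G} (hg : InDC P n g)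
    (hq : q ∈ P.parabolic K) (hgq : InDC P n (g * q)) : q ∈ P.B := by
  obtain ⟨x, hx, y, hy, rfl⟩ := hg
  have hyq : y * q ∈ P.parabolic K := (P.parabolic K).mul_mem (B_le_parabolic P K hy) hq
  obtain ⟨m, hm, x', hx', y', hy', e⟩ := (mem_parabolic_iff P hK _).1 hyq
  have hmN : m ∈ P.N := closure_le_N P hK hm
  have hadd : len P (n * m) = len P n + len P m := by
    rw [← wlen_clG P (P.N.mul_mem hn hmN), ← wlen_clG P hn, ← wlen_clG P hmN, clG_mul P hn hmN]
    apply wlen_mul_of_isRed (exSys P) (image_subset_SW P hK)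
    · rintro _ ⟨s, hs, rfl⟩
      rw [← clG_mul P hn (P.subset (hK hs)), wlen_clG P hn,
        wlen_clG P (P.N.mul_mem hn (P.subset (hK hs)))]
      exact hred s hs
    · exact (mem_closure_image P hK _).2 ⟨m, hm, rfl⟩
  have h1 : InDC P (n * m) (n * x' * m) := inDC_mul_of_len_add P hn hmN hadd hx'
  have e2 : x * n * y * q = x * (n * x' * m) * y' := by
    have : x * n * y * q = x * n * (y * q) := by group
    rw [this, e]; group
  rw [e2] at hgq
  have h2 : InDC P (n * m) (x * (n * x' * m) * y') :=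
    inDC_mul_right P hy' (inDC_mul_left P hx h1)
  have h3 : InDC P n (n * m) := inDC_trans P hgq (inDC_symm P h2)
  have h4 : Helper6.Rel P n (n * m) := bruhat_unique P hn (P.N.mul_mem hn hmN) h3
  have hmB : m ∈ P.B := by
    have : n⁻¹ * (n * m) = m := by group
    rw [← this]; exact h4
  have : q = y⁻¹ * (x' * m * y') := by rw [← e]; group
  rw [this]
  exact P.B.mul_mem (P.B.inv_mem hy) (P.B.mul_mem (P.B.mul_mem hx' hmB) hy')

/-- the Bruhat cell of `g`, as an element of the Weyl group -/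
noncomputable def cellOf (g : G) : Weyl P := clG P (nOf P g)

lemma cellOf_eq_iff (g g' : G) : cellOf P g = cellOf P g' ↔ InDC P g g' := by
  unfold cellOf
  rw [clG_eq_iff P (nOf_mem P g) (nOf_mem P g')]
  constructor
  · intro h
    exact inDC_trans P (inDC_symm P (nOf_inDC P g))
      (inDC_trans P (rel_inDC P h) (nOf_inDC P g'))
  · intro h
    apply bruhat_unique P (nOf_mem P g) (nOf_mem P g')
    exact inDC_trans P (nOf_inDC P g) (inDC_trans P h (inDC_symm P (nOf_inDC P g')))

lemma cellOf_of_mem_N {n : G} (hn : n ∈ P.N) : cellOf P n = clG P n := clG_nOf P hn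

lemma cellOf_eq_clG_iff {n : G} (hn : n ∈ P.N) (g : G) : cellOf P g = clG P n ↔ InDC P n g := by
  rw [← cellOf_of_mem_N P hn, cellOf_eq_iff]
  exact ⟨inDC_symm P, inDC_symm P⟩

lemma cellOf_mul_right {g b : G} (hb : b ∈ P.B) : cellOf P (g * b) = cellOf P g := by
  rw [cellOf_eq_iff]
  exact inDC_symm P (inDC_mul_right P hb (inDC_self P g))

lemma cellOf_mul_left {g b : G} (hb : b ∈ P.B) : cellOf P (b * g) = cellOf P g := by
  rw [cellOf_eq_iff]
  exact inDC_symm P (inDC_mul_left P hb (inDC_self P g))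

/-- the Bruhat cell of a coset `g B` -/
noncomputable def cellQ (y : G ⧸ P.B) : Weyl P := cellOf P (Quotient.out y)

lemma cellQ_mk (g : G) : cellQ P (g : G ⧸ P.B) = cellOf P g := by
  unfold cellQ
  obtain ⟨h, e⟩ := QuotientGroup.mk_out_eq_mul P.B g
  rw [e]
  exact cellOf_mul_right P h.2

lemma cellQ_smul {b : G} (hb : b ∈ P.B) (y : G ⧸ P.B) : cellQ P (b • y) = cellQ P y := by
  induction y using QuotientGroup.induction_on with
  | H g =>
    rw [MulAction.Quotient.smul_mk, cellQ_mk, cellQ_mk, smul_eq_mul]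
    exact cellOf_mul_left P hb

variable {K : Set G} (hK : K ⊆ P.S)

include hK in
lemma len_lt_of_isRed {n : G} (hn : n ∈ P.N)
    (h : IsRed (SW P) ∅ (clG P '' K) (clG P n)) : ∀ s ∈ K, len P n < len P (n * s) := by
  intro s hs
  have := h.2 (clG P s) ⟨s, hs, rfl⟩
  rwa [← clG_mul P hn (P.subset (hK hs)), wlen_clG P hn,
    wlen_clG P (P.N.mul_mem hn (P.subset (hK hs)))] at this

include hK in
lemma proj_inj {g g' : G} (hg : IsRed (SW P) ∅ (clG P '' K) (cellOf P g))
    (hg' : IsRed (SW P) ∅ (clG P '' K) (cellOf P g')) (h : g⁻¹ * g' ∈ P.parabolic K) :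
    g⁻¹ * g' ∈ P.B := by
  have hdc : dcRel (clG P '' ∅) (clG P '' K) (cellOf P g) (cellOf P g') :=
    dcRel_of_eq P (Set.empty_subset _) hK (nOf_mem P g) (nOf_mem P g') (one_mem _) h
      (nOf_inDC P g) (nOf_inDC P g') (by group)
  rw [Set.image_empty] at hdc
  have heq : cellOf P g = cellOf P g' :=
    isRed_unique (exSys P) (Set.empty_subset _) (image_subset_SW P hK) hg hg' hdc
  refine mem_B_of_inDC P hK (nOf_mem P g) (len_lt_of_isRed P hK (nOf_mem P g) hg)
    (nOf_inDC P g) h ?_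
  have : g * (g⁻¹ * g') = g' := by group
  rw [this]
  exact inDC_trans P (nOf_inDC P g) ((cellOf_eq_iff P g g').1 heq)

include hK in
lemma proj_surj (g : G) : ∃ g' : G, IsRed (SW P) ∅ (clG P '' K) (cellOf P g') ∧
    g⁻¹ * g' ∈ P.parabolic K := by
  have key : ∀ n ∈ P.N, InDC P n g → ∃ g' : G, IsRed (SW P) ∅ (clG P '' K) (cellOf P g') ∧
      g⁻¹ * g' ∈ P.parabolic K := by
    intro n hn hng
    obtain ⟨w, hdc, hw⟩ := exists_isRed (exSys P) (Set.empty_subset _) (image_subset_SW P hK)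
      (clG P n)
    obtain ⟨a, ha, c, hc, e⟩ := hdc
    have ha1 : a = 1 := closure_empty_eq a ha
    obtain ⟨m, hm, rfl⟩ := (mem_closure_image P hK c).1 hc
    have hmN := closure_le_N P hK hm
    obtain ⟨x, hx, y, hy, rfl⟩ := hng
    refine ⟨x * n * y * y⁻¹ * m, ?_, ?_⟩
    · have : cellOf P (x * n * y * y⁻¹ * m) = w := by
        rw [e, ha1, one_mul, ← clG_mul P hn hmN, cellOf_eq_clG_iff P (P.N.mul_mem hn hmN)]
        exact ⟨x, hx, 1, P.B.one_mem, by group⟩
      rw [this]
      exact hw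
    · have : (x * n * y)⁻¹ * (x * n * y * y⁻¹ * m) = y⁻¹ * m := by group
      rw [this]
      exact (P.parabolic K).mul_mem (B_le_parabolic P K (P.B.inv_mem hy))
        (closure_le_parabolic P K hm)
  exact key _ (nOf_mem P g) (nOf_inDC P g)

include hK in
/-- the fixed points of `b ∈ B` on `G / P_K` correspond to the fixed points on the cosets `g B`
in the cells of the right-`K`-reduced elements -/
lemma card_fixedBy_parabolic {b : G} (hb : b ∈ P.B) :
    Nat.card (fixedBy (G ⧸ P.parabolic K) b) =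
      Nat.card {y : G ⧸ P.B // IsRed (SW P) ∅ (clG P '' K) (cellQ P y) ∧ b • y = y} := by
  symm
  have hπ : ∀ (a : G) (y : G ⧸ P.B), Subgroup.quotientMapOfLE (B_le_parabolic P K) (a • y) =
      a • Subgroup.quotientMapOfLE (B_le_parabolic P K) y := by
    intro a y
    induction y using QuotientGroup.induction_on with
    | H g => rfl
  have hinj : ∀ y y' : G ⧸ P.B, IsRed (SW P) ∅ (clG P '' K) (cellQ P y) →
      IsRed (SW P) ∅ (clG P '' K) (cellQ P y') →
      Subgroup.quotientMapOfLE (B_le_parabolic P K) y =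
        Subgroup.quotientMapOfLE (B_le_parabolic P K) y' → y = y' := by
    intro y y'
    induction y using QuotientGroup.induction_on with
    | H g =>
      induction y' using QuotientGroup.induction_on with
      | H g' =>
        intro h1 h2 h3
        rw [cellQ_mk] at h1 h2
        rw [Subgroup.quotientMapOfLE_apply_mk, Subgroup.quotientMapOfLE_apply_mk,
          QuotientGroup.eq] at h3
        exact QuotientGroup.eq.2 (proj_inj P hK h1 h2 h3)
  refine Nat.card_congr (Equiv.ofBijective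
    (fun y => ⟨Subgroup.quotientMapOfLE (B_le_parabolic P K) y.1, ?_⟩) ⟨?_, ?_⟩)
  · show b • Subgroup.quotientMapOfLE (B_le_parabolic P K) y.1 = _
    rw [← hπ, y.2.2]
  · intro y y' h
    apply Subtype.ext
    exact hinj _ _ y.2.1 y'.2.1 (congrArg Subtype.val h)
  · rintro ⟨x, hx⟩
    induction x using QuotientGroup.induction_on with
    | H g =>
      obtain ⟨g', hg'1, hg'2⟩ := proj_surj P hK g
      have hπg' : Subgroup.quotientMapOfLE (B_le_parabolic P K) (g' : G ⧸ P.B) =
          (g : G ⧸ P.parabolic K) := by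
        rw [Subgroup.quotientMapOfLE_apply_mk]
        exact (QuotientGroup.eq.2 hg'2).symm
      refine ⟨⟨(g' : G ⧸ P.B), ?_, ?_⟩, Subtype.ext hπg'⟩
      · rw [cellQ_mk]; exact hg'1
      · apply hinj
        · rw [cellQ_smul P hb, cellQ_mk]; exact hg'1
        · rw [cellQ_mk]; exact hg'1
        · rw [hπ, hπg']; exact hx

open Classical in
include hK in
lemma card_fixedBy_parabolic_sum [Finite G] [Fintype (Weyl P)] {b : G} (hb : b ∈ P.B) :
    (Nat.card (fixedBy (G ⧸ P.parabolic K) b) : ℂ) =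
      ∑ w ∈ (univ : Finset (Weyl P)).filter (fun w => IsRed (SW P) ∅ (clG P '' K) w),
        (Nat.card {y : G ⧸ P.B // cellQ P y = w ∧ b • y = y} : ℂ) := by
  have : Fintype (G ⧸ P.B) := Fintype.ofFinite _
  rw [card_fixedBy_parabolic P hK hb]
  have h1 : Nat.card {y : G ⧸ P.B // IsRed (SW P) ∅ (clG P '' K) (cellQ P y) ∧ b • y = y} =
      ((univ : Finset (G ⧸ P.B)).filter
        (fun y => IsRed (SW P) ∅ (clG P '' K) (cellQ P y) ∧ b • y = y)).card := by
    rw [Nat.card_eq_fintype_card, Fintype.card_subtype]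
  have h2 : ∀ w, Nat.card {y : G ⧸ P.B // cellQ P y = w ∧ b • y = y} =
      ((univ : Finset (G ⧸ P.B)).filter (fun y => cellQ P y = w ∧ b • y = y)).card := by
    intro w
    rw [Nat.card_eq_fintype_card, Fintype.card_subtype]
  rw [h1]
  simp_rw [h2]
  rw [Finset.card_eq_sum_card_fiberwise (f := cellQ P)
    (t := (univ : Finset (Weyl P)).filter (fun w => IsRed (SW P) ∅ (clG P '' K) w))]
  · push_cast
    refine Finset.sum_congr rfl fun w hw => ?_
    congr 2
    ext y
    simp only [mem_filter, mem_univ, true_and]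
    rw [mem_filter] at hw
    constructor
    · rintro ⟨⟨_, h⟩, e⟩
      exact ⟨e, h⟩
    · rintro ⟨e, h⟩
      exact ⟨⟨e ▸ hw.2, h⟩, e⟩
  · intro y hy
    simp only [coe_filter, mem_univ, true_and, Set.mem_ofPred_eq] at hy ⊢
    exact hy.1

end cells

section main

variable {G : Type u} [Group G] (P : Cfsg.BNPair G)
variable {ι : Type*} [Fintype ι] [DecidableEq ι] (σ : ι → G)
variable (hσ : ∀ i, σ i ∈ P.S) (hS : ∀ s ∈ P.S, ∃ i, σ i = s)

include hσ hS in
/-- the value of the Steinberg character at `b ∈ B`: the number of fixed points of `b` on the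
big cell `B n₀ B / B` -/
theorem stChar_apply_of_mem_B [Fintype G] {n₀ : G}
    (hlong : IsLongest (SW P) (clG P n₀)) {b : G} (hb : b ∈ P.B) :
    stChar P σ b = (Nat.card {y : G ⧸ P.B // cellQ P y = clG P n₀ ∧ b • y = y} : ℂ) := by
  classical
  have : Fintype (Weyl P) := Fintype.ofFinite _
  have hσW : ∀ i, (fun i => clG P (σ i)) i ∈ SW P := fun i => ⟨σ i, hσ i, rfl⟩
  have hSW : ∀ s ∈ SW P, ∃ i, (fun i => clG P (σ i)) i = s := by
    rintro _ ⟨s, hs, rfl⟩
    obtain ⟨i, rfl⟩ := hS s hs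
    exact ⟨i, rfl⟩
  have h1 : ∀ J : Finset ι, fixedPointCharacter (P.parabolic (σ '' (J : Set ι))) b =
      ∑ w ∈ univ.filter (fun w => IsRed (SW P) ∅ ((fun i => clG P (σ i)) '' (J : Set ι)) w),
        (Nat.card {y : G ⧸ P.B // cellQ P y = w ∧ b • y = y} : ℂ) := by
    intro J
    unfold fixedPointCharacter
    rw [card_fixedBy_parabolic_sum P (image_subset_S P σ hσ J) hb, image_image_clG]
  unfold stChar
  rw [Finset.sum_congr rfl (fun J _ => by rw [h1 J])]
  exact sum_isRed_right (fun i => clG P (σ i)) (exSys P) hσW hSW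
    (fun w => (Nat.card {y : G ⧸ P.B // cellQ P y = w ∧ b • y = y} : ℂ)) hlong

/-- the cell `B n B / B` as a `B`-set is `B / (B ∩ n B n⁻¹)` -/
lemma card_cell_fixed [Finite G] {n : G} (hn : n ∈ P.N) (H' : Subgroup ↥P.B)
    (hH' : ∀ b' : ↥P.B, b' ∈ H' ↔ n⁻¹ * (b' : G) * n ∈ P.B) (b : ↥P.B) :
    Nat.card {y : G ⧸ P.B // cellQ P y = clG P n ∧ (b : G) • y = y} =
      Nat.card (fixedBy (↥P.B ⧸ H') b) := by
  have hwd : ∀ a c : ↥P.B, QuotientGroup.leftRel H' a c →
      ((((a : G) * n : G)) : G ⧸ P.B) = ((((c : G) * n : G)) : G ⧸ P.B) := by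
    intro a c hac
    rw [QuotientGroup.leftRel_apply] at hac
    apply QuotientGroup.eq.2
    have := (hH' _).1 hac
    have e : ((a : G) * n)⁻¹ * ((c : G) * n) = n⁻¹ * ((a⁻¹ * c : ↥P.B) : G) * n := by
      push_cast; group
    rw [e]
    exact this
  let f : ↥P.B ⧸ H' → G ⧸ P.B := fun q =>
    Quotient.liftOn' q (fun b' => (((b' : G) * n : G) : G ⧸ P.B)) hwd
  have hf_mk : ∀ b' : ↥P.B, f (b' : ↥P.B ⧸ H') = (((b' : G) * n : G) : G ⧸ P.B) := fun _ => rfl
  have hf_smul : ∀ (a : ↥P.B) (q : ↥P.B ⧸ H'), f (a • q) = (a : G) • f q := by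
    intro a q
    induction q using QuotientGroup.induction_on with
    | H c =>
      rw [MulAction.Quotient.smul_mk, hf_mk, hf_mk, MulAction.Quotient.smul_mk]
      simp only [smul_eq_mul, Subgroup.coe_mul, mul_assoc]
  have hf_inj : Function.Injective f := by
    intro q q'
    induction q using QuotientGroup.induction_on with
    | H a =>
      induction q' using QuotientGroup.induction_on with
      | H c =>
        intro h
        rw [hf_mk, hf_mk, QuotientGroup.eq] at h
        apply QuotientGroup.eq.2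
        rw [hH']
        have e : ((a : G) * n)⁻¹ * ((c : G) * n) = n⁻¹ * ((a⁻¹ * c : ↥P.B) : G) * n := by
          push_cast; group
        rwa [e] at h
  have hf_cell : ∀ q : ↥P.B ⧸ H', cellQ P (f q) = clG P n := by
    intro q
    induction q using QuotientGroup.induction_on with
    | H a =>
      rw [hf_mk, cellQ_mk, cellOf_mul_left P a.2, cellOf_of_mem_N P hn]
  symm
  refine Nat.card_congr (Equiv.ofBijective
    (fun q => ⟨f q.1, hf_cell q.1, ?_⟩) ⟨?_, ?_⟩)
  · rw [← hf_smul]
    exact congrArg f q.2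
  · intro q q' h
    apply Subtype.ext
    exact hf_inj (congrArg Subtype.val h)
  · rintro ⟨y, hy1, hy2⟩
    induction y using QuotientGroup.induction_on with
    | H g =>
      rw [cellQ_mk, cellOf_eq_clG_iff P hn] at hy1
      obtain ⟨x, hx, z, hz, rfl⟩ := hy1
      have hfx : f ((⟨x, hx⟩ : ↥P.B) : ↥P.B ⧸ H') = ((x * n * z : G) : G ⧸ P.B) := by
        rw [hf_mk]
        apply QuotientGroup.eq.2
        have : (x * n)⁻¹ * (x * n * z) = z := by group
        show ((x * n)⁻¹ * (x * n * z)) ∈ P.B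
        rw [this]
        exact hz
      refine ⟨⟨((⟨x, hx⟩ : ↥P.B) : ↥P.B ⧸ H'), ?_⟩, Subtype.ext hfx⟩
      show b • _ = _
      apply hf_inj
      rw [hf_smul, hfx]
      exact hy2

include hσ hS in
/-- **The Steinberg character restricted to `B`** is the permutation character of `B` on the
cosets of `B ∩ n₀ B n₀⁻¹`. -/
theorem stChar_restrict_B [Fintype G] {n₀ : G} (hn₀ : n₀ ∈ P.N)
    (hlong : IsLongest (SW P) (clG P n₀)) (H' : Subgroup ↥P.B)
    (hH' : ∀ b' : ↥P.B, b' ∈ H' ↔ n₀⁻¹ * (b' : G) * n₀ ∈ P.B) (b : ↥P.B) :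
    stChar P σ (b : G) = fixedPointCharacter H' b := by
  rw [stChar_apply_of_mem_B P σ hσ hS hlong b.2, card_cell_fixed P hn₀ H' hH' b]
  rfl

include hσ hS in
/-- variant of `stChar_restrict_B` with `B` given up to a propositional equality -/
theorem stChar_restrict_B' [Fintype G] {n₀ : G} (hn₀ : n₀ ∈ P.N)
    (hlong : IsLongest (SW P) (clG P n₀)) (B₀ : Subgroup G) (hB : P.B = B₀)
    (H' : Subgroup ↥B₀) (hH' : ∀ b' : ↥B₀, b' ∈ H' ↔ n₀⁻¹ * (b' : G) * n₀ ∈ B₀) (b : ↥B₀) :
    stChar P σ (b : G) = fixedPointCharacter H' b := by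
  subst hB
  exact stChar_restrict_B P σ hσ hS hn₀ hlong H' hH' b

/-- a criterion for `n₀` to represent the longest element -/
lemma isLongest_of_inDC {n₀ : G} (hn₀ : n₀ ∈ P.N)
    (h : ∀ s ∈ P.S, ∃ b ∈ P.B, InDC P n₀ (s * b * n₀)) : IsLongest (SW P) (clG P n₀) := by
  apply FullLeft.isLongest (exSys P)
  rintro _ ⟨s, hs, rfl⟩
  have hsN := P.subset hs
  rw [← clG_mul P hsN hn₀, wlen_clG P (P.N.mul_mem hsN hn₀), wlen_clG P hn₀]
  by_contra hlt
  have hg := good_of_len_le' P hn₀ hs (not_lt.1 hlt)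
  obtain ⟨b, hb, hdc⟩ := h s hs
  exact not_inDC_mul_S P hs hn₀ (inDC_trans P hdc (inDC_symm P (hg b hb)))

end main

end Cfsg.Agent.Lib.Helper5.BNSt
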