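import Cfsg.Prelude.Def_ParabolicCharacters
import Cfsg.Agent.S1042
import Cfsg.Agent.S1053
import Cfsg.Agent.S1037
import Cfsg.Agent.S1027
import Cfsg.Agent.Lib.Helper18.Longest
import Cfsg.Agent.Lib.Helper5.BNStRes

/-!
# The Steinberg character of the Chevalley groups, via the abstract theory for (B,N)-pairs
-/

set_option autoImplicit false

namespace Cfsg.Agent.Lib.Helper5.ChevSt

open Finset Cfsg Cfsg.Lie Cfsg.Agent.Lib.Helper18 Cfsg.Agent.Lib.Helper6
  Cfsg.Agent.Lib.Helper5.BNSt Cfsg.Agent.Lib.Helper5.CoxEx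

universe u

variable {F : Type u} [Field F] {D : ChevalleyDatum}

/-- the representatives `n_{p_i}(1)` of the simple reflections, as elements of the Chevalley group -/
noncomputable def sigma (hD : D ∈ [chevG2, chevB2, chevD4, chevF4, chevE6, chevE7, chevE8])
    (C : ChevData.{u} D) (i : Fin D.rank) : ↥(D.group F) :=
  ⟨sG hD C i, (Cfsg.Agent.S1043.result D hD).2.1 (sG_mem_monomial hD C i)⟩

lemma coe_sigma (hD : D ∈ [chevG2, chevB2, chevD4, chevF4, chevE6, chevE7, chevE8])
    (C : ChevData.{u} D) (i : Fin D.rank) :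
    ((sigma (F := F) hD C i : GL D.Idx F) : Matrix D.Idx D.Idx F) = D.nMat F (D.simple i) 1 :=
  coe_sG hD C i i.2

/-- the standard parabolic subgroups of the Chevalley group are those of its (B,N)-pair -/
lemma parabolicIn_eq (hD : D ∈ [chevG2, chevB2, chevD4, chevF4, chevE6, chevE7, chevE8])
    (C : ChevData.{u} D) (P : Cfsg.BNPair ↥(D.group F))
    (hPB : P.B = (D.borelSubgroup F).subgroupOf (D.group F)) (J' : Finset (Fin D.rank)) :
    D.parabolicIn F (J'.map Fin.valEmbedding) =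
      P.parabolic (sigma hD C '' (J' : Set (Fin D.rank))) := by
  obtain ⟨hBG, hNG, -⟩ := Cfsg.Agent.S1043.result (F := F) D hD
  have hset : {g : GL D.Idx F | ∃ j ∈ ((J'.map Fin.valEmbedding : Finset ℕ) : Set ℕ), j < D.rank ∧
      (g : Matrix D.Idx D.Idx F) = D.nMat F (D.simple j) 1} =
      (D.group F).subtype '' (sigma hD C '' (J' : Set (Fin D.rank))) := by
    ext g
    constructor
    · rintro ⟨j, hj, hjr, hg⟩
      rw [Finset.mem_coe, Finset.mem_map] at hj
      obtain ⟨i, hi, rfl⟩ := hj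
      refine ⟨sigma hD C i, ⟨i, hi, rfl⟩, ?_⟩
      apply Units.ext
      rw [hg]
      exact coe_sigma hD C i
    · rintro ⟨_, ⟨i, hi, rfl⟩, rfl⟩
      refine ⟨i, ?_, i.2, coe_sigma hD C i⟩
      rw [Finset.mem_coe, Finset.mem_map]
      exact ⟨i, hi, rfl⟩
  unfold ChevalleyDatum.parabolicIn ChevalleyDatum.parabolicSubgroup Cfsg.BNPair.parabolic
  rw [hset, ← MonoidHom.map_closure, Subgroup.subgroupOf_sup hBG (Subgroup.map_subtype_le _), hPB]
  congr 1
  exact Subgroup.comap_map_eq_self_of_injective (Subgroup.subtype_injective _) _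

/-- the Steinberg character of the Chevalley group is the Steinberg character of its (B,N)-pair -/
lemma steinberg_eq_stChar (hD : D ∈ [chevG2, chevB2, chevD4, chevF4, chevE6, chevE7, chevE8])
    (C : ChevData.{u} D) (P : Cfsg.BNPair ↥(D.group F))
    (hPB : P.B = (D.borelSubgroup F).subgroupOf (D.group F)) (g : ↥(D.group F)) :
    D.steinbergCharacter F g = stChar P (sigma hD C) g := by
  classical
  unfold ChevalleyDatum.steinbergCharacter stChar
  symm
  apply Finset.sum_nbij' (fun J' : Finset (Fin D.rank) => J'.map Fin.valEmbedding)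
    (fun J : Finset ℕ => (univ : Finset (Fin D.rank)).filter (fun k => (k : ℕ) ∈ J))
  · intro J' _
    rw [Finset.mem_powerset]
    intro x hx
    rw [Finset.mem_map] at hx
    obtain ⟨i, _, rfl⟩ := hx
    exact Finset.mem_range.2 i.2
  · intro J _
    exact Finset.mem_powerset.2 (Finset.subset_univ _)
  · intro J' _
    ext k
    simp only [Finset.mem_filter, Finset.mem_univ, true_and, Finset.mem_map,
      Fin.valEmbedding_apply]
    constructor
    · rintro ⟨a, ha, hak⟩
      rwa [← Fin.ext hak]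
    · intro hk
      exact ⟨k, hk, rfl⟩
  · intro J hJ
    rw [Finset.mem_powerset] at hJ
    ext x
    simp only [Finset.mem_map, Finset.mem_filter, Finset.mem_univ, true_and,
      Fin.valEmbedding_apply]
    constructor
    · rintro ⟨k, hk, rfl⟩
      exact hk
    · intro hx
      exact ⟨⟨x, Finset.mem_range.1 (hJ hx)⟩, hx, rfl⟩
  · intro J' _
    rw [Finset.card_map, parabolicIn_eq hD C P hPB J']

lemma sigma_mem (hD : D ∈ [chevG2, chevB2, chevD4, chevF4, chevE6, chevE7, chevE8])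
    (C : ChevData.{u} D) (P : Cfsg.BNPair ↥(D.group F))
    (hPS : P.S = {n : ↥(D.group F) | ∃ i < D.rank,
      ((n : GL D.Idx F) : Matrix D.Idx D.Idx F) = D.nMat F (D.simple i) 1}) (i : Fin D.rank) :
    sigma hD C i ∈ P.S := by
  rw [hPS]
  exact ⟨i, i.2, coe_sigma hD C i⟩

lemma exists_sigma (hD : D ∈ [chevG2, chevB2, chevD4, chevF4, chevE6, chevE7, chevE8])
    (C : ChevData.{u} D) (P : Cfsg.BNPair ↥(D.group F))
    (hPS : P.S = {n : ↥(D.group F) | ∃ i < D.rank,
      ((n : GL D.Idx F) : Matrix D.Idx D.Idx F) = D.nMat F (D.simple i) 1}) :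
    ∀ s ∈ P.S, ∃ i, sigma hD C i = s := by
  intro s hs
  rw [hPS] at hs
  obtain ⟨i, hi, hs⟩ := hs
  exact ⟨⟨i, hi⟩, Subtype.ext (Units.ext (by rw [hs]; exact coe_sigma hD C ⟨i, hi⟩))⟩

/-- the longest element and the subgroup `B ∩ n₀ B n₀⁻¹ = H` -/
theorem exists_longest (hD : D ∈ [chevG2, chevB2, chevD4, chevF4, chevE6, chevE7, chevE8])
    (C : ChevData.{u} D) (P : Cfsg.BNPair ↥(D.group F))
    (hPB : P.B = (D.borelSubgroup F).subgroupOf (D.group F))
    (hPN : P.N = (D.monomialSubgroup F).subgroupOf (D.group F))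
    (hPS : P.S = {n : ↥(D.group F) | ∃ i < D.rank,
      ((n : GL D.Idx F) : Matrix D.Idx D.Idx F) = D.nMat F (D.simple i) 1}) :
    ∃ n₀ : ↥(D.group F), n₀ ∈ P.N ∧ IsLongest (SW P) (clG P n₀) ∧
      ∀ b' : ↥(D.group F), b' ∈ (D.borelSubgroup F).subgroupOf (D.group F) →
        ((b' : GL D.Idx F) ∈ D.diagonalSubgroup F ↔
          n₀⁻¹ * b' * n₀ ∈ (D.borelSubgroup F).subgroupOf (D.group F)) := by
  obtain ⟨hBG, hNG, -⟩ := Cfsg.Agent.S1043.result (F := F) D hD
  obtain ⟨n, hnN, hnV⟩ := Cfsg.Agent.S1053.result (F := F) D hD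
  have hUB : D.posUnipotent F ≤ D.borelSubgroup F := le_sup_left
  have hHB : D.diagonalSubgroup F ≤ D.borelSubgroup F := le_sup_right
  have hHN : D.diagonalSubgroup F ≤ D.monomialSubgroup F := le_sup_left
  have hconjU : ∀ u ∈ D.posUnipotent F, n * u * n⁻¹ ∈ D.negUnipotent F := by
    intro u hu
    rw [← hnV]
    exact ⟨u, hu, rfl⟩
  have hconjV : ∀ v ∈ D.negUnipotent F, n⁻¹ * v * n ∈ D.posUnipotent F := by
    intro v hv
    rw [← hnV] at hv
    obtain ⟨u, hu, rfl⟩ := hv
    have : n⁻¹ * ((MulAut.conj n).toMonoidHom u) * n = u := by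
      show n⁻¹ * (n * u * n⁻¹) * n = u
      group
    rw [this]
    exact hu
  have hnorm := Cfsg.Agent.S1038.result (F := F) D hD
  have hconjH : ∀ h ∈ D.diagonalSubgroup F, n * h * n⁻¹ ∈ D.diagonalSubgroup F := by
    intro h hh
    have h1 := hnorm.conj_mem ⟨h, hHN hh⟩ (Subgroup.mem_subgroupOf.2 hh) ⟨n, hnN⟩
    rw [Subgroup.mem_subgroupOf] at h1
    exact h1
  have hconjH' : ∀ h ∈ D.diagonalSubgroup F, n⁻¹ * h * n ∈ D.diagonalSubgroup F := by
    intro h hh
    have h1 := hnorm.conj_mem ⟨h, hHN hh⟩ (Subgroup.mem_subgroupOf.2 hh) (⟨n, hnN⟩⁻¹)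
    rw [Subgroup.mem_subgroupOf] at h1
    simpa using h1
  have hn₀ : (⟨n, hNG hnN⟩ : ↥(D.group F)) ∈ P.N := by
    rw [hPN, Subgroup.mem_subgroupOf]
    exact hnN
  refine ⟨⟨n, hNG hnN⟩, hn₀, ?_, ?_⟩
  · apply isLongest_of_inDC P hn₀
    intro s hs
    rw [hPS] at hs
    obtain ⟨i, hi, hsm⟩ := hs
    have hr := C.simple_lt i hi
    have hpge := C.half_le_simple i hi
    have hnr := C.nroots_eq
    have hev := C.heven
    have hrpos : D.IsPosRoot (D.simple i) := (isPosRoot_iff hD _).2 ⟨hr, hpge⟩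
    have hnegr : D.neg (D.simple i) < D.nroots / 2 := by
      rw [C.neg_eq _ hr]
      unfold FastDatum.neg
      omega
    have hrneg : D.IsNegRoot (D.neg (D.simple i)) :=
      isNegRoot_of_lt D (signOK_of_mem D hD) _ (by omega) hnegr
    have hsval : (s : GL D.Idx F) =
        xG hD (D.simple i) 1 * xG hD (D.neg (D.simple i)) (-1) * xG hD (D.simple i) 1 := by
      rw [← nG_eq_xG hD _ hr, ← sG_of_lt hD C i hi]
      exact Units.ext (by rw [hsm, coe_sG hD C i hi])
    have hx1 : xG hD (D.simple i) (1 : F) ∈ D.posUnipotent F :=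
      xG_mem_posUnipotent hD _ _ hrpos
    have hx2 : xG hD (D.simple i) (-1 : F) ∈ D.posUnipotent F :=
      xG_mem_posUnipotent hD _ _ hrpos
    have hv : xG hD (D.neg (D.simple i)) (-1 : F) ∈ D.negUnipotent F :=
      Subgroup.subset_closure ⟨_, _, hrneg, rfl⟩
    have hu := hconjV _ hv
    refine ⟨⟨xG hD (D.simple i) (-1 : F), hBG (hUB hx2)⟩, ?_,
      ⟨xG hD (D.simple i) (1 : F), hBG (hUB hx1)⟩, ?_,
      ⟨n⁻¹ * xG hD (D.neg (D.simple i)) (-1 : F) * n, hBG (hUB hu)⟩, ?_, ?_⟩
    · rw [hPB, Subgroup.mem_subgroupOf]; exact hUB hx2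
    · rw [hPB, Subgroup.mem_subgroupOf]; exact hUB hx1
    · rw [hPB, Subgroup.mem_subgroupOf]; exact hUB hu
    · apply Subtype.ext
      show (s : GL D.Idx F) * xG hD (D.simple i) (-1 : F) * n =
        xG hD (D.simple i) (1 : F) * n * (n⁻¹ * xG hD (D.neg (D.simple i)) (-1 : F) * n)
      rw [hsval]
      have h0 : xG hD (D.simple i) (1 : F) * xG hD (D.simple i) (-1 : F) = 1 := by
        rw [xG_mul, add_neg_cancel, xG_zero]
      have e : xG hD (D.simple i) (1 : F) * xG hD (D.neg (D.simple i)) (-1) *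
          xG hD (D.simple i) 1 * xG hD (D.simple i) (-1 : F) * n =
          xG hD (D.simple i) (1 : F) * xG hD (D.neg (D.simple i)) (-1) *
          (xG hD (D.simple i) 1 * xG hD (D.simple i) (-1 : F)) * n := by group
      rw [e, h0]
      group
  · intro b' hb'
    rw [Subgroup.mem_subgroupOf] at hb' ⊢
    have hcoe : (((⟨n, hNG hnN⟩ : ↥(D.group F))⁻¹ * b' * ⟨n, hNG hnN⟩ : ↥(D.group F)) :
        GL D.Idx F) = n⁻¹ * (b' : GL D.Idx F) * n := rfl
    rw [hcoe]
    constructor
    · intro hh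
      exact hHB (hconjH' _ hh)
    · intro hmem
      obtain ⟨u, hu, h, hh, e⟩ := (mem_borel_iff D hD _).1 hmem
      have e' : (b' : GL D.Idx F) = (n * u * n⁻¹) * (n * h * n⁻¹) := by
        have : (b' : GL D.Idx F) = n * (n⁻¹ * (b' : GL D.Idx F) * n) * n⁻¹ := by group
        rw [this, ← e]
        group
      have h1 : (b' : GL D.Idx F) ∈ D.negUnipotent F ⊔ D.diagonalSubgroup F := by
        rw [e']
        exact mul_mem (Subgroup.mem_sup_left (hconjU u hu)) (Subgroup.mem_sup_right (hconjH h hh))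
      have h2 := (Cfsg.Agent.S1037.result (F := F) D hD).2
      rw [← h2]
      exact ⟨hb', h1⟩

section finite

variable [Fintype F]

/-- **The Steinberg character of a Chevalley group is irreducible.** -/
theorem steinberg_irr (D : ChevalleyDatum)
    (hD : D ∈ [chevG2, chevB2, chevD4, chevF4, chevE6, chevE7, chevE8]) :
    IsIrrCharacter ↥(D.group F) (D.steinbergCharacter F) := by
  classical
  obtain ⟨C⟩ := nonempty_chevData.{u} D hD
  obtain ⟨P, hPB, hPN, hPS⟩ := Cfsg.Agent.S1042.exists_bnPair (F := F) D hD C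
  have : Fintype ↥(D.group F) := Fintype.ofFinite _
  have hfun : D.steinbergCharacter F = stChar P (sigma hD C) :=
    funext (steinberg_eq_stChar hD C P hPB)
  rw [hfun]
  exact isIrrCharacter_stChar P (sigma hD C) (sigma_mem hD C P hPS) (exists_sigma hD C P hPS)

/-- **The Steinberg character restricted to `B`.** -/
theorem steinberg_restrict (D : ChevalleyDatum)
    (hD : D ∈ [chevG2, chevB2, chevD4, chevF4, chevE6, chevE7, chevE8])
    (b : ↥((D.borelSubgroup F).subgroupOf (D.group F))) :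
    D.steinbergCharacter F ((((D.borelSubgroup F).subgroupOf (D.group F)).subtype) b) =
      Cfsg.fixedPointCharacter (((D.diagonalSubgroup F).subgroupOf (D.group F)).subgroupOf
        ((D.borelSubgroup F).subgroupOf (D.group F))) b := by
  classical
  obtain ⟨C⟩ := nonempty_chevData.{u} D hD
  obtain ⟨P, hPB, hPN, hPS⟩ := Cfsg.Agent.S1042.exists_bnPair (F := F) D hD C
  have : Fintype ↥(D.group F) := Fintype.ofFinite _
  obtain ⟨n₀, hn₀, hlong, hH⟩ := exists_longest hD C P hPB hPN hPS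
  rw [Subgroup.subtype_apply, steinberg_eq_stChar hD C P hPB]
  refine stChar_restrict_B' P (sigma hD C) (sigma_mem hD C P hPS) (exists_sigma hD C P hPS)
    hn₀ hlong _ hPB _ (fun b' => ?_) b
  exact hH b' b'.2

/-- `[B : H] = |U|` -/
lemma card_borel_quot (D : ChevalleyDatum)
    (hD : D ∈ [chevG2, chevB2, chevD4, chevF4, chevE6, chevE7, chevE8]) :
    Nat.card (↥((D.borelSubgroup F).subgroupOf (D.group F)) ⧸
      ((D.diagonalSubgroup F).subgroupOf (D.group F)).subgroupOf
        ((D.borelSubgroup F).subgroupOf (D.group F))) = Nat.card (D.posUnipotent F) := by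
  obtain ⟨hBG, hNG, -⟩ := Cfsg.Agent.S1043.result (F := F) D hD
  have hUB : D.posUnipotent F ≤ D.borelSubgroup F := le_sup_left
  symm
  refine Nat.card_congr (Equiv.ofBijective (fun u =>
    ((⟨⟨u.1, hBG (hUB u.2)⟩, Subgroup.mem_subgroupOf.2 (hUB u.2)⟩ :
      ↥((D.borelSubgroup F).subgroupOf (D.group F))) : _ ⧸ _)) ⟨?_, ?_⟩)
  · intro u u' h
    rw [QuotientGroup.eq, Subgroup.mem_subgroupOf, Subgroup.mem_subgroupOf] at h
    have h' : (u.1)⁻¹ * u'.1 ∈ D.diagonalSubgroup F := h
    have h2 : (u.1)⁻¹ * u'.1 ∈ D.posUnipotent F ⊓ D.diagonalSubgroup F :=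
      Subgroup.mem_inf.2 ⟨(D.posUnipotent F).mul_mem ((D.posUnipotent F).inv_mem u.2) u'.2, h'⟩
    rw [(Cfsg.Agent.S1036.result D hD).2, Subgroup.mem_bot] at h2
    exact Subtype.ext (inv_mul_eq_one.1 h2)
  · intro q
    induction q using QuotientGroup.induction_on with
    | H b =>
      obtain ⟨u, hu, h, hh, e⟩ := (mem_borel_iff D hD _).1 (Subgroup.mem_subgroupOf.1 b.2)
      refine ⟨⟨u, hu⟩, ?_⟩
      apply QuotientGroup.eq.2
      rw [Subgroup.mem_subgroupOf, Subgroup.mem_subgroupOf]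
      show u⁻¹ * ((b : ↥(D.group F)) : GL D.Idx F) ∈ D.diagonalSubgroup F
      rw [← e]
      have : u⁻¹ * (u * h) = h := by group
      rw [this]
      exact hh

/-- **The degree of the Steinberg character.** -/
theorem steinberg_degree (D : ChevalleyDatum)
    (hD : D ∈ [chevG2, chevB2, chevD4, chevF4, chevE6, chevE7, chevE8]) :
    D.steinbergCharacter F 1 = (Fintype.card F : ℂ) ^ (D.nroots / 2) := by
  have h := steinberg_restrict (F := F) D hD 1
  rw [map_one] at h
  rw [h]
  unfold fixedPointCharacter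
  have h1 : Nat.card (MulAction.fixedBy (↥((D.borelSubgroup F).subgroupOf (D.group F)) ⧸
      ((D.diagonalSubgroup F).subgroupOf (D.group F)).subgroupOf
        ((D.borelSubgroup F).subgroupOf (D.group F)))
      (1 : ↥((D.borelSubgroup F).subgroupOf (D.group F)))) =
      Nat.card (↥((D.borelSubgroup F).subgroupOf (D.group F)) ⧸
      ((D.diagonalSubgroup F).subgroupOf (D.group F)).subgroupOf
        ((D.borelSubgroup F).subgroupOf (D.group F))) := by
    apply Nat.card_congr
    exact Equiv.subtypeUnivEquiv (fun x => by simp [MulAction.mem_fixedBy])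
  rw [h1, card_borel_quot D hD, Cfsg.Agent.S1027.card_posUnipotent D hD, Nat.cast_pow]

end finite

end Cfsg.Agent.Lib.Helper5.ChevSt
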