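import Mathlib

/-!
# Cauchy's determinant over a commutative ring
-/

set_option autoImplicit false

namespace Cfsg.Agent.Lib.Helper5.GLU

open Finset Matrix

/-- **Cauchy's determinant**: if `g i j` is inverse to `1 - x i * y j`, then
`det (g i j) = ∏_{i<j} (x j - x i) * ∏_{i<j} (y j - y i) * ∏_{i,j} g i j`. -/
theorem cauchy_det {R : Type*} [CommRing R] : ∀ (n : ℕ) (x y : Fin n → R) (g : Fin n → Fin n → R)
    (_ : ∀ i j, g i j * (1 - x i * y j) = 1),
    Matrix.det (Matrix.of g) = (∏ i, ∏ j ∈ Finset.Ioi i, (x j - x i)) *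
      (∏ i, ∏ j ∈ Finset.Ioi i, (y j - y i)) * ∏ i, ∏ j, g i j := by
  intro n
  induction n with
  | zero => intro x y g _; simp
  | succ n ih =>
    intro x y g hg
    -- row operations
    let c : Fin (n + 1) → R := fun i => if i = 0 then 0 else -(g i 0 * (1 - x 0 * y 0))
    let A : Matrix (Fin (n + 1)) (Fin (n + 1)) R := Matrix.of fun i j => g i j + c i * g 0 j
    have hA : det A = det (Matrix.of g) :=
      det_eq_of_forall_row_eq_smul_add_const c 0 (by simp [c]) (fun i j => by simp [A])
    have hA0 : ∀ i : Fin n, A i.succ 0 = 0 := by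
      intro i
      simp only [A, c, Matrix.of_apply, Fin.succ_ne_zero, if_false]
      have := hg 0 0
      linear_combination (-(g i.succ 0)) * this
    have hA00 : A 0 0 = g 0 0 := by simp [A, c]
    have hsub : A.submatrix Fin.succ Fin.succ = Matrix.of fun i j : Fin n =>
        ((x i.succ - x 0) * g i.succ 0) *
          (Matrix.of (fun i j : Fin n => ((y j.succ - y 0) * g 0 j.succ) *
            (Matrix.of fun i j : Fin n => g i.succ j.succ) i j)) i j := by
      ext i j
      simp only [A, c, Matrix.submatrix_apply, Matrix.of_apply, Fin.succ_ne_zero, if_false]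
      have ha := hg i.succ j.succ
      have hb := hg i.succ 0
      have hc := hg 0 j.succ
      linear_combination (-(g i.succ j.succ) * (g 0 j.succ * (1 - x 0 * y j.succ))) * hb +
        (-(g i.succ j.succ)) * hc + (g i.succ 0 * g 0 j.succ * (1 - x 0 * y 0)) * ha
    rw [← hA, det_succ_column_zero, Fin.sum_univ_succ]
    have hzero : ∑ i : Fin n, (-1 : R) ^ (i.succ : ℕ) * A i.succ 0 *
        det (A.submatrix i.succ.succAbove Fin.succ) = 0 := by
      apply Finset.sum_eq_zero
      intro i _
      rw [hA0]; ring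
    rw [hzero, add_zero, Fin.succAbove_zero, hsub, det_mul_column, det_mul_row,
      ih (fun i => x i.succ) (fun i => y i.succ) (fun i j => g i.succ j.succ)
        (fun i j => hg i.succ j.succ), hA00]
    simp only [Fin.val_zero, pow_zero, one_mul]
    rw [Fin.prod_univ_succ (fun i => ∏ j ∈ Finset.Ioi i, (x j - x i)),
      Fin.prod_univ_succ (fun i => ∏ j ∈ Finset.Ioi i, (y j - y i)),
      Fin.prod_univ_succ (fun i => ∏ j, g i j)]
    simp only [Fin.prod_Ioi_zero, Fin.prod_Ioi_succ, Fin.prod_univ_succ, Finset.prod_mul_distrib]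
    ring

end Cfsg.Agent.Lib.Helper5.GLU
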