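import Mathlib

/-!
# Geometric series in a monomial and products of them
-/

set_option autoImplicit false

namespace Cfsg.Agent.Lib.Helper5.GLU

open Finset MvPowerSeries

variable {σ : Type*}

open Classical in
/-- The geometric series `∑ m, X^(m • e)`. -/
noncomputable def geo (e : σ →₀ ℕ) : MvPowerSeries σ ℤ :=
  fun d => if ∃ m : ℕ, d = m • e then 1 else 0

open Classical in
lemma coeff_geo (e d : σ →₀ ℕ) :
    coeff d (geo e) = if ∃ m : ℕ, d = m • e then 1 else 0 := rfl

lemma geo_mul (e : σ →₀ ℕ) (he : e ≠ 0) : geo e * (1 - monomial e (1 : ℤ)) = 1 := by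
  classical
  ext d
  rw [mul_sub, mul_one, map_sub, coeff_mul_monomial, coeff_geo, mul_one, coeff_one]
  by_cases h0 : d = 0
  · subst h0
    rw [if_pos ⟨0, by simp⟩, if_pos rfl, if_neg, sub_zero]
    intro hle
    apply he
    exact le_antisymm hle zero_le
  · rw [if_neg h0]
    by_cases hm : ∃ m : ℕ, d = m • e
    · obtain ⟨m, rfl⟩ := hm
      have hm0 : m ≠ 0 := by
        rintro rfl
        exact h0 (by simp)
      obtain ⟨k, rfl⟩ : ∃ k, m = k + 1 := ⟨m - 1, by omega⟩
      have hle : e ≤ (k + 1) • e := by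
        rw [add_smul, one_smul]
        exact le_add_of_nonneg_left zero_le
      rw [if_pos ⟨k + 1, rfl⟩, if_pos hle, coeff_geo, if_pos, sub_self]
      refine ⟨k, ?_⟩
      rw [add_smul, one_smul, add_tsub_cancel_right]
    · rw [if_neg hm]
      by_cases hle : e ≤ d
      · rw [if_pos hle, coeff_geo, if_neg, sub_zero]
        rintro ⟨m, hm'⟩
        apply hm
        refine ⟨m + 1, ?_⟩
        rw [add_smul, one_smul, ← hm', tsub_add_cancel_of_le hle]
      · rw [if_neg hle, sub_zero]

lemma smul_left_injective_of_ne_zero (e : σ →₀ ℕ) (he : e ≠ 0) {m m' : ℕ} (h : m • e = m' • e) :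
    m = m' := by
  obtain ⟨s, hs⟩ : ∃ s, e s ≠ 0 := by
    by_contra hcon
    push Not at hcon
    exact he (Finsupp.ext hcon)
  have := DFunLike.congr_fun h s
  simp only [Finsupp.smul_apply, smul_eq_mul] at this
  exact Nat.eq_of_mul_eq_mul_right (Nat.pos_of_ne_zero hs) this

/-- The coefficients of a product of geometric series count the ways of writing the exponent
as a combination of the exponents `e p`. -/
theorem coeff_prod_geo {P : Type*} [Fintype P] [DecidableEq P] [DecidableEq σ]
    (e : P → (σ →₀ ℕ)) (he : ∀ p, e p ≠ 0) (d : σ →₀ ℕ) :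
    coeff d (∏ p, geo (e p)) = (Nat.card {A : P → ℕ // ∑ p, A p • e p = d} : ℤ) := by
  classical
  rw [MvPowerSeries.coeff_prod]
  simp only [coeff_geo, Finset.prod_boole]
  have key := Finset.sum_boole (R := ℤ)
    (fun l : P →₀ (σ →₀ ℕ) => ∀ i ∈ (univ : Finset P), ∃ m : ℕ, l i = m • e i)
    (univ.finsuppAntidiag d)
  refine Eq.trans (Finset.sum_congr rfl fun l _ => ?_) (key.trans ?_)
  · split_ifs <;> rfl
  norm_cast
  rw [← Fintype.card_coe, ← Nat.card_eq_fintype_card]
  symm
  apply Nat.card_congr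
  refine Equiv.ofBijective
    (fun A => ⟨Finsupp.equivFunOnFinite.symm (fun p => A.1 p • e p), ?_⟩) ⟨?_, ?_⟩
  · rw [mem_filter, mem_finsuppAntidiag]
    refine ⟨⟨?_, Finset.subset_univ _⟩, fun p _ => ⟨A.1 p, ?_⟩⟩
    · refine Eq.trans (Finset.sum_congr rfl fun p _ => ?_) A.2
      simp
    · simp
  · intro A A' hAA
    apply Subtype.ext
    funext p
    have h1 := congrArg Subtype.val hAA
    have h2 := DFunLike.congr_fun h1 p
    simp only [Finsupp.equivFunOnFinite_symm_apply_apply] at h2
    exact smul_left_injective_of_ne_zero (e p) (he p) h2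
  · rintro ⟨l, hl⟩
    rw [mem_filter, mem_finsuppAntidiag] at hl
    obtain ⟨⟨hsum, -⟩, hQ⟩ := hl
    choose m hm using fun p => hQ p (mem_univ p)
    refine ⟨⟨m, ?_⟩, ?_⟩
    · rw [← hsum]
      refine Finset.sum_congr rfl fun p _ => (hm p).symm
    · apply Subtype.ext
      apply Finsupp.ext
      intro p
      simp only [Finsupp.equivFunOnFinite_symm_apply_apply]
      exact (hm p).symm

end Cfsg.Agent.Lib.Helper5.GLU
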