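import Mathlib

/-!
# Orbits on products of coset spaces, and fibrewise equivalences

General lemmas used for the comparison of `GL_n(q)` with the symmetric group (Steinberg 1951).
-/

set_option autoImplicit false

namespace Cfsg.Agent.Lib.Helper5.GLU

open MulAction

section orbit

variable {G : Type*} [Group G] (H K : Subgroup G) {T : Type*} (f : G → T)

/-- The function on pairs of cosets induced by a double-coset invariant. -/
noncomputable def pairInv (h1 : ∀ h ∈ H, ∀ k ∈ K, ∀ g, f (h * g * k) = f g) :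
    (G ⧸ H) × (G ⧸ K) → T := fun p =>
  Quotient.liftOn₂' p.1 p.2 (fun x y => f (x⁻¹ * y)) (by
    intro x y x' y' hx hy
    rw [QuotientGroup.leftRel_apply] at hx hy
    have : x'⁻¹ * y' = (x⁻¹ * x')⁻¹ * (x⁻¹ * y) * (y⁻¹ * y') := by group
    show f (x⁻¹ * y) = f (x'⁻¹ * y')
    rw [this, h1 _ (H.inv_mem hx) _ hy])

lemma pairInv_mk (h1 : ∀ h ∈ H, ∀ k ∈ K, ∀ g, f (h * g * k) = f g) (x y : G) :
    pairInv H K f h1 ((x : G ⧸ H), (y : G ⧸ K)) = f (x⁻¹ * y) := rfl

lemma pairInv_smul (h1 : ∀ h ∈ H, ∀ k ∈ K, ∀ g, f (h * g * k) = f g) (g : G)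
    (p : (G ⧸ H) × (G ⧸ K)) : pairInv H K f h1 (g • p) = pairInv H K f h1 p := by
  obtain ⟨a, b⟩ := p
  induction a using QuotientGroup.induction_on with
  | H x =>
    induction b using QuotientGroup.induction_on with
    | H y =>
      show pairInv H K f h1 (((g * x : G) : G ⧸ H), ((g * y : G) : G ⧸ K)) = _
      rw [pairInv_mk, pairInv_mk]
      congr 1
      group

/-- Counting the orbits of `G` on `G/H × G/K` by a complete double-coset invariant. -/
theorem card_orbits_prod_quotient
    (h1 : ∀ h ∈ H, ∀ k ∈ K, ∀ g, f (h * g * k) = f g)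
    (h2 : ∀ g g', f g = f g' → ∃ h ∈ H, ∃ k ∈ K, g' = h * g * k)
    (h3 : Function.Surjective f) :
    Nat.card (orbitRel.Quotient G ((G ⧸ H) × (G ⧸ K))) = Nat.card T := by
  let φ : orbitRel.Quotient G ((G ⧸ H) × (G ⧸ K)) → T :=
    Quotient.lift (pairInv H K f h1) (by
      intro p q hpq
      obtain ⟨g, rfl⟩ := (orbitRel_apply.mp hpq)
      exact pairInv_smul H K f h1 g q)
  apply Nat.card_congr
  refine Equiv.ofBijective φ ⟨?_, ?_⟩
  · intro a b hab
    induction a using Quotient.inductionOn with
    | h p =>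
      induction b using Quotient.inductionOn with
      | h q =>
        obtain ⟨a, b⟩ := p
        obtain ⟨c, d⟩ := q
        induction a using QuotientGroup.induction_on with
        | H x =>
          induction b using QuotientGroup.induction_on with
          | H y =>
            induction c using QuotientGroup.induction_on with
            | H x' =>
              induction d using QuotientGroup.induction_on with
              | H y' =>
                have h : f (x⁻¹ * y) = f (x'⁻¹ * y') := hab
                obtain ⟨h, hh, k, hk, e⟩ := h2 _ _ h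
                apply Quotient.sound
                show _ ∈ orbit G _
                refine ⟨x * h⁻¹ * x'⁻¹, ?_⟩
                show (((x * h⁻¹ * x'⁻¹ * x' : G) : G ⧸ H), ((x * h⁻¹ * x'⁻¹ * y' : G) : G ⧸ K)) = _
                refine Prod.ext ?_ ?_
                · show ((x * h⁻¹ * x'⁻¹ * x' : G) : G ⧸ H) = (x : G ⧸ H)
                  rw [QuotientGroup.eq]
                  have : (x * h⁻¹ * x'⁻¹ * x')⁻¹ * x = h := by group
                  rw [this]; exact hh
                · show ((x * h⁻¹ * x'⁻¹ * y' : G) : G ⧸ K) = (y : G ⧸ K)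
                  rw [QuotientGroup.eq]
                  have : (x * h⁻¹ * x'⁻¹ * y')⁻¹ * y = (x'⁻¹ * y')⁻¹ * h * (x⁻¹ * y) := by group
                  rw [this, e]
                  have : (h * (x⁻¹ * y) * k)⁻¹ * h * (x⁻¹ * y) = k⁻¹ := by group
                  rw [this]; exact K.inv_mem hk
  · intro t
    obtain ⟨g, rfl⟩ := h3 t
    refine ⟨Quotient.mk'' (((1 : G) : G ⧸ H), (g : G ⧸ K)), ?_⟩
    show pairInv H K f h1 (((1 : G) : G ⧸ H), (g : G ⧸ K)) = f g
    rw [pairInv_mk]; simp

end orbit

section burnside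

variable {G : Type*} [Group G] [Fintype G] {X Y : Type*} [MulAction G X] [MulAction G Y]
  [Finite X] [Finite Y]

/-- Burnside's lemma for a product action, with complex coefficients. -/
theorem sum_card_fixedBy_mul_card_fixedBy :
    (Nat.card G : ℂ)⁻¹ * ∑ g : G, (Nat.card (fixedBy X g) : ℂ) * (Nat.card (fixedBy Y g) : ℂ) =
      (Nat.card (orbitRel.Quotient G (X × Y)) : ℂ) := by
  classical
  have : Fintype X := Fintype.ofFinite X
  have : Fintype Y := Fintype.ofFinite Y
  have : Fintype (orbitRel.Quotient G (X × Y)) := Fintype.ofFinite _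
  have hB := MulAction.sum_card_fixedBy_eq_card_orbits_mul_card_group G (X × Y)
  have hfix : ∀ g : G, Fintype.card (fixedBy (X × Y) g) =
      Nat.card (fixedBy X g) * Nat.card (fixedBy Y g) := by
    intro g
    rw [← Nat.card_eq_fintype_card, ← Nat.card_prod]
    apply Nat.card_congr
    refine ⟨fun p => (⟨p.1.1, ?_⟩, ⟨p.1.2, ?_⟩), fun q => ⟨(q.1.1, q.2.1), ?_⟩, ?_, ?_⟩
    · have h : g • (p.1 : X × Y) = p.1 := p.2
      show g • (p.1 : X × Y).1 = (p.1 : X × Y).1
      exact congrArg Prod.fst h
    · have h : g • (p.1 : X × Y) = p.1 := p.2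
      show g • (p.1 : X × Y).2 = (p.1 : X × Y).2
      exact congrArg Prod.snd h
    · show g • ((q.1.1 : X), (q.2.1 : Y)) = ((q.1.1 : X), (q.2.1 : Y))
      exact Prod.ext q.1.2 q.2.2
    · intro p; rfl
    · intro q; rfl
  have h1 : ∑ g : G, (Nat.card (fixedBy X g) : ℂ) * (Nat.card (fixedBy Y g) : ℂ) =
      ((∑ g : G, Fintype.card (fixedBy (X × Y) g) : ℕ) : ℂ) := by
    push_cast
    refine Finset.sum_congr rfl fun g _ => ?_
    rw [hfix]; push_cast; rfl
  rw [h1, hB]
  push_cast
  rw [Nat.card_eq_fintype_card, Nat.card_eq_fintype_card]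
  have hG : (Fintype.card G : ℂ) ≠ 0 := by exact_mod_cast Fintype.card_ne_zero
  field_simp

end burnside

section fibre

/-- Two functions with fibres of equal cardinality differ by an equivalence of the sources. -/
theorem exists_equiv_of_card_fibre_eq {X Y Z : Type*} [Finite X] [Finite Y] (f : X → Z) (g : Y → Z)
    (h : ∀ z, Nat.card {x // f x = z} = Nat.card {y // g y = z}) :
    ∃ e : X ≃ Y, ∀ x, g (e x) = f x := by
  have he : ∀ z, Nonempty ({x // f x = z} ≃ {y // g y = z}) := fun z =>
    Finite.card_eq.mp (h z)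
  have ez : ∀ z, {x // f x = z} ≃ {y // g y = z} := fun z => (he z).some
  refine ⟨(Equiv.sigmaFiberEquiv f).symm.trans
    ((Equiv.sigmaCongrRight ez).trans (Equiv.sigmaFiberEquiv g)), fun x => ?_⟩
  simp only [Equiv.trans_apply, Equiv.sigmaFiberEquiv, Equiv.coe_fn_symm_mk, Equiv.sigmaCongrRight_apply,
    Equiv.coe_fn_mk]
  exact (ez (f x) ⟨x, rfl⟩).2

end fibre

end Cfsg.Agent.Lib.Helper5.GLU
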