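import Mathlib
import Cfsg.Agent.Lib.Helper5.GLUOrbit

/-!
# Contingency tables and double cosets of Young subgroups
-/

set_option autoImplicit false

namespace Cfsg.Agent.Lib.Helper5.GLU

open Finset Equiv

variable {n : ℕ}

/-- The Young subgroup of a labelling. -/
def young (l : Fin n → Fin n) : Subgroup (Perm (Fin n)) where
  carrier := {σ | ∀ i, l (σ i) = l i}
  mul_mem' := fun {a} {b} ha hb i => by
    show l (a (b i)) = l i
    rw [ha, hb]
  one_mem' := fun _ => rfl
  inv_mem' := fun {a} ha i => by
    have h := ha (a⁻¹ i)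
    have e : a (a⁻¹ i) = i := by simp
    rw [e] at h
    exact h.symm

lemma mem_young (l : Fin n → Fin n) (σ : Perm (Fin n)) : σ ∈ young l ↔ ∀ i, l (σ i) = l i := Iff.rfl

/-- Number of positions with a given label. -/
def cnt (l : Fin n → Fin n) (s : Fin n) : ℕ := (univ.filter fun i => l i = s).card

/-- The contingency table of a permutation with respect to two labellings. -/
def tabOf (la lb : Fin n → Fin n) (w : Perm (Fin n)) : Fin n → Fin n → ℕ :=
  fun s t => (univ.filter fun j => lb j = t ∧ la (w j) = s).card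

/-- `A` has row sums `α` and column sums `β`. -/
def IsTab (α β : Fin n → ℕ) (A : Fin n → Fin n → ℕ) : Prop :=
  (∀ s, ∑ t, A s t = α s) ∧ (∀ t, ∑ s, A s t = β t)

/-- The type of contingency tables with given margins. -/
def Tab (α β : Fin n → ℕ) : Type := {A : Fin n → Fin n → ℕ // IsTab α β A}

lemma isTab_tabOf (la lb : Fin n → Fin n) (w : Perm (Fin n)) :
    IsTab (cnt la) (cnt lb) (tabOf la lb w) := by
  constructor
  · intro s
    unfold tabOf cnt
    have h1 : ∑ t, (univ.filter fun j => lb j = t ∧ la (w j) = s).card =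
        (univ.filter fun j => la (w j) = s).card := by
      rw [Finset.card_eq_sum_card_fiberwise (f := lb) (t := univ) (fun _ _ => mem_univ _)]
      refine Finset.sum_congr rfl fun t _ => ?_
      congr 1
      ext j
      simp only [mem_filter, mem_univ, true_and]
      tauto
    rw [h1]
    apply Finset.card_bij (fun j _ => w j)
    · intro j hj
      simpa using hj
    · intro a _ b _ h
      exact w.injective h
    · intro i hi
      refine ⟨w⁻¹ i, ?_, by simp⟩
      simpa using hi
  · intro t
    unfold tabOf cnt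
    rw [Finset.card_eq_sum_card_fiberwise (f := fun j => la (w j)) (t := univ)
      (fun _ _ => mem_univ _)]
    refine Finset.sum_congr rfl fun s _ => ?_
    congr 1
    ext j
    simp only [mem_filter, mem_univ, true_and]

lemma tabOf_mul (la lb : Fin n → Fin n) (w u v : Perm (Fin n)) (hu : u ∈ young la)
    (hv : v ∈ young lb) : tabOf la lb (u * w * v) = tabOf la lb w := by
  have hu' := (mem_young la u).mp hu
  have hv' := (mem_young lb v).mp hv
  funext s t
  unfold tabOf
  apply Finset.card_bij (fun j _ => v j)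
  · intro j hj
    rw [mem_filter] at hj ⊢
    refine ⟨mem_univ _, ?_, ?_⟩
    · rw [hv' j]; exact hj.2.1
    · have := hj.2.2
      rw [Perm.mul_apply, Perm.mul_apply, hu'] at this
      exact this
  · intro a _ b _ h
    exact v.injective h
  · intro i hi
    rw [mem_filter] at hi
    refine ⟨v⁻¹ i, ?_, by simp⟩
    rw [mem_filter]
    refine ⟨mem_univ _, ?_, ?_⟩
    · have := hv' (v⁻¹ i)
      have e : v (v⁻¹ i) = i := by simp
      rw [e] at this
      rw [← this]; exact hi.2.1
    · have e : v (v⁻¹ i) = i := by simp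
      rw [Perm.mul_apply, Perm.mul_apply, hu', e]
      exact hi.2.2

lemma tabOf_complete (la lb : Fin n → Fin n) (w w' : Perm (Fin n))
    (h : tabOf la lb w = tabOf la lb w') :
    ∃ u ∈ young la, ∃ v ∈ young lb, w' = u * w * v := by
  have hfib : ∀ z : Fin n × Fin n,
      Nat.card {j // (fun j => (la (w' j), lb j)) j = z} =
        Nat.card {j // (fun j => (la (w j), lb j)) j = z} := by
    rintro ⟨s, t⟩
    have h1 := congrFun (congrFun h s) t
    unfold tabOf at h1
    rw [Nat.card_eq_fintype_card, Nat.card_eq_fintype_card, Fintype.card_subtype,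
      Fintype.card_subtype]
    have e1 : (univ.filter fun j => (la (w' j), lb j) = (s, t)) =
        univ.filter fun j => lb j = t ∧ la (w' j) = s := by
      ext j; simp only [mem_filter, mem_univ, true_and, Prod.mk.injEq]; tauto
    have e2 : (univ.filter fun j => (la (w j), lb j) = (s, t)) =
        univ.filter fun j => lb j = t ∧ la (w j) = s := by
      ext j; simp only [mem_filter, mem_univ, true_and, Prod.mk.injEq]; tauto
    rw [e1, e2, h1]
  obtain ⟨e, he⟩ := exists_equiv_of_card_fibre_eq _ _ hfib
  have he1 : ∀ j, la (w (e j)) = la (w' j) := fun j => (Prod.ext_iff.mp (he j)).1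
  have he2 : ∀ j, lb (e j) = lb j := fun j => (Prod.ext_iff.mp (he j)).2
  refine ⟨w' * e⁻¹ * w⁻¹, ?_, e, he2, by group⟩
  intro i
  show la (w' (e⁻¹ (w⁻¹ i))) = la i
  rw [← he1]
  simp

lemma tabOf_surjective (la lb : Fin n → Fin n) (A : Fin n → Fin n → ℕ)
    (hA : IsTab (cnt la) (cnt lb) A) : ∃ w : Perm (Fin n), tabOf la lb w = A := by
  classical
  let X := Σ p : Fin n × Fin n, Fin (A p.1 p.2)
  have hcardX : ∀ (P : Fin n × Fin n → Prop) [DecidablePred P],
      Nat.card {x : X // P x.1} = ∑ p ∈ univ.filter P, A p.1 p.2 := by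
    intro P _
    rw [Nat.card_congr (Equiv.subtypeSigmaEquiv (fun p : Fin n × Fin n => Fin (A p.1 p.2)) P),
      Nat.card_eq_fintype_card, Fintype.card_sigma]
    simp only [Fintype.card_fin]
    rw [← Finset.sum_subtype (univ.filter P) (by simp) (fun p => A p.1 p.2)]
  have hsum2 : ∀ t, ∑ p ∈ univ.filter (fun p : Fin n × Fin n => p.2 = t), A p.1 p.2 =
      ∑ s, A s t := by
    intro t
    rw [Finset.sum_filter, Fintype.sum_prod_type]
    refine Finset.sum_congr rfl fun s _ => ?_
    simp
  have hsum1 : ∀ s, ∑ p ∈ univ.filter (fun p : Fin n × Fin n => p.1 = s), A p.1 p.2 =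
      ∑ t, A s t := by
    intro s
    rw [Finset.sum_filter, Fintype.sum_prod_type, Finset.sum_eq_single s]
    · simp
    · intro s' _ hs'
      simp [hs']
    · intro h; exact absurd (mem_univ s) h
  -- the equivalence for `lb`
  have h2 : ∀ t, Nat.card {x : X // (fun x : X => x.1.2) x = t} =
      Nat.card {j // lb j = t} := by
    intro t
    rw [hcardX (fun p => p.2 = t), Nat.card_eq_fintype_card, Fintype.card_subtype, hsum2]
    exact hA.2 t
  have h1 : ∀ s, Nat.card {x : X // (fun x : X => x.1.1) x = s} =
      Nat.card {j // la j = s} := by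
    intro s
    rw [hcardX (fun p => p.1 = s), Nat.card_eq_fintype_card, Fintype.card_subtype, hsum1]
    exact hA.1 s
  obtain ⟨eb, heb⟩ := exists_equiv_of_card_fibre_eq (fun x : X => x.1.2) lb h2
  obtain ⟨ea, hea⟩ := exists_equiv_of_card_fibre_eq (fun x : X => x.1.1) la h1
  refine ⟨eb.symm.trans ea, ?_⟩
  funext s t
  unfold tabOf
  have h3 : (univ.filter fun j => lb j = t ∧ la ((eb.symm.trans ea) j) = s).card =
      Nat.card {x : X // x.1 = (s, t)} := by
    rw [← Fintype.card_subtype, ← Nat.card_eq_fintype_card]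
    apply Nat.card_congr
    refine ⟨fun j => ⟨eb.symm j.1, ?_⟩, fun x => ⟨eb x.1, ?_⟩, ?_, ?_⟩
    · obtain ⟨j, hj1, hj2⟩ := j
      have e1 := heb (eb.symm j)
      have e2 := hea (eb.symm j)
      simp only [Equiv.apply_symm_apply] at e1
      simp only [Equiv.trans_apply] at hj2
      refine Prod.ext ?_ ?_
      · show (eb.symm j).1.1 = s
        rw [← e2, hj2]
      · show (eb.symm j).1.2 = t
        rw [← e1, hj1]
    · obtain ⟨x, hx⟩ := x
      refine ⟨?_, ?_⟩
      · rw [heb x]; show x.1.2 = t; rw [hx]
      · simp only [Equiv.trans_apply, Equiv.symm_apply_apply]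
        rw [hea x]; show x.1.1 = s; rw [hx]
    · intro j; exact Subtype.ext (by simp)
    · intro x; exact Subtype.ext (by simp)
  rw [h3, hcardX (fun p => p = (s, t))]
  rw [Finset.filter_eq' univ (s, t)]
  simp

/-- The number of orbits of the symmetric group on pairs of cosets of Young subgroups. -/
theorem card_orbits_young (la lb : Fin n → Fin n) :
    Nat.card (MulAction.orbitRel.Quotient (Perm (Fin n))
      ((Perm (Fin n) ⧸ young la) × (Perm (Fin n) ⧸ young lb))) =
      Nat.card (Tab (cnt la) (cnt lb)) := by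
  apply card_orbits_prod_quotient (young la) (young lb)
    (fun w => (⟨tabOf la lb w, isTab_tabOf la lb w⟩ : Tab (cnt la) (cnt lb)))
  · intro h hh k hk g
    exact Subtype.ext (tabOf_mul la lb g h k hh hk)
  · intro g g' hgg
    exact tabOf_complete la lb g g' (congrArg Subtype.val hgg)
  · rintro ⟨A, hA⟩
    obtain ⟨w, hw⟩ := tabOf_surjective la lb A hA
    exact ⟨w, Subtype.ext hw⟩

end Cfsg.Agent.Lib.Helper5.GLU
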