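import Mathlib
import Cfsg.Agent.Lib.Helper5.GLUTab
import Cfsg.Agent.Lib.Helper5.GLUSeries

/-!
# The generating function of contingency tables
-/

set_option autoImplicit false

namespace Cfsg.Agent.Lib.Helper5.GLU

open Finset MvPowerSeries

variable {n : ℕ}

/-- the exponent vector of `x^α y^β` -/
noncomputable def ex (α β : Fin n → ℕ) : (Fin n ⊕ Fin n) →₀ ℕ :=
  Finsupp.equivFunOnFinite.symm (Sum.elim α β)

@[simp] lemma ex_inl (α β : Fin n → ℕ) (i : Fin n) : ex α β (Sum.inl i) = α i := rfl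
@[simp] lemma ex_inr (α β : Fin n → ℕ) (i : Fin n) : ex α β (Sum.inr i) = β i := rfl

lemma ex_injective {α β α' β' : Fin n → ℕ} (h : ex α β = ex α' β') : α = α' ∧ β = β' := by
  constructor
  · funext i
    have := DFunLike.congr_fun h (Sum.inl i)
    simpa using this
  · funext i
    have := DFunLike.congr_fun h (Sum.inr i)
    simpa using this

lemma ext_sum {d d' : (Fin n ⊕ Fin n) →₀ ℕ} (h1 : ∀ i, d (Sum.inl i) = d' (Sum.inl i))
    (h2 : ∀ i, d (Sum.inr i) = d' (Sum.inr i)) : d = d' := by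
  apply Finsupp.ext
  rintro (i | i)
  · exact h1 i
  · exact h2 i

/-- the exponent vector of `x_i y_j` -/
noncomputable def eP (p : Fin n × Fin n) : (Fin n ⊕ Fin n) →₀ ℕ :=
  Finsupp.single (Sum.inl p.1) 1 + Finsupp.single (Sum.inr p.2) 1

lemma eP_inl (p : Fin n × Fin n) (i : Fin n) : eP p (Sum.inl i) = if p.1 = i then 1 else 0 := by
  unfold eP
  simp [Finsupp.single_apply]

lemma eP_inr (p : Fin n × Fin n) (i : Fin n) : eP p (Sum.inr i) = if p.2 = i then 1 else 0 := by
  unfold eP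
  simp [Finsupp.single_apply]

lemma eP_ne_zero (p : Fin n × Fin n) : eP p ≠ 0 := by
  intro h
  have := DFunLike.congr_fun h (Sum.inl p.1)
  rw [eP_inl] at this
  simp at this

/-- the generating function of contingency tables -/
noncomputable def tabSeries (n : ℕ) : MvPowerSeries (Fin n ⊕ Fin n) ℤ :=
  ∏ p : Fin n × Fin n, geo (eP p)

lemma sum_smul_eP_inl (A : Fin n × Fin n → ℕ) (s : Fin n) :
    (∑ p, A p • eP p) (Sum.inl s) = ∑ t, A (s, t) := by
  rw [Finsupp.finsetSum_apply, Fintype.sum_prod_type]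
  simp only [Finsupp.smul_apply, smul_eq_mul, eP_inl]
  rw [Finset.sum_eq_single s]
  · simp
  · intro s' _ hs'
    simp [hs']
  · intro h; exact absurd (mem_univ s) h

lemma sum_smul_eP_inr (A : Fin n × Fin n → ℕ) (t : Fin n) :
    (∑ p, A p • eP p) (Sum.inr t) = ∑ s, A (s, t) := by
  rw [Finsupp.finsetSum_apply, Fintype.sum_prod_type, Finset.sum_comm]
  simp only [Finsupp.smul_apply, smul_eq_mul, eP_inr]
  rw [Finset.sum_eq_single t]
  · simp
  · intro t' _ ht'
    simp [ht']
  · intro h; exact absurd (mem_univ t) h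

theorem coeff_tabSeries (α β : Fin n → ℕ) :
    coeff (ex α β) (tabSeries n) = (Nat.card (Tab α β) : ℤ) := by
  unfold tabSeries
  rw [coeff_prod_geo eP eP_ne_zero]
  congr 1
  apply Nat.card_congr
  refine ⟨fun A => ⟨fun s t => A.1 (s, t), ?_⟩, fun A => ⟨fun p => A.1 p.1 p.2, ?_⟩, ?_, ?_⟩
  · obtain ⟨A, hA⟩ := A
    constructor
    · intro s
      have := DFunLike.congr_fun hA (Sum.inl s)
      rw [ex_inl, sum_smul_eP_inl] at this
      exact this
    · intro t
      have := DFunLike.congr_fun hA (Sum.inr t)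
      rw [ex_inr, sum_smul_eP_inr] at this
      exact this
  · obtain ⟨A, hA1, hA2⟩ := A
    apply ext_sum
    · intro s
      rw [ex_inl, sum_smul_eP_inl, ← hA1 s]
    · intro t
      rw [ex_inr, sum_smul_eP_inr, ← hA2 t]
  · intro A; rfl
  · intro A; rfl

end Cfsg.Agent.Lib.Helper5.GLU
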