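import Mathlib
import Cfsg.Agent.Lib.Helper5.GLUIdA
import Cfsg.Agent.Lib.Helper5.GLUCauchy

/-!
# The signed sum of contingency-table numbers (Frobenius / Cauchy)
-/

set_option autoImplicit false

namespace Cfsg.Agent.Lib.Helper5.GLU

open Finset MvPowerSeries Equiv

variable {n : ℕ}

/-- the ring of power series in `x_i, y_j` -/
abbrev PS (n : ℕ) := MvPowerSeries (Fin n ⊕ Fin n) ℤ

/-- the variable `x_i` -/
noncomputable def xv (i : Fin n) : PS n := X (Sum.inl i)
/-- the variable `y_i` -/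
noncomputable def yv (i : Fin n) : PS n := X (Sum.inr i)

lemma monomial_eP (p : Fin n × Fin n) : monomial (eP p) (1 : ℤ) = xv p.1 * yv p.2 := by
  unfold eP xv yv X
  rw [monomial_mul_monomial, mul_one]

lemma geo_inv (i j : Fin n) : geo (eP (i, j)) * (1 - xv i * yv j) = 1 := by
  rw [← monomial_eP (i, j)]
  exact geo_mul _ (eP_ne_zero _)

/-- Cauchy's identity for the table series. -/
lemma cauchy_series : Matrix.det (Matrix.of fun i j : Fin n => geo (eP (i, j))) =
    Matrix.det (Matrix.vandermonde (xv (n := n))) *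
      Matrix.det (Matrix.vandermonde (yv (n := n))) * tabSeries n := by
  rw [cauchy_det n xv yv _ geo_inv, Matrix.det_vandermonde, Matrix.det_vandermonde]
  unfold tabSeries
  rw [Fintype.prod_prod_type]

lemma sum_single_inl (f : Fin n → ℕ) :
    ∑ k, Finsupp.single (Sum.inl k : Fin n ⊕ Fin n) (f k) = ex f 0 := by
  apply ext_sum
  · intro i
    rw [Finsupp.finsetSum_apply, ex_inl, Finset.sum_eq_single i]
    · simp
    · intro k _ hk
      rw [Finsupp.single_apply, if_neg]
      intro h; exact hk (Sum.inl.inj h)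
    · intro h; exact absurd (mem_univ i) h
  · intro i
    rw [Finsupp.finsetSum_apply, ex_inr]
    simp

lemma sum_single_inr (f : Fin n → ℕ) :
    ∑ k, Finsupp.single (Sum.inr k : Fin n ⊕ Fin n) (f k) = ex 0 f := by
  apply ext_sum
  · intro i
    rw [Finsupp.finsetSum_apply, ex_inl]
    simp
  · intro i
    rw [Finsupp.finsetSum_apply, ex_inr, Finset.sum_eq_single i]
    · simp
    · intro k _ hk
      rw [Finsupp.single_apply, if_neg]
      intro h; exact hk (Sum.inr.inj h)
    · intro h; exact absurd (mem_univ i) h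

lemma det_vandermonde_xv : Matrix.det (Matrix.vandermonde (xv (n := n))) =
    ∑ κ : Perm (Fin n), ((Perm.sign κ : ℤ) : PS n) *
      monomial (ex (fun i => ((κ i : Fin n) : ℕ)) 0) 1 := by
  rw [Matrix.det_apply']
  apply Fintype.sum_equiv (Equiv.inv (Perm (Fin n)))
  intro τ
  simp only [Equiv.inv_apply, Perm.sign_inv]
  congr 1
  simp only [Matrix.vandermonde_apply]
  rw [← Equiv.prod_comp τ⁻¹]
  have : ∀ k, xv (τ (τ⁻¹ k)) ^ ((τ⁻¹ k : Fin n) : ℕ) =
      monomial (Finsupp.single (Sum.inl k : Fin n ⊕ Fin n) ((τ⁻¹ k : Fin n) : ℕ)) (1 : ℤ) := by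
    intro k
    rw [show τ (τ⁻¹ k) = k by simp]
    unfold xv
    rw [X_pow_eq]
  rw [Finset.prod_congr rfl (fun k _ => this k), prod_monomial, Finset.prod_const_one,
    sum_single_inl]

lemma det_vandermonde_yv : Matrix.det (Matrix.vandermonde (yv (n := n))) =
    ∑ κ : Perm (Fin n), ((Perm.sign κ : ℤ) : PS n) *
      monomial (ex 0 (fun i => ((κ i : Fin n) : ℕ))) 1 := by
  rw [Matrix.det_apply']
  apply Fintype.sum_equiv (Equiv.inv (Perm (Fin n)))
  intro τ
  simp only [Equiv.inv_apply, Perm.sign_inv]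
  congr 1
  simp only [Matrix.vandermonde_apply]
  rw [← Equiv.prod_comp τ⁻¹]
  have : ∀ k, yv (τ (τ⁻¹ k)) ^ ((τ⁻¹ k : Fin n) : ℕ) =
      monomial (Finsupp.single (Sum.inr k : Fin n ⊕ Fin n) ((τ⁻¹ k : Fin n) : ℕ)) (1 : ℤ) := by
    intro k
    rw [show τ (τ⁻¹ k) = k by simp]
    unfold yv
    rw [X_pow_eq]
  rw [Finset.prod_congr rfl (fun k _ => this k), prod_monomial, Finset.prod_const_one,
    sum_single_inr]

lemma ex_add (α β α' β' : Fin n → ℕ) : ex α β + ex α' β' = ex (α + α') (β + β') := by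
  apply ext_sum <;> intro i <;> simp

lemma ex_le_iff (α β α' β' : Fin n → ℕ) :
    ex α β ≤ ex α' β' ↔ (∀ i, α i ≤ α' i) ∧ ∀ i, β i ≤ β' i := by
  rw [Finsupp.le_def]
  constructor
  · intro h
    exact ⟨fun i => h (Sum.inl i), fun i => h (Sum.inr i)⟩
  · rintro ⟨h1, h2⟩ (i | i)
    · exact h1 i
    · exact h2 i

lemma ex_sub (α β α' β' : Fin n → ℕ) :
    ex α' β' - ex α β = ex (fun i => α' i - α i) (fun i => β' i - β i) := by
  apply ext_sum <;> intro i <;> simp [Finsupp.tsub_apply]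

lemma coeff_intCast_mul (z : ℤ) (φ : PS n) (d : (Fin n ⊕ Fin n) →₀ ℕ) :
    coeff d ((z : PS n) * φ) = z * coeff d φ := by
  rw [← coeff_C_mul]
  congr 2
  exact (map_intCast (C (σ := Fin n ⊕ Fin n) (R := ℤ)) z).symm

open Classical in
/-- the left side: coefficient extraction -/
lemma coeff_vand_mul_tabSeries (l l' : Fin n → ℕ) :
    coeff (ex l l') (Matrix.det (Matrix.vandermonde (xv (n := n))) *
      Matrix.det (Matrix.vandermonde (yv (n := n))) * tabSeries n) =
    ∑ κ : Perm (Fin n), ∑ κ' : Perm (Fin n),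
      if (∀ i, ((κ i : Fin n) : ℕ) ≤ l i) ∧ (∀ i, ((κ' i : Fin n) : ℕ) ≤ l' i) then
        ((Perm.sign κ : ℤ) * (Perm.sign κ' : ℤ)) *
          (Nat.card (Tab (fun i => l i - (κ i : ℕ)) (fun i => l' i - (κ' i : ℕ))) : ℤ)
      else 0 := by
  rw [det_vandermonde_xv, det_vandermonde_yv, Finset.sum_mul_sum, Finset.sum_mul, map_sum]
  refine Finset.sum_congr rfl fun κ _ => ?_
  rw [Finset.sum_mul, map_sum]
  refine Finset.sum_congr rfl fun κ' _ => ?_
  have e1 : ((Perm.sign κ : ℤ) : PS n) * monomial (ex (fun i => ((κ i : Fin n) : ℕ)) 0) 1 *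
      (((Perm.sign κ' : ℤ) : PS n) * monomial (ex 0 (fun i => ((κ' i : Fin n) : ℕ))) 1) *
      tabSeries n =
      (((Perm.sign κ : ℤ) * (Perm.sign κ' : ℤ) : ℤ) : PS n) *
        (monomial (ex (fun i => ((κ i : Fin n) : ℕ)) (fun i => ((κ' i : Fin n) : ℕ))) (1 : ℤ) *
          tabSeries n) := by
    have : monomial (ex (fun i => ((κ i : Fin n) : ℕ)) (fun i => ((κ' i : Fin n) : ℕ))) (1 : ℤ) =
        monomial (ex (fun i => ((κ i : Fin n) : ℕ)) 0) (1 : ℤ) *
          monomial (ex 0 (fun i => ((κ' i : Fin n) : ℕ))) (1 : ℤ) := by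
      rw [monomial_mul_monomial, ex_add, mul_one, add_zero, zero_add]
    rw [this]
    push_cast
    ring
  rw [e1, coeff_intCast_mul, coeff_monomial_mul]
  by_cases h : (∀ i, ((κ i : Fin n) : ℕ) ≤ l i) ∧ (∀ i, ((κ' i : Fin n) : ℕ) ≤ l' i)
  · rw [if_pos h, if_pos ((ex_le_iff _ _ _ _).mpr h), ex_sub, coeff_tabSeries, one_mul]
  · rw [if_neg h, if_neg (fun h' => h ((ex_le_iff _ _ _ _).mp h')), mul_zero]

lemma sum_smul_eP_perm_inr (τ : Perm (Fin n)) (m : Fin n → ℕ) (j : Fin n) :
    (∑ i, m i • eP (τ i, i)) (Sum.inr j) = m j := by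
  rw [Finsupp.finsetSum_apply]
  simp only [Finsupp.smul_apply, smul_eq_mul, eP_inr]
  rw [Finset.sum_eq_single j]
  · simp
  · intro i _ hi
    simp [hi]
  · intro h; exact absurd (mem_univ j) h

lemma sum_smul_eP_perm_inl (τ : Perm (Fin n)) (m : Fin n → ℕ) (k : Fin n) :
    (∑ i, m i • eP (τ i, i)) (Sum.inl (τ k)) = m k := by
  rw [Finsupp.finsetSum_apply]
  simp only [Finsupp.smul_apply, smul_eq_mul, eP_inl]
  rw [Finset.sum_eq_single k]
  · simp
  · intro i _ hi
    rw [if_neg, mul_zero]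
    intro h; exact hi (τ.injective h)
  · intro h; exact absurd (mem_univ k) h

open Classical in
lemma card_perm_solutions (τ : Perm (Fin n)) (l l' : Fin n → ℕ) :
    Nat.card {m : Fin n → ℕ // ∑ i, m i • eP (τ i, i) = ex l l'} =
      if ∀ i, l' i = l (τ i) then 1 else 0 := by
  by_cases h : ∀ i, l' i = l (τ i)
  · rw [if_pos h]
    rw [Nat.card_eq_one_iff_unique]
    refine ⟨⟨?_⟩, ⟨⟨l', ?_⟩⟩⟩
    · rintro ⟨m, hm⟩ ⟨m', hm'⟩
      apply Subtype.ext
      funext j
      have h1 := DFunLike.congr_fun hm (Sum.inr j)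
      have h2 := DFunLike.congr_fun hm' (Sum.inr j)
      rw [sum_smul_eP_perm_inr] at h1 h2
      show m j = m' j
      rw [h1, h2]
    · apply ext_sum
      · intro i
        obtain ⟨k, rfl⟩ := τ.surjective i
        rw [sum_smul_eP_perm_inl, ex_inl, h]
      · intro j
        rw [sum_smul_eP_perm_inr, ex_inr]
  · rw [if_neg h]
    have : IsEmpty {m : Fin n → ℕ // ∑ i, m i • eP (τ i, i) = ex l l'} := by
      constructor
      rintro ⟨m, hm⟩
      apply h
      intro i
      have h1 := DFunLike.congr_fun hm (Sum.inr i)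
      have h2 := DFunLike.congr_fun hm (Sum.inl (τ i))
      rw [sum_smul_eP_perm_inr, ex_inr] at h1
      rw [sum_smul_eP_perm_inl, ex_inl] at h2
      rw [← h1, ← h2]
    exact Nat.card_of_isEmpty

lemma perm_eq_one_of_strictMono (τ : Perm (Fin n)) (h : StrictMono τ) : τ = 1 := by
  have h1 : ∀ i, i ≤ τ i := h.id_le
  have hinv : StrictMono (τ⁻¹ : Perm (Fin n)) := by
    intro a b hab
    by_contra hcon
    rcases (not_lt.mp hcon).lt_or_eq with hlt | heq
    · have := h hlt
      have e1 : τ (τ⁻¹ a) = a := by simp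
      have e2 : τ (τ⁻¹ b) = b := by simp
      rw [e1, e2] at this
      exact absurd hab (not_lt.mpr this.le)
    · have := congrArg τ heq
      have e1 : τ (τ⁻¹ a) = a := by simp
      have e2 : τ (τ⁻¹ b) = b := by simp
      rw [e1, e2] at this
      exact absurd hab (by rw [this]; exact lt_irrefl _)
  have h2 : ∀ i, i ≤ τ⁻¹ i := hinv.id_le
  ext i
  have h3 : τ i ≤ i := by
    have := h2 (τ i)
    simpa using this
  exact congrArg Fin.val (le_antisymm h3 (h1 i))

open Classical in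
/-- the right side: coefficients of the Cauchy determinant -/
lemma coeff_det_geo (l l' : Fin n → ℕ) (hl : StrictMono l) (hl' : StrictMono l') :
    coeff (ex l l') (Matrix.det (Matrix.of fun i j : Fin n => geo (eP (i, j)))) =
      if l = l' then 1 else 0 := by
  rw [Matrix.det_apply', map_sum]
  have hterm : ∀ τ : Perm (Fin n),
      coeff (ex l l') (((Perm.sign τ : ℤ) : PS n) *
        ∏ i, (Matrix.of fun i j : Fin n => geo (eP (i, j))) (τ i) i) =
      if τ = 1 ∧ l = l' then 1 else 0 := by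
    intro τ
    rw [coeff_intCast_mul]
    simp only [Matrix.of_apply]
    rw [coeff_prod_geo (fun i => eP (τ i, i)) (fun i => eP_ne_zero _), card_perm_solutions]
    by_cases h : ∀ i, l' i = l (τ i)
    · have hτ : τ = 1 := by
        apply perm_eq_one_of_strictMono
        intro a b hab
        have := hl' hab
        rw [h a, h b] at this
        exact hl.lt_iff_lt.mp this
      subst hτ
      have hll : l = l' := by
        funext i
        rw [h i]; simp
      rw [if_pos h, if_pos ⟨rfl, hll⟩]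
      simp
    · rw [if_neg h, if_neg]
      · simp
      · rintro ⟨rfl, rfl⟩
        exact h (fun i => by simp)
  rw [Finset.sum_congr rfl (fun τ _ => hterm τ)]
  by_cases hll : l = l'
  · rw [if_pos hll, Finset.sum_eq_single 1]
    · rw [if_pos ⟨rfl, hll⟩]
    · intro τ _ hτ
      rw [if_neg]
      exact fun h => hτ h.1
    · intro h; exact absurd (mem_univ _) h
  · rw [if_neg hll]
    apply Finset.sum_eq_zero
    intro τ _
    rw [if_neg]
    exact fun h => hll h.2

open Classical in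
/-- **The signed sum of table numbers**: for strictly increasing `l, l'`,
`∑_{κ,κ'} sgn κ sgn κ' N(l - κ, l' - κ') = [l = l']`. -/
theorem signed_sum_tab (l l' : Fin n → ℕ) (hl : StrictMono l) (hl' : StrictMono l') :
    (∑ κ : Perm (Fin n), ∑ κ' : Perm (Fin n),
      if (∀ i, ((κ i : Fin n) : ℕ) ≤ l i) ∧ (∀ i, ((κ' i : Fin n) : ℕ) ≤ l' i) then
        ((Perm.sign κ : ℤ) * (Perm.sign κ' : ℤ)) *
          (Nat.card (Tab (fun i => l i - (κ i : ℕ)) (fun i => l' i - (κ' i : ℕ))) : ℤ)
      else 0) = if l = l' then 1 else 0 := by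
  rw [← coeff_vand_mul_tabSeries, ← cauchy_series, coeff_det_geo l l' hl hl']

end Cfsg.Agent.Lib.Helper5.GLU
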