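import Mathlib
import Cfsg.Agent.Lib.Helper5.GLUBruhat

/-!
# Rank invariants of double cosets of parabolic subgroups
-/

set_option autoImplicit false

namespace Cfsg.Agent.Lib.Helper5.GLU

open Finset Matrix
open scoped MatrixGroups

variable {n : ℕ} {F : Type*} [Field F] (la lb : Fin n → ℕ)

/-- projection on the rows of label at least `a` -/
def dR (a : ℕ) : Matrix (Fin n) (Fin n) F := Matrix.diagonal fun i => if a ≤ la i then 1 else 0

/-- projection on the columns of label at most `b` -/
def dC (b : ℕ) : Matrix (Fin n) (Fin n) F := Matrix.diagonal fun j => if lb j ≤ b then 1 else 0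

lemma dR_mul (a : ℕ) (p : Matrix (Fin n) (Fin n) F) (hp : p.BlockTriangular la) :
    dR (F := F) la a * p = dR la a * p * dR la a := by
  ext i k
  unfold dR
  rw [Matrix.mul_diagonal, Matrix.diagonal_mul]
  by_cases hk : a ≤ la k
  · rw [if_pos hk, mul_one]
  · rw [if_neg hk, mul_zero]
    by_cases hi : a ≤ la i
    · rw [hp (show la k < la i by omega), mul_zero]
    · rw [if_neg hi, zero_mul]

lemma mul_dC (b : ℕ) (p : Matrix (Fin n) (Fin n) F) (hp : p.BlockTriangular lb) :
    p * dC (F := F) lb b = dC lb b * p * dC lb b := by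
  ext k j
  unfold dC
  rw [Matrix.mul_diagonal, Matrix.mul_diagonal, Matrix.diagonal_mul]
  by_cases hj : lb j ≤ b
  · rw [if_pos hj, mul_one, mul_one]
    by_cases hk : lb k ≤ b
    · rw [if_pos hk, one_mul]
    · rw [if_neg hk, zero_mul]
      exact hp (show lb j < lb k by omega)
  · rw [if_neg hj, mul_zero, mul_zero]

lemma rank_le_of_blockTriangular (a b : ℕ) (g p p' : Matrix (Fin n) (Fin n) F)
    (hp : p.BlockTriangular la) (hp' : p'.BlockTriangular lb) :
    (dR la a * (p * g * p') * dC lb b).rank ≤ (dR la a * g * dC lb b).rank := by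
  have e : dR la a * (p * g * p') * dC lb b =
      dR la a * p * (dR la a * g * dC lb b) * (p' * dC lb b) := by
    have h1 := dR_mul la a p hp
    have h2 := mul_dC lb b p' hp'
    calc dR la a * (p * g * p') * dC lb b
        = (dR la a * p) * g * (p' * dC lb b) := by simp only [Matrix.mul_assoc]
      _ = (dR la a * p * dR la a) * g * (dC lb b * p' * dC lb b) := by rw [← h1, ← h2]
      _ = dR la a * p * (dR la a * g * dC lb b) * (p' * dC lb b) := by
          simp only [Matrix.mul_assoc]
  rw [e]
  exact (Matrix.rank_mul_le_left _ _).trans (Matrix.rank_mul_le_right _ _)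

/-- the rank invariant of a permutation -/
def rho (w : Equiv.Perm (Fin n)) (a b : ℕ) : ℕ :=
  (univ.filter fun j => lb j ≤ b ∧ a ≤ la (w j)).card

lemma rank_perm (a b : ℕ) (w : Equiv.Perm (Fin n)) :
    (dR la a * ((permGL (F := F) w : GL (Fin n) F) : Matrix (Fin n) (Fin n) F) * dC lb b).rank =
      rho la lb w a b := by
  classical
  have e : dR la a * ((permGL (F := F) w : GL (Fin n) F) : Matrix (Fin n) (Fin n) F) * dC lb b =
      ((permGL (F := F) w : GL (Fin n) F) : Matrix (Fin n) (Fin n) F) *
        Matrix.diagonal (fun j => if lb j ≤ b ∧ a ≤ la (w j) then (1 : F) else 0) := by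
    ext i j
    unfold dR dC
    rw [Matrix.mul_diagonal, Matrix.mul_diagonal, Matrix.diagonal_mul, permGL_apply]
    by_cases hij : i = w j
    · subst hij
      simp only [if_true]
      by_cases h1 : lb j ≤ b <;> by_cases h2 : a ≤ la (w j) <;> simp [h1, h2]
    · simp [hij]
  rw [e, Matrix.rank_mul_eq_right_of_isUnit_det _ _
    ((Matrix.isUnit_iff_isUnit_det _).mp (permGL (F := F) w).isUnit), Matrix.rank_diagonal,
    Fintype.card_subtype]
  unfold rho
  congr 1
  ext j
  simp only [mem_filter, mem_univ, true_and]
  by_cases h : lb j ≤ b ∧ a ≤ la (w j) <;> simp [h]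

/-- The rank invariants of two permutation matrices in the same double coset agree. -/
theorem rho_eq_of_mem_doubleCoset (w w' : Equiv.Perm (Fin n)) (p p' : GL (Fin n) F)
    (hp : (p : Matrix (Fin n) (Fin n) F).BlockTriangular la)
    (hp' : (p' : Matrix (Fin n) (Fin n) F).BlockTriangular lb)
    (h : permGL (F := F) w' = p * permGL w * p') (a b : ℕ) :
    rho la lb w' a b = rho la lb w a b := by
  have hpi : ((p⁻¹ : GL (Fin n) F) : Matrix (Fin n) (Fin n) F).BlockTriangular la := by
    have : Invertible (p : Matrix (Fin n) (Fin n) F) := p.invertible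
    rw [Matrix.coe_units_inv]
    exact Matrix.blockTriangular_inv_of_blockTriangular hp
  have hpi' : ((p'⁻¹ : GL (Fin n) F) : Matrix (Fin n) (Fin n) F).BlockTriangular lb := by
    have : Invertible (p' : Matrix (Fin n) (Fin n) F) := p'.invertible
    rw [Matrix.coe_units_inv]
    exact Matrix.blockTriangular_inv_of_blockTriangular hp'
  have h' : permGL (F := F) w = p⁻¹ * permGL w' * p'⁻¹ := by rw [h]; group
  apply le_antisymm
  · rw [← rank_perm (F := F), ← rank_perm (F := F), h]
    simp only [Units.val_mul]
    exact rank_le_of_blockTriangular la lb a b _ _ _ hp hp'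
  · rw [← rank_perm (F := F) la lb a b w, ← rank_perm (F := F) la lb a b w']
    conv_lhs => rw [h']
    simp only [Units.val_mul]
    exact rank_le_of_blockTriangular la lb a b _ _ _ hpi hpi'

/-- The finer counts are determined by the rank invariants. -/
theorem card_eq_of_rho_eq (w w' : Equiv.Perm (Fin n))
    (h : ∀ a b, rho la lb w' a b = rho la lb w a b) (s t : ℕ) :
    (univ.filter fun j => lb j = t ∧ la (w' j) = s).card =
      (univ.filter fun j => lb j = t ∧ la (w j) = s).card := by
  -- first step: columns
  have step1 : ∀ (v : Equiv.Perm (Fin n)) (a t : ℕ),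
      rho la lb v a (t + 1) = rho la lb v a t +
        (univ.filter fun j => lb j = t + 1 ∧ a ≤ la (v j)).card := by
    intro v a t
    unfold rho
    rw [← Finset.card_union_of_disjoint]
    · congr 1
      ext j
      simp only [mem_filter, mem_univ, true_and, mem_union]
      constructor
      · rintro ⟨h1, h2⟩
        rcases Nat.lt_or_ge (lb j) (t + 1) with h3 | h3
        · left; exact ⟨by omega, h2⟩
        · right; exact ⟨by omega, h2⟩
      · rintro (⟨h1, h2⟩ | ⟨h1, h2⟩)
        · exact ⟨by omega, h2⟩
        · exact ⟨by omega, h2⟩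
    · rw [Finset.disjoint_left]
      intro j hj1 hj2
      simp only [mem_filter, mem_univ, true_and] at hj1 hj2
      omega
  have step1' : ∀ (v : Equiv.Perm (Fin n)) (a : ℕ),
      rho la lb v a 0 = (univ.filter fun j => lb j = 0 ∧ a ≤ la (v j)).card := by
    intro v a
    unfold rho
    congr 1
    ext j
    simp only [mem_filter, mem_univ, true_and, Nat.le_zero]
  have hsig : ∀ a t, (univ.filter fun j => lb j = t ∧ a ≤ la (w' j)).card =
      (univ.filter fun j => lb j = t ∧ a ≤ la (w j)).card := by
    intro a t
    cases t with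
    | zero => rw [← step1', ← step1', h]
    | succ t =>
      have e1 := step1 w' a t
      have e2 := step1 w a t
      rw [h, h] at e1
      omega
  have step2 : ∀ (v : Equiv.Perm (Fin n)) (s t : ℕ),
      (univ.filter fun j => lb j = t ∧ s ≤ la (v j)).card =
        (univ.filter fun j => lb j = t ∧ la (v j) = s).card +
          (univ.filter fun j => lb j = t ∧ s + 1 ≤ la (v j)).card := by
    intro v s t
    rw [← Finset.card_union_of_disjoint]
    · congr 1
      ext j
      simp only [mem_filter, mem_univ, true_and, mem_union]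
      constructor
      · rintro ⟨h1, h2⟩
        rcases Nat.lt_or_ge s (la (v j)) with h3 | h3
        · right; exact ⟨h1, by omega⟩
        · left; exact ⟨h1, by omega⟩
      · rintro (⟨h1, h2⟩ | ⟨h1, h2⟩)
        · exact ⟨h1, by omega⟩
        · exact ⟨h1, by omega⟩
    · rw [Finset.disjoint_left]
      intro j hj1 hj2
      simp only [mem_filter, mem_univ, true_and] at hj1 hj2
      omega
  have e1 := step2 w' s t
  have e2 := step2 w s t
  rw [hsig, hsig] at e1
  omega

end Cfsg.Agent.Lib.Helper5.GLU
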