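import Mathlib
import Cfsg.Prelude.Def_LinearParabolics
import Cfsg.Agent.S2420
import Cfsg.Agent.Lib.Helper5.GLUTab
import Cfsg.Agent.Lib.Helper5.GLURank

/-!
# Orbits of `GL_n(q)` on pairs of partial flags
-/

set_option autoImplicit false

namespace Cfsg.Agent.Lib.Helper5.GLU

open Finset Matrix Cfsg
open scoped MatrixGroups

variable {n : ℕ} {F : Type*} [Field F]

lemma mem_parabolicGL (μ : Fin n → ℕ) (g : GL (Fin n) F) :
    g ∈ parabolicGL n F μ ↔ (g : Matrix (Fin n) (Fin n) F).BlockTriangular (compLabel μ) := Iff.rfl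

lemma borel_le_parabolic (μ : Fin n → ℕ) : upperTriangularGL n F ≤ parabolicGL n F μ := by
  intro g hg
  rw [mem_parabolicGL]
  rw [mem_upperTriangularGL] at hg
  intro i j hij
  apply hg
  simp only [id]
  by_contra hcon
  have := Cfsg.Agent.S2420.compLabel_mono μ (not_lt.mp hcon)
  omega

section

variable (μ ν : Fin n → ℕ) (hμ : ∑ i, μ i = n) (hν : ∑ i, ν i = n)

/-- Fin-valued labels -/
abbrev labF := Cfsg.Agent.S2420.lab μ hμ

lemma labF_val (i : Fin n) : (labF μ hμ i).val = compLabel μ i := rfl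

lemma cnt_labF : cnt (labF μ hμ) = μ := by
  funext s
  unfold cnt
  rw [← Fintype.card_subtype]
  exact Cfsg.Agent.S2420.card_lab_fiber μ hμ s

lemma permGL_mem_parabolic (u : Equiv.Perm (Fin n)) (hu : u ∈ young (labF μ hμ)) :
    permGL (F := F) u ∈ parabolicGL n F μ := by
  rw [mem_parabolicGL]
  intro i j hij
  rw [permGL_apply, if_neg]
  intro h
  have := (mem_young _ u).mp hu j
  rw [← h] at this
  have h2 := congrArg Fin.val this
  rw [labF_val, labF_val] at h2
  omega

/-- Permutation matrices in the same double coset of parabolics have the same table. -/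
lemma tabOf_eq_of_doubleCoset (w w' : Equiv.Perm (Fin n)) (p p' : GL (Fin n) F)
    (hp : p ∈ parabolicGL n F μ) (hp' : p' ∈ parabolicGL n F ν)
    (h : permGL (F := F) w' = p * permGL w * p') :
    tabOf (labF μ hμ) (labF ν hν) w' = tabOf (labF μ hμ) (labF ν hν) w := by
  have h1 := rho_eq_of_mem_doubleCoset (compLabel μ) (compLabel ν) w w' p p' hp hp' h
  funext s t
  have h2 := card_eq_of_rho_eq (compLabel μ) (compLabel ν) w w' h1 s.val t.val
  unfold tabOf
  have e : ∀ v : Equiv.Perm (Fin n),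
      (univ.filter fun j => labF ν hν j = t ∧ labF μ hμ (v j) = s) =
        univ.filter fun j => compLabel ν j = t.val ∧ compLabel μ (v j) = s.val := by
    intro v
    ext j
    simp only [mem_filter, mem_univ, true_and, Fin.ext_iff, labF_val]
  rw [e, e, h2]

variable [Finite F]

/-- the table of a matrix, via the Bruhat decomposition -/
noncomputable def tabGL (g : GL (Fin n) F) : Tab (cnt (labF μ hμ)) (cnt (labF ν hν)) :=
  ⟨tabOf (labF μ hμ) (labF ν hν) (bruhat g).choose_spec.2.choose, isTab_tabOf _ _ _⟩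

lemma tabGL_eq (g : GL (Fin n) F) (w : Equiv.Perm (Fin n)) (p p' : GL (Fin n) F)
    (hp : p ∈ parabolicGL n F μ) (hp' : p' ∈ parabolicGL n F ν) (h : g = p * permGL w * p') :
    (tabGL μ ν hμ hν g).1 = tabOf (labF μ hμ) (labF ν hν) w := by
  unfold tabGL
  obtain ⟨hb, hw⟩ := (bruhat g).choose_spec
  obtain ⟨b', hb', hg⟩ := hw.choose_spec
  set b := (bruhat g).choose
  set w₀ := hw.choose
  show tabOf (labF μ hμ) (labF ν hν) w₀ = _
  apply tabOf_eq_of_doubleCoset μ ν hμ hν w w₀ (b⁻¹ * p) (p' * b'⁻¹)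
  · exact Subgroup.mul_mem _ (Subgroup.inv_mem _ (borel_le_parabolic μ hb)) hp
  · exact Subgroup.mul_mem _ hp' (Subgroup.inv_mem _ (borel_le_parabolic ν hb'))
  · have : b * permGL w₀ * b' = p * permGL w * p' := by rw [← hg, h]
    calc permGL (F := F) w₀ = b⁻¹ * (b * permGL w₀ * b') * b'⁻¹ := by group
      _ = b⁻¹ * (p * permGL w * p') * b'⁻¹ := by rw [this]
      _ = b⁻¹ * p * permGL w * (p' * b'⁻¹) := by group

lemma exists_bruhat_parabolic (g : GL (Fin n) F) :
    ∃ w : Equiv.Perm (Fin n), ∃ p ∈ parabolicGL n F μ, ∃ p' ∈ parabolicGL n F ν,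
      g = p * permGL w * p' := by
  obtain ⟨b, hb, w, b', hb', hg⟩ := bruhat g
  exact ⟨w, b, borel_le_parabolic μ hb, b', borel_le_parabolic ν hb', hg⟩

include hμ hν in
/-- The number of orbits of `GL_n(q)` on pairs of cosets of standard parabolic subgroups. -/
theorem card_orbits_parabolic :
    Nat.card (MulAction.orbitRel.Quotient (GL (Fin n) F)
      ((GL (Fin n) F ⧸ parabolicGL n F μ) × (GL (Fin n) F ⧸ parabolicGL n F ν))) =
      Nat.card (Tab μ ν) := by
  have key := card_orbits_prod_quotient (parabolicGL n F μ) (parabolicGL n F ν)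
    (tabGL μ ν hμ hν) ?_ ?_ ?_
  · rw [key, cnt_labF, cnt_labF]
  · intro h hh k hk g
    obtain ⟨w, p, hp, p', hp', hg⟩ := exists_bruhat_parabolic μ ν g
    apply Subtype.ext
    rw [tabGL_eq μ ν hμ hν g w p p' hp hp' hg,
      tabGL_eq μ ν hμ hν (h * g * k) w (h * p) (p' * k) (Subgroup.mul_mem _ hh hp)
        (Subgroup.mul_mem _ hp' hk) (by rw [hg]; group)]
  · intro g g' hgg
    obtain ⟨w, p, hp, p', hp', hg⟩ := exists_bruhat_parabolic μ ν g
    obtain ⟨w', q, hq, q', hq', hg'⟩ := exists_bruhat_parabolic μ ν g'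
    have h1 := tabGL_eq μ ν hμ hν g w p p' hp hp' hg
    have h2 := tabGL_eq μ ν hμ hν g' w' q q' hq hq' hg'
    rw [hgg, h2] at h1
    obtain ⟨u, hu, v, hv, hw'⟩ := tabOf_complete _ _ w w' h1.symm
    refine ⟨q * permGL u * p⁻¹, ?_, p'⁻¹ * permGL v * q', ?_, ?_⟩
    · exact Subgroup.mul_mem _ (Subgroup.mul_mem _ hq (permGL_mem_parabolic μ hμ u hu))
        (Subgroup.inv_mem _ hp)
    · exact Subgroup.mul_mem _ (Subgroup.mul_mem _ (Subgroup.inv_mem _ hp')
        (permGL_mem_parabolic ν hν v hv)) hq'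
    · rw [hg', hg, hw', map_mul, map_mul]
      group
  · rintro ⟨A, hA⟩
    obtain ⟨w, hw⟩ := tabOf_surjective _ _ A hA
    refine ⟨permGL w, Subtype.ext ?_⟩
    rw [tabGL_eq μ ν hμ hν (permGL w) w 1 1 (Subgroup.one_mem _) (Subgroup.one_mem _) (by group)]
    exact hw

end

end Cfsg.Agent.Lib.Helper5.GLU
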