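import Mathlib
import Cfsg.Agent.Lib.Helper5.GLUPar
import Cfsg.Agent.Lib.Helper5.GLUIdB
import Cfsg.Agent.Lib.Helper3.PermChar
import Cfsg.Agent.Lib.Helper78.CharMore
import Cfsg.Agent.Lib.Helper74.GenIrr

/-!
# The partition-indexed characters of `GL_n(q)`: inner products
-/

set_option autoImplicit false

namespace Cfsg.Agent.Lib.Helper5.GLU

open Finset Cfsg Cfsg.Agent.Lib.Helper78
open scoped MatrixGroups ComplexConjugate

universe u

variable {F : Type u} [Field F] [Fintype F] {n : ℕ}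

section general

variable {G : Type u} [Group G] [Fintype G]

theorem classInner_sum_right' {ι : Type*} (s : Finset ι) (f : G → ℂ) (ψ : ι → G → ℂ) :
    classInner f (∑ i ∈ s, ψ i) = ∑ i ∈ s, classInner f (ψ i) := by
  classical
  induction s using Finset.induction_on with
  | empty => simp [classInner]
  | insert a s ha ih => rw [Finset.sum_insert ha, Finset.sum_insert ha, classInner_add_right, ih]

lemma fpc_isCharacter (H : Subgroup G) : IsCharacter G (fixedPointCharacter H) :=
  Cfsg.Agent.Lib.Helper3.isCharacter_card_fixedBy (G := G) (X := G ⧸ H)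

lemma classInner_fpc (H K : Subgroup G) :
    classInner (fixedPointCharacter H) (fixedPointCharacter K) =
      (Nat.card (MulAction.orbitRel.Quotient G ((G ⧸ H) × (G ⧸ K))) : ℂ) := by
  rw [← sum_card_fixedBy_mul_card_fixedBy (G := G) (X := G ⧸ H) (Y := G ⧸ K)]
  unfold classInner fixedPointCharacter
  congr 1
  refine Finset.sum_congr rfl fun g _ => ?_
  rw [Complex.conj_natCast]

end general

/-- the strictly increasing sequence attached to a partition -/
def lam (ν : Fin n → ℕ) (i : Fin n) : ℕ := ν i + i.val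

lemma lam_strictMono (ν : Fin n → ℕ) (hν : Monotone ν) : StrictMono (lam ν) := by
  intro i j hij
  unfold lam
  have := hν hij.le
  have : i.val < j.val := hij
  omega

lemma lam_injective {ν ν' : Fin n → ℕ} (h : lam ν = lam ν') : ν = ν' := by
  funext i
  have := congrFun h i
  unfold lam at this
  omega

lemma sum_lam_sub (ν : Fin n → ℕ) (hs : ∑ i, ν i = n) (κ : Equiv.Perm (Fin n))
    (hκ : ∀ i, ((κ i : Fin n) : ℕ) ≤ ν i + i.val) :
    ∑ i, (ν i + i.val - ((κ i : Fin n) : ℕ)) = n := by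
  rw [Finset.sum_tsub_distrib _ (fun i _ => hκ i), Finset.sum_add_distrib, hs,
    Equiv.sum_comp κ (fun i : Fin n => (i : ℕ))]
  omega

/-- the integer coefficient of a permutation in the alternating sum -/
noncomputable def zc (ν : Fin n → ℕ) (κ : Equiv.Perm (Fin n)) : ℤ :=
  open Classical in if ∀ i : Fin n, ((κ i : Fin n) : ℕ) ≤ ν i + i.val then (Equiv.Perm.sign κ : ℤ) else 0

omit [Fintype F] in
lemma unipotentCharacterGL_eq (ν : Fin n → ℕ) :
    unipotentCharacterGL n F ν = ∑ κ : Equiv.Perm (Fin n),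
      ((zc ν κ : ℤ) : ℂ) • fixedPointCharacter
        (parabolicGL n F fun i => ν i + i.val - ((κ i : Fin n) : ℕ)) := by
  classical
  funext g
  unfold unipotentCharacterGL
  rw [Finset.sum_apply]
  refine Finset.sum_congr rfl fun κ _ => ?_
  rw [Pi.smul_apply, smul_eq_mul]
  unfold zc
  by_cases h : ∀ i : Fin n, ((κ i : Fin n) : ℕ) ≤ ν i + i.val
  · rw [if_pos h, if_pos h]
  · rw [if_neg h, if_neg h]; simp

variable [Fintype (GL (Fin n) F)]

lemma classInner_fpc_parabolic (α β : Fin n → ℕ) (hα : ∑ i, α i = n) (hβ : ∑ i, β i = n) :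
    classInner (fixedPointCharacter (parabolicGL n F α)) (fixedPointCharacter (parabolicGL n F β)) =
      (Nat.card (Tab α β) : ℂ) := by
  rw [classInner_fpc, card_orbits_parabolic α β hα hβ]

open Classical in
/-- **Orthonormality of the partition-indexed class functions of `GL_n(q)`.** -/
theorem classInner_unipotentCharacterGL (ν ν' : Fin n → ℕ) (hν : Monotone ν) (hs : ∑ i, ν i = n)
    (hν' : Monotone ν') (hs' : ∑ i, ν' i = n) :
    classInner (unipotentCharacterGL n F ν) (unipotentCharacterGL n F ν') =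
      if ν = ν' then 1 else 0 := by
  rw [unipotentCharacterGL_eq, unipotentCharacterGL_eq, classInner_sum_left]
  have h1 : ∀ κ : Equiv.Perm (Fin n), classInner
      (((zc ν κ : ℤ) : ℂ) • fixedPointCharacter
        (parabolicGL n F fun i => ν i + i.val - ((κ i : Fin n) : ℕ)))
      (∑ κ' : Equiv.Perm (Fin n), ((zc ν' κ' : ℤ) : ℂ) • fixedPointCharacter
        (parabolicGL n F fun i => ν' i + i.val - ((κ' i : Fin n) : ℕ))) =
      ∑ κ' : Equiv.Perm (Fin n),
        (((if (∀ i, ((κ i : Fin n) : ℕ) ≤ lam ν i) ∧ (∀ i, ((κ' i : Fin n) : ℕ) ≤ lam ν' i) then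
          ((Equiv.Perm.sign κ : ℤ) * (Equiv.Perm.sign κ' : ℤ)) *
            (Nat.card (Tab (fun i => lam ν i - (κ i : ℕ)) (fun i => lam ν' i - (κ' i : ℕ))) : ℤ)
          else 0 : ℤ)) : ℂ) := by
    intro κ
    rw [classInner_sum_right']
    refine Finset.sum_congr rfl fun κ' _ => ?_
    rw [classInner_smul_left, classInner_smul_right, map_intCast]
    unfold zc lam
    by_cases hκ : ∀ i : Fin n, ((κ i : Fin n) : ℕ) ≤ ν i + i.val
    · by_cases hκ' : ∀ i : Fin n, ((κ' i : Fin n) : ℕ) ≤ ν' i + i.val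
      · rw [if_pos hκ, if_pos hκ', if_pos ⟨hκ, hκ'⟩,
          classInner_fpc_parabolic _ _ (sum_lam_sub ν hs κ hκ) (sum_lam_sub ν' hs' κ' hκ')]
        push_cast
        ring
      · have hc : ¬((∀ i : Fin n, ((κ i : Fin n) : ℕ) ≤ ν i + i.val) ∧
            (∀ i : Fin n, ((κ' i : Fin n) : ℕ) ≤ ν' i + i.val)) := fun h => hκ' h.2
        rw [if_neg hκ', if_neg hc]
        simp
    · have hc : ¬((∀ i : Fin n, ((κ i : Fin n) : ℕ) ≤ ν i + i.val) ∧
          (∀ i : Fin n, ((κ' i : Fin n) : ℕ) ≤ ν' i + i.val)) := fun h => hκ h.1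
      rw [if_neg hκ, if_neg hc]
      simp
  rw [Finset.sum_congr rfl (fun κ _ => h1 κ)]
  have h2 := signed_sum_tab (lam ν) (lam ν') (lam_strictMono ν hν) (lam_strictMono ν' hν')
  have h3 := congrArg (Int.cast (R := ℂ)) h2
  push_cast at h3
  push_cast
  rw [h3]
  by_cases hνν : ν = ν'
  · rw [if_pos hνν, if_pos (by rw [hνν])]
  · rw [if_neg hνν, if_neg (fun h => hνν (lam_injective h))]

end Cfsg.Agent.Lib.Helper5.GLU
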