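import Mathlib
import Cfsg.Agent.Lib.Helper5.GLUGamma
import Cfsg.Agent.S2424

/-!
# The partition-indexed class functions of `GL_n(q)` are irreducible characters
-/

set_option autoImplicit false

namespace Cfsg.Agent.Lib.Helper5.GLU

open Finset Cfsg Cfsg.Agent.Lib.Helper78
open scoped MatrixGroups ComplexConjugate

universe u

variable {F : Type u} [Field F] [Fintype F] {n : ℕ}

lemma qn_strictMono (q : ℕ) (hq : 0 < q) {a b : ℕ} (hab : a < b) :
    ∑ l ∈ range a, q ^ l < ∑ l ∈ range b, q ^ l := by
  apply Finset.sum_lt_sum_of_subset (i := a)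
  · intro x hx
    rw [mem_range] at hx ⊢
    omega
  · rw [mem_range]; exact hab
  · rw [mem_range]; omega
  · exact pow_pos hq a
  · intro j _ _
    exact Nat.zero_le _

omit [Fintype F] in
lemma exists_int_unipotentCharacterGL_one (ν : Fin n → ℕ) :
    ∃ Z : ℤ, unipotentCharacterGL n F ν 1 = (Z : ℂ) := by
  classical
  rw [unipotentCharacterGL_eq]
  refine ⟨∑ κ : Equiv.Perm (Fin n), zc ν κ *
    (Nat.card (MulAction.fixedBy (GL (Fin n) F ⧸
      parabolicGL n F fun i => ν i + i.val - ((κ i : Fin n) : ℕ)) (1 : GL (Fin n) F)) : ℤ), ?_⟩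
  rw [Finset.sum_apply]
  push_cast
  refine Finset.sum_congr rfl fun κ _ => ?_
  rw [Pi.smul_apply, smul_eq_mul]
  rfl

/-- the degree is positive -/
theorem unipotentCharacterGL_one_pos (ν : Fin n → ℕ) (hν : Monotone ν) (hs : ∑ i, ν i = n) :
    0 < (unipotentCharacterGL n F ν 1).re := by
  classical
  obtain ⟨Z, hZ⟩ := exists_int_unipotentCharacterGL_one (F := F) ν
  have E := Cfsg.Agent.S2424.result (F := F) (q := Fintype.card F) rfl ν hν hs
  set q := Fintype.card F with hq
  have hq0 : 0 < q := Fintype.card_pos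
  rw [hZ] at E ⊢
  rw [Complex.intCast_re]
  -- both sides are integers
  set A : ℤ := ((q : ℤ) ^ (n * (n - 1) * (n - 2) / 6)) *
    ∏ i : Fin n, ∏ j ∈ Finset.range (ν i + i.val), ((∑ l ∈ Finset.range (j + 1), q ^ l : ℕ) : ℤ) with hA
  set B : ℤ := (∏ j ∈ Finset.range n, ((∑ l ∈ Finset.range (j + 1), q ^ l : ℕ) : ℤ)) *
    ∏ i : Fin n, ∏ j ∈ Finset.univ.filter (fun j : Fin n => i < j),
      (((∑ l ∈ Finset.range (ν j + j.val), q ^ l : ℕ) : ℤ) -
        ((∑ l ∈ Finset.range (ν i + i.val), q ^ l : ℕ) : ℤ)) with hB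
  have hE : Z * A = B := by
    have : ((Z * A : ℤ) : ℂ) = ((B : ℤ) : ℂ) := by
      rw [hA, hB]
      have E' := E
      push_cast at E'
      push_cast
      linear_combination E'
    exact_mod_cast this
  have hApos : 0 < A := by
    rw [hA]
    apply mul_pos
    · exact pow_pos (by exact_mod_cast hq0) _
    · apply Finset.prod_pos
      intro i _
      apply Finset.prod_pos
      intro j _
      have : 0 < ∑ l ∈ Finset.range (j + 1), q ^ l := by
        have := qn_strictMono q hq0 (Nat.succ_pos j)
        simpa using this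
      exact_mod_cast this
  have hBpos : 0 < B := by
    rw [hB]
    apply mul_pos
    · apply Finset.prod_pos
      intro j _
      have : 0 < ∑ l ∈ Finset.range (j + 1), q ^ l := by
        have := qn_strictMono q hq0 (Nat.succ_pos j)
        simpa using this
      exact_mod_cast this
    · apply Finset.prod_pos
      intro i _
      apply Finset.prod_pos
      intro j hj
      rw [mem_filter] at hj
      have h1 : ν i + i.val < ν j + j.val := lam_strictMono ν hν hj.2
      have := qn_strictMono q hq0 h1
      have h2 : ((∑ l ∈ Finset.range (ν i + i.val), q ^ l : ℕ) : ℤ) <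
          ((∑ l ∈ Finset.range (ν j + j.val), q ^ l : ℕ) : ℤ) := by exact_mod_cast this
      linarith
  have hZpos : 0 < Z := by
    by_contra hcon
    have hZ0 : Z ≤ 0 := not_lt.mp hcon
    have : Z * A ≤ 0 := mul_nonpos_of_nonpos_of_nonneg hZ0 hApos.le
    rw [hE] at this
    linarith
  exact_mod_cast hZpos

/-- **The partition-indexed class functions of `GL_n(q)` are irreducible characters.** -/
theorem isIrrCharacter_unipotentCharacterGL (ν : Fin n → ℕ) (hν : Monotone ν)
    (hs : ∑ i, ν i = n) : IsIrrCharacter (GL (Fin n) F) (unipotentCharacterGL n F ν) := by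
  classical
  have : Fintype (GL (Fin n) F) := Fintype.ofFinite _
  apply Cfsg.Agent.Lib.Helper74.isIrrCharacter_of_int_coeff
  · rw [unipotentCharacterGL_eq]
    apply isClassFunction_sum
    intro κ _
    exact isClassFunction_smul _ (IsCharacter.isClassFunction (fpc_isCharacter _))
  · intro χ
    rw [unipotentCharacterGL_eq, classInner_sum_left]
    have : ∀ κ : Equiv.Perm (Fin n), ∃ m : ℕ, classInner (fixedPointCharacter
        (parabolicGL n F fun i => ν i + i.val - ((κ i : Fin n) : ℕ))) (χ : GL (Fin n) F → ℂ) = m :=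
      fun κ => IsCharacter.exists_nat_classInner (fpc_isCharacter _) χ
    choose m hm using this
    refine ⟨∑ κ : Equiv.Perm (Fin n), zc ν κ * (m κ : ℤ), ?_⟩
    push_cast
    refine Finset.sum_congr rfl fun κ _ => ?_
    rw [classInner_smul_left, hm]
  · rw [classInner_unipotentCharacterGL ν ν hν hs hν hs, if_pos rfl]
  · exact unipotentCharacterGL_one_pos ν hν hs

/-- **Different partitions give different characters.** -/
theorem unipotentCharacterGL_injective (ν ν' : Fin n → ℕ) (hν : Monotone ν) (hs : ∑ i, ν i = n)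
    (hν' : Monotone ν') (hs' : ∑ i, ν' i = n)
    (h : unipotentCharacterGL n F ν = unipotentCharacterGL n F ν') : ν = ν' := by
  classical
  have : Fintype (GL (Fin n) F) := Fintype.ofFinite _
  have h1 := classInner_unipotentCharacterGL (F := F) ν ν hν hs hν hs
  rw [if_pos rfl] at h1
  have h2 := classInner_unipotentCharacterGL (F := F) ν ν' hν hs hν' hs'
  rw [← h, h1] at h2
  by_contra hne
  rw [if_neg hne] at h2
  exact one_ne_zero h2

end Cfsg.Agent.Lib.Helper5.GLU
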