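import Mathlib
import Cfsg.Agent.Lib.Helper5.GLUIrr
import Cfsg.Agent.Lib.Helper57.CardSL
import Cfsg.Agent.Lib.Helper81.IrrTwist

/-!
# Restriction of the partition-indexed characters of `GL_n(q)` to `SL_n(q)`

`SL_n(q)` has the same orbits as `GL_n(q)` on pairs of partial flags (the stabilizer of such a pair
contains a maximal torus, on which the determinant is onto), so the inner products of the
restricted permutation characters are unchanged; hence the partition-indexed irreducible
characters of `GL_n(q)` restrict irreducibly to `SL_n(q)`.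
-/

set_option autoImplicit false

namespace Cfsg.Agent.Lib.Helper5.GLU

open Finset Cfsg MulAction Cfsg.Agent.Lib.Helper78
open scoped MatrixGroups ComplexConjugate

section general

universe u v

/-- If `S` acts through a homomorphism `S → G` and reaches every `G`-translate of every point,
then `S` and `G` have the same number of orbits. -/
theorem card_orbits_of_compat {S : Type*} {G : Type*} [Group S] [Group G] (ι : S →* G)
    {Z : Type*} [MulAction G Z] [MulAction S Z]
    (hc : ∀ (s : S) (z : Z), s • z = ι s • z)
    (h : ∀ (z : Z) (g : G), ∃ s : S, ι s • z = g • z) :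
    Nat.card (orbitRel.Quotient S Z) = Nat.card (orbitRel.Quotient G Z) := by
  apply Nat.card_congr
  apply Quotient.congrRight
  intro a b
  show orbitRel S Z a b ↔ orbitRel G Z a b
  rw [orbitRel_apply, orbitRel_apply]
  constructor
  · rintro ⟨s, rfl⟩
    exact ⟨ι s, (hc s b).symm⟩
  · rintro ⟨g, rfl⟩
    obtain ⟨s, hs⟩ := h b g
    exact ⟨s, by show s • b = g • b; rw [hc, hs]⟩

/-- The inner product of two permutation characters on coset spaces does not change under
restriction along `S → G` when `S` has the same orbits on pairs of cosets. -/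
theorem classInner_fpc_comp {S : Type v} {G : Type u} [Group S] [Group G] [Fintype S] [Fintype G]
    (ι : S →* G) (H K : Subgroup G)
    (h : ∀ (z : (G ⧸ H) × (G ⧸ K)) (g : G), ∃ s : S, ι s • z = g • z) :
    classInner (fixedPointCharacter H ∘ ι) (fixedPointCharacter K ∘ ι) =
      classInner (fixedPointCharacter H) (fixedPointCharacter K) := by
  rw [classInner_fpc]
  let i1 : MulAction S (G ⧸ H) := MulAction.compHom _ ι
  let i2 : MulAction S (G ⧸ K) := MulAction.compHom _ ι
  rw [← card_orbits_of_compat ι (Z := (G ⧸ H) × (G ⧸ K)) (fun s z => rfl) h]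
  rw [← sum_card_fixedBy_mul_card_fixedBy (G := S) (X := G ⧸ H) (Y := G ⧸ K)]
  unfold classInner fixedPointCharacter
  congr 1
  refine Finset.sum_congr rfl fun s _ => ?_
  simp only [Function.comp]
  rw [Complex.conj_natCast]
  rfl

/-- sesquilinear extension of `classInner_fpc_comp` -/
theorem classInner_comp_of_sum {S : Type v} {G : Type u} [Group S] [Group G] [Fintype S] [Fintype G]
    (ι : S →* G) {I J : Type*} [Fintype I] [Fintype J] (a : I → ℂ) (b : J → ℂ)
    (φ : I → G → ℂ) (ψ : J → G → ℂ)
    (h : ∀ i j, classInner (φ i ∘ ι) (ψ j ∘ ι) = classInner (φ i) (ψ j)) :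
    classInner ((∑ i, a i • φ i) ∘ ι) ((∑ j, b j • ψ j) ∘ ι) =
      classInner (∑ i, a i • φ i) (∑ j, b j • ψ j) := by
  have e1 : (∑ i, a i • φ i) ∘ ι = ∑ i, a i • (φ i ∘ ι) := by
    funext s
    simp only [Function.comp, Finset.sum_apply, Pi.smul_apply]
  have e2 : (∑ j, b j • ψ j) ∘ ι = ∑ j, b j • (ψ j ∘ ι) := by
    funext s
    simp only [Function.comp, Finset.sum_apply, Pi.smul_apply]
  rw [e1, e2, classInner_sum_left, classInner_sum_left]
  refine Finset.sum_congr rfl fun i _ => ?_
  rw [classInner_sum_right', classInner_sum_right']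
  refine Finset.sum_congr rfl fun j _ => ?_
  rw [classInner_smul_left, classInner_smul_right, classInner_smul_left, classInner_smul_right, h]

end general

section torus

variable {n : ℕ} {F : Type*} [Field F]

/-- diagonal matrices in `GL_n` -/
noncomputable def diagGL (v : Fin n → Fˣ) : GL (Fin n) F :=
  ⟨Matrix.diagonal (fun i => (v i : F)), Matrix.diagonal (fun i => (((v i)⁻¹ : Fˣ) : F)), by
    rw [Matrix.diagonal_mul_diagonal]; simp, by rw [Matrix.diagonal_mul_diagonal]; simp⟩

lemma diagGL_coe (v : Fin n → Fˣ) :
    ((diagGL v : GL (Fin n) F) : Matrix (Fin n) (Fin n) F) = Matrix.diagonal (fun i => (v i : F)) :=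
  rfl

lemma diagGL_mem_borel (v : Fin n → Fˣ) : diagGL v ∈ upperTriangularGL n F := by
  rw [mem_upperTriangularGL, diagGL_coe]
  exact Matrix.blockTriangular_diagonal _

lemma diagGL_mul_permGL (v : Fin n → Fˣ) (w : Equiv.Perm (Fin n)) :
    diagGL v * permGL w = permGL w * diagGL (v ∘ w) := by
  apply Units.ext
  ext i j
  rw [Units.val_mul, Units.val_mul, diagGL_coe, diagGL_coe, Matrix.diagonal_mul,
    Matrix.mul_diagonal, permGL_apply]
  by_cases h : i = w j
  · subst h
    simp [mul_comm]
  · simp [h]

lemma det_diagGL (v : Fin n → Fˣ) : Matrix.GeneralLinearGroup.det (diagGL v) = ∏ i, v i := by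
  apply Units.ext
  rw [Matrix.GeneralLinearGroup.val_det_apply, diagGL_coe, Matrix.det_diagonal]
  push_cast
  rfl

/-- **`SL_n` reaches every `GL_n`-translate of a pair of partial flags.** -/
theorem exists_SL_smul_eq [Finite F] (hn : 0 < n) (α β : Fin n → ℕ)
    (z : (GL (Fin n) F ⧸ parabolicGL n F α) × (GL (Fin n) F ⧸ parabolicGL n F β))
    (g : GL (Fin n) F) :
    ∃ s : Matrix.SpecialLinearGroup (Fin n) F,
      (Matrix.SpecialLinearGroup.toGL s : GL (Fin n) F) • z = g • z := by
  classical
  obtain ⟨a, b⟩ := z
  induction a using QuotientGroup.induction_on with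
  | H x =>
    induction b using QuotientGroup.induction_on with
    | H y =>
      obtain ⟨b₁, hb₁, w, b₂, hb₂, e⟩ := bruhat (x⁻¹ * y)
      set c : GL (Fin n) F := x * b₁ with hc
      set d : Fˣ := Matrix.GeneralLinearGroup.det g with hd
      set v : Fin n → Fˣ := Function.update (fun _ => 1) ⟨0, hn⟩ d with hv
      set t' : GL (Fin n) F := c * diagGL v * c⁻¹ with ht'
      have hy : y = c * permGL w * b₂ := by
        rw [hc]
        have : y = x * (x⁻¹ * y) := by group
        rw [this, e]; group
      have hz : t' • (((x : GL (Fin n) F) : GL (Fin n) F ⧸ parabolicGL n F α),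
          ((y : GL (Fin n) F) : GL (Fin n) F ⧸ parabolicGL n F β)) =
          (((x : GL (Fin n) F) : GL (Fin n) F ⧸ parabolicGL n F α),
          ((y : GL (Fin n) F) : GL (Fin n) F ⧸ parabolicGL n F β)) := by
        refine Prod.ext ?_ ?_
        · show ((t' * x : GL (Fin n) F) : GL (Fin n) F ⧸ parabolicGL n F α) = (x : _)
          rw [QuotientGroup.eq]
          have : (t' * x)⁻¹ * x = b₁ * (diagGL v)⁻¹ * b₁⁻¹ := by
            rw [ht', hc]; group
          rw [this]
          apply borel_le_parabolic
          exact Subgroup.mul_mem _ (Subgroup.mul_mem _ hb₁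
            (Subgroup.inv_mem _ (diagGL_mem_borel v))) (Subgroup.inv_mem _ hb₁)
        · show ((t' * y : GL (Fin n) F) : GL (Fin n) F ⧸ parabolicGL n F β) = (y : _)
          rw [QuotientGroup.eq]
          have h1 : t' * y = c * permGL w * (diagGL (v ∘ w) * b₂) := by
            rw [ht', hy]
            have : c * diagGL v * c⁻¹ * (c * permGL w * b₂) = c * (diagGL v * permGL w) * b₂ := by
              group
            rw [this, diagGL_mul_permGL]; group
          have : (t' * y)⁻¹ * y = b₂⁻¹ * (diagGL (v ∘ w))⁻¹ * b₂ := by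
            rw [h1, hy]; group
          rw [this]
          apply borel_le_parabolic
          exact Subgroup.mul_mem _ (Subgroup.mul_mem _ (Subgroup.inv_mem _ hb₂)
            (Subgroup.inv_mem _ (diagGL_mem_borel _))) hb₂
      have hdet : Matrix.GeneralLinearGroup.det (g * t'⁻¹) = 1 := by
        rw [map_mul, map_inv, ht', map_mul, map_mul, map_inv, det_diagGL, hv,
          Fintype.prod_eq_single (⟨0, hn⟩ : Fin n)]
        · rw [Function.update_self]
          rw [mul_comm (Matrix.GeneralLinearGroup.det c), mul_assoc, mul_inv_cancel, mul_one,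
            ← hd, mul_inv_cancel]
        · intro j hj
          rw [Function.update_of_ne hj]
      have hmem : g * t'⁻¹ ∈ (Matrix.SpecialLinearGroup.toGL :
          Matrix.SpecialLinearGroup (Fin n) F →* GL (Fin n) F).range := by
        rw [Cfsg.Agent.Lib.Helper57.range_toGL_eq_ker_det, MonoidHom.mem_ker]
        exact hdet
      obtain ⟨s, hs⟩ := hmem
      refine ⟨s, ?_⟩
      rw [hs, mul_smul]
      congr 1
      rw [inv_smul_eq_iff]
      exact hz.symm

end torus

section restrict

universe u

variable {F : Type u} [Field F] [Fintype F] {n : ℕ}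

/-- restriction to `SL_n(q)` preserves the inner products of the partition-indexed class
functions -/
theorem classInner_unipotent_comp_toGL [Fintype (GL (Fin n) F)]
    [Fintype (Matrix.SpecialLinearGroup (Fin n) F)] (hn : 0 < n) (ν ν' : Fin n → ℕ) :
    classInner
        (unipotentCharacterGL n F ν ∘ (Matrix.SpecialLinearGroup.toGL :
          Matrix.SpecialLinearGroup (Fin n) F →* GL (Fin n) F))
        (unipotentCharacterGL n F ν' ∘ (Matrix.SpecialLinearGroup.toGL :
          Matrix.SpecialLinearGroup (Fin n) F →* GL (Fin n) F)) =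
      classInner (unipotentCharacterGL n F ν) (unipotentCharacterGL n F ν') := by
  rw [unipotentCharacterGL_eq, unipotentCharacterGL_eq]
  apply classInner_comp_of_sum
  intro κ κ'
  exact classInner_fpc_comp _ _ _ (exists_SL_smul_eq hn _ _)

/-- **The partition-indexed irreducible characters of `GL_n(q)` restrict irreducibly to
`SL_n(q)`.** -/
theorem isIrrCharacter_unipotent_SL (hn : 0 < n) (ν : Fin n → ℕ) (hν : Monotone ν)
    (hs : ∑ i, ν i = n) :
    IsIrrCharacter (Matrix.SpecialLinearGroup (Fin n) F)
      (unipotentCharacterGL n F ν ∘ (Matrix.SpecialLinearGroup.toGL :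
        Matrix.SpecialLinearGroup (Fin n) F →* GL (Fin n) F)) := by
  classical
  have : Fintype (GL (Fin n) F) := Fintype.ofFinite _
  have : Fintype (Matrix.SpecialLinearGroup (Fin n) F) := Fintype.ofFinite _
  have hirr := isIrrCharacter_unipotentCharacterGL (F := F) ν hν hs
  apply isIrrCharacter_of_classInner_self_eq_one
  · exact Cfsg.Agent.Lib.Helper81.isCharacter_comp
      (Cfsg.Agent.Lib.Helper78.IsIrrCharacter.isCharacter hirr) _
  · rw [classInner_unipotent_comp_toGL hn, classInner_unipotentCharacterGL ν ν hν hs hν hs,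
      if_pos rfl]

end restrict

end Cfsg.Agent.Lib.Helper5.GLU
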