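import Mathlib
import Cfsg.Agent.S2424

/-!
# The degree of the Steinberg character of `GL_n(q)`
-/

set_option autoImplicit false

namespace Cfsg.Agent.Lib.Helper5.GLU

open Finset Cfsg Cfsg.Agent.S2424
open scoped MatrixGroups

/-- column products of the Vandermonde-like factor for the Steinberg partition -/
lemma prod_col (q j : ℕ) :
    ∏ i ∈ range j, (((qn q (1 + j) : ℕ) : ℂ) - ((qn q (1 + i) : ℕ) : ℂ)) =
      (q : ℂ) ^ (∑ s ∈ range (j + 1), s) * ((qf q j : ℕ) : ℂ) := by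
  have h := key q (1 + j) (j + 1)
  rw [Finset.prod_range_succ'] at h
  have e0 : ((qn q (1 + j) : ℕ) : ℂ) - ((qn q 0 : ℕ) : ℂ) = ((qn q (1 + j) : ℕ) : ℂ) := by
    simp [qn]
  have e1 : ent q (1 + j) (j + 1) = 1 := by
    unfold ent
    rw [if_pos (by omega)]
    have : 1 + j - (j + 1) = 0 := by omega
    rw [this]
    simp [qf]
  rw [e0, e1, mul_one] at h
  have e2 : ((qf q (1 + j) : ℕ) : ℂ) = ((qf q j : ℕ) : ℂ) * ((qn q (1 + j) : ℕ) : ℂ) := by
    rw [show 1 + j = j + 1 by omega, qf_succ]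
    push_cast; ring
  rw [e2] at h
  have hne : ((qn q (1 + j) : ℕ) : ℂ) ≠ 0 := by
    rw [show 1 + j = j + 1 by omega]
    exact Nat.cast_ne_zero.mpr (qn_succ_pos q j).ne'
  have h' : (∏ i ∈ range j, (((qn q (1 + j) : ℕ) : ℂ) - ((qn q (i + 1) : ℕ) : ℂ))) *
      ((qn q (1 + j) : ℕ) : ℂ) =
      ((q : ℂ) ^ (∑ s ∈ range (j + 1), s) * ((qf q j : ℕ) : ℂ)) * ((qn q (1 + j) : ℕ) : ℂ) := by
    rw [h]; ring
  have h'' := mul_right_cancel₀ hne h'
  rw [← h'']
  refine Finset.prod_congr rfl fun i _ => ?_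
  rw [show 1 + i = i + 1 by omega]

/-- The double product over pairs `i < j` in `Fin n`, columnwise. -/
lemma prod_pairs (n : ℕ) (f : ℕ → ℕ → ℂ) :
    ∏ i : Fin n, ∏ j ∈ univ.filter (fun j : Fin n => i < j), f i.val j.val =
      ∏ j ∈ range n, ∏ i ∈ range j, f i j := by
  have h1 : ∀ i : Fin n, ∏ j ∈ univ.filter (fun j : Fin n => i < j), f i.val j.val =
      ∏ j : Fin n, if i < j then f i.val j.val else 1 := fun i => by
    rw [Finset.prod_filter]
  rw [Finset.prod_congr rfl (fun i _ => h1 i), Finset.prod_comm,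
    ← Fin.prod_univ_eq_prod_range (fun j => ∏ i ∈ range j, f i j) n]
  refine Finset.prod_congr rfl fun j _ => ?_
  have h2 : ∏ i : Fin n, (if i < j then f i.val j.val else 1) =
      ∏ i : Fin n, (fun i : ℕ => if i < j.val then f i j.val else 1) i.val := by
    refine Finset.prod_congr rfl fun i _ => ?_
    simp only [Fin.lt_def]
  rw [h2, Fin.prod_univ_eq_prod_range (fun i : ℕ => if i < j.val then f i j.val else 1) n,
    ← Finset.prod_filter]
  congr 1
  ext i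
  simp only [mem_filter, mem_range]
  have := j.isLt
  omega

/-- **The degree of the Steinberg character of `GL_n(q)`.** -/
theorem steinberg_degree {F : Type*} [Field F] [Fintype F] (n : ℕ) :
    unipotentCharacterGL n F (fun _ => 1) 1 =
      ((∏ j : Fin n, Fintype.card F ^ (j : ℕ) : ℕ) : ℂ) := by
  set q := Fintype.card F with hq
  have hq0 : (q : ℂ) ≠ 0 := by
    have : 0 < q := Fintype.card_pos
    exact Nat.cast_ne_zero.mpr this.ne'
  have E := Cfsg.Agent.S2424.result (F := F) (q := q) rfl (fun _ : Fin n => 1)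
    (fun _ _ _ => le_rfl) (by simp)
  -- rewrite the right-hand double product
  have hC : ∏ i : Fin n, ∏ j ∈ Finset.univ.filter (fun j : Fin n => i < j),
      (((∑ l ∈ Finset.range (1 + j.val), q ^ l : ℕ) : ℂ) -
        ((∑ l ∈ Finset.range (1 + i.val), q ^ l : ℕ) : ℂ)) =
      ∏ j ∈ range n, ((q : ℂ) ^ (∑ s ∈ range (j + 1), s) * ((qf q j : ℕ) : ℂ)) := by
    have hp := prod_pairs n (fun i j => ((qn q (1 + j) : ℕ) : ℂ) - ((qn q (1 + i) : ℕ) : ℂ))
    exact hp.trans (Finset.prod_congr rfl fun j _ => prod_col q j)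
  have hA : ∏ i : Fin n, ∏ j ∈ Finset.range (1 + i.val),
      ((∑ l ∈ Finset.range (j + 1), q ^ l : ℕ) : ℂ) =
      ∏ i ∈ range n, ((qf q (1 + i) : ℕ) : ℂ) := by
    rw [← Fin.prod_univ_eq_prod_range (fun i => ((qf q (1 + i) : ℕ) : ℂ)) n]
    refine Finset.prod_congr rfl fun i _ => ?_
    unfold qf qn
    push_cast
    rfl
  have hB : ∏ j ∈ Finset.range n, ((∑ l ∈ Finset.range (j + 1), q ^ l : ℕ) : ℂ) =
      ((qf q n : ℕ) : ℂ) := by
    unfold qf qn
    push_cast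
    rfl
  rw [hC, hA, hB] at E
  -- telescoping
  have hshift : (∏ i ∈ range n, ((qf q (1 + i) : ℕ) : ℂ)) =
      (∏ j ∈ range n, ((qf q j : ℕ) : ℂ)) * ((qf q n : ℕ) : ℂ) := by
    have h1 := Finset.prod_range_succ (fun j => ((qf q j : ℕ) : ℂ)) n
    have h2 := Finset.prod_range_succ' (fun j => ((qf q j : ℕ) : ℂ)) n
    rw [h1] at h2
    have h0 : ((qf q 0 : ℕ) : ℂ) = 1 := by simp [qf]
    rw [h0, mul_one] at h2
    rw [h2]
    refine Finset.prod_congr rfl fun i _ => ?_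
    rw [add_comm]
  rw [hshift, Finset.prod_mul_distrib] at E
  have hne1 : (∏ j ∈ range n, ((qf q j : ℕ) : ℂ)) ≠ 0 :=
    Finset.prod_ne_zero_iff.mpr fun j _ => Nat.cast_ne_zero.mpr (qf_pos q j).ne'
  have hne2 : ((qf q n : ℕ) : ℂ) ≠ 0 := Nat.cast_ne_zero.mpr (qf_pos q n).ne'
  have E2 : unipotentCharacterGL n F (fun _ => 1) 1 * (q : ℂ) ^ (n * (n - 1) * (n - 2) / 6) =
      ∏ j ∈ range n, (q : ℂ) ^ (∑ s ∈ range (j + 1), s) := by
    have : (unipotentCharacterGL n F (fun _ => 1) 1 * (q : ℂ) ^ (n * (n - 1) * (n - 2) / 6)) *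
        ((∏ j ∈ range n, ((qf q j : ℕ) : ℂ)) * ((qf q n : ℕ) : ℂ)) =
        (∏ j ∈ range n, (q : ℂ) ^ (∑ s ∈ range (j + 1), s)) *
          ((∏ j ∈ range n, ((qf q j : ℕ) : ℂ)) * ((qf q n : ℕ) : ℂ)) := by
      linear_combination E
    exact mul_right_cancel₀ (mul_ne_zero hne1 hne2) this
  rw [← sum_sum_range, Finset.prod_pow_eq_pow_sum] at E2
  have hsplit : ∑ j ∈ range n, ∑ s ∈ range (j + 1), s =
      (∑ j ∈ range n, ∑ s ∈ range j, s) + ∑ j ∈ range n, j := by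
    rw [← Finset.sum_add_distrib]
    exact Finset.sum_congr rfl fun j _ => Finset.sum_range_succ _ j
  rw [hsplit, pow_add, mul_comm] at E2
  have E3 := mul_left_cancel₀ (pow_ne_zero _ hq0) E2
  rw [E3]
  push_cast
  rw [Finset.prod_pow_eq_pow_sum, Fin.sum_univ_eq_sum_range (fun j => j) n]

end Cfsg.Agent.Lib.Helper5.GLU
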