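import Mathlib
import Cfsg.Agent.Lib.Helper5.GLUSL
import Cfsg.Agent.Lib.Helper5.GLUStDeg
import Cfsg.Agent.Lib.Helper77.Deflation
import Cfsg.Agent.Lib.Helper45.PSLAut.Unitri
import Cfsg.Agent.S0165

/-!
# Unipotent characters of `PSL_n(q)`, and the Steinberg character

The partition-indexed irreducible characters of `GL_n(q)` restrict irreducibly to `SL_n(q)` and
have the centre in their kernel, so they define irreducible characters of `PSL_n(q)`.
The Steinberg character has degree the order of a Sylow `p`-subgroup and vanishes at the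
elements of order divisible by `p`.
-/

set_option autoImplicit false

namespace Cfsg.Agent.Lib.Helper5.GLU

open Finset Cfsg MulAction Cfsg.Agent.Lib.Helper78
open scoped MatrixGroups ComplexConjugate

section center

/-- a central element lying in `H` fixes all cosets of `H` -/
lemma fpc_of_mem_center {G : Type*} [Group G] (H : Subgroup G) (c : G)
    (hc : c ∈ Subgroup.center G) (hH : c ∈ H) :
    fixedPointCharacter H c = fixedPointCharacter H 1 := by
  unfold fixedPointCharacter
  have h1 : MulAction.fixedBy (G ⧸ H) c = Set.univ := by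
    ext a
    simp only [Set.mem_univ, iff_true, MulAction.mem_fixedBy]
    induction a using QuotientGroup.induction_on with
    | H x =>
      show ((c * x : G) : G ⧸ H) = (x : G ⧸ H)
      rw [QuotientGroup.eq]
      have : (c * x)⁻¹ * x = c⁻¹ := by
        rw [← (Subgroup.mem_center_iff.mp hc x)]
        group
      rw [this]
      exact H.inv_mem hH
  rw [h1, MulAction.fixedBy_one_eq_univ]

variable {F : Type*} [Field F] {n : ℕ}

lemma unipotentCharacterGL_of_mem_center (ν : Fin n → ℕ) (c : GL (Fin n) F)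
    (hc : c ∈ Subgroup.center (GL (Fin n) F)) (hB : c ∈ upperTriangularGL n F) :
    unipotentCharacterGL n F ν c = unipotentCharacterGL n F ν 1 := by
  classical
  unfold unipotentCharacterGL
  refine Finset.sum_congr rfl fun κ _ => ?_
  by_cases h : ∀ i : Fin n, (κ i).val ≤ ν i + i.val
  · rw [if_pos h, if_pos h, fpc_of_mem_center _ c hc (borel_le_parabolic _ hB)]
  · rw [if_neg h, if_neg h]

lemma toGL_mem_center_of_mem_center (z : Matrix.SpecialLinearGroup (Fin n) F)
    (hz : z ∈ Subgroup.center (Matrix.SpecialLinearGroup (Fin n) F)) :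
    (Matrix.SpecialLinearGroup.toGL z : GL (Fin n) F) ∈ Subgroup.center (GL (Fin n) F) ∧
    (Matrix.SpecialLinearGroup.toGL z : GL (Fin n) F) ∈ upperTriangularGL n F := by
  obtain ⟨r, -, hr⟩ := Matrix.SpecialLinearGroup.mem_center_iff.mp hz
  have hco : ((Matrix.SpecialLinearGroup.toGL z : GL (Fin n) F) : Matrix (Fin n) (Fin n) F) =
      Matrix.scalar (Fin n) r := hr.symm
  constructor
  · rw [Subgroup.mem_center_iff]
    intro g
    apply Units.ext
    rw [Units.val_mul, Units.val_mul, hco]
    exact ((Matrix.scalar_commute r (fun r' => Commute.all r r')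
      (g : Matrix (Fin n) (Fin n) F)).eq).symm
  · rw [mem_upperTriangularGL, hco]
    exact Matrix.blockTriangular_diagonal _

end center

section psl

universe u

variable {F : Type u} [Field F] [Fintype F] {n : ℕ}

/-- **Unipotent characters of `PSL_n(q)`.** -/
theorem exists_unipotent_PSL (hn : 0 < n) (ν : Fin n → ℕ) (hν : Monotone ν)
    (hs : ∑ i, ν i = n) :
    ∃ χ : Matrix.ProjectiveSpecialLinearGroup (Fin n) F → ℂ,
      IsIrrCharacter (Matrix.ProjectiveSpecialLinearGroup (Fin n) F) χ ∧
      ∀ s : Matrix.SpecialLinearGroup (Fin n) F,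
        χ (QuotientGroup.mk s) = unipotentCharacterGL n F ν (Matrix.SpecialLinearGroup.toGL s) := by
  have h := isIrrCharacter_unipotent_SL (F := F) hn ν hν hs
  obtain ⟨χ', h1, h2⟩ := Cfsg.Agent.Lib.Helper77.isIrrCharacter_deflate
    (Subgroup.center (Matrix.SpecialLinearGroup (Fin n) F)) h (fun z hz => by
      obtain ⟨hc, hB⟩ := toGL_mem_center_of_mem_center z hz
      show unipotentCharacterGL n F ν (Matrix.SpecialLinearGroup.toGL z) =
        unipotentCharacterGL n F ν (Matrix.SpecialLinearGroup.toGL 1)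
      rw [map_one]
      exact unipotentCharacterGL_of_mem_center ν _ hc hB)
  exact ⟨χ', h1, h2⟩

end psl

section sylow

universe u

variable {F : Type u} [Field F] [Fintype F] {n : ℕ}

omit [Field F] in
lemma prod_pow_eq (p f : ℕ) (hF : Fintype.card F = p ^ f) :
    ∏ j : Fin n, Fintype.card F ^ (j : ℕ) = p ^ (∑ j : Fin n, f * (j : ℕ)) := by
  rw [hF, ← Finset.prod_pow_eq_pow_sum]
  exact Finset.prod_congr rfl fun j _ => by rw [pow_mul]

lemma not_dvd_prod_sub_one (p f : ℕ) (hp : p.Prime) (hf : 1 ≤ f) (hF : Fintype.card F = p ^ f) :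
    ¬ p ∣ ∏ j : Fin n, (Fintype.card F ^ (n - (j : ℕ)) - 1) := by
  intro h4
  obtain ⟨j, -, hj⟩ := (Prime.dvd_finsetProd_iff (Nat.Prime.prime hp) _).mp h4
  have hq : p ∣ Fintype.card F ^ (n - (j : ℕ)) := by
    rw [hF]
    have : n - (j : ℕ) ≠ 0 := by have := j.2; omega
    exact dvd_pow (dvd_pow_self p (by omega)) this
  have hpos' : 1 ≤ Fintype.card F ^ (n - (j : ℕ)) := Nat.one_le_pow _ _ Fintype.card_pos
  have := (Nat.dvd_sub hq hj)
  rw [Nat.sub_sub_self hpos'] at this
  exact hp.one_lt.ne' (Nat.dvd_one.mp this)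

/-- **The Steinberg character of `GL_n(q)` vanishes at the elements of order divisible by `p`.** -/
theorem steinberg_vanish (p : ℕ) [hp : Fact p.Prime] [CharP F p] (g : GL (Fin n) F)
    (hg : p ∣ orderOf g) : unipotentCharacterGL n F (fun _ => 1) g = 0 := by
  classical
  obtain ⟨f, -, hF⟩ := FiniteField.card F p
  have hf : 1 ≤ (f : ℕ) := f.2
  obtain ⟨m, ρ, hirr, hχ⟩ := isIrrCharacter_unipotentCharacterGL (F := F) (n := n)
    (fun _ => 1) (fun _ _ _ => le_rfl) (by simp)
  have := hirr
  set e := ∑ j : Fin n, (f : ℕ) * (j : ℕ) with he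
  have hM := prod_pow_eq (F := F) (n := n) p f hF
  have hcard := Cfsg.Agent.Lib.Helper45.PSLAut.card_GL_eq (F := F) (n := n)
  rw [hM] at hcard
  have hnd := not_dvd_prod_sub_one (F := F) (n := n) p f hp.out hf hF
  have hdeg : m = p ^ e := by
    have h1 : ρ.character 1 = (m : ℂ) := by
      rw [Representation.char_one]
      simp
    rw [hχ, steinberg_degree, hM] at h1
    exact_mod_cast h1.symm
  rw [← hχ]
  apply Cfsg.Agent.S0165.result ρ p e hp.out
  · rw [hcard]; exact Dvd.intro _ rfl
  · rw [hcard, pow_succ]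
    intro hcon
    exact hnd (Nat.dvd_of_mul_dvd_mul_left (pow_pos hp.out.pos e) hcon)
  · rw [Module.finrank_fin_fun, hdeg]
  · exact hg

/-- **The order of a Sylow `p`-subgroup of `PSL_n(q)`.** -/
theorem card_sylow_PSL (p : ℕ) [hp : Fact p.Prime] [CharP F p] (hn : 0 < n)
    (P : Sylow p (Matrix.ProjectiveSpecialLinearGroup (Fin n) F)) :
    Nat.card P = ∏ j : Fin n, Fintype.card F ^ (j : ℕ) := by
  classical
  obtain ⟨f, -, hF⟩ := FiniteField.card F p
  have hf : 1 ≤ (f : ℕ) := f.2
  set e := ∑ j : Fin n, (f : ℕ) * (j : ℕ) with he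
  have hM := prod_pow_eq (F := F) (n := n) p f hF
  rw [hM, P.card_eq_multiplicity]
  congr 1
  -- orders
  have h1 : Nat.card (Cfsg.Agent.Lib.Helper45.PSLAut.UU n F) *
      (Cfsg.Agent.Lib.Helper45.PSLAut.UU n F).index =
      Nat.card (Matrix.SpecialLinearGroup (Fin n) F) := Subgroup.card_mul_index _
  rw [Cfsg.Agent.Lib.Helper45.PSLAut.card_UU, hM] at h1
  have h2 := Cfsg.Agent.Lib.Helper45.PSLAut.not_dvd_index_UU (F := F) (n := n) hF hf
  have h3 : Nat.card (Matrix.SpecialLinearGroup (Fin n) F) =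
      Nat.card (Matrix.SpecialLinearGroup (Fin n) F ⧸
        Subgroup.center (Matrix.SpecialLinearGroup (Fin n) F)) *
        Nat.card (Subgroup.center (Matrix.SpecialLinearGroup (Fin n) F)) :=
    Subgroup.card_eq_card_quotient_mul_card_subgroup _
  have h4 := Cfsg.Agent.Lib.Helper57.card_center_SL (F := F) n hn
  have h5 : ¬ p ∣ Nat.card (Subgroup.center (Matrix.SpecialLinearGroup (Fin n) F)) := by
    rw [h4]
    intro hcon
    have h6 : p ∣ Fintype.card F - 1 := hcon.trans (Nat.gcd_dvd_right _ _)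
    have h7 : p ∣ Fintype.card F := by rw [hF]; exact dvd_pow_self p (by omega)
    have hpos' : 1 ≤ Fintype.card F := Fintype.card_pos
    have := (Nat.dvd_sub h7 h6)
    rw [Nat.sub_sub_self hpos'] at this
    exact hp.out.one_lt.ne' (Nat.dvd_one.mp this)
  have hPSLpos : Nat.card (Matrix.SpecialLinearGroup (Fin n) F ⧸
        Subgroup.center (Matrix.SpecialLinearGroup (Fin n) F)) ≠ 0 := Nat.card_pos.ne'
  have hcpos : Nat.card (Subgroup.center (Matrix.SpecialLinearGroup (Fin n) F)) ≠ 0 :=
    Nat.card_pos.ne'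
  have hidx : (Cfsg.Agent.Lib.Helper45.PSLAut.UU n F).index ≠ 0 := by
    intro h0
    rw [h0, mul_zero] at h1
    exact (Nat.card_pos (α := Matrix.SpecialLinearGroup (Fin n) F)).ne' h1.symm
  have hfac : (p ^ e * (Cfsg.Agent.Lib.Helper45.PSLAut.UU n F).index).factorization p =
      (Nat.card (Matrix.SpecialLinearGroup (Fin n) F ⧸
        Subgroup.center (Matrix.SpecialLinearGroup (Fin n) F)) *
        Nat.card (Subgroup.center (Matrix.SpecialLinearGroup (Fin n) F))).factorization p := by
    rw [h1.trans h3]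
  rw [Nat.factorization_mul (pow_ne_zero _ hp.out.ne_zero) hidx,
    Nat.factorization_mul hPSLpos hcpos] at hfac
  simp only [Finsupp.coe_add, Pi.add_apply] at hfac
  rw [Nat.factorization_eq_zero_of_not_dvd h2, Nat.factorization_eq_zero_of_not_dvd h5,
    hp.out.factorization_pow] at hfac
  rw [Finsupp.single_eq_same, add_zero, add_zero] at hfac
  exact hfac.symm

end sylow

end Cfsg.Agent.Lib.Helper5.GLU
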