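import Mathlib

/-!
# Groups generated by involutions with the exchange condition (part A)

Abstract combinatorics of a group `W` generated by a set `S` of involutions satisfying the
(strong) exchange condition with respect to the word length: deletion, reduced subwords,
parabolic subgroups, right-handed versions.
-/

set_option autoImplicit false

namespace Cfsg.Agent.Lib.Helper5.CoxEx

open List

variable {W : Type*}

/-- `l` is a word in the letters `S` -/
def IsW (S : Set W) (l : List W) : Prop := ∀ x ∈ l, x ∈ S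

lemma isW_nil (S : Set W) : IsW S ([] : List W) := by
  intro x hx; simp at hx

lemma isW_cons {S : Set W} {a : W} {l : List W} : IsW S (a :: l) ↔ a ∈ S ∧ IsW S l := by
  unfold IsW; simp

lemma isW_append {S : Set W} {l₁ l₂ : List W} : IsW S (l₁ ++ l₂) ↔ IsW S l₁ ∧ IsW S l₂ := by
  unfold IsW
  simp only [List.mem_append]
  constructor
  · intro h; exact ⟨fun s hs => h s (Or.inl hs), fun s hs => h s (Or.inr hs)⟩
  · rintro ⟨h1, h2⟩ s (hs | hs)
    · exact h1 s hs
    · exact h2 s hs

lemma IsW.mono {S S' : Set W} (h : S ⊆ S') {l : List W} (hl : IsW S l) : IsW S' l :=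
  fun s hs => h (hl s hs)

lemma IsW.sublist {S : Set W} {l l' : List W} (hl : IsW S l) (h : l' <+ l) : IsW S l' :=
  fun s hs => hl s (h.subset hs)

lemma IsW.reverse {S : Set W} {l : List W} (hl : IsW S l) : IsW S l.reverse :=
  fun s hs => hl s (List.mem_reverse.mp hs)

variable [Group W]

lemma IsW.prod_mem {S : Set W} {l : List W} (hl : IsW S l) : l.prod ∈ Subgroup.closure S :=
  (Subgroup.closure S).list_prod_mem fun s hs => Subgroup.subset_closure (hl s hs)

/-- the word length with respect to `S` -/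
noncomputable def wlen (S : Set W) (w : W) : ℕ :=
  sInf {k | ∃ l : List W, IsW S l ∧ l.prod = w ∧ l.length = k}

/-- An exchange system: involutions generating `W`, with the strong exchange condition. -/
structure ExSys (S : Set W) : Prop where
  sq : ∀ s ∈ S, s * s = 1
  gen : Subgroup.closure S = ⊤
  exch : ∀ s ∈ S, ∀ l : List W, IsW S l → wlen S (s * l.prod) ≤ wlen S l.prod →
    ∃ l₁ s' l₂, l = l₁ ++ s' :: l₂ ∧ s * l₁.prod = l₁.prod * s'

section basic

variable {S : Set W}

lemma inv_eq_self_of_sq {s : W} (h : s * s = 1) : s⁻¹ = s :=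
  inv_eq_of_mul_eq_one_left h

lemma prod_reverse_of_sq {K : Set W} (hK : ∀ s ∈ K, s * s = 1) {l : List W} (hl : IsW K l) :
    l.reverse.prod = l.prod⁻¹ := by
  rw [List.prod_inv_reverse]
  congr 1
  have : l.map (fun x => x⁻¹) = l := by
    conv_rhs => rw [← List.map_id l]
    apply List.map_congr_left
    intro x hx
    exact inv_eq_self_of_sq (hK x (hl x hx))
  rw [this]

/-- membership in the subgroup generated by a set of involutions -/
lemma mem_closure_iff_word {K : Set W} (hK : ∀ s ∈ K, s * s = 1) (w : W) :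
    w ∈ Subgroup.closure K ↔ ∃ l, IsW K l ∧ l.prod = w := by
  constructor
  · intro hw
    induction hw using Subgroup.closure_induction with
    | mem x hx => exact ⟨[x], by intro y hy; simp at hy; rw [hy]; exact hx, by simp⟩
    | one => exact ⟨[], isW_nil K, rfl⟩
    | mul x y _ _ hx hy =>
      obtain ⟨l₁, h1, rfl⟩ := hx
      obtain ⟨l₂, h2, rfl⟩ := hy
      exact ⟨l₁ ++ l₂, isW_append.2 ⟨h1, h2⟩, List.prod_append⟩
    | inv x _ hx =>
      obtain ⟨l, h1, rfl⟩ := hx
      exact ⟨l.reverse, h1.reverse, prod_reverse_of_sq hK h1⟩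
  · rintro ⟨l, hl, rfl⟩
    exact hl.prod_mem

variable (h : ExSys S)
include h

lemma exists_word (w : W) : ∃ l, IsW S l ∧ l.prod = w := by
  have : w ∈ Subgroup.closure S := by rw [h.gen]; exact Subgroup.mem_top w
  exact (mem_closure_iff_word h.sq w).1 this

omit h in
lemma wlen_le {l : List W} (hl : IsW S l) : wlen S l.prod ≤ l.length :=
  Nat.sInf_le ⟨l, hl, rfl, rfl⟩

lemma exists_red (w : W) : ∃ l, IsW S l ∧ l.prod = w ∧ l.length = wlen S w := by
  obtain ⟨l, hl, hw⟩ := exists_word h w
  have hne : {k | ∃ l : List W, IsW S l ∧ l.prod = w ∧ l.length = k}.Nonempty :=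
    ⟨l.length, l, hl, hw, rfl⟩
  exact Nat.sInf_mem hne

omit h in
lemma wlen_one : wlen S (1 : W) = 0 := by
  have : wlen S (1 : W) ≤ 0 := Nat.sInf_le ⟨[], isW_nil S, rfl, rfl⟩
  omega

lemma wlen_eq_zero {w : W} : wlen S w = 0 ↔ w = 1 := by
  constructor
  · intro h0
    obtain ⟨l, _, hw, hlen⟩ := exists_red h w
    rw [h0] at hlen
    have : l = [] := List.length_eq_zero_iff.1 hlen
    subst this
    simpa using hw.symm
  · rintro rfl
    exact wlen_one

lemma wlen_mul_le (x y : W) : wlen S (x * y) ≤ wlen S x + wlen S y := by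
  obtain ⟨l₁, h1, rfl, hl1⟩ := exists_red h x
  obtain ⟨l₂, h2, rfl, hl2⟩ := exists_red h y
  have := wlen_le (isW_append.2 ⟨h1, h2⟩)
  rw [List.prod_append, List.length_append] at this
  omega

lemma wlen_inv (w : W) : wlen S w⁻¹ = wlen S w := by
  have key : ∀ w : W, wlen S w⁻¹ ≤ wlen S w := by
    intro w
    obtain ⟨l, hl, rfl, hlen⟩ := exists_red h w
    have := wlen_le hl.reverse
    rw [prod_reverse_of_sq h.sq hl, List.length_reverse] at this
    omega
  have h1 := key w
  have h2 := key w⁻¹
  rw [inv_inv] at h2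
  omega

omit h in
lemma wlen_S {s : W} (hs : s ∈ S) : wlen S s ≤ 1 := by
  have := wlen_le (l := [s]) (by intro y hy; simp at hy; rw [hy]; exact hs)
  simpa using this

lemma wlen_S_mul_le {s : W} (hs : s ∈ S) (w : W) : wlen S (s * w) ≤ wlen S w + 1 := by
  have := wlen_mul_le h s w
  have := wlen_S hs
  omega

lemma S_mul_S_mul {s : W} (hs : s ∈ S) (w : W) : s * (s * w) = w := by
  rw [← mul_assoc, h.sq s hs, one_mul]

lemma mul_S_mul_S {s : W} (hs : s ∈ S) (w : W) : w * s * s = w := by
  rw [mul_assoc, h.sq s hs, mul_one]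

lemma wlen_le_S_mul {s : W} (hs : s ∈ S) (w : W) : wlen S w ≤ wlen S (s * w) + 1 := by
  have := wlen_S_mul_le h hs (s * w)
  rwa [S_mul_S_mul h hs] at this

/-- exchange condition, sublist form -/
lemma exch_left {s : W} (hs : s ∈ S) {l : List W} (hl : IsW S l)
    (hle : wlen S (s * l.prod) ≤ wlen S l.prod) :
    ∃ l', l' <+ l ∧ l'.length + 1 = l.length ∧ l'.prod = s * l.prod := by
  obtain ⟨l₁, s', l₂, rfl, e⟩ := h.exch s hs l hl hle
  refine ⟨l₁ ++ l₂, List.Sublist.append (List.Sublist.refl l₁) (List.sublist_cons_self s' l₂), ?_, ?_⟩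
  · simp only [List.length_append, List.length_cons]; omega
  · have hs' : s' ∈ S := hl s' (by simp)
    rw [List.prod_append, List.prod_append, List.prod_cons, ← mul_assoc, ← mul_assoc, e,
      mul_assoc l₁.prod, mul_assoc l₁.prod, h.sq s' hs', one_mul]

lemma wlen_S_mul_ne {s : W} (hs : s ∈ S) (w : W) : wlen S (s * w) ≠ wlen S w := by
  intro heq
  obtain ⟨l, hl, rfl, hlen⟩ := exists_red h w
  obtain ⟨l', hsub, hl', hp⟩ := exch_left h hs hl heq.le
  have := wlen_le (hl.sublist hsub)
  rw [hp] at this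
  omega

lemma wlen_S_mul_lt_or {s : W} (hs : s ∈ S) (w : W) :
    wlen S (s * w) + 1 = wlen S w ∨ wlen S (s * w) = wlen S w + 1 := by
  have h1 := wlen_S_mul_le h hs w
  have h2 := wlen_le_S_mul h hs w
  have h3 := wlen_S_mul_ne h hs w
  omega

lemma wlen_mul_S (s : W) (hs : s ∈ S) (w : W) : wlen S (w * s) = wlen S (s * w⁻¹) := by
  rw [← wlen_inv h (w * s), mul_inv_rev, inv_eq_self_of_sq (h.sq s hs)]

lemma wlen_mul_S_lt_or {s : W} (hs : s ∈ S) (w : W) :
    wlen S (w * s) + 1 = wlen S w ∨ wlen S (w * s) = wlen S w + 1 := by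
  rw [wlen_mul_S h s hs, ← wlen_inv h w]
  exact wlen_S_mul_lt_or h hs w⁻¹

lemma wlen_mul_S_le {s : W} (hs : s ∈ S) (w : W) : wlen S (w * s) ≤ wlen S w + 1 := by
  have := wlen_mul_S_lt_or h hs w; omega

lemma wlen_le_mul_S {s : W} (hs : s ∈ S) (w : W) : wlen S w ≤ wlen S (w * s) + 1 := by
  have := wlen_mul_S_lt_or h hs w; omega

/-- exchange condition on the right, sublist form -/
lemma exch_right {s : W} (hs : s ∈ S) {l : List W} (hl : IsW S l)
    (hle : wlen S (l.prod * s) ≤ wlen S l.prod) :
    ∃ l', l' <+ l ∧ l'.length + 1 = l.length ∧ l'.prod = l.prod * s := by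
  have hrev : l.reverse.prod = l.prod⁻¹ := prod_reverse_of_sq h.sq hl
  have hle' : wlen S (s * l.reverse.prod) ≤ wlen S l.reverse.prod := by
    rw [hrev, ← wlen_mul_S h s hs, wlen_inv h]; exact hle
  obtain ⟨l', hsub, hlen, hp⟩ := exch_left h hs hl.reverse hle'
  refine ⟨l'.reverse, ?_, ?_, ?_⟩
  · have := List.reverse_sublist.2 hsub
    rwa [List.reverse_reverse] at this
  · rw [List.length_reverse]; rw [List.length_reverse] at hlen; exact hlen
  · rw [prod_reverse_of_sq h.sq (hl.reverse.sublist hsub), hp, hrev, mul_inv_rev, inv_inv,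
      inv_eq_self_of_sq (h.sq s hs)]

/-- a non-reduced word has a shorter subword with the same product -/
lemma exists_shorter_sublist : ∀ l : List W, IsW S l → wlen S l.prod < l.length →
    ∃ l', l' <+ l ∧ l'.length < l.length ∧ l'.prod = l.prod := by
  intro l
  induction l with
  | nil => intro _ hlt; simp at hlt
  | cons a t ih =>
    intro hl hlt
    have hW := isW_cons.1 hl
    by_cases hred : wlen S t.prod < t.length
    · obtain ⟨t', hsub, hlen, hp⟩ := ih hW.2 hred
      refine ⟨a :: t', hsub.cons_cons a, by simp; omega, ?_⟩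
      rw [List.prod_cons, List.prod_cons, hp]
    · have hle : wlen S t.prod ≤ t.length := wlen_le hW.2
      have heq : wlen S t.prod = t.length := by omega
      rw [List.prod_cons, List.length_cons] at hlt
      have hle' : wlen S (a * t.prod) ≤ wlen S t.prod := by omega
      obtain ⟨t', hsub, hlen, hp⟩ := exch_left h hW.1 hW.2 hle'
      refine ⟨t', hsub.cons a, by simp; omega, ?_⟩
      rw [List.prod_cons, hp]

/-- **Deletion**: every word has a reduced subword with the same product. -/
lemma exists_red_sublist : ∀ (k : ℕ) (l : List W), l.length ≤ k → IsW S l →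
    ∃ l', l' <+ l ∧ l'.prod = l.prod ∧ l'.length = wlen S l.prod := by
  intro k
  induction k with
  | zero =>
    intro l hk _
    have : l = [] := List.length_eq_zero_iff.1 (by omega)
    subst this
    exact ⟨[], List.Sublist.refl _, rfl, by simp [wlen_one]⟩
  | succ k ih =>
    intro l hk hl
    have hle : wlen S l.prod ≤ l.length := wlen_le hl
    by_cases heq : l.length = wlen S l.prod
    · exact ⟨l, List.Sublist.refl _, rfl, heq⟩
    · obtain ⟨l', hsub, hlen, hp⟩ := exists_shorter_sublist h l hl (by omega)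
      obtain ⟨l'', hsub', hp', hlen'⟩ := ih l' (by omega) (hl.sublist hsub)
      exact ⟨l'', hsub'.trans hsub, by rw [hp', hp], by rw [hlen', hp]⟩

/-- elements of a parabolic subgroup have reduced words in its generators -/
lemma exists_red_word_of_mem_closure {K : Set W} (hK : K ⊆ S) {w : W}
    (hw : w ∈ Subgroup.closure K) : ∃ l, IsW K l ∧ l.prod = w ∧ l.length = wlen S w := by
  obtain ⟨l, hl, rfl⟩ := (mem_closure_iff_word (fun s hs => h.sq s (hK hs)) w).1 hw
  obtain ⟨l', hsub, hp, hlen⟩ := exists_red_sublist h l.length l le_rfl (hl.mono hK)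
  exact ⟨l', hl.sublist hsub, hp, by rw [hlen]⟩

end basic

end Cfsg.Agent.Lib.Helper5.CoxEx
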