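import Mathlib
import Cfsg.Agent.Lib.Helper5.CoxExA

/-!
# Groups generated by involutions with the exchange condition (part B)

Distinguished double coset representatives for parabolic subgroups, additivity of the length,
the longest element.
-/

set_option autoImplicit false

namespace Cfsg.Agent.Lib.Helper5.CoxEx

open List

variable {W : Type*} [Group W] {S : Set W}

/-- the double coset relation for the parabolic subgroups generated by `J` and `K` -/
def dcRel (J K : Set W) (x y : W) : Prop :=
  ∃ a ∈ Subgroup.closure J, ∃ b ∈ Subgroup.closure K, y = a * x * b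

lemma dcRel_refl (J K : Set W) (x : W) : dcRel J K x x :=
  ⟨1, Subgroup.one_mem _, 1, Subgroup.one_mem _, by simp⟩

lemma dcRel_symm {J K : Set W} {x y : W} (h : dcRel J K x y) : dcRel J K y x := by
  obtain ⟨a, ha, b, hb, rfl⟩ := h
  exact ⟨a⁻¹, Subgroup.inv_mem _ ha, b⁻¹, Subgroup.inv_mem _ hb, by group⟩

lemma dcRel_trans {J K : Set W} {x y z : W} (h1 : dcRel J K x y) (h2 : dcRel J K y z) :
    dcRel J K x z := by
  obtain ⟨a, ha, b, hb, rfl⟩ := h1
  obtain ⟨a', ha', b', hb', rfl⟩ := h2
  exact ⟨a' * a, Subgroup.mul_mem _ ha' ha, b * b', Subgroup.mul_mem _ hb hb', by group⟩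

/-- `d` has minimal length in its double coset -/
def IsMinDC (S J K : Set W) (d : W) : Prop := ∀ x, dcRel J K d x → wlen S d ≤ wlen S x

/-- `w` has no left descent in `J` and no right descent in `K` -/
def IsRed (S J K : Set W) (w : W) : Prop :=
  (∀ s ∈ J, wlen S w < wlen S (s * w)) ∧ (∀ s ∈ K, wlen S w < wlen S (w * s))

lemma exists_isMinDC (S J K : Set W) (w : W) : ∃ d, dcRel J K w d ∧ IsMinDC S J K d := by
  have hne : {k | ∃ x, dcRel J K w x ∧ wlen S x = k}.Nonempty := ⟨wlen S w, w, dcRel_refl J K w, rfl⟩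
  obtain ⟨d, hd, hk⟩ := Nat.sInf_mem hne
  refine ⟨d, hd, fun x hx => ?_⟩
  rw [hk]
  exact Nat.sInf_le ⟨x, dcRel_trans hd hx, rfl⟩

variable (h : ExSys S)
include h

lemma IsMinDC.isRed {J K : Set W} (hJ : J ⊆ S) (hK : K ⊆ S) {d : W} (hd : IsMinDC S J K d) :
    IsRed S J K d := by
  constructor
  · intro s hs
    have h1 : wlen S d ≤ wlen S (s * d) :=
      hd _ ⟨s, Subgroup.subset_closure hs, 1, Subgroup.one_mem _, by simp⟩
    have h2 := wlen_S_mul_ne h (hJ hs) d
    omega
  · intro s hs
    have h1 : wlen S d ≤ wlen S (d * s) :=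
      hd _ ⟨1, Subgroup.one_mem _, s, Subgroup.subset_closure hs, by simp⟩
    have h2 := wlen_mul_S_lt_or h (hK hs) d
    omega

/-- every element of the double coset of a minimal `d` is `x d y` with lengths adding up -/
lemma dc_decomp {J K : Set W} (hJ : J ⊆ S) (hK : K ⊆ S) {d w : W} (hd : IsMinDC S J K d)
    (hw : dcRel J K d w) :
    ∃ a b : List W, IsW J a ∧ IsW K b ∧ w = a.prod * d * b.prod ∧
      wlen S w = a.length + wlen S d + b.length := by
  obtain ⟨x, hx, y, hy, rfl⟩ := hw
  obtain ⟨a₀, ha₀, rfl⟩ := (mem_closure_iff_word (fun s hs => h.sq s (hJ hs)) x).1 hx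
  obtain ⟨b₀, hb₀, rfl⟩ := (mem_closure_iff_word (fun s hs => h.sq s (hK hs)) y).1 hy
  obtain ⟨c, hc, rfl, hclen⟩ := exists_red h d
  have hL : IsW S (a₀ ++ (c ++ b₀)) :=
    isW_append.2 ⟨ha₀.mono hJ, isW_append.2 ⟨hc, hb₀.mono hK⟩⟩
  obtain ⟨l', hsub, hp, hlen⟩ := exists_red_sublist h _ _ le_rfl hL
  obtain ⟨a', r, rfl, ha', hr⟩ := List.sublist_append_iff.1 hsub
  obtain ⟨c', b', rfl, hc', hb'⟩ := List.sublist_append_iff.1 hr
  have hprod : a'.prod * (c'.prod * b'.prod) = a₀.prod * (c.prod * b₀.prod) := by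
    simpa only [List.prod_append] using hp
  -- `c'` represents an element of the double coset
  have hdc : dcRel J K c.prod c'.prod := by
    refine ⟨a'.prod⁻¹ * a₀.prod, ?_, b₀.prod * b'.prod⁻¹, ?_, ?_⟩
    · exact Subgroup.mul_mem _ (Subgroup.inv_mem _ (ha₀.sublist ha').prod_mem) ha₀.prod_mem
    · exact Subgroup.mul_mem _ hb₀.prod_mem (Subgroup.inv_mem _ (hb₀.sublist hb').prod_mem)
    · have : c'.prod = a'.prod⁻¹ * (a'.prod * (c'.prod * b'.prod)) * b'.prod⁻¹ := by group
      rw [this, hprod]; group
  have h1 : wlen S c.prod ≤ wlen S c'.prod := hd _ hdc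
  have h2 : wlen S c'.prod ≤ c'.length := wlen_le (hc.sublist hc')
  have h3 : c'.length ≤ c.length := hc'.length_le
  have hcc : c' = c := hc'.eq_of_length (by omega)
  subst hcc
  refine ⟨a', b', ha₀.sublist ha', hb₀.sublist hb', ?_, ?_⟩
  · rw [mul_assoc, mul_assoc, ← hprod]
  · simp only [List.prod_append, List.length_append] at hlen
    rw [mul_assoc, ← hlen]
    omega

/-- a `(J,K)`-reduced element is the minimal element of its double coset -/
lemma eq_of_isRed {J K : Set W} (hJ : J ⊆ S) (hK : K ⊆ S) {d w : W} (hd : IsMinDC S J K d)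
    (hw : dcRel J K d w) (hr : IsRed S J K w) : w = d := by
  obtain ⟨a, b, ha, hb, e, hlen⟩ := dc_decomp h hJ hK hd hw
  have ha' : a = [] := by
    rcases a with _ | ⟨s, a''⟩
    · rfl
    · exfalso
      have hs : s ∈ J := (isW_cons.1 ha).1
      have ha'' : IsW J a'' := (isW_cons.1 ha).2
      have e1 : s * w = a''.prod * d * b.prod := by
        rw [e, List.prod_cons, mul_assoc, mul_assoc, S_mul_S_mul h (hJ hs), mul_assoc]
      have h1 : wlen S (s * w) ≤ a''.length + wlen S d + b.length := by
        rw [e1]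
        have := wlen_mul_le h (a''.prod * d) b.prod
        have := wlen_mul_le h a''.prod d
        have := wlen_le (ha''.mono hJ)
        have := wlen_le (hb.mono hK)
        omega
      have h2 := hr.1 s hs
      simp only [List.length_cons] at hlen
      omega
  subst ha'
  have hb' : b = [] := by
    rcases List.eq_nil_or_concat b with hnil | ⟨b'', s, rfl⟩
    · exact hnil
    · exfalso
      rw [List.concat_eq_append] at hb hlen e
      have hs : s ∈ K := (isW_append.1 hb).2 s (by simp)
      have hb'' : IsW K b'' := (isW_append.1 hb).1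
      have e1 : w * s = d * b''.prod := by
        rw [e, List.prod_append, List.prod_singleton, List.prod_nil, one_mul, ← mul_assoc,
          mul_S_mul_S h (hK hs)]
      have h1 : wlen S (w * s) ≤ wlen S d + b''.length := by
        rw [e1]
        have := wlen_mul_le h d b''.prod
        have := wlen_le (hb''.mono hK)
        omega
      have h2 := hr.2 s hs
      simp only [List.length_append, List.length_singleton, List.length_nil] at hlen
      omega
  subst hb'
  simpa using e

/-- uniqueness of `(J,K)`-reduced elements in a double coset -/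
lemma isRed_unique {J K : Set W} (hJ : J ⊆ S) (hK : K ⊆ S) {w w' : W} (hw : IsRed S J K w)
    (hw' : IsRed S J K w') (hdc : dcRel J K w w') : w = w' := by
  obtain ⟨d, hd1, hd2⟩ := exists_isMinDC S J K w
  have e1 := eq_of_isRed h hJ hK hd2 (dcRel_symm hd1) hw
  have e2 := eq_of_isRed h hJ hK hd2 (dcRel_trans (dcRel_symm hd1) hdc) hw'
  rw [e1, e2]

lemma IsRed.isMinDC {J K : Set W} (hJ : J ⊆ S) (hK : K ⊆ S) {w : W} (hw : IsRed S J K w) :
    IsMinDC S J K w := by
  obtain ⟨d, hd1, hd2⟩ := exists_isMinDC S J K w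
  have e1 := eq_of_isRed h hJ hK hd2 (dcRel_symm hd1) hw
  rw [e1]; exact hd2

/-- every double coset contains a `(J,K)`-reduced element -/
lemma exists_isRed {J K : Set W} (hJ : J ⊆ S) (hK : K ⊆ S) (w : W) :
    ∃ d, dcRel J K w d ∧ IsRed S J K d := by
  obtain ⟨d, hd1, hd2⟩ := exists_isMinDC S J K w
  exact ⟨d, hd1, hd2.isRed h hJ hK⟩

omit h in
lemma closure_empty_eq (x : W) (hx : x ∈ Subgroup.closure (∅ : Set W)) : x = 1 := by
  rw [Subgroup.closure_empty] at hx
  exact Subgroup.mem_bot.1 hx

/-- additivity of the length on `w W_K` for `w` without right descents in `K` -/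
lemma wlen_mul_of_isRed {K : Set W} (hK : K ⊆ S) {w y : W}
    (hw : ∀ s ∈ K, wlen S w < wlen S (w * s)) (hy : y ∈ Subgroup.closure K) :
    wlen S (w * y) = wlen S w + wlen S y := by
  have hred : IsRed S ∅ K w := ⟨fun s hs => absurd hs (Set.notMem_empty s), hw⟩
  have hmin := hred.isMinDC h (Set.empty_subset S) hK
  have hdc : dcRel ∅ K w (w * y) := ⟨1, Subgroup.one_mem _, y, hy, by simp⟩
  obtain ⟨a, b, ha, hb, e, hlen⟩ := dc_decomp h (Set.empty_subset S) hK hmin hdc
  have ha' : a = [] := by
    rcases a with _ | ⟨s, a''⟩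
    · rfl
    · exact absurd ((isW_cons.1 ha).1) (Set.notMem_empty s)
  subst ha'
  simp only [List.prod_nil, one_mul, List.length_nil, zero_add] at e hlen
  have hy' : y = b.prod := mul_left_cancel e
  have h1 := wlen_mul_le h w y
  have h2 : wlen S y ≤ b.length := by rw [hy']; exact wlen_le (hb.mono hK)
  omega

/-- additivity of the length on `W_J w` for `w` without left descents in `J` -/
lemma wlen_mul_of_isRed_left {J : Set W} (hJ : J ⊆ S) {w x : W}
    (hw : ∀ s ∈ J, wlen S w < wlen S (s * w)) (hx : x ∈ Subgroup.closure J) :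
    wlen S (x * w) = wlen S x + wlen S w := by
  have hw' : ∀ s ∈ J, wlen S w⁻¹ < wlen S (w⁻¹ * s) := by
    intro s hs
    rw [wlen_mul_S h s (hJ hs), inv_inv, wlen_inv h]
    exact hw s hs
  have := wlen_mul_of_isRed h hJ hw' (Subgroup.inv_mem _ hx)
  rw [← mul_inv_rev, wlen_inv h, wlen_inv h, wlen_inv h] at this
  omega

section longest

/-- `w` has all of `S` as left descents -/
def FullLeft (S : Set W) (w : W) : Prop := ∀ s ∈ S, wlen S (s * w) < wlen S w

/-- `w` has all of `S` as right descents -/
def FullRight (S : Set W) (w : W) : Prop := ∀ s ∈ S, wlen S (w * s) < wlen S w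

/-- `w` has maximal length -/
def IsLongest (S : Set W) (w : W) : Prop := ∀ x, wlen S x ≤ wlen S w

lemma wlen_of_fullLeft {w : W} (hw : FullLeft S w) : ∀ r : List W, IsW S r →
    r.length = wlen S r.prod → wlen S (r.prod⁻¹ * w) + r.length = wlen S w := by
  intro r
  induction r with
  | nil => intro _ _; simp
  | cons s r' ih =>
    intro hr hred
    have hs : s ∈ S := (isW_cons.1 hr).1
    have hr' : IsW S r' := (isW_cons.1 hr).2
    have hred' : r'.length = wlen S r'.prod := by
      have h1 := wlen_le hr'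
      have h2 := wlen_S_mul_le h hs r'.prod
      rw [List.prod_cons, List.length_cons] at hred
      omega
    have IH := ih hr' hred'
    set v := r'.prod⁻¹ * w with hv
    obtain ⟨c, hc, hcp, hclen⟩ := exists_red h v
    have hLp : (r' ++ c).prod = w := by rw [List.prod_append, hcp, hv]; group
    have hLw : IsW S (r' ++ c) := isW_append.2 ⟨hr', hc⟩
    have hle : wlen S (s * (r' ++ c).prod) ≤ wlen S (r' ++ c).prod := by
      rw [hLp]; exact (hw s hs).le
    obtain ⟨l', hsub, hlen, hp⟩ := exch_left h hs hLw hle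
    obtain ⟨r'', c'', rfl, hr'', hc''⟩ := List.sublist_append_iff.1 hsub
    rw [hLp] at hp
    simp only [List.length_append, List.prod_append] at hlen hp
    have hl1 := hr''.length_le
    have hl2 := hc''.length_le
    have hrr : r'' = r' := by
      by_contra hne
      have hlt : r''.length < r'.length := by
        rcases Nat.lt_or_ge r''.length r'.length with hlt | hge
        · exact hlt
        · exact absurd (hr''.eq_of_length (by omega)) hne
      have hcc : c'' = c := hc''.eq_of_length (by omega)
      subst hcc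
      have e1 : (s :: r').prod = r''.prod := by
        rw [List.prod_cons]
        have : s * r'.prod * c''.prod = r''.prod * c''.prod := by
          rw [hp, hcp, hv]; group
        exact mul_right_cancel this
      have := wlen_le (hr'.sublist hr'')
      rw [← e1] at this
      rw [List.length_cons] at hred
      omega
    subst hrr
    have e2 : (s :: r'').prod⁻¹ * w = c''.prod := by
      rw [List.prod_cons, mul_inv_rev, inv_eq_self_of_sq (h.sq s hs), mul_assoc, ← hp]
      group
    have h3 : wlen S ((s :: r'').prod⁻¹ * w) ≤ c''.length := by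
      rw [e2]; exact wlen_le (hc.sublist hc'')
    have h4 : wlen S w ≤ wlen S (s :: r'').prod + wlen S ((s :: r'').prod⁻¹ * w) := by
      have := wlen_mul_le h (s :: r'').prod ((s :: r'').prod⁻¹ * w)
      rwa [mul_inv_cancel_left] at this
    rw [List.length_cons] at hred ⊢
    omega

lemma wlen_inv_mul_of_fullLeft {w : W} (hw : FullLeft S w) (x : W) :
    wlen S (x⁻¹ * w) + wlen S x = wlen S w := by
  obtain ⟨r, hr, rfl, hlen⟩ := exists_red h x
  have := wlen_of_fullLeft h hw r hr hlen
  omega

lemma FullLeft.isLongest {w : W} (hw : FullLeft S w) : IsLongest S w := by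
  intro x
  have := wlen_inv_mul_of_fullLeft h hw x
  omega

lemma FullLeft.unique {w w' : W} (hw : FullLeft S w) (hw' : FullLeft S w') : w = w' := by
  have h1 := wlen_inv_mul_of_fullLeft h hw (w * w'⁻¹)
  have h2 := wlen_inv_mul_of_fullLeft h hw' (w' * w⁻¹)
  have e1 : (w * w'⁻¹)⁻¹ * w = w' := by group
  have e2 : (w' * w⁻¹)⁻¹ * w' = w := by group
  rw [e1] at h1
  rw [e2] at h2
  have h3 : wlen S (w * w'⁻¹) = 0 := by omega
  have := (wlen_eq_zero h).1 h3
  exact mul_inv_eq_one.1 this

lemma IsLongest.fullLeft {w : W} (hw : IsLongest S w) : FullLeft S w := by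
  intro s hs
  have h1 := hw (s * w)
  have h2 := wlen_S_mul_ne h hs w
  omega

lemma IsLongest.fullRight {w : W} (hw : IsLongest S w) : FullRight S w := by
  intro s hs
  have h1 := hw (w * s)
  have h2 := wlen_mul_S_lt_or h hs w
  omega

lemma FullRight.inv_fullLeft {w : W} (hw : FullRight S w) : FullLeft S w⁻¹ := by
  intro s hs
  rw [← wlen_mul_S h s hs, wlen_inv h]
  exact hw s hs

lemma IsLongest.unique {w w' : W} (hw : IsLongest S w) (hw' : IsLongest S w') : w = w' :=
  (hw.fullLeft h).unique h (hw'.fullLeft h)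

lemma IsLongest.inv {w : W} (hw : IsLongest S w) : IsLongest S w⁻¹ := by
  intro x
  rw [wlen_inv h]; exact hw x

lemma FullRight.isLongest {w : W} (hw : FullRight S w) : IsLongest S w := by
  have h1 := ((hw.inv_fullLeft h).isLongest h).inv h
  rwa [inv_inv] at h1

omit h in
lemma exists_isLongest [Finite W] (S : Set W) : ∃ w₀, IsLongest S w₀ :=
  Finite.exists_max (fun w => wlen S w)

end longest

end Cfsg.Agent.Lib.Helper5.CoxEx
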