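import Mathlib
import Cfsg.Agent.Lib.Helper5.CoxExB

/-!
# Groups generated by involutions with the exchange condition (part C)

The alternating sums over pairs of parabolic subgroups: only the longest element survives.
-/

set_option autoImplicit false

namespace Cfsg.Agent.Lib.Helper5.CoxEx

open Finset

variable {W : Type*} [Group W] {S : Set W}

section count

variable {ι : Type*} [Fintype ι] [DecidableEq ι] (σ : ι → W)

open Classical in
/-- the left ascents of `w` -/
noncomputable def lAsc (S : Set W) (w : W) : Finset ι :=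
  univ.filter fun i => wlen S w < wlen S (σ i * w)

open Classical in
/-- the right ascents of `w` -/
noncomputable def rAsc (S : Set W) (w : W) : Finset ι :=
  univ.filter fun i => wlen S w < wlen S (w * σ i)

lemma isRed_iff (J K : Finset ι) (w : W) :
    IsRed S (σ '' (J : Set ι)) (σ '' (K : Set ι)) w ↔ J ⊆ lAsc σ S w ∧ K ⊆ rAsc σ S w := by
  classical
  unfold IsRed lAsc rAsc
  constructor
  · rintro ⟨h1, h2⟩
    refine ⟨fun i hi => ?_, fun i hi => ?_⟩
    · rw [mem_filter]; exact ⟨mem_univ _, h1 _ ⟨i, hi, rfl⟩⟩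
    · rw [mem_filter]; exact ⟨mem_univ _, h2 _ ⟨i, hi, rfl⟩⟩
  · rintro ⟨h1, h2⟩
    refine ⟨?_, ?_⟩
    · rintro s ⟨i, hi, rfl⟩
      exact (mem_filter.1 (h1 hi)).2
    · rintro s ⟨i, hi, rfl⟩
      exact (mem_filter.1 (h2 hi)).2

variable {R : Type*} [CommRing R]

omit [Fintype ι] in
lemma sum_neg_one_pow_powerset (A : Finset ι) :
    ∑ K ∈ A.powerset, (-1 : R) ^ K.card = if A = ∅ then 1 else 0 := by
  have := congrArg (Int.cast (R := R)) (Finset.sum_powerset_neg_one_pow_card (x := A))
  push_cast at this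
  exact this

lemma sum_neg_one_pow_subsets (A : Finset ι) :
    ∑ K ∈ (univ : Finset ι).powerset, (if K ⊆ A then (-1 : R) ^ K.card else 0) =
      if A = ∅ then 1 else 0 := by
  rw [← sum_neg_one_pow_powerset (R := R) A, ← Finset.sum_filter]
  congr 1
  ext K
  simp only [mem_filter, mem_powerset, subset_univ, true_and]

variable (h : ExSys S) (hσ : ∀ i, σ i ∈ S) (hS : ∀ s ∈ S, ∃ i, σ i = s)
include h hσ hS

lemma lAsc_eq_empty_iff (w : W) : lAsc σ S w = ∅ ↔ IsLongest S w := by
  classical
  constructor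
  · intro he
    apply FullLeft.isLongest h
    intro s hs
    obtain ⟨i, rfl⟩ := hS s hs
    have hi : i ∉ lAsc σ S w := by rw [he]; exact notMem_empty i
    unfold lAsc at hi
    rw [mem_filter] at hi
    have := wlen_S_mul_ne h (hσ i) w
    have h2 : ¬ wlen S w < wlen S (σ i * w) := fun hlt => hi ⟨mem_univ _, hlt⟩
    omega
  · intro hw
    apply Finset.eq_empty_of_forall_notMem
    intro i hi
    unfold lAsc at hi
    rw [mem_filter] at hi
    have := hw.fullLeft h (σ i) (hσ i)
    omega

lemma rAsc_eq_empty_iff (w : W) : rAsc σ S w = ∅ ↔ IsLongest S w := by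
  classical
  constructor
  · intro he
    apply FullRight.isLongest h
    intro s hs
    obtain ⟨i, rfl⟩ := hS s hs
    have hi : i ∉ rAsc σ S w := by rw [he]; exact notMem_empty i
    unfold rAsc at hi
    rw [mem_filter] at hi
    have := wlen_mul_S_lt_or h (hσ i) w
    have h2 : ¬ wlen S w < wlen S (w * σ i) := fun hlt => hi ⟨mem_univ _, hlt⟩
    omega
  · intro hw
    apply Finset.eq_empty_of_forall_notMem
    intro i hi
    unfold rAsc at hi
    rw [mem_filter] at hi
    have := hw.fullRight h (σ i) (hσ i)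
    omega

variable [Fintype W]

open Classical in
/-- **Two-sided alternating sum**: only the longest element survives. -/
theorem sum_sum_isRed (f : W → R) {w₀ : W} (hw₀ : IsLongest S w₀) :
    ∑ J ∈ (univ : Finset ι).powerset, ∑ K ∈ (univ : Finset ι).powerset,
      ((-1 : R) ^ J.card * (-1 : R) ^ K.card) *
        ∑ w ∈ univ.filter (fun w => IsRed S (σ '' (J : Set ι)) (σ '' (K : Set ι)) w), f w = f w₀ := by
  have h1 : ∀ J K : Finset ι, ((-1 : R) ^ J.card * (-1 : R) ^ K.card) *
      ∑ w ∈ univ.filter (fun w => IsRed S (σ '' (J : Set ι)) (σ '' (K : Set ι)) w), f w =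
      ∑ w : W, ((if J ⊆ lAsc σ S w then (-1 : R) ^ J.card else 0) *
        (if K ⊆ rAsc σ S w then (-1 : R) ^ K.card else 0)) * f w := by
    intro J K
    rw [Finset.sum_filter, Finset.mul_sum]
    refine Finset.sum_congr rfl fun w _ => ?_
    rw [isRed_iff]
    by_cases hJ : J ⊆ lAsc σ S w
    · by_cases hK : K ⊆ rAsc σ S w
      · rw [if_pos ⟨hJ, hK⟩, if_pos hJ, if_pos hK]
      · rw [if_neg (fun hc => hK hc.2), if_neg hK]; simp
    · rw [if_neg (fun hc => hJ hc.1), if_neg hJ]; simp
  simp_rw [h1]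
  have h3 : ∀ J : Finset ι, ∑ K ∈ (univ : Finset ι).powerset, ∑ w : W,
      ((if J ⊆ lAsc σ S w then (-1 : R) ^ J.card else 0) *
        (if K ⊆ rAsc σ S w then (-1 : R) ^ K.card else 0)) * f w =
      ∑ w : W, ∑ K ∈ (univ : Finset ι).powerset,
      ((if J ⊆ lAsc σ S w then (-1 : R) ^ J.card else 0) *
        (if K ⊆ rAsc σ S w then (-1 : R) ^ K.card else 0)) * f w := fun J => Finset.sum_comm
  rw [Finset.sum_congr rfl (fun J _ => h3 J), Finset.sum_comm]
  have h2 : ∀ w : W, ∑ J ∈ (univ : Finset ι).powerset, ∑ K ∈ (univ : Finset ι).powerset,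
      ((if J ⊆ lAsc σ S w then (-1 : R) ^ J.card else 0) *
        (if K ⊆ rAsc σ S w then (-1 : R) ^ K.card else 0)) * f w =
      if IsLongest S w then f w else 0 := by
    intro w
    have h4 : ∀ J : Finset ι, ∑ K ∈ (univ : Finset ι).powerset,
        ((if J ⊆ lAsc σ S w then (-1 : R) ^ J.card else 0) *
          (if K ⊆ rAsc σ S w then (-1 : R) ^ K.card else 0)) * f w =
        (if J ⊆ lAsc σ S w then (-1 : R) ^ J.card else 0) *
          ((if rAsc σ S w = ∅ then 1 else 0) * f w) := by
      intro J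
      rw [← sum_neg_one_pow_subsets (R := R) (rAsc σ S w), Finset.sum_mul, Finset.mul_sum]
      refine Finset.sum_congr rfl fun K _ => ?_
      ring
    rw [Finset.sum_congr rfl (fun J _ => h4 J), ← Finset.sum_mul, sum_neg_one_pow_subsets]
    by_cases hw : IsLongest S w
    · rw [if_pos ((lAsc_eq_empty_iff σ h hσ hS w).2 hw),
        if_pos ((rAsc_eq_empty_iff σ h hσ hS w).2 hw), if_pos hw]; simp
    · rw [if_neg (fun hc => hw ((lAsc_eq_empty_iff σ h hσ hS w).1 hc)), if_neg hw]; simp
  rw [Finset.sum_congr rfl (fun w _ => h2 w)]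
  rw [Finset.sum_eq_single w₀]
  · rw [if_pos hw₀]
  · intro w _ hne
    rw [if_neg]
    intro hw
    exact hne (hw.unique h hw₀)
  · intro hcon
    exact absurd (mem_univ w₀) hcon

open Classical in
/-- **One-sided alternating sum** (right). -/
theorem sum_isRed_right (f : W → R) {w₀ : W} (hw₀ : IsLongest S w₀) :
    ∑ K ∈ (univ : Finset ι).powerset, (-1 : R) ^ K.card *
        ∑ w ∈ univ.filter (fun w => IsRed S ∅ (σ '' (K : Set ι)) w), f w = f w₀ := by
  have h1 : ∀ K : Finset ι, (-1 : R) ^ K.card *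
      ∑ w ∈ univ.filter (fun w => IsRed S ∅ (σ '' (K : Set ι)) w), f w =
      ∑ w : W, (if K ⊆ rAsc σ S w then (-1 : R) ^ K.card else 0) * f w := by
    intro K
    rw [Finset.sum_filter, Finset.mul_sum]
    refine Finset.sum_congr rfl fun w _ => ?_
    have : IsRed S ∅ (σ '' (K : Set ι)) w ↔ K ⊆ rAsc σ S w := by
      have := isRed_iff (S := S) σ ∅ K w
      simp only [coe_empty, Set.image_empty, empty_subset, true_and] at this
      exact this
    rw [this]
    by_cases hK : K ⊆ rAsc σ S w
    · rw [if_pos hK, if_pos hK]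
    · rw [if_neg hK, if_neg hK]; simp
  simp_rw [h1]
  rw [Finset.sum_comm]
  have h2 : ∀ w : W, ∑ K ∈ (univ : Finset ι).powerset,
      (if K ⊆ rAsc σ S w then (-1 : R) ^ K.card else 0) * f w =
      if IsLongest S w then f w else 0 := by
    intro w
    rw [← Finset.sum_mul, sum_neg_one_pow_subsets]
    by_cases hw : IsLongest S w
    · rw [if_pos ((rAsc_eq_empty_iff σ h hσ hS w).2 hw), if_pos hw]; simp
    · rw [if_neg (fun hc => hw ((rAsc_eq_empty_iff σ h hσ hS w).1 hc)), if_neg hw]; simp
  rw [Finset.sum_congr rfl (fun w _ => h2 w)]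
  rw [Finset.sum_eq_single w₀]
  · rw [if_pos hw₀]
  · intro w _ hne
    rw [if_neg]
    intro hw
    exact hne (hw.unique h hw₀)
  · intro hcon
    exact absurd (mem_univ w₀) hcon

end count

end Cfsg.Agent.Lib.Helper5.CoxEx
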