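import Mathlib
import Cfsg.Agent.Lib.Helper6.BNParabolic
import Cfsg.Agent.Lib.Helper5.CoxExC

/-!
# The Weyl group of a (B,N)-pair as an exchange system

`W = N / (B ∩ N)` with the images of the distinguished generators satisfies the exchange
condition (from helper6's BN-pair library), and its word length is helper6's `len`.
-/

set_option autoImplicit false

namespace Cfsg.Agent.Lib.Helper5.BNSt

open Cfsg Cfsg.Agent.Lib.Helper6 Cfsg.Agent.Lib.Helper5.CoxEx

variable {G : Type*} [Group G] (P : Cfsg.BNPair G)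

/-- `T = B ∩ N` as a subgroup of `N` -/
def TN : Subgroup ↥P.N := (P.B ⊓ P.N).subgroupOf P.N

instance TN_normal : (TN P).Normal := ⟨fun t ht n => by
  rw [TN, Subgroup.mem_subgroupOf] at ht ⊢
  have := conj_mem_T P n.2 ht
  simpa using this⟩

/-- the Weyl group `N / (B ∩ N)` -/
abbrev Weyl : Type _ := ↥P.N ⧸ TN P

/-- the class map -/
def cl : ↥P.N →* Weyl P := QuotientGroup.mk' (TN P)

lemma cl_eq_iff (a b : ↥P.N) : cl P a = cl P b ↔ Helper6.Rel P (a : G) (b : G) := by
  unfold cl Helper6.Rel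
  rw [QuotientGroup.mk'_apply, QuotientGroup.mk'_apply, QuotientGroup.eq, TN,
    Subgroup.mem_subgroupOf]
  constructor
  · intro h
    have := h.1
    simpa using this
  · intro h
    refine ⟨by simpa using h, ?_⟩
    exact (a⁻¹ * b).2

lemma cl_surjective : Function.Surjective (cl P) := QuotientGroup.mk'_surjective _

open Classical in
/-- the class of an element of `G` (the identity outside `N`) -/
noncomputable def clG (g : G) : Weyl P := if h : g ∈ P.N then cl P ⟨g, h⟩ else 1

lemma clG_of_mem {g : G} (h : g ∈ P.N) : clG P g = cl P ⟨g, h⟩ := dif_pos h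

lemma clG_mul {a b : G} (ha : a ∈ P.N) (hb : b ∈ P.N) : clG P (a * b) = clG P a * clG P b := by
  rw [clG_of_mem P ha, clG_of_mem P hb, clG_of_mem P (P.N.mul_mem ha hb), ← map_mul]
  rfl

lemma clG_one : clG P 1 = 1 := by
  rw [clG_of_mem P P.N.one_mem]
  exact map_one (cl P)

lemma clG_inv {a : G} (ha : a ∈ P.N) : clG P a⁻¹ = (clG P a)⁻¹ := by
  rw [clG_of_mem P ha, clG_of_mem P (P.N.inv_mem ha), ← map_inv]
  rfl

lemma clG_eq_iff {a b : G} (ha : a ∈ P.N) (hb : b ∈ P.N) : clG P a = clG P b ↔ Helper6.Rel P a b := by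
  rw [clG_of_mem P ha, clG_of_mem P hb, cl_eq_iff]

lemma clG_surjective (w : Weyl P) : ∃ n ∈ P.N, clG P n = w := by
  obtain ⟨n, rfl⟩ := cl_surjective P w
  exact ⟨n, n.2, clG_of_mem P n.2⟩

lemma clG_eq_one_iff {a : G} (ha : a ∈ P.N) : clG P a = 1 ↔ a ∈ P.B := by
  rw [← clG_one P, clG_eq_iff P ha P.N.one_mem]
  unfold Helper6.Rel
  rw [mul_one]
  exact ⟨fun h => by simpa using P.B.inv_mem h, fun h => P.B.inv_mem h⟩

lemma clG_prod {l : List G} (hl : ∀ x ∈ l, x ∈ P.N) : clG P l.prod = (l.map (clG P)).prod := by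
  induction l with
  | nil => simpa using clG_one P
  | cons a l ih =>
    have ha : a ∈ P.N := hl a (by simp)
    have hl' : ∀ x ∈ l, x ∈ P.N := fun x hx => hl x (by simp [hx])
    rw [List.prod_cons, List.map_cons, List.prod_cons, clG_mul P ha (P.N.list_prod_mem hl'), ih hl']

/-- the distinguished generators of the Weyl group -/
def SW : Set (Weyl P) := clG P '' P.S

lemma isW_map {K : Set G} {l : List G} (hl : IsWord K l) : IsW (clG P '' K) (l.map (clG P)) := by
  intro x hx
  rw [List.mem_map] at hx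
  obtain ⟨a, ha, rfl⟩ := hx
  exact ⟨a, hl a ha, rfl⟩

lemma exists_lift {K : Set G} : ∀ lW : List (Weyl P), IsW (clG P '' K) lW →
    ∃ l : List G, IsWord K l ∧ l.map (clG P) = lW := by
  intro lW
  induction lW with
  | nil => intro _; exact ⟨[], isWord_nil K, rfl⟩
  | cons a t ih =>
    intro h
    obtain ⟨s, hs, rfl⟩ := (isW_cons.1 h).1
    obtain ⟨l, hl, rfl⟩ := ih (isW_cons.1 h).2
    exact ⟨s :: l, isWord_cons.2 ⟨hs, hl⟩, rfl⟩

lemma clG_prod_word {l : List G} (hl : IsWord P.S l) : clG P l.prod = (l.map (clG P)).prod :=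
  clG_prod P fun x hx => P.subset (hl x hx)

/-- the word length of the Weyl group is helper6's `len` -/
lemma wlen_clG {n : G} (hn : n ∈ P.N) : wlen (SW P) (clG P n) = len P n := by
  apply le_antisymm
  · obtain ⟨l, hl, hlen⟩ := exists_rep_len P hn
    have h1 : (l.map (clG P)).prod = clG P n := by
      rw [← clG_prod_word P hl.1, clG_eq_iff P (prod_mem_N P hl.1) hn]
      exact hl.2
    have := wlen_le (S := SW P) (isW_map P hl.1)
    rw [h1, List.length_map] at this
    omega
  · have hne : {k | ∃ l : List (Weyl P), IsW (SW P) l ∧ l.prod = clG P n ∧ l.length = k}.Nonempty := by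
      obtain ⟨l, hl⟩ := exists_rep P hn
      refine ⟨_, l.map (clG P), isW_map P hl.1, ?_, rfl⟩
      rw [← clG_prod_word P hl.1, clG_eq_iff P (prod_mem_N P hl.1) hn]
      exact hl.2
    obtain ⟨lW, hlW, hp, hlen⟩ := Nat.sInf_mem hne
    obtain ⟨l, hl, rfl⟩ := exists_lift P lW hlW
    have hrep : Rep P l n := by
      refine ⟨hl, ?_⟩
      rw [← clG_eq_iff P (prod_mem_N P hl) hn, clG_prod_word P hl]
      exact hp
    have := len_le_of_rep P hrep
    rw [List.length_map] at hlen
    unfold wlen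
    omega

/-- **The Weyl group of a (B,N)-pair is an exchange system.** -/
theorem exSys : ExSys (SW P) where
  sq := by
    rintro _ ⟨s, hs, rfl⟩
    rw [← clG_mul P (P.subset hs) (P.subset hs), clG_eq_one_iff P (P.N.mul_mem (P.subset hs) (P.subset hs))]
    exact P.sq_mem s hs
  gen := by
    rw [eq_top_iff]
    intro w _
    obtain ⟨n, hn, rfl⟩ := clG_surjective P w
    obtain ⟨l, hl⟩ := exists_rep P hn
    have : clG P n = (l.map (clG P)).prod := by
      rw [← clG_prod_word P hl.1, clG_eq_iff P hn (prod_mem_N P hl.1)]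
      exact rel_symm P hl.2
    rw [this]
    exact (isW_map P hl.1).prod_mem
  exch := by
    rintro _ ⟨s, hs, rfl⟩ lW hlW hle
    obtain ⟨l, hl, rfl⟩ := exists_lift P lW hlW
    have hlN := prod_mem_N P hl
    have hsN := P.subset hs
    rw [← clG_prod_word P hl, ← clG_mul P hsN hlN, wlen_clG P (P.N.mul_mem hsN hlN),
      wlen_clG P hlN] at hle
    obtain ⟨l₁, s', l₂, rfl, hrel⟩ := exchange P hs hl hle
    have hl₁ : IsWord P.S l₁ := (isWord_append.1 hl).1
    have hs' : s' ∈ P.S := (isWord_cons.1 (isWord_append.1 hl).2).1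
    refine ⟨l₁.map (clG P), clG P s', l₂.map (clG P), by simp, ?_⟩
    rw [← clG_prod_word P hl₁, ← clG_mul P hsN (prod_mem_N P hl₁),
      ← clG_mul P (prod_mem_N P hl₁) (P.subset hs'),
      clG_eq_iff P (P.N.mul_mem hsN (prod_mem_N P hl₁)) (P.N.mul_mem (prod_mem_N P hl₁) (P.subset hs'))]
    exact hrel

end Cfsg.Agent.Lib.Helper5.BNSt
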