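import Mathlib
import Cfsg.Agent.Lib.Helper5.BNWeyl
import Cfsg.Agent.Lib.Helper5.GLUOrbit

/-!
# Double cosets of parabolic subgroups in a (B,N)-pair

`P_J \ G / P_K` corresponds to `W_J \ W / W_K`, hence to the `(J,K)`-reduced elements of `W`.
-/

set_option autoImplicit false

namespace Cfsg.Agent.Lib.Helper5.BNSt

open Cfsg Cfsg.Agent.Lib.Helper6 Cfsg.Agent.Lib.Helper5.CoxEx MulAction

variable {G : Type*} [Group G] (P : Cfsg.BNPair G)

lemma image_subset_SW {J : Set G} (hJ : J ⊆ P.S) : clG P '' J ⊆ SW P :=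
  Set.image_mono hJ

/-- the parabolic subgroup of the Weyl group is the image of `⟨J⟩` -/
lemma mem_closure_image {J : Set G} (hJ : J ⊆ P.S) (w : Weyl P) :
    w ∈ Subgroup.closure (clG P '' J) ↔ ∃ x ∈ Subgroup.closure J, clG P x = w := by
  constructor
  · intro hw
    obtain ⟨lW, hlW, rfl⟩ := (mem_closure_iff_word
      (fun s hs => (exSys P).sq s (image_subset_SW P hJ hs)) w).1 hw
    obtain ⟨l, hl, rfl⟩ := exists_lift P lW hlW
    refine ⟨l.prod, prod_mem_closure hl, ?_⟩
    exact clG_prod_word P (isWord_mono hJ hl)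
  · rintro ⟨x, hx, rfl⟩
    have hN : Subgroup.closure J ≤ P.N := closure_le_N P hJ
    induction hx using Subgroup.closure_induction with
    | mem x hx => exact Subgroup.subset_closure ⟨x, hx, rfl⟩
    | one => rw [clG_one]; exact Subgroup.one_mem _
    | mul x y hx hy ihx ihy =>
      rw [clG_mul P (hN hx) (hN hy)]
      exact Subgroup.mul_mem _ ihx ihy
    | inv x hx ihx =>
      rw [clG_inv P (hN hx)]
      exact Subgroup.inv_mem _ ihx

/-- the union of the double cosets `B m B` over the `m` whose class lies in `W_J [n] W_K` -/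
def DCSet (J K : Set G) (n : G) : Set G :=
  {g | ∃ m ∈ P.N, dcRel (clG P '' J) (clG P '' K) (clG P n) (clG P m) ∧ InDC P m g}

lemma DCSet_mul_left {J K : Set G} (hJ : J ⊆ P.S) {n p g : G}
    (hp : p ∈ P.parabolic J) (hg : g ∈ DCSet P J K n) : p * g ∈ DCSet P J K n := by
  let Y : Subgroup G :=
    { carrier := {p | ∀ g ∈ DCSet P J K n, p * g ∈ DCSet P J K n ∧ p⁻¹ * g ∈ DCSet P J K n}
      one_mem' := by
        intro g hg
        simpa using hg
      mul_mem' := by
        intro a b ha hb g hg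
        constructor
        · have := (ha _ (hb g hg).1).1
          rwa [← mul_assoc] at this
        · have := (hb _ (ha g hg).2).2
          rwa [← mul_assoc, ← mul_inv_rev] at this
      inv_mem' := by
        intro a ha g hg
        refine ⟨(ha g hg).2, ?_⟩
        rw [inv_inv]
        exact (ha g hg).1 }
  have hle : P.parabolic J ≤ Y := by
    refine sup_le ?_ ?_
    · intro b hb g hg
      obtain ⟨m, hm, hdc, hmg⟩ := hg
      exact ⟨⟨m, hm, hdc, inDC_mul_left P hb hmg⟩, ⟨m, hm, hdc, inDC_mul_left P (P.B.inv_mem hb) hmg⟩⟩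
    · rw [Subgroup.closure_le]
      intro s hs
      have key : ∀ g ∈ DCSet P J K n, s * g ∈ DCSet P J K n := by
        intro g hg
        obtain ⟨m, hm, hdc, hmg⟩ := hg
        rcases dc_mul_left P (hJ hs) hm (inDC_self P s) hmg with k | k
        · refine ⟨s * m, P.N.mul_mem (P.subset (hJ hs)) hm, ?_, k⟩
          rw [clG_mul P (P.subset (hJ hs)) hm]
          obtain ⟨a, ha, b, hb, e⟩ := hdc
          refine ⟨clG P s * a, Subgroup.mul_mem _ (Subgroup.subset_closure ⟨s, hs, rfl⟩) ha, b, hb, ?_⟩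
          rw [e]; group
        · exact ⟨m, hm, hdc, k⟩
      intro g hg
      refine ⟨key g hg, ?_⟩
      obtain ⟨t, ht, e⟩ := S_inv_eq P (hJ hs)
      rw [e, mul_assoc]
      apply key
      obtain ⟨m, hm, hdc, hmg⟩ := hg
      exact ⟨m, hm, hdc, inDC_mul_left P ht.1 hmg⟩
  exact (hle hp g hg).1

lemma DCSet_mul_right {J K : Set G} (hK : K ⊆ P.S) {n q g : G}
    (hq : q ∈ P.parabolic K) (hg : g ∈ DCSet P J K n) : g * q ∈ DCSet P J K n := by
  let Y : Subgroup G :=
    { carrier := {q | ∀ g ∈ DCSet P J K n, g * q ∈ DCSet P J K n ∧ g * q⁻¹ ∈ DCSet P J K n}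
      one_mem' := by
        intro g hg
        simpa using hg
      mul_mem' := by
        intro a b ha hb g hg
        constructor
        · have := (hb _ (ha g hg).1).1
          rwa [mul_assoc] at this
        · have := (ha _ (hb g hg).2).2
          rwa [mul_assoc, ← mul_inv_rev] at this
      inv_mem' := by
        intro a ha g hg
        refine ⟨(ha g hg).2, ?_⟩
        rw [inv_inv]
        exact (ha g hg).1 }
  have hle : P.parabolic K ≤ Y := by
    refine sup_le ?_ ?_
    · intro b hb g hg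
      obtain ⟨m, hm, hdc, hmg⟩ := hg
      exact ⟨⟨m, hm, hdc, inDC_mul_right P hb hmg⟩, ⟨m, hm, hdc, inDC_mul_right P (P.B.inv_mem hb) hmg⟩⟩
    · rw [Subgroup.closure_le]
      intro s hs
      have key : ∀ g ∈ DCSet P J K n, g * s ∈ DCSet P J K n := by
        intro g hg
        obtain ⟨m, hm, hdc, hmg⟩ := hg
        rcases dc_mul_right P (hK hs) hm (inDC_self P s) hmg with k | k
        · refine ⟨m * s, P.N.mul_mem hm (P.subset (hK hs)), ?_, k⟩
          rw [clG_mul P hm (P.subset (hK hs))]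
          obtain ⟨a, ha, b, hb, e⟩ := hdc
          refine ⟨a, ha, b * clG P s, Subgroup.mul_mem _ hb (Subgroup.subset_closure ⟨s, hs, rfl⟩), ?_⟩
          rw [e]; group
        · exact ⟨m, hm, hdc, k⟩
      intro g hg
      refine ⟨key g hg, ?_⟩
      obtain ⟨t, ht, e⟩ := S_inv_eq P (hK hs)
      rw [e, ← mul_assoc]
      obtain ⟨m, hm, hdc, hmg⟩ := key g hg
      exact ⟨m, hm, hdc, inDC_mul_right P ht.1 hmg⟩
  exact (hle hq g hg).1

/-- elements in the same `(P_J, P_K)` double coset have Bruhat classes in the same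
`(W_J, W_K)` double coset -/
lemma dcRel_of_eq {J K : Set G} (hJ : J ⊆ P.S) (hK : K ⊆ P.S) {n n' p q g g' : G}
    (hn : n ∈ P.N) (hn' : n' ∈ P.N) (hp : p ∈ P.parabolic J) (hq : q ∈ P.parabolic K)
    (hg : InDC P n g) (hg' : InDC P n' g') (e : g' = p * g * q) :
    dcRel (clG P '' J) (clG P '' K) (clG P n) (clG P n') := by
  have h0 : g ∈ DCSet P J K n := ⟨n, hn, dcRel_refl _ _ _, hg⟩
  have h1 : g' ∈ DCSet P J K n := by
    rw [e]
    exact DCSet_mul_right P hK hq (DCSet_mul_left P hJ hp h0)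
  obtain ⟨m, hm, hdc, hmg⟩ := h1
  have hrel : Helper6.Rel P m n' :=
    bruhat_unique P hm hn' (inDC_trans P hmg (inDC_symm P hg'))
  rw [← (clG_eq_iff P hm hn').2 hrel]
  exact hdc

/-- converse -/
lemma exists_eq_of_dcRel {J K : Set G} (hJ : J ⊆ P.S) (hK : K ⊆ P.S) {n n' g g' : G}
    (hn : n ∈ P.N) (hn' : n' ∈ P.N) (hg : InDC P n g) (hg' : InDC P n' g')
    (h : dcRel (clG P '' J) (clG P '' K) (clG P n) (clG P n')) :
    ∃ p ∈ P.parabolic J, ∃ q ∈ P.parabolic K, g' = p * g * q := by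
  obtain ⟨a, ha, b, hb, e⟩ := h
  obtain ⟨x, hx, rfl⟩ := (mem_closure_image P hJ a).1 ha
  obtain ⟨y, hy, rfl⟩ := (mem_closure_image P hK b).1 hb
  have hxN : x ∈ P.N := closure_le_N P hJ hx
  have hyN : y ∈ P.N := closure_le_N P hK hy
  rw [← clG_mul P hxN hn, ← clG_mul P (P.N.mul_mem hxN hn) hyN,
    clG_eq_iff P hn' (P.N.mul_mem (P.N.mul_mem hxN hn) hyN)] at e
  have ht : (x * n * y)⁻¹ * n' ∈ P.B := rel_symm P e
  obtain ⟨b₁, hb₁, b₂, hb₂, rfl⟩ := hg
  obtain ⟨b₃, hb₃, b₄, hb₄, rfl⟩ := hg'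
  refine ⟨b₃ * x * b₁⁻¹, ?_, b₂⁻¹ * y * ((x * n * y)⁻¹ * n') * b₄, ?_, ?_⟩
  · exact Subgroup.mul_mem _ (Subgroup.mul_mem _ (B_le_parabolic P J hb₃)
      (closure_le_parabolic P J hx)) (B_le_parabolic P J (P.B.inv_mem hb₁))
  · exact Subgroup.mul_mem _ (Subgroup.mul_mem _ (Subgroup.mul_mem _
      (B_le_parabolic P K (P.B.inv_mem hb₂)) (closure_le_parabolic P K hy))
      (B_le_parabolic P K ht)) (B_le_parabolic P K hb₄)
  · group

section invariant

variable {J K : Set G} (hJ : J ⊆ P.S) (hK : K ⊆ P.S)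

/-- a Bruhat representative -/
noncomputable def nOf (g : G) : G := Classical.choose (bruhat_exists P g)

lemma nOf_mem (g : G) : nOf P g ∈ P.N := (Classical.choose_spec (bruhat_exists P g)).1

lemma nOf_inDC (g : G) : InDC P (nOf P g) g := (Classical.choose_spec (bruhat_exists P g)).2

lemma clG_nOf {n : G} (hn : n ∈ P.N) : clG P (nOf P n) = clG P n :=
  (clG_eq_iff P (nOf_mem P n) hn).2 (bruhat_unique P (nOf_mem P n) hn (nOf_inDC P n))

include hJ hK in
/-- the `(J,K)`-reduced element attached to `g` -/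
noncomputable def redOf (g : G) : {w : Weyl P // IsRed (SW P) (clG P '' J) (clG P '' K) w} :=
  ⟨Classical.choose (exists_isRed (exSys P) (image_subset_SW P hJ) (image_subset_SW P hK)
      (clG P (nOf P g))),
    (Classical.choose_spec (exists_isRed (exSys P) (image_subset_SW P hJ) (image_subset_SW P hK)
      (clG P (nOf P g)))).2⟩

lemma redOf_dcRel (g : G) :
    dcRel (clG P '' J) (clG P '' K) (clG P (nOf P g)) (redOf P hJ hK g).1 :=
  (Classical.choose_spec (exists_isRed (exSys P) (image_subset_SW P hJ) (image_subset_SW P hK)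
      (clG P (nOf P g)))).1

lemma redOf_eq_iff (g g' : G) : redOf P hJ hK g = redOf P hJ hK g' ↔
    dcRel (clG P '' J) (clG P '' K) (clG P (nOf P g)) (clG P (nOf P g')) := by
  constructor
  · intro e
    have h1 := redOf_dcRel P hJ hK g
    have h2 := redOf_dcRel P hJ hK g'
    rw [e] at h1
    exact dcRel_trans h1 (dcRel_symm h2)
  · intro hdc
    apply Subtype.ext
    apply isRed_unique (exSys P) (image_subset_SW P hJ) (image_subset_SW P hK)
      (redOf P hJ hK g).2 (redOf P hJ hK g').2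
    exact dcRel_trans (dcRel_symm (redOf_dcRel P hJ hK g))
      (dcRel_trans hdc (redOf_dcRel P hJ hK g'))

include hJ hK in
/-- **The orbits of `G` on `G/P_J × G/P_K` correspond to the `(J,K)`-reduced elements of `W`.** -/
theorem card_orbits_parabolic_BN :
    Nat.card (orbitRel.Quotient G ((G ⧸ P.parabolic J) × (G ⧸ P.parabolic K))) =
      Nat.card {w : Weyl P // IsRed (SW P) (clG P '' J) (clG P '' K) w} := by
  apply Cfsg.Agent.Lib.Helper5.GLU.card_orbits_prod_quotient (P.parabolic J) (P.parabolic K)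
    (redOf P hJ hK)
  · intro p hp q hq g
    rw [redOf_eq_iff]
    exact dcRel_symm (dcRel_of_eq P hJ hK (nOf_mem P g) (nOf_mem P _) hp hq (nOf_inDC P g)
      (nOf_inDC P _) rfl)
  · intro g g' e
    rw [redOf_eq_iff] at e
    exact exists_eq_of_dcRel P hJ hK (nOf_mem P g) (nOf_mem P g') (nOf_inDC P g) (nOf_inDC P g') e
  · rintro ⟨w, hw⟩
    obtain ⟨n, hn, rfl⟩ := clG_surjective P w
    refine ⟨n, ?_⟩
    apply Subtype.ext
    apply isRed_unique (exSys P) (image_subset_SW P hJ) (image_subset_SW P hK)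
      (redOf P hJ hK n).2 hw
    have := redOf_dcRel P hJ hK n
    rw [clG_nOf P hn] at this
    exact dcRel_symm this

end invariant

end Cfsg.Agent.Lib.Helper5.BNSt
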