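import Mathlib
import Cfsg.Agent.Lib.Helper5.BNDouble
import Cfsg.Agent.Lib.Helper5.GLUGamma

/-!
# The Steinberg character of a finite group with a (B,N)-pair is irreducible

`St = ∑_J (-1)^|J| 1_{P_J}^G` has norm one (Solomon-type alternating sum over the Weyl group)
and contains the permutation character `1_B^G` positively, hence is an irreducible character.
-/

set_option autoImplicit false

namespace Cfsg.Agent.Lib.Helper5.BNSt

open Finset Cfsg Cfsg.Agent.Lib.Helper6 Cfsg.Agent.Lib.Helper5.CoxEx Cfsg.Agent.Lib.Helper78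
  Cfsg.Agent.Lib.Helper5.GLU
open scoped ComplexConjugate

universe u

section general

variable {G : Type u} [Group G] [Fintype G]

/-- A class function with integer multiplicities and norm one which has positive inner product
with some character is an irreducible character. -/
theorem isIrrCharacter_of_int_coeff_of_pos {ψ : G → ℂ} (hcf : IsClassFunction G ψ)
    (hint : ∀ χ : IrrCharacter G, ∃ n : ℤ, classInner ψ (χ : G → ℂ) = n)
    (hnorm : classInner ψ ψ = 1) {π : G → ℂ} (hπ : IsCharacter G π)
    (hpos : 0 < (classInner π ψ).re) : IsIrrCharacter G ψ := by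
  classical
  choose m hm using hint
  have hP := classInner_eq_sum_mul_conj ψ hcf
  rw [hnorm] at hP
  simp only [hm, map_intCast] at hP
  have hN : ∑ χ : IrrCharacter G, m χ * m χ = 1 := by
    have : ((∑ χ : IrrCharacter G, m χ * m χ : ℤ) : ℂ) = 1 := by
      push_cast; exact hP.symm
    exact_mod_cast this
  have hex : ∃ χ, m χ ≠ 0 := by
    by_contra hall
    simp only [not_exists, not_not] at hall
    simp [hall] at hN
  obtain ⟨χ₀, hχ₀⟩ := hex
  have hle : ∀ χ, m χ * m χ ≤ 1 := by
    intro χ
    rw [← hN]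
    exact Finset.single_le_sum (f := fun χ => m χ * m χ) (fun _ _ => mul_self_nonneg _)
      (Finset.mem_univ χ)
  have hrest : ∀ χ, χ ≠ χ₀ → m χ = 0 := by
    intro χ hne
    by_contra hpos'
    have h2 : m χ₀ * m χ₀ + m χ * m χ ≤ ∑ φ : IrrCharacter G, m φ * m φ := by
      have := Finset.add_le_sum (f := fun φ => m φ * m φ) (s := Finset.univ)
        (fun _ _ => mul_self_nonneg _) (Finset.mem_univ χ₀) (Finset.mem_univ χ) hne.symm
      simpa using this
    rw [hN] at h2
    have h3 : 0 < m χ * m χ := mul_self_pos.mpr hpos'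
    have h4 : 0 < m χ₀ * m χ₀ := mul_self_pos.mpr hχ₀
    omega
  have hψ : ψ = (m χ₀ : ℂ) • (χ₀ : G → ℂ) := by
    conv_lhs => rw [classFunction_eq_sum_irr hcf]
    rw [Finset.sum_eq_single χ₀]
    · rw [hm]
    · intro χ _ hne
      rw [hm, hrest χ hne]; simp
    · intro h; exact absurd (Finset.mem_univ χ₀) h
  have hm₀ : m χ₀ = 1 ∨ m χ₀ = -1 := by
    have h1 := hle χ₀
    have h2 : 0 < m χ₀ * m χ₀ := mul_self_pos.mpr hχ₀
    have h3 : m χ₀ * m χ₀ = 1 := by omega
    rcases mul_self_eq_one_iff.mp h3 with h | h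
    · exact Or.inl h
    · exact Or.inr h
  rcases hm₀ with h | h
  · rw [hψ, h]
    simpa using χ₀.2
  · exfalso
    obtain ⟨k, hk⟩ := IsCharacter.exists_nat_classInner hπ χ₀
    rw [hψ, h, classInner_smul_right, hk] at hpos
    simp at hpos
    have : (0 : ℝ) ≤ (k : ℝ) := Nat.cast_nonneg k
    linarith

end general

section steinberg

variable {G : Type u} [Group G] (P : Cfsg.BNPair G)
variable {ι : Type*} [Fintype ι] [DecidableEq ι] (σ : ι → G)

/-- the alternating sum of the permutation characters on the standard parabolic subgroups -/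
noncomputable def stChar : G → ℂ := fun g =>
  ∑ J ∈ (univ : Finset ι).powerset,
    (-1 : ℂ) ^ J.card * fixedPointCharacter (P.parabolic (σ '' (J : Set ι))) g

lemma stChar_eq : stChar P σ = ∑ J ∈ (univ : Finset ι).powerset,
    ((-1 : ℂ) ^ J.card) • fixedPointCharacter (P.parabolic (σ '' (J : Set ι))) := by
  funext g
  unfold stChar
  rw [Finset.sum_apply]
  rfl

lemma image_image_clG (J : Finset ι) :
    clG P '' (σ '' (J : Set ι)) = (fun i => clG P (σ i)) '' (J : Set ι) := by
  rw [Set.image_image]

variable (hσ : ∀ i, σ i ∈ P.S) (hS : ∀ s ∈ P.S, ∃ i, σ i = s)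

include hσ in
lemma image_subset_S (J : Finset ι) : σ '' (J : Set ι) ⊆ P.S := by
  rintro _ ⟨i, _, rfl⟩
  exact hσ i

open Classical in
lemma card_isRed_eq {W : Type*} [Group W] [Fintype W] (S A B : Set W) :
    (Nat.card {w : W // IsRed S A B w} : ℂ) =
      ∑ w ∈ univ.filter (fun w => IsRed S A B w), (1 : ℂ) := by
  rw [Nat.card_eq_fintype_card, Fintype.card_subtype]
  simp

variable [Fintype G]

include hσ hS in
/-- **The Steinberg character of a finite group with a (B,N)-pair is irreducible.** -/
theorem isIrrCharacter_stChar : IsIrrCharacter G (stChar P σ) := by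
  classical
  have : Fintype (Weyl P) := Fintype.ofFinite _
  have hsys := exSys P
  obtain ⟨w₀, hw₀⟩ := exists_isLongest (SW P)
  have hσW : ∀ i, (fun i => clG P (σ i)) i ∈ SW P := fun i => ⟨σ i, hσ i, rfl⟩
  have hSW : ∀ s ∈ SW P, ∃ i, (fun i => clG P (σ i)) i = s := by
    rintro _ ⟨s, hs, rfl⟩
    obtain ⟨i, rfl⟩ := hS s hs
    exact ⟨i, rfl⟩
  have hinner : ∀ J K : Finset ι,
      classInner (fixedPointCharacter (P.parabolic (σ '' (J : Set ι))))
        (fixedPointCharacter (P.parabolic (σ '' (K : Set ι)))) =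
      ∑ w ∈ univ.filter (fun w => IsRed (SW P) ((fun i => clG P (σ i)) '' (J : Set ι))
        ((fun i => clG P (σ i)) '' (K : Set ι)) w), (1 : ℂ) := by
    intro J K
    rw [classInner_fpc, card_orbits_parabolic_BN P (image_subset_S P σ hσ J)
      (image_subset_S P σ hσ K), image_image_clG, image_image_clG, card_isRed_eq]
  apply isIrrCharacter_of_int_coeff_of_pos (π := fixedPointCharacter (P.parabolic (σ '' ((∅ : Finset ι) : Set ι))))
  · rw [stChar_eq]
    apply isClassFunction_sum
    intro J _
    exact isClassFunction_smul _ (IsCharacter.isClassFunction (fpc_isCharacter _))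
  · intro χ
    rw [stChar_eq, classInner_sum_left]
    have : ∀ J : Finset ι, ∃ m : ℕ, classInner (fixedPointCharacter
        (P.parabolic (σ '' (J : Set ι)))) (χ : G → ℂ) = m :=
      fun J => IsCharacter.exists_nat_classInner (fpc_isCharacter _) χ
    choose m hm using this
    refine ⟨∑ J ∈ (univ : Finset ι).powerset, (-1 : ℤ) ^ J.card * (m J : ℤ), ?_⟩
    push_cast
    refine Finset.sum_congr rfl fun J _ => ?_
    rw [classInner_smul_left, hm]
  · rw [stChar_eq, classInner_sum_left]
    have h1 : ∀ J : Finset ι, classInner (((-1 : ℂ) ^ J.card) • fixedPointCharacter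
        (P.parabolic (σ '' (J : Set ι))))
        (∑ K ∈ (univ : Finset ι).powerset, ((-1 : ℂ) ^ K.card) • fixedPointCharacter
        (P.parabolic (σ '' (K : Set ι)))) =
        ∑ K ∈ (univ : Finset ι).powerset, ((-1 : ℂ) ^ J.card * (-1 : ℂ) ^ K.card) *
          ∑ w ∈ univ.filter (fun w => IsRed (SW P) ((fun i => clG P (σ i)) '' (J : Set ι))
            ((fun i => clG P (σ i)) '' (K : Set ι)) w), (1 : ℂ) := by
      intro J
      rw [classInner_sum_right']
      refine Finset.sum_congr rfl fun K _ => ?_
      rw [classInner_smul_left, classInner_smul_right, hinner]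
      simp only [map_pow, map_neg, map_one]
      ring
    rw [Finset.sum_congr rfl (fun J _ => h1 J)]
    exact sum_sum_isRed (fun i => clG P (σ i)) hsys hσW hSW (fun _ => (1 : ℂ)) hw₀
  · exact fpc_isCharacter _
  · rw [stChar_eq, classInner_sum_right']
    have h1 : ∀ K : Finset ι, classInner
        (fixedPointCharacter (P.parabolic (σ '' ((∅ : Finset ι) : Set ι))))
        (((-1 : ℂ) ^ K.card) • fixedPointCharacter (P.parabolic (σ '' (K : Set ι)))) =
        (-1 : ℂ) ^ K.card *
          ∑ w ∈ univ.filter (fun w => IsRed (SW P) ∅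
            ((fun i => clG P (σ i)) '' (K : Set ι)) w), (1 : ℂ) := by
      intro K
      rw [classInner_smul_right, hinner]
      simp only [map_pow, map_neg, map_one, coe_empty, Set.image_empty]
    rw [Finset.sum_congr rfl (fun K _ => h1 K),
      sum_isRed_right (fun i => clG P (σ i)) hsys hσW hSW (fun _ => (1 : ℂ)) hw₀]
    simp

end steinberg

end Cfsg.Agent.Lib.Helper5.BNSt
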