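/-
Helper5: toolkit for non-degenerate subspaces of a quadratic space over a finite field of odd
characteristic (abstract `QuadData` setting of Helper94): non-singular vectors, universality in
rank at least two, isotropy in rank at least three, hyperbolic partners, vectors with prescribed
norm and product.
-/
import Mathlib
import Cfsg.Agent.Lib.Helper94.OmegaDecomp2

set_option autoImplicit false
set_option linter.unusedSimpArgs false
set_option linter.unusedSectionVars false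
set_option linter.unusedVariables false

namespace Cfsg.Agent.Lib.Helper5.ODec

open LinearMap (BilinForm)
open Module
open Cfsg.Agent.Lib.Helper94

variable {K V : Type*} [Field K] [AddCommGroup V] [Module K V]
variable {B : BilinForm K V} {Q : V → K}

/-- non-degeneracy of the restriction of `B` to the subspace `P` -/
def NdOn (B : BilinForm K V) (P : Submodule K V) : Prop :=
  ∀ p ∈ P, (∀ p' ∈ P, B p p' = 0) → p = 0

/-- the part of `P` orthogonal to `z` -/
def perpIn (B : BilinForm K V) (P : Submodule K V) (z : V) : Submodule K V :=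
  P ⊓ LinearMap.ker (B.flip z)

lemma mem_perpIn {P : Submodule K V} {z x : V} : x ∈ perpIn B P z ↔ x ∈ P ∧ B x z = 0 := by
  unfold perpIn
  rw [Submodule.mem_inf, LinearMap.mem_ker]
  rfl

lemma perpIn_le (P : Submodule K V) (z : V) : perpIn B P z ≤ P := inf_le_left

/-- a non-degenerate non-zero subspace contains a non-singular vector -/
lemma exists_ns_in (hQ : QuadData B Q) {P : Submodule K V} (hP : NdOn B P)
    (hne : ∃ x ∈ P, x ≠ 0) : ∃ w ∈ P, Q w ≠ 0 := by
  by_contra hcon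
  push Not at hcon
  obtain ⟨x, hx, hx0⟩ := hne
  apply hx0
  apply hP x hx
  intro p' hp'
  have h1 := hQ.polar x p'
  rw [hcon _ (P.add_mem hx hp'), hcon x hx, hcon p' hp'] at h1
  linear_combination -h1

/-- the orthogonal complement of a non-singular vector inside a non-degenerate subspace is
non-degenerate -/
lemma ndOn_perpIn (hQ : QuadData B Q) (h2 : (2 : K) ≠ 0) {P : Submodule K V} (hP : NdOn B P)
    {z : V} (hz : z ∈ P) (hQz : Q z ≠ 0) : NdOn B (perpIn B P z) := by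
  intro p hp h
  obtain ⟨hpP, hpz⟩ := mem_perpIn.1 hp
  apply hP p hpP
  intro p' hp'
  have h1 : p' - (B p' z / (2 * Q z)) • z ∈ perpIn B P z := by
    rw [mem_perpIn]
    refine ⟨P.sub_mem hp' (P.smul_mem _ hz), ?_⟩
    rw [map_sub, LinearMap.sub_apply, map_smul, LinearMap.smul_apply, hQ.self, smul_eq_mul]
    field_simp
    ring
  have h3 := h _ h1
  rw [map_sub, map_smul, smul_eq_mul, hpz, mul_zero, sub_zero] at h3
  exact h3

/-- cutting with the kernel of a functional lowers the rank by at most one -/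
lemma finrank_le_inf_ker_add_one [FiniteDimensional K V] (P : Submodule K V) (φ : V →ₗ[K] K) :
    finrank K P ≤ finrank K (P ⊓ LinearMap.ker φ : Submodule K V) + 1 := by
  have h1 := Submodule.finrank_sup_add_finrank_inf_eq P (LinearMap.ker φ)
  have h2 := LinearMap.finrank_range_add_finrank_ker φ
  have h3 : finrank K (LinearMap.range φ) ≤ 1 := by
    have := Submodule.finrank_le (LinearMap.range φ)
    rwa [Module.finrank_self] at this
  have h4 := Submodule.finrank_le (P ⊔ LinearMap.ker φ)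
  omega

lemma finrank_le_perpIn_add_one [FiniteDimensional K V] (P : Submodule K V) (z : V) :
    finrank K P ≤ finrank K (perpIn B P z) + 1 :=
  finrank_le_inf_ker_add_one P (B.flip z)

lemma exists_ne_zero_of_finrank_pos [FiniteDimensional K V] {P : Submodule K V}
    (h : 0 < finrank K P) :
    ∃ x ∈ P, x ≠ 0 := by
  obtain ⟨x, hx⟩ := Module.finrank_pos_iff_exists_ne_zero.1 h
  exact ⟨x, x.2, fun h0 => hx (Subtype.ext h0)⟩

/-- **Universality**: a non-degenerate subspace of rank at least two represents every scalar. -/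
lemma exists_norm_in2 [Finite K] [FiniteDimensional K V] (hQ : QuadData B Q) (h2 : (2 : K) ≠ 0)
    {P : Submodule K V} (hP : NdOn B P) (hdim : 2 ≤ finrank K P) (γ : K) :
    ∃ e ∈ P, Q e = γ := by
  obtain ⟨w₁, hw₁, hQ₁⟩ := exists_ns_in hQ hP (exists_ne_zero_of_finrank_pos (by omega))
  have hP₁ := ndOn_perpIn hQ h2 hP hw₁ hQ₁
  have hd₁ := finrank_le_perpIn_add_one (B := B) P w₁
  obtain ⟨w₂, hw₂, hQ₂⟩ := exists_ns_in hQ hP₁ (exists_ne_zero_of_finrank_pos (by omega))
  obtain ⟨hw₂P, hw₂w₁⟩ := mem_perpIn.1 hw₂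
  obtain ⟨x, y, hxy⟩ := QuadData.exists_quadratic_sum h2 hQ₁ hQ₂ 0 0 γ
  refine ⟨x • w₁ + y • w₂, P.add_mem (P.smul_mem _ hw₁) (P.smul_mem _ hw₂P), ?_⟩
  rw [hQ.polar, hQ.smul, hQ.smul]
  simp only [map_smul, LinearMap.smul_apply, smul_eq_mul]
  rw [hQ.symm w₁ w₂, hw₂w₁]
  linear_combination hxy

/-- a non-zero vector of prescribed non-zero norm -/
lemma exists_norm_ne_zero_in2 [Finite K] [FiniteDimensional K V] (hQ : QuadData B Q)
    (h2 : (2 : K) ≠ 0) {P : Submodule K V} (hP : NdOn B P) (hdim : 2 ≤ finrank K P) {γ : K}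
    (hγ : γ ≠ 0) : ∃ e ∈ P, e ≠ 0 ∧ Q e = γ := by
  obtain ⟨e, he, hQe⟩ := exists_norm_in2 hQ h2 hP hdim γ
  refine ⟨e, he, ?_, hQe⟩
  rintro rfl
  rw [hQ.zero] at hQe
  exact hγ hQe.symm

/-- **Isotropy**: a non-degenerate subspace of rank at least three contains a non-zero singular
vector. -/
lemma exists_singular_in3 [Finite K] [FiniteDimensional K V] (hQ : QuadData B Q)
    (h2 : (2 : K) ≠ 0) {P : Submodule K V} (hP : NdOn B P) (hdim : 3 ≤ finrank K P) :
    ∃ e ∈ P, e ≠ 0 ∧ Q e = 0 := by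
  obtain ⟨w₁, hw₁, hQ₁⟩ := exists_ns_in hQ hP (exists_ne_zero_of_finrank_pos (by omega))
  have hP₁ := ndOn_perpIn hQ h2 hP hw₁ hQ₁
  have hd₁ := finrank_le_perpIn_add_one (B := B) P w₁
  obtain ⟨e₁, he₁, hQe₁⟩ := exists_norm_in2 hQ h2 hP₁ (by omega) (-Q w₁)
  obtain ⟨he₁P, he₁w₁⟩ := mem_perpIn.1 he₁
  refine ⟨w₁ + e₁, P.add_mem hw₁ he₁P, ?_, ?_⟩
  · intro h0
    have h3 : B (w₁ + e₁) w₁ = 2 * Q w₁ := by
      rw [map_add, LinearMap.add_apply, he₁w₁, add_zero, hQ.self]
    rw [h0, map_zero, LinearMap.zero_apply] at h3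
    exact mul_ne_zero h2 hQ₁ h3.symm
  · rw [hQ.polar, hQe₁, hQ.symm, he₁w₁]
    ring

/-- a hyperbolic partner of a singular vector -/
lemma exists_hyp_partner (hQ : QuadData B Q) {P : Submodule K V} (hP : NdOn B P) {e : V}
    (he : e ∈ P) (he0 : e ≠ 0) (hQe : Q e = 0) : ∃ f ∈ P, Q f = 0 ∧ B e f = 1 := by
  obtain ⟨g, hg, hge⟩ := hQ.exists_prod_eq_in P hP he he0 1
  refine ⟨g - Q g • e, P.sub_mem hg (P.smul_mem _ he), ?_, ?_⟩
  · rw [hQ.sub, hQ.smul, hQe, map_smul, smul_eq_mul, hge]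
    ring
  · rw [map_sub, map_smul, hQ.self, hQe, hQ.symm, hge]
    simp

/-- **Prescribed product and norm**: in a non-degenerate subspace of rank at least three, for
`z ≠ 0` there is `b` with `B z b = γ'` and `Q b = τ`, provided `γ' ≠ 0` or `z` is non-singular. -/
lemma exists_prod_norm [Finite K] [FiniteDimensional K V] (hQ : QuadData B Q) (h2 : (2 : K) ≠ 0)
    {P : Submodule K V} (hP : NdOn B P) (hdim : 3 ≤ finrank K P) {z : V} (hz : z ∈ P)
    (hz0 : z ≠ 0) (γ' τ : K) (h : γ' ≠ 0 ∨ Q z ≠ 0) : ∃ b ∈ P, B z b = γ' ∧ Q b = τ := by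
  by_cases hQz : Q z = 0
  · have hγ : γ' ≠ 0 := h.resolve_right (fun h' => h' hQz)
    obtain ⟨f, hf, hfz⟩ := hQ.exists_prod_eq_in P hP hz hz0 1
    refine ⟨γ' • f + ((τ - γ' ^ 2 * Q f) / γ') • z, P.add_mem (P.smul_mem _ hf) (P.smul_mem _ hz),
      ?_, ?_⟩
    · rw [map_add, map_smul, map_smul, hQ.self, hQz, hQ.symm, hfz]
      simp
    · rw [hQ.polar, hQ.smul, hQ.smul, hQz]
      simp only [map_smul, LinearMap.smul_apply, smul_eq_mul]
      rw [hfz]
      field_simp
      ring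
  · have hP₁ := ndOn_perpIn hQ h2 hP hz hQz
    have hd₁ := finrank_le_perpIn_add_one (B := B) P z
    obtain ⟨y, hy, hQy⟩ := exists_norm_in2 hQ h2 hP₁ (by omega) (τ - γ' ^ 2 / (4 * Q z))
    obtain ⟨hyP, hyz⟩ := mem_perpIn.1 hy
    have h4 : (4 : K) ≠ 0 := by
      have : (4 : K) = 2 * 2 := by norm_num
      rw [this]; exact mul_ne_zero h2 h2
    refine ⟨(γ' / (2 * Q z)) • z + y, P.add_mem (P.smul_mem _ hz) hyP, ?_, ?_⟩
    · rw [map_add, map_smul, hQ.self, hQ.symm z y, hyz, smul_eq_mul]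
      field_simp
      ring
    · rw [hQ.polar, hQ.smul, hQy]
      simp only [map_smul, LinearMap.smul_apply, smul_eq_mul]
      rw [hQ.symm z y, hyz]
      field_simp
      ring

/-- vectors of prescribed norm orthogonal to a given non-singular (or zero) vector -/
lemma exists_norm_perp [Finite K] [FiniteDimensional K V] (hQ : QuadData B Q) (h2 : (2 : K) ≠ 0)
    {P : Submodule K V} (hP : NdOn B P) (hdim : 3 ≤ finrank K P) {z : V} (hz : z ∈ P)
    (hgood : z = 0 ∨ Q z ≠ 0) (γ : K) : ∃ e ∈ P, B e z = 0 ∧ Q e = γ := by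
  rcases hgood with rfl | hQz
  · obtain ⟨e, he, hQe⟩ := exists_norm_in2 hQ h2 hP (by omega) γ
    exact ⟨e, he, by simp, hQe⟩
  · have hP₁ := ndOn_perpIn hQ h2 hP hz hQz
    have hd₁ := finrank_le_perpIn_add_one (B := B) P z
    obtain ⟨y, hy, hQy⟩ := exists_norm_in2 hQ h2 hP₁ (by omega) γ
    obtain ⟨hyP, hyz⟩ := mem_perpIn.1 hy
    exact ⟨y, hyP, hyz, hQy⟩

/-- a non-zero singular vector orthogonal to a given non-singular vector, in rank at least four -/
lemma exists_singular_perp [Finite K] [FiniteDimensional K V] (hQ : QuadData B Q)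
    (h2 : (2 : K) ≠ 0) {P : Submodule K V} (hP : NdOn B P) (hdim : 4 ≤ finrank K P) {z : V}
    (hz : z ∈ P) (hQz : Q z ≠ 0) : ∃ s ∈ P, s ≠ 0 ∧ Q s = 0 ∧ B s z = 0 := by
  have hP₁ := ndOn_perpIn hQ h2 hP hz hQz
  have hd₁ := finrank_le_perpIn_add_one (B := B) P z
  obtain ⟨s, hs, hs0, hQs⟩ := exists_singular_in3 hQ h2 hP₁ (by omega)
  obtain ⟨hsP, hsz⟩ := mem_perpIn.1 hs
  exact ⟨s, hsP, hs0, hQs, hsz⟩

/-- the orthogonal complement of a hyperbolic pair inside a non-degenerate subspace is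
non-degenerate -/
lemma ndOn_hyp_compl (hQ : QuadData B Q) {P : Submodule K V} (hP : NdOn B P) {e f : V}
    (he : e ∈ P) (hf : f ∈ P) (hQe : Q e = 0) (hQf : Q f = 0) (hef : B e f = 1) :
    NdOn B (perpIn B (perpIn B P e) f) := by
  intro p hp h
  obtain ⟨hp1, hpf⟩ := mem_perpIn.1 hp
  obtain ⟨hpP, hpe⟩ := mem_perpIn.1 hp1
  apply hP p hpP
  intro p' hp'
  have hfe : B f e = 1 := by rw [hQ.symm]; exact hef
  have h1 : p' - B p' f • e - B p' e • f ∈ perpIn B (perpIn B P e) f := by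
    rw [mem_perpIn, mem_perpIn]
    refine ⟨⟨P.sub_mem (P.sub_mem hp' (P.smul_mem _ he)) (P.smul_mem _ hf), ?_⟩, ?_⟩
    · rw [map_sub, map_sub, LinearMap.sub_apply, LinearMap.sub_apply, map_smul, map_smul,
        LinearMap.smul_apply, LinearMap.smul_apply, hQ.self, hQe, hfe]
      simp
    · rw [map_sub, map_sub, LinearMap.sub_apply, LinearMap.sub_apply, map_smul, map_smul,
        LinearMap.smul_apply, LinearMap.smul_apply, hQ.self, hQf, hef]
      simp
  have h3 := h _ h1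
  rw [map_sub, map_sub, map_smul, map_smul, hpf] at h3
  have hpe' : B p e = 0 := hpe
  rw [hpe'] at h3
  simpa using h3

/-- a non-singular vector orthogonal to a hyperbolic pair, in rank at least three -/
lemma exists_ns_perp_hyp [FiniteDimensional K V] (hQ : QuadData B Q) {P : Submodule K V}
    (hP : NdOn B P) (hdim : 3 ≤ finrank K P) {e f : V} (he : e ∈ P) (hf : f ∈ P)
    (hQe : Q e = 0) (hQf : Q f = 0) (hef : B e f = 1) :
    ∃ c ∈ P, Q c ≠ 0 ∧ B c e = 0 ∧ B c f = 0 := by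
  have hP₂ := ndOn_hyp_compl hQ hP he hf hQe hQf hef
  have hd₁ := finrank_le_perpIn_add_one (B := B) P e
  have hd₂ := finrank_le_perpIn_add_one (B := B) (perpIn B P e) f
  obtain ⟨c, hc, hQc⟩ := exists_ns_in hQ hP₂ (exists_ne_zero_of_finrank_pos (by omega))
  obtain ⟨hc1, hcf⟩ := mem_perpIn.1 hc
  obtain ⟨hcP, hce⟩ := mem_perpIn.1 hc1
  exact ⟨c, hcP, hQc, hce, hcf⟩

end Cfsg.Agent.Lib.Helper5.ODec
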