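/-
Helper5: orthogonal decompositions `V = D 0 ⊥ ... ⊥ D (t-1)` of a quadratic space into
non-degenerate subspaces (abstract `QuadData` setting of Helper94): orthogonal projections onto
the members, the decomposition of a vector into its components, additivity of the norm.
-/
import Mathlib
import Cfsg.Agent.Lib.Helper5.DecSub

set_option autoImplicit false
set_option linter.unusedSimpArgs false
set_option linter.unusedSectionVars false
set_option linter.unusedVariables false

namespace Cfsg.Agent.Lib.Helper5.ODec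

open LinearMap (BilinForm)
open Module
open Cfsg.Agent.Lib.Helper94

variable {K V : Type*} [Field K] [AddCommGroup V] [Module K V]
variable {B : BilinForm K V} {Q : V → K}

/-- An orthogonal decomposition into non-degenerate subspaces spanning the space. -/
structure Dec (B : BilinForm K V) {t : ℕ} (D : Fin t → Submodule K V) : Prop where
  orth : ∀ i j, i ≠ j → ∀ x ∈ D i, ∀ y ∈ D j, B x y = 0
  nd : ∀ i, NdOn B (D i)
  sup : ∀ x : V, x ∈ iSup D

namespace Dec

variable {t : ℕ} {D : Fin t → Submodule K V}

lemma le_orthogonal (hD : Dec B D) {i j : Fin t} (hij : i ≠ j) : D j ≤ B.orthogonal (D i) := by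
  intro y hy
  rw [LinearMap.BilinForm.mem_orthogonal_iff]
  intro x hx
  exact hD.orth i j hij x hx y hy

lemma isCompl (hQ : QuadData B Q) (hD : Dec B D) (i : Fin t) :
    IsCompl (D i) (B.orthogonal (D i)) := by
  constructor
  · rw [Submodule.disjoint_def]
    intro x hx hx'
    rw [LinearMap.BilinForm.mem_orthogonal_iff] at hx'
    apply hD.nd i x hx
    intro p' hp'
    rw [hQ.symm]
    exact hx' p' hp'
  · rw [codisjoint_iff, eq_top_iff]
    intro x _
    have hx := hD.sup x
    have hle : iSup D ≤ D i ⊔ B.orthogonal (D i) := by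
      apply iSup_le
      intro j
      by_cases hij : i = j
      · subst hij; exact le_sup_left
      · exact le_trans (hD.le_orthogonal hij) le_sup_right
    exact hle hx

/-- the orthogonal projection onto the member `D i`, as an endomorphism -/
noncomputable def proj (hQ : QuadData B Q) (hD : Dec B D) (i : Fin t) : V →ₗ[K] V :=
  (D i).projection (B.orthogonal (D i)) (hD.isCompl hQ i)

lemma proj_mem (hQ : QuadData B Q) (hD : Dec B D) (i : Fin t) (x : V) : hD.proj hQ i x ∈ D i :=
  Submodule.projection_apply_mem _ x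

lemma proj_of_mem (hQ : QuadData B Q) (hD : Dec B D) {i : Fin t} {x : V} (hx : x ∈ D i) :
    hD.proj hQ i x = x :=
  Submodule.projection_apply_of_mem_left _ hx

lemma proj_of_perp (hQ : QuadData B Q) (hD : Dec B D) {i : Fin t} {x : V}
    (hx : ∀ d ∈ D i, B d x = 0) : hD.proj hQ i x = 0 := by
  have hx' : x ∈ B.orthogonal (D i) := by
    rw [LinearMap.BilinForm.mem_orthogonal_iff]
    exact hx
  exact Submodule.projection_apply_of_mem_right (hD.isCompl hQ i) hx'

lemma proj_of_mem_ne (hQ : QuadData B Q) (hD : Dec B D) {i j : Fin t} (hij : i ≠ j) {x : V}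
    (hx : x ∈ D j) : hD.proj hQ i x = 0 :=
  hD.proj_of_perp hQ (fun d hd => hD.orth i j hij d hd x hx)

lemma sub_proj_perp (hQ : QuadData B Q) (hD : Dec B D) (i : Fin t) (x : V) :
    ∀ d ∈ D i, B d (x - hD.proj hQ i x) = 0 := by
  have h1 : x - hD.proj hQ i x ∈ B.orthogonal (D i) :=
    Submodule.sub_projection_mem (hD.isCompl hQ i) x
  rw [LinearMap.BilinForm.mem_orthogonal_iff] at h1
  exact h1

/-- the product with a vector of `D i` only sees the `i`-th component -/
lemma B_proj (hQ : QuadData B Q) (hD : Dec B D) {i : Fin t} {d : V} (hd : d ∈ D i) (x : V) :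
    B d x = B d (hD.proj hQ i x) := by
  have h := hD.sub_proj_perp hQ i x d hd
  rw [map_sub] at h
  exact sub_eq_zero.1 h

/-- a vector orthogonal to every member is zero -/
lemma eq_zero_of_perp_all (hQ : QuadData B Q) (hD : Dec B D)
    (hnd : ∀ x, (∀ y, B x y = 0) → x = 0) {y : V} (hy : ∀ j, ∀ d ∈ D j, B d y = 0) : y = 0 := by
  apply hnd
  intro v
  rw [hQ.symm]
  have hle : iSup D ≤ LinearMap.ker (B.flip y) := by
    apply iSup_le
    intro j d hd
    rw [LinearMap.mem_ker]
    exact hy j d hd
  have := hle (hD.sup v)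
  rw [LinearMap.mem_ker] at this
  exact this

/-- a vector is the sum of its components -/
lemma sum_proj (hQ : QuadData B Q) (hD : Dec B D) (hnd : ∀ x, (∀ y, B x y = 0) → x = 0) (x : V) :
    ∑ i, hD.proj hQ i x = x := by
  have h : x - ∑ i, hD.proj hQ i x = 0 := by
    apply hD.eq_zero_of_perp_all hQ hnd
    intro j d hd
    rw [map_sub, map_sum]
    have h1 : ∑ i, B d (hD.proj hQ i x) = B d (hD.proj hQ j x) := by
      apply Finset.sum_eq_single j
      · intro i _ hij
        exact hD.orth j i (Ne.symm hij) d hd _ (hD.proj_mem hQ i x)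
      · intro h; exact absurd (Finset.mem_univ j) h
    rw [h1, ← hD.B_proj hQ hd x, sub_self]
  exact (sub_eq_zero.1 h).symm

/-- additivity of the norm over pairwise orthogonal vectors -/
lemma Q_sum_of_orth (hQ : QuadData B Q) {ι : Type*} [DecidableEq ι] (s : Finset ι) (c : ι → V)
    (hc : ∀ i ∈ s, ∀ j ∈ s, i ≠ j → B (c i) (c j) = 0) :
    Q (∑ i ∈ s, c i) = ∑ i ∈ s, Q (c i) := by
  induction s using Finset.induction_on with
  | empty => simp [hQ.zero]
  | insert a s ha ih =>
    rw [Finset.sum_insert ha, Finset.sum_insert ha, hQ.polar, ih, map_sum]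
    · have : ∑ i ∈ s, B (c a) (c i) = 0 := by
        apply Finset.sum_eq_zero
        intro i hi
        apply hc a (Finset.mem_insert_self a s) i (Finset.mem_insert_of_mem hi)
        rintro rfl
        exact ha hi
      rw [this, add_zero]
    · intro i hi j hj hij
      exact hc i (Finset.mem_insert_of_mem hi) j (Finset.mem_insert_of_mem hj) hij

lemma Q_eq_sum (hQ : QuadData B Q) (hD : Dec B D) (hnd : ∀ x, (∀ y, B x y = 0) → x = 0) (x : V) :
    Q x = ∑ i, Q (hD.proj hQ i x) := by
  conv_lhs => rw [← hD.sum_proj hQ hnd x]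
  apply Q_sum_of_orth hQ
  intro i _ j _ hij
  exact hD.orth i j hij _ (hD.proj_mem hQ i x) _ (hD.proj_mem hQ j x)

/-- a non-singular vector has a non-singular component -/
lemma exists_ns_proj (hQ : QuadData B Q) (hD : Dec B D) (hnd : ∀ x, (∀ y, B x y = 0) → x = 0)
    {x : V} (hx : Q x ≠ 0) : ∃ i, Q (hD.proj hQ i x) ≠ 0 := by
  by_contra hcon
  push Not at hcon
  apply hx
  rw [hD.Q_eq_sum hQ hnd x]
  exact Finset.sum_eq_zero (fun i _ => hcon i)

/-- a vector lying in no member has two non-zero components -/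
lemma exists_two_proj_ne_zero (hQ : QuadData B Q) (hD : Dec B D)
    (hnd : ∀ x, (∀ y, B x y = 0) → x = 0) (ht : 0 < t) {x : V} (hx : ∀ i, x ∉ D i) :
    ∃ i j, i ≠ j ∧ hD.proj hQ i x ≠ 0 ∧ hD.proj hQ j x ≠ 0 := by
  classical
  by_contra hcon
  push Not at hcon
  have hx0 : x ≠ 0 := by
    rintro rfl
    exact hx ⟨0, ht⟩ (Submodule.zero_mem _)
  have hex : ∃ i, hD.proj hQ i x ≠ 0 := by
    by_contra h
    push Not at h
    apply hx0
    rw [← hD.sum_proj hQ hnd x]
    exact Finset.sum_eq_zero (fun i _ => h i)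
  obtain ⟨i, hi⟩ := hex
  apply hx i
  have : x = hD.proj hQ i x := by
    conv_lhs => rw [← hD.sum_proj hQ hnd x]
    apply Finset.sum_eq_single i
    · intro j _ hji
      exact hcon i j (Ne.symm hji) hi
    · intro h; exact absurd (Finset.mem_univ i) h
  rw [this]
  exact hD.proj_mem hQ i x

end Dec

end Cfsg.Agent.Lib.Helper5.ODec
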