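/-
Helper5: for a subgroup `M` between the stabiliser in `Ω` of an orthogonal decomposition and `Ω`,
the class of non-singular vectors `a` such that `r_a r_d ∈ M` for the vectors `d` of equal norm in
the members of the decomposition; its basic closure properties.
-/
import Mathlib
import Cfsg.Agent.Lib.Helper5.DecBasic

set_option autoImplicit false
set_option linter.unusedSimpArgs false
set_option linter.unusedSectionVars false
set_option linter.unusedVariables false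

namespace Cfsg.Agent.Lib.Helper5.ODec

open LinearMap (BilinForm)
open Module
open scoped commutatorElement
open Cfsg.Agent.Lib.Helper94

variable {K V : Type*} [Field K] [AddCommGroup V] [Module K V]
variable {B : BilinForm K V} {Q : V → K}
variable [Finite K] [FiniteDimensional K V]
variable {t : ℕ}

/-- the standing hypotheses: an orthogonal decomposition into at least three non-degenerate
members of rank at least three, odd characteristic, and a subgroup `M` between the stabiliser of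
the decomposition in `Ω` and `Ω`. -/
structure Ctx (hQ : QuadData B Q) (D : Fin t → Submodule K V) (M : Subgroup (V ≃ₗ[K] V)) :
    Prop where
  dec : Dec B D
  nd : ∀ x, (∀ y, B x y = 0) → x = 0
  two : (2 : K) ≠ 0
  rank : ∀ i, 3 ≤ finrank K (D i)
  three : 3 ≤ t
  hHM : SympData.stabDec D ⊓ ⁅OG Q, OG Q⁆ ≤ M
  hMΩ : M ≤ ⁅OG Q, OG Q⁆
  big : (∀ i, 5 ≤ finrank K (D i)) ∨ (5 ≤ Nat.card K ∧ 5 ≤ t)
  iso : ∀ i j, ∃ e : D i ≃ₗ[K] D j, ∀ w : D i, Q ((e w : D j) : V) = Q (w : V)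

/-- the class of non-singular vectors whose reflections pair into `M` with the members -/
def Cls (hQ : QuadData B Q) (D : Fin t → Submodule K V) (M : Subgroup (V ≃ₗ[K] V)) : Set V :=
  {a | Q a ≠ 0 ∧ ∀ i, ∀ d ∈ D i, ∀ (ha : Q a ≠ 0) (hd : Q d ≠ 0), Q d = Q a →
    hQ.refl a ha * hQ.refl d hd ∈ M}

section pairs

variable {hQ : QuadData B Q} {M : Subgroup (V ≃ₗ[K] V)}

omit [Finite K] [FiniteDimensional K V] in
lemma refl_pair_symm {a b : V} {ha : Q a ≠ 0} {hb : Q b ≠ 0}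
    (h : hQ.refl a ha * hQ.refl b hb ∈ M) : hQ.refl b hb * hQ.refl a ha ∈ M := by
  have := inv_mem h
  rwa [mul_inv_rev, QuadData.refl_inv, QuadData.refl_inv] at this

omit [Finite K] [FiniteDimensional K V] in
lemma refl_pair_trans {a b c : V} {ha : Q a ≠ 0} {hb : Q b ≠ 0} {hc : Q c ≠ 0}
    (h1 : hQ.refl a ha * hQ.refl b hb ∈ M) (h2 : hQ.refl b hb * hQ.refl c hc ∈ M) :
    hQ.refl a ha * hQ.refl c hc ∈ M := by
  have := mul_mem h1 h2
  rwa [mul_assoc, ← mul_assoc (hQ.refl b hb), hQ.refl_mul_self, one_mul] at this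

omit [Finite K] [FiniteDimensional K V] in
lemma refl_pair_conj {k : V ≃ₗ[K] V} (hk : k ∈ M) (hkO : k ∈ OG Q) {a b : V} {ha : Q a ≠ 0}
    {hb : Q b ≠ 0} (h : hQ.refl a ha * hQ.refl b hb ∈ M) (ha₂ : Q (k a) ≠ 0)
    (hb₂ : Q (k b) ≠ 0) : hQ.refl (k a) ha₂ * hQ.refl (k b) hb₂ ∈ M := by
  have h1 := hQ.conj_refl hkO a ha
  have h2 := hQ.conj_refl hkO b hb
  have h3 : hQ.refl (k a) ha₂ * hQ.refl (k b) hb₂ =
      k * (hQ.refl a ha * hQ.refl b hb) * k⁻¹ := by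
    rw [← h1, ← h2]
    group
  rw [h3]
  exact mul_mem (mul_mem hk h) (inv_mem hk)

end pairs

namespace Ctx

variable {hQ : QuadData B Q} {D : Fin t → Submodule K V} {M : Subgroup (V ≃ₗ[K] V)}

lemma mem_OG (h : Ctx hQ D M) {x : V ≃ₗ[K] V} (hx : x ∈ M) : x ∈ OG Q :=
  QuadData.commutator_le_OG (h.hMΩ hx)

/-- some index -/
def i0 (h : Ctx hQ D M) : Fin t := ⟨0, by have := h.three; omega⟩

lemma refl_mem_stabDec (h : Ctx hQ D M) {i : Fin t} {a : V} (ha : a ∈ D i) (hQa : Q a ≠ 0) :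
    hQ.refl a hQa ∈ SympData.stabDec D := by
  rw [SympData.mem_stabDec]
  refine ⟨1, fun l => ?_⟩
  show _ = D l
  apply map_eq_of_map_le _ rfl
  intro x hx
  by_cases hl : l = i
  · subst hl
    rw [QuadData.refl_apply]
    exact (D l).sub_mem hx ((D l).smul_mem _ ha)
  · rw [hQ.refl_apply_of_orth a hQa (h.dec.orth l i hl x hx a ha)]
    exact hx

lemma pair_mem_M (h : Ctx hQ D M) {i j : Fin t} {a d : V} (ha : a ∈ D i) (hd : d ∈ D j)
    (hQa : Q a ≠ 0) (hQd : Q d ≠ 0) (hab : Q a = Q d) :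
    hQ.refl a hQa * hQ.refl d hQd ∈ M :=
  h.hHM ⟨mul_mem (h.refl_mem_stabDec ha hQa) (h.refl_mem_stabDec hd hQd),
    hQ.refl_mul_refl_mem' h.nd hQa hQd hab⟩

lemma mem_Cls_of_mem (h : Ctx hQ D M) {i : Fin t} {a : V} (ha : a ∈ D i) (hQa : Q a ≠ 0) :
    a ∈ Cls hQ D M :=
  ⟨hQa, fun j d hd ha' hd' hda => h.pair_mem_M ha hd ha' hd' hda.symm⟩

lemma exists_norm_block (h : Ctx hQ D M) (i : Fin t) (γ : K) : ∃ d ∈ D i, Q d = γ :=
  exists_norm_in2 hQ h.two (h.dec.nd i) (by have := h.rank i; omega) γ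

lemma Cls_pair (h : Ctx hQ D M) {a a' : V} (ha : a ∈ Cls hQ D M) (ha' : a' ∈ Cls hQ D M)
    (haa : Q a' = Q a) (hQa : Q a ≠ 0) (hQa' : Q a' ≠ 0) :
    hQ.refl a hQa * hQ.refl a' hQa' ∈ M := by
  obtain ⟨d, hd, hQd⟩ := h.exists_norm_block h.i0 (Q a)
  have hd0 : Q d ≠ 0 := by rw [hQd]; exact hQa
  have h1 := ha.2 _ d hd hQa hd0 hQd
  have h3 := ha'.2 _ d hd hQa' hd0 (by rw [hQd, haa])
  exact refl_pair_trans h1 (refl_pair_symm h3)

omit [Finite K] [FiniteDimensional K V] in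
lemma Cls_of_pair {a a' : V} (ha : a ∈ Cls hQ D M) (hQa : Q a ≠ 0)
    (hQa' : Q a' ≠ 0) (haa : Q a' = Q a) (hM : hQ.refl a hQa * hQ.refl a' hQa' ∈ M) :
    a' ∈ Cls hQ D M := by
  refine ⟨hQa', fun i d hd ha'' hd0 hQd => ?_⟩
  have h1 := ha.2 i d hd hQa hd0 (by rw [hQd, haa])
  exact refl_pair_trans (refl_pair_symm hM) h1

omit [Finite K] [FiniteDimensional K V] in
lemma Cls_ns {a : V} (ha : a ∈ Cls hQ D M) : Q a ≠ 0 := ha.1

omit [Finite K] [FiniteDimensional K V] in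
/-- closure under non-zero scalars -/
lemma Cls_smul {a : V} (ha : a ∈ Cls hQ D M) {l : K} (hl : l ≠ 0) : l • a ∈ Cls hQ D M := by
  have hQa : Q a ≠ 0 := ha.1
  have hla : Q (l • a) ≠ 0 := by
    rw [hQ.smul]; exact mul_ne_zero (pow_ne_zero 2 hl) hQa
  refine ⟨hla, fun i d hd hla' hd0 hQd => ?_⟩
  have hd' : l⁻¹ • d ∈ D i := (D i).smul_mem _ hd
  have hQd' : Q (l⁻¹ • d) = Q a := by
    rw [hQ.smul, hQd, hQ.smul]
    field_simp
  have hd'0 : Q (l⁻¹ • d) ≠ 0 := by rw [hQd']; exact hQa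
  have h1 := ha.2 i _ hd' hQa hd'0 hQd'
  have e1 : hQ.refl (l • a) hla' = hQ.refl a hQa := hQ.refl_smul a hQa l hl hla'
  have e2 : hQ.refl d hd0 = hQ.refl (l⁻¹ • d) hd'0 := by
    have hd'' : Q (l • (l⁻¹ • d)) ≠ 0 := by
      rw [smul_smul, mul_inv_cancel₀ hl, one_smul]; exact hd0
    rw [← hQ.refl_smul (l⁻¹ • d) hd'0 l hl hd'']
    exact hQ.refl_congr (by rw [smul_smul, mul_inv_cancel₀ hl, one_smul]) hd0
  rw [e1, e2]
  exact h1

lemma Cls_neg (h : Ctx hQ D M) {a : V} (ha : a ∈ Cls hQ D M) : -a ∈ Cls hQ D M := by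
  have := Cls_smul ha (l := (-1 : K)) (by simp)
  rwa [neg_one_smul] at this

/-- **Transport by `M`**: an element of `M` maps a member to a member as soon as it maps one member
of the same norm to a member. -/
lemma Cls_map (h : Ctx hQ D M) {x : V ≃ₗ[K] V} (hx : x ∈ M) {a d₀ : V} (ha : a ∈ Cls hQ D M)
    (hd₀ : d₀ ∈ Cls hQ D M) (hQd : Q d₀ = Q a) (hxd : x d₀ ∈ Cls hQ D M) : x a ∈ Cls hQ D M := by
  have hxO := h.mem_OG hx
  have hQa : Q a ≠ 0 := ha.1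
  have hQd₀ : Q d₀ ≠ 0 := hd₀.1
  have hxa0 : Q (x a) ≠ 0 := by rw [hxO a]; exact hQa
  have hxd0 : Q (x d₀) ≠ 0 := by rw [hxO d₀]; exact hQd₀
  have h1 := h.Cls_pair ha hd₀ hQd hQa hQd₀
  have h3 := refl_pair_conj hx hxO h1 hxa0 hxd0
  exact Cls_of_pair hxd hxd0 hxa0 (by rw [hxO, hxO, hQd]) (refl_pair_symm h3)

/-- the class is invariant under the stabiliser of the decomposition in `Ω` -/
lemma Cls_map_H (h : Ctx hQ D M) {x : V ≃ₗ[K] V} (hx : x ∈ SympData.stabDec D ⊓ ⁅OG Q, OG Q⁆)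
    {a : V} (ha : a ∈ Cls hQ D M) : x a ∈ Cls hQ D M := by
  obtain ⟨d, hd, hQd⟩ := h.exists_norm_block h.i0 (Q a)
  have hd0 : Q d ≠ 0 := by rw [hQd]; exact ha.1
  obtain ⟨σ, hσ⟩ := SympData.mem_stabDec.1 hx.1
  have hxM := h.hHM hx
  have hxd : x d ∈ D (σ h.i0) := by
    rw [← hσ h.i0]
    exact ⟨d, hd, rfl⟩
  have hxd0 : Q (x d) ≠ 0 := by rw [h.mem_OG hxM d]; exact hd0
  exact h.Cls_map hxM ha (h.mem_Cls_of_mem hd hd0) hQd (h.mem_Cls_of_mem hxd hxd0)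

/-- **General reflection closure**: `r_a b` is a member when `a, b` are members and there are
auxiliary members `a'` (of the norm of `a`, orthogonal to `b`) and `d₀` (of the norm of `b`,
orthogonal to `a` and `a'`). -/
lemma Cls_refl_gen (h : Ctx hQ D M) {a b a' d₀ : V} (ha : a ∈ Cls hQ D M)
    (hb : b ∈ Cls hQ D M) (ha' : a' ∈ Cls hQ D M) (hQa' : Q a' = Q a) (ha'b : B b a' = 0)
    (hd₀ : d₀ ∈ Cls hQ D M) (hQd₀ : Q d₀ = Q b) (hd₀a : B d₀ a = 0) (hd₀a' : B d₀ a' = 0)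
    (hQa : Q a ≠ 0) : hQ.refl a hQa b ∈ Cls hQ D M := by
  have hQa'0 : Q a' ≠ 0 := ha'.1
  have hy := h.Cls_pair ha ha' hQa' hQa hQa'0
  have hyb : (hQ.refl a hQa * hQ.refl a' hQa'0) b = hQ.refl a hQa b := by
    rw [LinearEquiv.mul_apply, hQ.refl_apply_of_orth a' hQa'0 ha'b]
  have hyd : (hQ.refl a hQa * hQ.refl a' hQa'0) d₀ = d₀ := by
    rw [LinearEquiv.mul_apply, hQ.refl_apply_of_orth a' hQa'0 hd₀a',
      hQ.refl_apply_of_orth a hQa hd₀a]
  rw [← hyb]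
  exact h.Cls_map hy hb hd₀ hQd₀ (by rw [hyd]; exact hd₀)

/-- a vector of a given member, of prescribed norm, orthogonal to a given vector whose component
in that member is non-singular or zero -/
lemma exists_perp_norm (h : Ctx hQ D M) (a : V) (j : Fin t)
    (hgood : h.dec.proj hQ j a = 0 ∨ Q (h.dec.proj hQ j a) ≠ 0) (γ : K) :
    ∃ d ∈ D j, B d a = 0 ∧ Q d = γ := by
  obtain ⟨d, hd, hda, hQd⟩ := exists_norm_perp hQ h.two (h.dec.nd j) (h.rank j)
    (h.dec.proj_mem hQ j a) hgood γ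
  exact ⟨d, hd, by rw [h.dec.B_proj hQ hd a]; exact hda, hQd⟩

/-- **(R1)** the class is invariant under the reflections along the non-singular vectors of the
members -/
lemma Cls_refl_D (h : Ctx hQ D M) {a : V} (ha : a ∈ Cls hQ D M) {i : Fin t} {w : V}
    (hw : w ∈ D i) (hQw : Q w ≠ 0) : hQ.refl w hQw a ∈ Cls hQ D M := by
  obtain ⟨j, hj⟩ := h.dec.exists_ns_proj hQ h.nd ha.1
  obtain ⟨w', hw', hw'a, hQw'⟩ := h.exists_perp_norm a j (Or.inr hj) (Q w)
  have hw'0 : Q w' ≠ 0 := by rw [hQw']; exact hQw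
  have hH : hQ.refl w hQw * hQ.refl w' hw'0 ∈ SympData.stabDec D ⊓ ⁅OG Q, OG Q⁆ :=
    ⟨mul_mem (h.refl_mem_stabDec hw hQw) (h.refl_mem_stabDec hw' hw'0),
      hQ.refl_mul_refl_mem' h.nd hQw hw'0 hQw'.symm⟩
  have := h.Cls_map_H hH ha
  rwa [LinearEquiv.mul_apply, hQ.refl_apply_of_orth w' hw'0 (by rw [hQ.symm]; exact hw'a)] at this

/-- **(R2)** reflecting a non-singular vector of a member along a member of the class -/
lemma Cls_refl_of_D (h : Ctx hQ D M) {a : V} (ha : a ∈ Cls hQ D M) {i : Fin t} {b : V}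
    (hb : b ∈ D i) (hQb : Q b ≠ 0) (hQa : Q a ≠ 0) : hQ.refl a hQa b ∈ Cls hQ D M := by
  classical
  obtain ⟨j₀, hj₀⟩ := h.dec.exists_ns_proj hQ h.nd ha.1
  -- a third index
  obtain ⟨l, hli, hlj⟩ : ∃ l : Fin t, l ≠ i ∧ l ≠ j₀ := by
    have hcard : 2 < Fintype.card (Fin t) := by rw [Fintype.card_fin]; exact h.three
    by_contra hcon
    push Not at hcon
    have hsub : (Finset.univ : Finset (Fin t)) ⊆ {i, j₀} := by
      intro l _
      by_cases hl : l = i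
      · simp [hl]
      · simp [hcon l hl]
    have := Finset.card_le_card hsub
    have h2 : ({i, j₀} : Finset (Fin t)).card ≤ 2 := Finset.card_le_two
    rw [Finset.card_univ] at this
    omega
  obtain ⟨a', ha', hQa'⟩ := h.exists_norm_block l (Q a)
  have ha'0 : Q a' ≠ 0 := by rw [hQa']; exact hQa
  obtain ⟨d₀, hd₀, hd₀a, hQd₀⟩ := h.exists_perp_norm a j₀ (Or.inr hj₀) (Q b)
  have hd₀0 : Q d₀ ≠ 0 := by rw [hQd₀]; exact hQb
  exact h.Cls_refl_gen ha (h.mem_Cls_of_mem hb hQb) (h.mem_Cls_of_mem ha' ha'0) hQa'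
    (h.dec.orth i l (Ne.symm hli) b hb a' ha') (h.mem_Cls_of_mem hd₀ hd₀0) hQd₀ hd₀a
    (h.dec.orth j₀ l (Ne.symm hlj) d₀ hd₀ a' ha') hQa

end Ctx

end Cfsg.Agent.Lib.Helper5.ODec
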