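/-
Helper5: closure properties of the class `Cls` (continued): changing one component of a member
inside its block (same norm, then arbitrary), reduction of a mixed member to a member with exactly
two non-zero components, and completeness for a pair of blocks.
-/
import Mathlib
import Cfsg.Agent.Lib.Helper5.DecClass

set_option autoImplicit false
set_option linter.unusedSimpArgs false
set_option linter.unusedSectionVars false
set_option linter.unusedVariables false

namespace Cfsg.Agent.Lib.Helper5.ODec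

open LinearMap (BilinForm)
open Module
open scoped commutatorElement
open Cfsg.Agent.Lib.Helper94

variable {K V : Type*} [Field K] [AddCommGroup V] [Module K V]
variable {B : BilinForm K V} {Q : V → K}

/-- a finite set smaller than the field misses an element -/
lemma exists_not_mem_of_card_lt [Finite K] (s : Finset K) (h : s.card < Nat.card K) :
    ∃ x, x ∉ s := by
  classical
  haveI := Fintype.ofFinite K
  by_contra hcon
  push Not at hcon
  have : s = Finset.univ := Finset.eq_univ_iff_forall.2 hcon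
  rw [this, Finset.card_univ, Nat.card_eq_fintype_card] at h
  exact lt_irrefl _ h

lemma exists_ne2 (h2 : (2 : K) ≠ 0) (a b : K) : ∃ x : K, x ≠ a ∧ x ≠ b :=
  QuadData.ReflClass.exists_ne_two h2 a b

lemma exists_ne3 [Finite K] (h5 : 5 ≤ Nat.card K) (a b c : K) :
    ∃ x : K, x ≠ a ∧ x ≠ b ∧ x ≠ c := by
  classical
  obtain ⟨x, hx⟩ := exists_not_mem_of_card_lt ({a, b, c} : Finset K) (by
    have : ({a, b, c} : Finset K).card ≤ 3 := Finset.card_le_three
    omega)
  refine ⟨x, ?_, ?_, ?_⟩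
  · rintro rfl; exact hx (by simp)
  · rintro rfl; exact hx (by simp)
  · rintro rfl; exact hx (by simp)

lemma exists_ne4 [Finite K] (h5 : 5 ≤ Nat.card K) (a b c d : K) :
    ∃ x : K, x ≠ a ∧ x ≠ b ∧ x ≠ c ∧ x ≠ d := by
  classical
  obtain ⟨x, hx⟩ := exists_not_mem_of_card_lt ({a, b, c, d} : Finset K) (by
    have : ({a, b, c, d} : Finset K).card ≤ 4 := Finset.card_le_four
    omega)
  refine ⟨x, ?_, ?_, ?_, ?_⟩
  · rintro rfl; exact hx (by simp)
  · rintro rfl; exact hx (by simp)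
  · rintro rfl; exact hx (by simp)
  · rintro rfl; exact hx (by simp)

/-- a non-zero vector of prescribed norm, in rank at least three -/
lemma exists_ne_zero_norm3 [Finite K] [FiniteDimensional K V] (hQ : QuadData B Q)
    (h2 : (2 : K) ≠ 0) {P : Submodule K V} (hP : NdOn B P) (hdim : 3 ≤ finrank K P) (γ : K) :
    ∃ e ∈ P, e ≠ 0 ∧ Q e = γ := by
  by_cases hγ : γ = 0
  · obtain ⟨e, he, he0, hQe⟩ := exists_singular_in3 hQ h2 hP hdim
    exact ⟨e, he, he0, by rw [hQe, hγ]⟩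
  · exact exists_norm_ne_zero_in2 hQ h2 hP (by omega) hγ

variable [Finite K] [FiniteDimensional K V]
variable {t : ℕ}

namespace Ctx

variable {hQ : QuadData B Q} {D : Fin t → Submodule K V} {M : Subgroup (V ≃ₗ[K] V)}

omit [Finite K] [FiniteDimensional K V] in
lemma Q_add_perp (h : Ctx hQ D M) {i : Fin t} {x v : V} (hx : x ∈ D i)
    (hv : ∀ d ∈ D i, B d v = 0) : Q (x + v) = Q x + Q v := by
  rw [hQ.polar, hv x hx, add_zero]

omit [Finite K] [FiniteDimensional K V] in
lemma perp_of_mem (h : Ctx hQ D M) {i j : Fin t} (hij : i ≠ j) {y : V} (hy : y ∈ D j) :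
    ∀ d ∈ D i, B d y = 0 := fun d hd => h.dec.orth i j hij d hd y hy

omit [Finite K] [FiniteDimensional K V] in
lemma perp_add {i : Fin t} {y v : V} (hy : ∀ d ∈ D i, B d y = 0)
    (hv : ∀ d ∈ D i, B d v = 0) : ∀ d ∈ D i, B d (y + v) = 0 := by
  intro d hd
  rw [map_add, hy d hd, hv d hd, add_zero]

/-- **Same norm**: a component of a member may be replaced by any non-zero vector of the same block
and the same norm. -/
lemma Cls_witt (h : Ctx hQ D M) {i : Fin t} {x x' u : V} (hx : x ∈ D i) (hx' : x' ∈ D i)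
    (hx0 : x ≠ 0) (hx'0 : x' ≠ 0) (hxx' : Q x = Q x') (hu : ∀ d ∈ D i, B d u = 0)
    (hC : x + u ∈ Cls hQ D M) : x' + u ∈ Cls hQ D M := by
  have hone : ∀ y y' : V, y ∈ D i → y' ∈ D i → Q y = Q y' → Q (y - y') ≠ 0 →
      y + u ∈ Cls hQ D M → y' + u ∈ Cls hQ D M := by
    intro y y' hy hy' hyy' hd hyu
    have h1 := h.Cls_refl_D hyu ((D i).sub_mem hy hy') hd
    rwa [map_add, hQ.refl_swap hyy' hd, hQ.refl_apply_of_orth (y - y') hd
      (by rw [hQ.symm]; exact hu _ ((D i).sub_mem hy hy'))] at h1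
  have hneg : ∀ y : V, y ∈ D i → Q y ≠ 0 → y + u ∈ Cls hQ D M → -y + u ∈ Cls hQ D M := by
    intro y hy hQy hyu
    have h1 := h.Cls_refl_D hyu hy hQy
    have h2 : hQ.refl y hQy y = -y := by
      rw [QuadData.refl_apply, hQ.self]
      have : (Q y)⁻¹ * (2 * Q y) = 2 := by field_simp
      rw [this, two_smul]; abel
    rwa [map_add, h2, hQ.refl_apply_of_orth y hQy (by rw [hQ.symm]; exact hu _ hy)] at h1
  by_cases hQx : Q x = 0
  · by_cases hB : B x x' = 0
    · obtain ⟨f, hf, hf1, hf2⟩ :=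
        hQ.exists_two_prod_ne_zero_in (D i) (h.dec.nd i) hx hx0 hx' hx'0
      have hz'D : f - (Q f / B f x) • x ∈ D i := (D i).sub_mem hf ((D i).smul_mem _ hx)
      have hQz' : Q (f - (Q f / B f x) • x) = 0 := by
        rw [hQ.sub, hQ.smul, hQx, map_smul, smul_eq_mul]
        field_simp
        ring
      have hBxz' : B x (f - (Q f / B f x) • x) = B f x := by
        rw [map_sub, map_smul, hQ.self, hQx, hQ.symm x f]; simp
      have hBz'x' : B (f - (Q f / B f x) • x) x' = B f x' := by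
        rw [map_sub, LinearMap.sub_apply, map_smul, LinearMap.smul_apply, hB]; simp
      have h1 : f - (Q f / B f x) • x + u ∈ Cls hQ D M := by
        apply hone x _ hx hz'D (by rw [hQx, hQz']) _ hC
        rw [hQ.sub, hQx, hQz', hBxz']
        simpa using hf1
      apply hone _ x' hz'D hx' (by rw [hQz', ← hxx', hQx]) _ h1
      rw [hQ.sub, hQz', ← hxx', hQx, hBz'x']
      simpa using hf2
    · apply hone x x' hx hx' hxx' _ hC
      rw [hQ.sub, ← hxx', hQx]
      simpa using hB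
  · by_cases hd : Q (x - x') = 0
    · have hd' : Q (x - -x') ≠ 0 := by
        rw [sub_neg_eq_add]
        intro h0
        have h1 := hQ.polar x x'
        have h3 := hQ.sub x x'
        apply hQx
        have h4 : (2 : K) * (2 * Q x) = 0 := by
          rw [h0] at h1
          rw [hd] at h3
          linear_combination (-1 : K) * h1 - h3 + (2 : K) * hxx'
        rcases mul_eq_zero.1 h4 with h' | h'
        · exact absurd h' h.two
        · rcases mul_eq_zero.1 h' with h'' | h''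
          · exact absurd h'' h.two
          · exact h''
      have h1 := hone x (-x') hx ((D i).neg_mem hx') (by rw [hQ.neg]; exact hxx') hd' hC
      have h2 := hneg (-x') ((D i).neg_mem hx') (by rw [hQ.neg, ← hxx']; exact hQx) h1
      rwa [neg_neg] at h2
    · exact hone x x' hx hx' hxx' hd hC

/-- **One step**: subtracting from a component a non-singular vector of the block whose product
with the component is the norm of the member. -/
lemma Cls_step (h : Ctx hQ D M) {i : Fin t} {x v b : V} (hx : x ∈ D i)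
    (hv : ∀ d ∈ D i, B d v = 0) (hC : x + v ∈ Cls hQ D M) (hb : b ∈ D i) (hQb : Q b ≠ 0)
    (hxb : B x b = Q (x + v)) : (x - b) + v ∈ Cls hQ D M := by
  have hQa := hC.1
  have h1 := h.Cls_refl_of_D hC hb hQb hQa
  have h2 : hQ.refl (x + v) hQa b = b - (x + v) := by
    rw [QuadData.refl_apply, map_add, hv b hb, add_zero, hQ.symm b x, hxb, inv_mul_cancel₀ hQa,
      one_smul]
  rw [h2] at h1
  have h3 := h.Cls_neg h1
  have h4 : -(b - (x + v)) = (x - b) + v := by abel
  rwa [h4] at h3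

/-- replacing a component by a non-singular vector of the block -/
lemma Cls_replace_ns (h : Ctx hQ D M) {i : Fin t} {x x' v : V} (hx : x ∈ D i) (hx0 : x ≠ 0)
    (hx' : x' ∈ D i) (hQx' : Q x' ≠ 0) (hv : ∀ d ∈ D i, B d v = 0)
    (hC : x + v ∈ Cls hQ D M) (hn : Q (x' + v) ≠ 0) : x' + v ∈ Cls hQ D M := by
  have hQa := hC.1
  obtain ⟨b, hb, hxb, hQb⟩ := exists_prod_norm hQ h.two (h.dec.nd i) (h.rank i) hx hx0
    (Q (x + v)) (Q (x' + v)) (Or.inl hQa)
  have hQb0 : Q b ≠ 0 := by rw [hQb]; exact hn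
  have h1 := h.Cls_step hx hv hC hb hQb0 hxb
  have hQxb : Q (x - b) = Q x' := by
    rw [hQ.sub, hxb, hQb, h.Q_add_perp hx hv, h.Q_add_perp hx' hv]; ring
  have hxb0 : x - b ≠ 0 := by
    intro h0; rw [h0, hQ.zero] at hQxb; exact hQx' hQxb.symm
  exact h.Cls_witt ((D i).sub_mem hx hb) hx' hxb0 (by rintro rfl; exact hQx' hQ.zero) hQxb hv h1

/-- an intermediate non-singular vector on the way to a singular one -/
lemma exists_mid (h : Ctx hQ D M) {i : Fin t} {x' : V} (hx' : x' ∈ D i) (hx'0 : x' ≠ 0)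
    (hQx' : Q x' = 0) {θ : K} (hθ : θ ≠ 0) :
    ∃ x'' ∈ D i, Q x'' ≠ 0 ∧ Q x'' + θ ≠ 0 ∧ B x' x'' = Q x'' - θ := by
  rcases h.big with h5 | ⟨h5, -⟩
  · obtain ⟨f, hf, hQf, hef⟩ := exists_hyp_partner hQ (h.dec.nd i) hx' hx'0 hQx'
    have hP₂ := ndOn_hyp_compl hQ (h.dec.nd i) hx' hf hQx' hQf hef
    have hd₁ := finrank_le_perpIn_add_one (B := B) (D i) x'
    have hd₂ := finrank_le_perpIn_add_one (B := B) (perpIn B (D i) x') f
    have := h5 i
    obtain ⟨y, hy, hQy⟩ := exists_norm_in2 hQ h.two hP₂ (by omega) θ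
    obtain ⟨hy1, -⟩ := mem_perpIn.1 hy
    obtain ⟨hyP, hyx'⟩ := mem_perpIn.1 hy1
    refine ⟨y, hyP, by rw [hQy]; exact hθ, ?_, ?_⟩
    · rw [hQy]
      intro h0
      have h4 : (2 : K) * θ = 0 := by linear_combination h0
      rcases mul_eq_zero.1 h4 with h' | h'
      · exact h.two h'
      · exact hθ h'
    · rw [hQy, sub_self, hQ.symm]; exact hyx'
  · obtain ⟨τ, h1, h2, h3⟩ := exists_ne3 h5 0 θ (-θ)
    obtain ⟨b, hb, hxb, hQb⟩ := exists_prod_norm hQ h.two (h.dec.nd i) (h.rank i) hx' hx'0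
      (τ - θ) τ (Or.inl (sub_ne_zero.2 h2))
    refine ⟨b, hb, by rw [hQb]; exact h1, ?_, by rw [hQb]; exact hxb⟩
    rw [hQb]
    intro h0
    apply h3
    linear_combination h0

/-- **Replacing a component** of a member by any non-zero vector of the block, as long as the
result is non-singular. -/
lemma Cls_replace (h : Ctx hQ D M) {i : Fin t} {x x' v : V} (hx : x ∈ D i) (hx0 : x ≠ 0)
    (hx' : x' ∈ D i) (hx'0 : x' ≠ 0) (hv : ∀ d ∈ D i, B d v = 0)
    (hC : x + v ∈ Cls hQ D M) (hn : Q (x' + v) ≠ 0) : x' + v ∈ Cls hQ D M := by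
  by_cases hQx' : Q x' = 0
  · have hQv : Q v ≠ 0 := by
      rw [h.Q_add_perp hx' hv, hQx', zero_add] at hn; exact hn
    obtain ⟨x'', hx'', h1, h2, h3⟩ := h.exists_mid hx' hx'0 hQx' hQv
    have hn'' : Q (x'' + v) ≠ 0 := by rw [h.Q_add_perp hx'' hv]; exact h2
    have hC'' := h.Cls_replace_ns hx hx0 hx'' h1 hv hC hn''
    have hb : x'' - x' ∈ D i := (D i).sub_mem hx'' hx'
    have hQb : Q (x'' - x') = Q v := by
      rw [hQ.sub, hQx', hQ.symm x'' x', h3]; ring
    have hxb : B x'' (x'' - x') = Q (x'' + v) := by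
      rw [map_sub, hQ.self, hQ.symm x'' x', h3, h.Q_add_perp hx'' hv]; ring
    have := h.Cls_step hx'' hv hC'' hb (by rw [hQb]; exact hQv) hxb
    rwa [sub_sub_cancel] at this
  · exact h.Cls_replace_ns hx hx0 hx' hQx' hv hC hn

/-- auxiliary form of the reduction to two components -/
lemma exists_pair_aux (h : Ctx hQ D M) {i j : Fin t} (hij : i ≠ j) {ai aj u : V}
    (hai : ai ∈ D i) (haj : aj ∈ D j) (hai0 : ai ≠ 0) (haj0 : aj ≠ 0)
    (hui : ∀ d ∈ D i, B d u = 0) (huj : ∀ d ∈ D j, B d u = 0)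
    (ha1 : ai + (aj + u) ∈ Cls hQ D M) :
    ∃ x ∈ D i, ∃ y ∈ D j, x ≠ 0 ∧ y ≠ 0 ∧ x + y ∈ Cls hQ D M := by
  have hji : j ≠ i := Ne.symm hij
  -- step 1: a non-singular component in `D i`
  obtain ⟨τ₁, hτ₁0, hτ₁⟩ := exists_ne2 h.two 0 (-Q (aj + u))
  obtain ⟨xi, hxi, hQxi⟩ := h.exists_norm_block i τ₁
  have hxi0 : Q xi ≠ 0 := by rw [hQxi]; exact hτ₁0
  have ha2 : xi + (aj + u) ∈ Cls hQ D M := by
    apply h.Cls_replace_ns hai hai0 hxi hxi0 (perp_add (h.perp_of_mem hij haj) hui) ha1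
    rw [h.Q_add_perp hxi (perp_add (h.perp_of_mem hij haj) hui), hQxi]
    intro h0; apply hτ₁; linear_combination h0
  -- step 2: a non-singular component in `D j`
  have ha2' : aj + (xi + u) ∈ Cls hQ D M := by
    have : aj + (xi + u) = xi + (aj + u) := by abel
    rw [this]; exact ha2
  obtain ⟨τ₂, hτ₂0, hτ₂⟩ := exists_ne2 h.two 0 (-Q (xi + u))
  obtain ⟨xj, hxj, hQxj⟩ := h.exists_norm_block j τ₂
  have hxj0 : Q xj ≠ 0 := by rw [hQxj]; exact hτ₂0
  have hpj : ∀ d ∈ D j, B d (xi + u) = 0 := perp_add (h.perp_of_mem hji hxi) huj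
  have hA : xj + (xi + u) ∈ Cls hQ D M := by
    apply h.Cls_replace_ns haj haj0 hxj hxj0 hpj ha2'
    rw [h.Q_add_perp hxj hpj, hQxj]
    intro h0; apply hτ₂; linear_combination h0
  have hQxiu : Q (xi + u) = τ₁ + Q u := by rw [h.Q_add_perp hxi hui, hQxi]
  have hQA : Q (xj + (xi + u)) = τ₂ + τ₁ + Q u := by
    rw [h.Q_add_perp hxj hpj, hQxj, hQxiu]; ring
  have hQA0 : Q (xj + (xi + u)) ≠ 0 := hA.1
  -- step 3: the second member
  obtain ⟨γi, hγi1, hγi2⟩ := exists_ne2 h.two (2 * τ₁) (τ₁ + τ₂ - Q u - 2 * τ₂)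
  obtain ⟨τi, hτi0, hτi⟩ := exists_ne2 h.two 0 (-(τ₂ + Q u))
  obtain ⟨τj, hτj0, hτj⟩ := exists_ne2 h.two 0 (-(τi + Q u))
  obtain ⟨bi, hbi, hxbi, hQbi⟩ := exists_prod_norm hQ h.two (h.dec.nd i) (h.rank i) hxi
    (by rintro rfl; exact hxi0 hQ.zero) γi τi (Or.inr hxi0)
  obtain ⟨bj, hbj, hxbj, hQbj⟩ := exists_prod_norm hQ h.two (h.dec.nd j) (h.rank j) hxj
    (by rintro rfl; exact hxj0 hQ.zero) (τ₁ + τ₂ - Q u - γi) τj (Or.inr hxj0)
  have hbi0 : Q bi ≠ 0 := by rw [hQbi]; exact hτi0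
  have hbj0 : Q bj ≠ 0 := by rw [hQbj]; exact hτj0
  have hpi : ∀ d ∈ D i, B d (xj + u) = 0 := perp_add (h.perp_of_mem hij hxj) hui
  have hA' : xi + (xj + u) ∈ Cls hQ D M := by
    have : xi + (xj + u) = xj + (xi + u) := by abel
    rw [this]; exact hA
  have hb1 : bi + (xj + u) ∈ Cls hQ D M := by
    apply h.Cls_replace_ns hxi (by rintro rfl; exact hxi0 hQ.zero) hbi hbi0 hpi hA'
    rw [h.Q_add_perp hbi hpi, hQbi, h.Q_add_perp hxj huj, hQxj]
    intro h0; apply hτi; linear_combination h0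
  have hb1' : xj + (bi + u) ∈ Cls hQ D M := by
    have : xj + (bi + u) = bi + (xj + u) := by abel
    rw [this]; exact hb1
  have hpj' : ∀ d ∈ D j, B d (bi + u) = 0 := perp_add (h.perp_of_mem hji hbi) huj
  have hb : bj + (bi + u) ∈ Cls hQ D M := by
    apply h.Cls_replace_ns hxj (by rintro rfl; exact hxj0 hQ.zero) hbj hbj0 hpj' hb1'
    rw [h.Q_add_perp hbj hpj', hQbj, h.Q_add_perp hbi hui, hQbi]
    intro h0; apply hτj; linear_combination h0
  -- step 4: the auxiliary block vectors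
  obtain ⟨a', ha', ha'bi, hQa'⟩ := exists_norm_perp hQ h.two (h.dec.nd i) (h.rank i) hbi
    (Or.inr hbi0) (Q (xj + (xi + u)))
  obtain ⟨d₀, hd₀, hd₀xj, hQd₀⟩ := exists_norm_perp hQ h.two (h.dec.nd j) (h.rank j) hxj
    (Or.inr hxj0) (Q (bj + (bi + u)))
  have ha'0 : Q a' ≠ 0 := by rw [hQa']; exact hQA0
  have hd₀0 : Q d₀ ≠ 0 := by rw [hQd₀]; exact hb.1
  have hgen := h.Cls_refl_gen hA hb (h.mem_Cls_of_mem ha' ha'0) hQa'
    (by
      rw [map_add, map_add, LinearMap.add_apply, LinearMap.add_apply,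
        h.dec.orth j i hji bj hbj a' ha', hQ.symm bi a', ha'bi, hQ.symm u a', hui a' ha']
      simp)
    (h.mem_Cls_of_mem hd₀ hd₀0) hQd₀
    (by
      rw [map_add, map_add, hd₀xj, h.dec.orth j i hji d₀ hd₀ xi hxi, huj d₀ hd₀]
      simp)
    (h.dec.orth j i hji d₀ hd₀ a' ha') hQA0
  -- step 5: the reflected vector
  have hBbA : B (bj + (bi + u)) (xj + (xi + u)) = Q (xj + (xi + u)) := by
    rw [hQA]
    simp only [map_add, LinearMap.add_apply]
    rw [hQ.symm bj xj, hxbj, h.dec.orth j i hji bj hbj xi hxi, huj bj hbj,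
      h.dec.orth i j hij bi hbi xj hxj, hQ.symm bi xi, hxbi, hui bi hbi,
      hQ.symm u xj, huj xj hxj, hQ.symm u xi, hui xi hxi, hQ.self]
    ring
  have hrefl : hQ.refl (xj + (xi + u)) hQA0 (bj + (bi + u)) = (bi - xi) + (bj - xj) := by
    rw [QuadData.refl_apply, hBbA, inv_mul_cancel₀ hQA0, one_smul]
    abel
  rw [hrefl] at hgen
  refine ⟨bi - xi, (D i).sub_mem hbi hxi, bj - xj, (D j).sub_mem hbj hxj, ?_, ?_, hgen⟩
  · intro h0
    have : bi = xi := sub_eq_zero.1 h0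
    rw [this, hQ.self, hQxi] at hxbi
    exact hγi1 hxbi.symm
  · intro h0
    have : bj = xj := sub_eq_zero.1 h0
    rw [this, hQ.self, hQxj] at hxbj
    apply hγi2
    linear_combination hxbj

/-- **Reduction to two components**: a member lying in no block yields a member with exactly two
non-zero components. -/
lemma exists_pair (h : Ctx hQ D M) {a : V} (ha : a ∈ Cls hQ D M) (hmix : ∀ i, a ∉ D i) :
    ∃ i j : Fin t, i ≠ j ∧ ∃ x ∈ D i, ∃ y ∈ D j, x ≠ 0 ∧ y ≠ 0 ∧ x + y ∈ Cls hQ D M := by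
  have ht : 0 < t := by have := h.three; omega
  obtain ⟨i, j, hij, hai0, haj0⟩ := h.dec.exists_two_proj_ne_zero hQ h.nd ht hmix
  refine ⟨i, j, hij, ?_⟩
  have hai := h.dec.proj_mem hQ i a
  have haj := h.dec.proj_mem hQ j a
  have hui : ∀ d ∈ D i, B d (a - h.dec.proj hQ i a - h.dec.proj hQ j a) = 0 := by
    intro d hd
    rw [map_sub, map_sub, ← h.dec.B_proj hQ hd a, h.dec.orth i j hij d hd _ haj]
    simp
  have huj : ∀ d ∈ D j, B d (a - h.dec.proj hQ i a - h.dec.proj hQ j a) = 0 := by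
    intro d hd
    rw [map_sub, map_sub, ← h.dec.B_proj hQ hd a, h.dec.orth j i (Ne.symm hij) d hd _ hai]
    simp
  apply h.exists_pair_aux hij hai haj hai0 haj0 hui huj
  have : h.dec.proj hQ i a + (h.dec.proj hQ j a + (a - h.dec.proj hQ i a - h.dec.proj hQ j a))
      = a := by abel
  rw [this]; exact ha

/-- completeness for a pair of blocks: every non-singular vector of `D i + D j` is a member -/
def PC (hQ : QuadData B Q) (D : Fin t → Submodule K V) (M : Subgroup (V ≃ₗ[K] V))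
    (i j : Fin t) : Prop :=
  ∀ x ∈ D i, ∀ y ∈ D j, Q (x + y) ≠ 0 → x + y ∈ Cls hQ D M

omit [Finite K] [FiniteDimensional K V] in
lemma PC_symm {i j : Fin t} (hP : PC hQ D M i j) : PC hQ D M j i := by
  intro x hx y hy hxy
  rw [add_comm] at hxy ⊢
  exact hP y hy x hx hxy

/-- a member with exactly two non-zero components gives completeness for the pair -/
lemma PC_of_pair (h : Ctx hQ D M) {i j : Fin t} (hij : i ≠ j) {p q : V} (hp : p ∈ D i)
    (hq : q ∈ D j) (hp0 : p ≠ 0) (hq0 : q ≠ 0) (hpq : p + q ∈ Cls hQ D M) : PC hQ D M i j := by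
  intro x hx y hy hxy
  have hji : j ≠ i := Ne.symm hij
  by_cases hx0 : x = 0
  · rw [hx0, zero_add] at hxy ⊢
    exact h.mem_Cls_of_mem hy hxy
  by_cases hy0 : y = 0
  · rw [hy0, add_zero] at hxy ⊢
    exact h.mem_Cls_of_mem hx hxy
  obtain ⟨τ, hτ1, hτ2⟩ := exists_ne2 h.two (-Q p) (-Q x)
  obtain ⟨y₁, hy₁, hy₁0, hQy₁⟩ := exists_ne_zero_norm3 hQ h.two (h.dec.nd j) (h.rank j) τ
  -- `p + q → p + y₁`
  have s1 : y₁ + p ∈ Cls hQ D M := by
    rw [add_comm] at hpq
    apply h.Cls_replace hq hq0 hy₁ hy₁0 (h.perp_of_mem hji hp) hpq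
    rw [h.Q_add_perp hy₁ (h.perp_of_mem hji hp), hQy₁]
    intro h0; apply hτ1; linear_combination h0
  -- `p + y₁ → x + y₁`
  have s2 : x + y₁ ∈ Cls hQ D M := by
    rw [add_comm] at s1
    apply h.Cls_replace hp hp0 hx hx0 (h.perp_of_mem hij hy₁) s1
    rw [h.Q_add_perp hx (h.perp_of_mem hij hy₁), hQy₁]
    intro h0; apply hτ2; linear_combination h0
  -- `x + y₁ → x + y`
  rw [add_comm] at s2 hxy ⊢
  exact h.Cls_replace hy₁ hy₁0 hy hy0 (h.perp_of_mem hji hx) s2 hxy

end Ctx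

end Cfsg.Agent.Lib.Helper5.ODec
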