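/-
Helper5: isometries permuting the members of an orthogonal decomposition: the swap of two members
along an isometry between them, and the resulting three-cycles in the commutator subgroup;
transport of the completeness for a pair of blocks to every pair of blocks.
-/
import Mathlib
import Cfsg.Agent.Lib.Helper5.DecStep

set_option autoImplicit false
set_option linter.unusedSimpArgs false
set_option linter.unusedSectionVars false
set_option linter.unusedVariables false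

namespace Cfsg.Agent.Lib.Helper5.ODec

open LinearMap (BilinForm)
open Module
open scoped commutatorElement
open Cfsg.Agent.Lib.Helper94

variable {K V : Type*} [Field K] [AddCommGroup V] [Module K V]
variable {B : BilinForm K V} {Q : V → K}
variable {t : ℕ} {D : Fin t → Submodule K V}

namespace Dec

/-- the projection onto a member, with values in the member -/
noncomputable def projR (hQ : QuadData B Q) (hD : Dec B D) (i : Fin t) : V →ₗ[K] D i :=
  (hD.proj hQ i).codRestrict (D i) (hD.proj_mem hQ i)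

lemma projR_coe (hQ : QuadData B Q) (hD : Dec B D) (i : Fin t) (x : V) :
    ((hD.projR hQ i x : D i) : V) = hD.proj hQ i x := rfl

/-- the swap of the members `D i` and `D j` along `e`, as a linear map -/
noncomputable def swapLin (hQ : QuadData B Q) (hD : Dec B D) {i j : Fin t}
    (e : D i ≃ₗ[K] D j) : V →ₗ[K] V :=
  LinearMap.id - hD.proj hQ i - hD.proj hQ j
    + (D j).subtype ∘ₗ e.toLinearMap ∘ₗ hD.projR hQ i
    + (D i).subtype ∘ₗ e.symm.toLinearMap ∘ₗ hD.projR hQ j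

lemma swapLin_apply (hQ : QuadData B Q) (hD : Dec B D) {i j : Fin t} (e : D i ≃ₗ[K] D j)
    (x : V) : hD.swapLin hQ e x = x - hD.proj hQ i x - hD.proj hQ j x
      + ((e (hD.projR hQ i x) : D j) : V) + ((e.symm (hD.projR hQ j x) : D i) : V) := by
  simp [swapLin]

lemma proj_swapLin_left (hQ : QuadData B Q) (hD : Dec B D) {i j : Fin t} (hij : i ≠ j)
    (e : D i ≃ₗ[K] D j) (x : V) :
    hD.proj hQ i (hD.swapLin hQ e x) = ((e.symm (hD.projR hQ j x) : D i) : V) := by
  rw [swapLin_apply, map_add, map_add, map_sub, map_sub,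
    hD.proj_of_mem hQ (hD.proj_mem hQ i x),
    hD.proj_of_mem_ne hQ hij (hD.proj_mem hQ j x),
    hD.proj_of_mem_ne hQ hij (e (hD.projR hQ i x)).2,
    hD.proj_of_mem hQ (e.symm (hD.projR hQ j x)).2]
  simp

lemma proj_swapLin_right (hQ : QuadData B Q) (hD : Dec B D) {i j : Fin t} (hij : i ≠ j)
    (e : D i ≃ₗ[K] D j) (x : V) :
    hD.proj hQ j (hD.swapLin hQ e x) = ((e (hD.projR hQ i x) : D j) : V) := by
  rw [swapLin_apply, map_add, map_add, map_sub, map_sub,
    hD.proj_of_mem hQ (hD.proj_mem hQ j x),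
    hD.proj_of_mem_ne hQ (Ne.symm hij) (hD.proj_mem hQ i x),
    hD.proj_of_mem hQ (e (hD.projR hQ i x)).2,
    hD.proj_of_mem_ne hQ (Ne.symm hij) (e.symm (hD.projR hQ j x)).2]
  simp

lemma swapLin_involutive (hQ : QuadData B Q) (hD : Dec B D) {i j : Fin t} (hij : i ≠ j)
    (e : D i ≃ₗ[K] D j) : Function.Involutive (hD.swapLin hQ e) := by
  intro x
  have h1 : hD.projR hQ i (hD.swapLin hQ e x) = e.symm (hD.projR hQ j x) :=
    Subtype.ext (hD.proj_swapLin_left hQ hij e x)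
  have h2 : hD.projR hQ j (hD.swapLin hQ e x) = e (hD.projR hQ i x) :=
    Subtype.ext (hD.proj_swapLin_right hQ hij e x)
  rw [swapLin_apply hQ hD e (hD.swapLin hQ e x), h1, h2, hD.proj_swapLin_left hQ hij,
    hD.proj_swapLin_right hQ hij, LinearEquiv.apply_symm_apply, LinearEquiv.symm_apply_apply,
    swapLin_apply, projR_coe, projR_coe]
  abel

/-- the swap of the members `D i` and `D j` along `e` -/
noncomputable def swapEquiv (hQ : QuadData B Q) (hD : Dec B D) {i j : Fin t} (hij : i ≠ j)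
    (e : D i ≃ₗ[K] D j) : V ≃ₗ[K] V :=
  LinearEquiv.ofInvolutive (hD.swapLin hQ e) (hD.swapLin_involutive hQ hij e)

lemma swapEquiv_apply (hQ : QuadData B Q) (hD : Dec B D) {i j : Fin t} (hij : i ≠ j)
    (e : D i ≃ₗ[K] D j) (x : V) : hD.swapEquiv hQ hij e x = hD.swapLin hQ e x := rfl

lemma swapEquiv_mul_self (hQ : QuadData B Q) (hD : Dec B D) {i j : Fin t} (hij : i ≠ j)
    (e : D i ≃ₗ[K] D j) : hD.swapEquiv hQ hij e * hD.swapEquiv hQ hij e = 1 := by
  ext x
  rw [LinearEquiv.mul_apply, swapEquiv_apply, swapEquiv_apply]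
  exact hD.swapLin_involutive hQ hij e x

lemma swapEquiv_inv (hQ : QuadData B Q) (hD : Dec B D) {i j : Fin t} (hij : i ≠ j)
    (e : D i ≃ₗ[K] D j) : (hD.swapEquiv hQ hij e)⁻¹ = hD.swapEquiv hQ hij e :=
  inv_eq_of_mul_eq_one_right (hD.swapEquiv_mul_self hQ hij e)

lemma swapEquiv_of_mem_left (hQ : QuadData B Q) (hD : Dec B D) {i j : Fin t} (hij : i ≠ j)
    (e : D i ≃ₗ[K] D j) {x : V} (hx : x ∈ D i) :
    hD.swapEquiv hQ hij e x = ((e ⟨x, hx⟩ : D j) : V) := by
  have h1 : hD.projR hQ i x = ⟨x, hx⟩ := Subtype.ext (hD.proj_of_mem hQ hx)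
  have h2 : hD.projR hQ j x = 0 := Subtype.ext (hD.proj_of_mem_ne hQ (Ne.symm hij) hx)
  rw [swapEquiv_apply, swapLin_apply, h1, h2, hD.proj_of_mem hQ hx,
    hD.proj_of_mem_ne hQ (Ne.symm hij) hx]
  simp

lemma swapEquiv_of_mem_right (hQ : QuadData B Q) (hD : Dec B D) {i j : Fin t} (hij : i ≠ j)
    (e : D i ≃ₗ[K] D j) {x : V} (hx : x ∈ D j) :
    hD.swapEquiv hQ hij e x = ((e.symm ⟨x, hx⟩ : D i) : V) := by
  have h1 : hD.projR hQ j x = ⟨x, hx⟩ := Subtype.ext (hD.proj_of_mem hQ hx)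
  have h2 : hD.projR hQ i x = 0 := Subtype.ext (hD.proj_of_mem_ne hQ hij hx)
  rw [swapEquiv_apply, swapLin_apply, h1, h2, hD.proj_of_mem hQ hx,
    hD.proj_of_mem_ne hQ hij hx]
  simp

lemma swapEquiv_of_mem_other (hQ : QuadData B Q) (hD : Dec B D) {i j l : Fin t} (hij : i ≠ j)
    (hli : l ≠ i) (hlj : l ≠ j) (e : D i ≃ₗ[K] D j) {x : V} (hx : x ∈ D l) :
    hD.swapEquiv hQ hij e x = x := by
  have h1 : hD.projR hQ i x = 0 := Subtype.ext (hD.proj_of_mem_ne hQ (Ne.symm hli) hx)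
  have h2 : hD.projR hQ j x = 0 := Subtype.ext (hD.proj_of_mem_ne hQ (Ne.symm hlj) hx)
  rw [swapEquiv_apply, swapLin_apply, h1, h2, hD.proj_of_mem_ne hQ (Ne.symm hli) hx,
    hD.proj_of_mem_ne hQ (Ne.symm hlj) hx]
  simp

/-- the swap along an isometry is an isometry -/
lemma swapEquiv_mem_OG (hQ : QuadData B Q) (hD : Dec B D) {i j : Fin t} (hij : i ≠ j)
    (e : D i ≃ₗ[K] D j) (he : ∀ w : D i, Q ((e w : D j) : V) = Q (w : V)) :
    hD.swapEquiv hQ hij e ∈ OG Q := by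
  intro x
  rw [swapEquiv_apply, swapLin_apply]
  have he' : ∀ w : D j, Q ((e.symm w : D i) : V) = Q (w : V) := by
    intro w
    have := he (e.symm w)
    rw [LinearEquiv.apply_symm_apply] at this
    exact this.symm
  have hAi : ∀ d ∈ D i, B d (x - hD.proj hQ i x - hD.proj hQ j x) = 0 := by
    intro d hd
    rw [map_sub, map_sub, ← hD.B_proj hQ hd x, hD.orth i j hij d hd _ (hD.proj_mem hQ j x)]
    simp
  have hAj : ∀ d ∈ D j, B d (x - hD.proj hQ i x - hD.proj hQ j x) = 0 := by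
    intro d hd
    rw [map_sub, map_sub, ← hD.B_proj hQ hd x,
      hD.orth j i (Ne.symm hij) d hd _ (hD.proj_mem hQ i x)]
    simp
  have key : ∀ b ∈ D j, ∀ c ∈ D i, Q (x - hD.proj hQ i x - hD.proj hQ j x + b + c) =
      Q (x - hD.proj hQ i x - hD.proj hQ j x) + Q b + Q c := by
    intro b hb c hc
    rw [hQ.polar, hQ.polar, map_add, LinearMap.add_apply, hQ.symm _ c, hAi c hc,
      hQ.symm _ b, hAj b hb, hD.orth j i (Ne.symm hij) b hb c hc]
    ring
  rw [key _ (e (hD.projR hQ i x)).2 _ (e.symm (hD.projR hQ j x)).2, he, he', projR_coe,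
    projR_coe]
  have hx : x = x - hD.proj hQ i x - hD.proj hQ j x + hD.proj hQ j x + hD.proj hQ i x := by
    abel
  conv_rhs => rw [hx]
  rw [key _ (hD.proj_mem hQ j x) _ (hD.proj_mem hQ i x)]
  ring

/-- a product of two swaps, squared: an element of `Ω` stabilising the decomposition and inducing
a three-cycle on the blocks -/
lemma exists_cycle [FiniteDimensional K V] (hQ : QuadData B Q) (hD : Dec B D) {i j l : Fin t}
    (hij : i ≠ j) (hil : i ≠ l) (hjl : j ≠ l)
    (iso : ∀ i j, ∃ e : D i ≃ₗ[K] D j, ∀ w : D i, Q ((e w : D j) : V) = Q (w : V)) :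
    ∃ g ∈ SympData.stabDec D ⊓ ⁅OG Q, OG Q⁆,
      (D i).map (g : V →ₗ[K] V) = D l ∧ (D j).map (g : V →ₗ[K] V) = D i := by
  obtain ⟨e₁, he₁⟩ := iso i l
  obtain ⟨e₂, he₂⟩ := iso i j
  have hfr : ∀ a b : Fin t, finrank K (D a) = finrank K (D b) := by
    intro a b
    obtain ⟨e, -⟩ := iso a b
    exact LinearEquiv.finrank_eq e
  -- the two swaps
  have key : ∀ {a b : Fin t} (hab : a ≠ b) (e : D a ≃ₗ[K] D b),
      (∀ w : D a, Q ((e w : D b) : V) = Q (w : V)) →
      hD.swapEquiv hQ hab e ∈ SympData.stabDec D := by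
    intro a b hab e he
    rw [SympData.mem_stabDec]
    refine ⟨Equiv.swap a b, fun c => ?_⟩
    apply map_eq_of_map_le _ (hfr _ _)
    intro x hx
    by_cases hca : c = a
    · subst hca
      rw [Equiv.swap_apply_left, hD.swapEquiv_of_mem_left hQ hab e hx]
      exact (e ⟨x, hx⟩).2
    · by_cases hcb : c = b
      · subst hcb
        rw [Equiv.swap_apply_right, hD.swapEquiv_of_mem_right hQ hab e hx]
        exact (e.symm ⟨x, hx⟩).2
      · rw [Equiv.swap_apply_of_ne_of_ne hca hcb, hD.swapEquiv_of_mem_other hQ hab hca hcb e hx]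
        exact hx
  have ha := key hil e₁ he₁
  have hb := key hij e₂ he₂
  have haO := hD.swapEquiv_mem_OG hQ hil e₁ he₁
  have hbO := hD.swapEquiv_mem_OG hQ hij e₂ he₂
  have hcomm : hD.swapEquiv hQ hil e₁ * hD.swapEquiv hQ hij e₂ * hD.swapEquiv hQ hil e₁ *
      hD.swapEquiv hQ hij e₂ = ⁅hD.swapEquiv hQ hil e₁, hD.swapEquiv hQ hij e₂⁆ := by
    rw [commutatorElement_def, hD.swapEquiv_inv, hD.swapEquiv_inv]
  refine ⟨hD.swapEquiv hQ hil e₁ * hD.swapEquiv hQ hij e₂ * hD.swapEquiv hQ hil e₁ *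
      hD.swapEquiv hQ hij e₂, ⟨mul_mem (mul_mem (mul_mem ha hb) ha) hb, ?_⟩, ?_, ?_⟩
  · rw [hcomm]
    exact Subgroup.commutator_mem_commutator haO hbO
  · apply map_eq_of_map_le _ (hfr _ _)
    intro x hx
    rw [LinearEquiv.mul_apply, LinearEquiv.mul_apply, LinearEquiv.mul_apply]
    -- `x ∈ D i ↦ D j ↦ D j ↦ D i ↦ D l`
    have h1 : hD.swapEquiv hQ hij e₂ x ∈ D j := by
      rw [hD.swapEquiv_of_mem_left hQ hij e₂ hx]; exact (e₂ ⟨x, hx⟩).2
    have h2 : hD.swapEquiv hQ hil e₁ (hD.swapEquiv hQ hij e₂ x) ∈ D j := by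
      rw [hD.swapEquiv_of_mem_other hQ hil (Ne.symm hij) hjl e₁ h1]; exact h1
    have h3 : hD.swapEquiv hQ hij e₂ (hD.swapEquiv hQ hil e₁ (hD.swapEquiv hQ hij e₂ x)) ∈
        D i := by
      rw [hD.swapEquiv_of_mem_right hQ hij e₂ h2]; exact (e₂.symm ⟨_, h2⟩).2
    rw [hD.swapEquiv_of_mem_left hQ hil e₁ h3]
    exact (e₁ ⟨_, h3⟩).2
  · apply map_eq_of_map_le _ (hfr _ _)
    intro x hx
    rw [LinearEquiv.mul_apply, LinearEquiv.mul_apply, LinearEquiv.mul_apply]
    -- `x ∈ D j ↦ D i ↦ D l ↦ D l ↦ D i`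
    have h1 : hD.swapEquiv hQ hij e₂ x ∈ D i := by
      rw [hD.swapEquiv_of_mem_right hQ hij e₂ hx]; exact (e₂.symm ⟨x, hx⟩).2
    have h2 : hD.swapEquiv hQ hil e₁ (hD.swapEquiv hQ hij e₂ x) ∈ D l := by
      rw [hD.swapEquiv_of_mem_left hQ hil e₁ h1]; exact (e₁ ⟨_, h1⟩).2
    have h3 : hD.swapEquiv hQ hij e₂ (hD.swapEquiv hQ hil e₁ (hD.swapEquiv hQ hij e₂ x)) ∈
        D l := by
      rw [hD.swapEquiv_of_mem_other hQ hij (Ne.symm hil) (Ne.symm hjl) e₂ h2]; exact h2
    rw [hD.swapEquiv_of_mem_right hQ hil e₁ h3]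
    exact (e₁.symm ⟨_, h3⟩).2

end Dec

namespace Ctx

variable [Finite K] [FiniteDimensional K V]
variable {hQ : QuadData B Q} {M : Subgroup (V ≃ₗ[K] V)}

/-- transport of the completeness for a pair of blocks by an element of the stabiliser -/
lemma PC_transport (h : Ctx hQ D M) {i j i' j' : Fin t} (hP : PC hQ D M i j) {g : V ≃ₗ[K] V}
    (hg : g ∈ SympData.stabDec D ⊓ ⁅OG Q, OG Q⁆) (hi : (D i).map (g : V →ₗ[K] V) = D i')
    (hj : (D j).map (g : V →ₗ[K] V) = D j') : PC hQ D M i' j' := by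
  intro x' hx' y' hy' hxy
  rw [← hi] at hx'
  rw [← hj] at hy'
  obtain ⟨x, hx, rfl⟩ := hx'
  obtain ⟨y, hy, rfl⟩ := hy'
  have hgO : g ∈ OG Q := QuadData.commutator_le_OG hg.2
  have h1 : (g : V →ₗ[K] V) x + (g : V →ₗ[K] V) y = g (x + y) := by
    rw [map_add]; rfl
  rw [h1] at hxy ⊢
  rw [hgO (x + y)] at hxy
  exact h.Cls_map_H hg (hP x hx y hy hxy)

/-- replacing the second block of a complete pair -/
lemma PC_move (h : Ctx hQ D M) {i j l : Fin t} (hij : i ≠ j) (hil : i ≠ l) (hjl : j ≠ l)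
    (hP : PC hQ D M i j) : PC hQ D M i l := by
  obtain ⟨g, hg, h1, h2⟩ := h.dec.exists_cycle hQ hij hil hjl h.iso
  exact PC_symm (h.PC_transport hP hg h1 h2)

/-- completeness for one pair of blocks gives completeness for every pair -/
lemma PC_all (h : Ctx hQ D M) {i₀ j₀ : Fin t} (h0 : i₀ ≠ j₀) (hP : PC hQ D M i₀ j₀)
    {i j : Fin t} (hij : i ≠ j) : PC hQ D M i j := by
  by_cases hi : i = i₀
  · subst hi
    by_cases hj : j = j₀
    · subst hj; exact hP
    · exact h.PC_move h0 hij (Ne.symm hj) hP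
  · by_cases hi' : i = j₀
    · subst hi'
      by_cases hj : j = i₀
      · subst hj; exact PC_symm hP
      · exact h.PC_move (Ne.symm h0) hij (Ne.symm hj) (PC_symm hP)
    · have h1 : PC hQ D M i i₀ := PC_symm (h.PC_move h0 (Ne.symm hi) (Ne.symm hi') hP)
      by_cases hj : j = i₀
      · subst hj; exact h1
      · exact h.PC_move hi hij (Ne.symm hj) h1

end Ctx

end Cfsg.Agent.Lib.Helper5.ODec
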