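/-
Helper5: from completeness for all pairs of blocks to all non-singular vectors (induction on the
number of non-zero components), and the conclusion `M = Ω` once the class `Cls` contains a vector
lying in no block.
-/
import Mathlib
import Cfsg.Agent.Lib.Helper5.DecSwap

set_option autoImplicit false
set_option linter.unusedSimpArgs false
set_option linter.unusedSectionVars false
set_option linter.unusedVariables false

namespace Cfsg.Agent.Lib.Helper5.ODec

open LinearMap (BilinForm)
open Module
open scoped commutatorElement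
open Cfsg.Agent.Lib.Helper94

variable {K V : Type*} [Field K] [AddCommGroup V] [Module K V]
variable {B : BilinForm K V} {Q : V → K}
variable [Finite K] [FiniteDimensional K V]
variable {t : ℕ} {D : Fin t → Submodule K V}

namespace Ctx

variable {hQ : QuadData B Q} {M : Subgroup (V ≃ₗ[K] V)}

omit [Finite K] [FiniteDimensional K V] in
/-- an index different from two given ones -/
lemma exists_third (h : Ctx hQ D M) (i j : Fin t) : ∃ l : Fin t, l ≠ i ∧ l ≠ j := by
  classical
  have hcard : 2 < Fintype.card (Fin t) := by rw [Fintype.card_fin]; exact h.three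
  by_contra hcon
  push Not at hcon
  have hsub : (Finset.univ : Finset (Fin t)) ⊆ {i, j} := by
    intro l _
    by_cases hl : l = i
    · simp [hl]
    · simp [hcon l hl]
  have := Finset.card_le_card hsub
  have h2 : ({i, j} : Finset (Fin t)).card ≤ 2 := Finset.card_le_two
  rw [Finset.card_univ] at this
  omega

/-- the set of indices of the non-zero components -/
noncomputable def supp (h : Ctx hQ D M) (x : V) : Finset (Fin t) := by
  classical
  exact Finset.univ.filter (fun l => h.dec.proj hQ l x ≠ 0)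

omit [Finite K] [FiniteDimensional K V] in
lemma mem_supp (h : Ctx hQ D M) {x : V} {l : Fin t} : l ∈ h.supp x ↔ h.dec.proj hQ l x ≠ 0 := by
  classical
  simp [supp]

omit [Finite K] [FiniteDimensional K V] in
lemma eq_sum_supp (h : Ctx hQ D M) (x : V) : x = ∑ l ∈ h.supp x, h.dec.proj hQ l x := by
  classical
  conv_lhs => rw [← h.dec.sum_proj hQ h.nd x]
  unfold supp
  rw [Finset.sum_filter_ne_zero]

/-- **From pairs to everything**: if every pair of blocks is complete, every non-singular vector is
a member. -/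
theorem mem_Cls_of_PC (h : Ctx hQ D M) (hPC : ∀ i j, i ≠ j → PC hQ D M i j) :
    ∀ x, Q x ≠ 0 → x ∈ Cls hQ D M := by
  classical
  intro x
  induction' hn : (h.supp x).card using Nat.strong_induction_on with n ih generalizing x
  intro hQx
  by_cases hn2 : n ≤ 2
  · -- at most two non-zero components
    have hx := h.eq_sum_supp x
    interval_cases n
    · rw [Finset.card_eq_zero] at hn
      rw [hn, Finset.sum_empty] at hx
      rw [hx, hQ.zero] at hQx
      exact absurd rfl hQx
    · obtain ⟨i, hi⟩ := Finset.card_eq_one.1 hn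
      rw [hi, Finset.sum_singleton] at hx
      have hxi : x ∈ D i := by rw [hx]; exact h.dec.proj_mem hQ i x
      exact h.mem_Cls_of_mem hxi hQx
    · obtain ⟨i, j, hij, hs⟩ := Finset.card_eq_two.1 hn
      rw [hs, Finset.sum_pair hij] at hx
      have h1 := hPC i j hij _ (h.dec.proj_mem hQ i x) _ (h.dec.proj_mem hQ j x)
      rw [← hx] at h1
      exact h1 hQx
  · -- at least three non-zero components
    push Not at hn2
    obtain ⟨i, hi, l, hl, hil⟩ := Finset.one_lt_card.1 (by omega : 1 < (h.supp x).card)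
    rw [mem_supp] at hi hl
    have hz := h.dec.proj_mem hQ i x
    have hxl := h.dec.proj_mem hQ l x
    obtain ⟨β, hβ0, hβ⟩ := exists_ne2 h.two 0 (-(2 * Q (h.dec.proj hQ i x)))
    obtain ⟨a₂, ha₂, hBa₂, hQa₂⟩ := exists_prod_norm hQ h.two (h.dec.nd l) (h.rank l) hxl hl β
      (Q (h.dec.proj hQ i x) + β) (Or.inl hβ0)
    have hperp : ∀ d ∈ D i, B d a₂ = 0 := h.perp_of_mem hil ha₂
    have hQa : Q (h.dec.proj hQ i x + a₂) = 2 * Q (h.dec.proj hQ i x) + β := by
      rw [h.Q_add_perp hz hperp, hQa₂]; ring
    have hQa0 : Q (h.dec.proj hQ i x + a₂) ≠ 0 := by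
      rw [hQa]
      intro h0
      apply hβ
      linear_combination h0
    have haC : h.dec.proj hQ i x + a₂ ∈ Cls hQ D M := hPC i l hil _ hz _ ha₂ hQa0
    have hBxa : B x (h.dec.proj hQ i x + a₂) = Q (h.dec.proj hQ i x + a₂) := by
      rw [hQa, map_add, hQ.symm x (h.dec.proj hQ i x), h.dec.B_proj hQ hz x, hQ.self,
        hQ.symm x a₂, h.dec.B_proj hQ ha₂ x, hQ.symm a₂, hBa₂]
    -- the reflected vector
    have hb : hQ.refl _ hQa0 x = x - (h.dec.proj hQ i x + a₂) := by
      rw [QuadData.refl_apply, hBxa, inv_mul_cancel₀ hQa0, one_smul]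
    have hQb : Q (x - (h.dec.proj hQ i x + a₂)) = Q x := by
      rw [← hb]; exact hQ.refl_mem_OG _ hQa0 x
    have hbi : h.dec.proj hQ i (x - (h.dec.proj hQ i x + a₂)) = 0 := by
      rw [map_sub, map_add, h.dec.proj_of_mem hQ hz, h.dec.proj_of_mem_ne hQ hil ha₂]
      simp
    have hsub : h.supp (x - (h.dec.proj hQ i x + a₂)) ⊆ (h.supp x).erase i := by
      intro c hc
      rw [mem_supp] at hc
      rw [Finset.mem_erase, mem_supp]
      have hci : c ≠ i := by
        rintro rfl
        exact hc hbi
      refine ⟨hci, fun h0 => hc ?_⟩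
      have hcl : c ≠ l := by
        rintro rfl
        exact hl h0
      rw [map_sub, map_add, h0, h.dec.proj_of_mem_ne hQ hci hz, h.dec.proj_of_mem_ne hQ hcl ha₂]
      simp
    have hcard : (h.supp (x - (h.dec.proj hQ i x + a₂))).card < n := by
      have h1 := Finset.card_le_card hsub
      have h2 : ((h.supp x).erase i).card < (h.supp x).card :=
        Finset.card_erase_lt_of_mem (h.mem_supp.2 hi)
      omega
    have hbC : x - (h.dec.proj hQ i x + a₂) ∈ Cls hQ D M :=
      ih _ hcard _ rfl (by rw [hQb]; exact hQx)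
    -- the auxiliary block vectors
    obtain ⟨a', ha', hQa'⟩ := h.exists_norm_block i (Q (h.dec.proj hQ i x + a₂))
    have ha'0 : Q a' ≠ 0 := by rw [hQa']; exact hQa0
    obtain ⟨c, hci, hcl⟩ := h.exists_third i l
    obtain ⟨d₀, hd₀, hQd₀⟩ := h.exists_norm_block c (Q (x - (h.dec.proj hQ i x + a₂)))
    have hd₀0 : Q d₀ ≠ 0 := by rw [hQd₀, hQb]; exact hQx
    have hgen := h.Cls_refl_gen haC hbC (h.mem_Cls_of_mem ha' ha'0) hQa'
      (by rw [hQ.symm, h.dec.B_proj hQ ha', hbi, map_zero])
      (h.mem_Cls_of_mem hd₀ hd₀0) hQd₀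
      (by rw [map_add, h.dec.orth c i hci d₀ hd₀ _ hz, h.dec.orth c l hcl d₀ hd₀ _ ha₂,
        add_zero])
      (h.dec.orth c i hci d₀ hd₀ a' ha') hQa0
    rw [← hb, ← LinearEquiv.mul_apply, hQ.refl_mul_self] at hgen
    exact hgen

/-- **Conclusion**: if the class contains a vector lying in no block, then `M = Ω`. -/
theorem eq_commutator_of_mixed (h : Ctx hQ D M) {a : V} (ha : a ∈ Cls hQ D M)
    (hmix : ∀ i, a ∉ D i) : M = ⁅OG Q, OG Q⁆ := by
  obtain ⟨i, j, hij, p, hp, q, hq, hp0, hq0, hpq⟩ := h.exists_pair ha hmix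
  have hP := h.PC_of_pair hij hp hq hp0 hq0 hpq
  have hall := h.mem_Cls_of_PC (fun i' j' hij' => h.PC_all hij hP hij')
  apply le_antisymm h.hMΩ
  apply hQ.commutator_le_of_reflPairs h.nd (Or.inl (exists_ne2 h.two)) M
  intro a b ha0 hb0 hab
  exact h.Cls_pair (hall a ha0) (hall b hb0) hab.symm ha0 hb0

end Ctx

end Cfsg.Agent.Lib.Helper5.ODec
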