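/-
Helper5: a subgroup `M` of `Ω` properly containing the stabiliser of an orthogonal decomposition
has a member of its class `Cls` lying in no block.  Tools: connectivity of the vectors of a given
norm in a block, spanning of a block by the vectors of a given norm, three block vectors of equal
norm orthogonal to a given vector.
-/
import Mathlib
import Cfsg.Agent.Lib.Helper5.DecAll

set_option autoImplicit false
set_option linter.unusedSimpArgs false
set_option linter.unusedSectionVars false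
set_option linter.unusedVariables false

namespace Cfsg.Agent.Lib.Helper5.ODec

open LinearMap (BilinForm)
open Module
open scoped commutatorElement
open Cfsg.Agent.Lib.Helper94

variable {K V : Type*} [Field K] [AddCommGroup V] [Module K V]
variable {B : BilinForm K V} {Q : V → K}

/-- in a field with at least five elements, a non-zero square avoiding a given value -/
lemma exists_sq_ne [Finite K] (h5 : 5 ≤ Nat.card K) (θ : K) : ∃ γ : K, γ ≠ 0 ∧ γ ^ 2 ≠ θ := by
  by_cases h1 : θ = 1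
  · obtain ⟨γ, hγ0, hγ1, hγ2⟩ := exists_ne3 h5 (0 : K) 1 (-1)
    refine ⟨γ, hγ0, fun h => ?_⟩
    rw [h1] at h
    have : (γ - 1) * (γ + 1) = 0 := by linear_combination h
    rcases mul_eq_zero.1 this with h' | h'
    · exact hγ1 (sub_eq_zero.1 h')
    · exact hγ2 (eq_neg_of_add_eq_zero_left h')
  · exact ⟨1, one_ne_zero, by rw [one_pow]; exact fun h => h1 h.symm⟩

/-- in a finite field of odd characteristic, two non-zero elements which are both squares or both
non-squares have a square quotient -/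
lemma isSquare_div_of_iff [Finite K] (h2 : (2 : K) ≠ 0) {a b : K} (ha : a ≠ 0) (hb : b ≠ 0)
    (hab : IsSquare a ↔ IsSquare b) : IsSquare (a / b) := by
  classical
  haveI := Fintype.ofFinite K
  have hF : ringChar K ≠ 2 := by
    intro h
    apply h2
    have := ringChar.Nat.cast_ringChar (R := K)
    rw [h] at this
    exact_mod_cast this
  rw [FiniteField.isSquare_iff hF (div_ne_zero ha hb), div_pow]
  rw [FiniteField.isSquare_iff hF ha, FiniteField.isSquare_iff hF hb] at hab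
  rcases FiniteField.pow_dichotomy hF ha with h1 | h1
  · rw [h1, hab.1 h1, div_one]
  · rcases FiniteField.pow_dichotomy hF hb with h3 | h3
    · have := hab.2 h3
      rw [this] at h1
      rw [h3, this, div_one]
    · rw [h1, h3]
      field_simp

variable [Finite K] [FiniteDimensional K V]
variable {t : ℕ} {D : Fin t → Submodule K V}

namespace Ctx

variable {hQ : QuadData B Q} {M : Subgroup (V ≃ₗ[K] V)}

/-- **Connectivity**: two orthogonal vectors of the same norm in a block have a common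
non-orthogonal neighbour of that norm in the block. -/
lemma exists_neighbour (h : Ctx hQ D M) {i : Fin t} {w w' : V} (hw : w ∈ D i) (hw' : w' ∈ D i)
    {ν : K} (hν : ν ≠ 0) (hQw : Q w = ν) (hQw' : Q w' = ν) (hww' : B w w' = 0) :
    ∃ w'' ∈ D i, Q w'' = ν ∧ B w'' w ≠ 0 ∧ B w'' w' ≠ 0 := by
  have hQw0 : Q w ≠ 0 := by rw [hQw]; exact hν
  have hQw'0 : Q w' ≠ 0 := by rw [hQw']; exact hν
  have hP₁ := ndOn_perpIn hQ h.two (h.dec.nd i) hw hQw0
  have hw'1 : w' ∈ perpIn B (D i) w := mem_perpIn.2 ⟨hw', by rw [hQ.symm]; exact hww'⟩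
  have hP₂ := ndOn_perpIn hQ h.two hP₁ hw'1 hQw'0
  have hd₁ := finrank_le_perpIn_add_one (B := B) (D i) w
  have hd₂ := finrank_le_perpIn_add_one (B := B) (perpIn B (D i) w) w'
  have hr := h.rank i
  have h2ν : 2 * ν ≠ 0 := mul_ne_zero h.two hν
  obtain ⟨c, hc⟩ : ∃ c : K, c * (2 * ν) = 1 := ⟨(2 * ν)⁻¹, inv_mul_cancel₀ h2ν⟩
  -- a vector `z` orthogonal to `w, w'` with `Q z ∉ {0, -c}`
  obtain ⟨z, hz, hQz0, hQz1⟩ : ∃ z ∈ perpIn B (perpIn B (D i) w) w', Q z ≠ 0 ∧
      Q z ≠ -c := by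
    rcases h.big with h5 | ⟨h5, -⟩
    · have := h5 i
      obtain ⟨τ, hτ0, hτ1⟩ := exists_ne2 h.two 0 (-c)
      obtain ⟨z, hz, hQz⟩ := exists_norm_in2 hQ h.two hP₂ (by omega) τ
      exact ⟨z, hz, by rw [hQz]; exact hτ0, by rw [hQz]; exact hτ1⟩
    · obtain ⟨c', hc', hQc'⟩ := exists_ns_in hQ hP₂ (exists_ne_zero_of_finrank_pos (by omega))
      obtain ⟨γ, hγ0, hγ⟩ := exists_sq_ne h5 (-c / Q c')
      refine ⟨γ • c', Submodule.smul_mem _ _ hc', ?_, ?_⟩
      · rw [hQ.smul]; exact mul_ne_zero (pow_ne_zero 2 hγ0) hQc'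
      · rw [hQ.smul]
        intro h0
        apply hγ
        rw [← h0]
        field_simp
  obtain ⟨hz1, hzw'⟩ := mem_perpIn.1 hz
  obtain ⟨hzD, hzw⟩ := mem_perpIn.1 hz1
  -- the vector `x`
  have hxD : c • (w + w') + z ∈ D i :=
    (D i).add_mem ((D i).smul_mem _ ((D i).add_mem hw hw')) hzD
  have hBxw : B (c • (w + w') + z) w = 1 := by
    rw [map_add, LinearMap.add_apply, map_smul, LinearMap.smul_apply, map_add,
      LinearMap.add_apply, hQ.self, hQw, hQ.symm w' w, hww', hzw, smul_eq_mul]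
    linear_combination hc
  have hBxw' : B (c • (w + w') + z) w' = 1 := by
    rw [map_add, LinearMap.add_apply, map_smul, LinearMap.smul_apply, map_add,
      LinearMap.add_apply, hQ.self, hQw', hww', hzw', smul_eq_mul]
    linear_combination hc
  have hQx : Q (c • (w + w') + z) = c + Q z := by
    rw [hQ.polar, hQ.smul, hQ.polar, hQw, hQw', hww', map_smul, LinearMap.smul_apply, map_add,
      LinearMap.add_apply, hQ.symm w z, hzw, hQ.symm w' z, hzw', smul_eq_mul]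
    linear_combination c * hc
  have hQx0 : Q (c • (w + w') + z) ≠ 0 := by
    rw [hQx]
    intro h0
    apply hQz1
    linear_combination h0
  have hrw : hQ.refl _ hQx0 w = w - (Q (c • (w + w') + z))⁻¹ • (c • (w + w') + z) := by
    rw [QuadData.refl_apply, hQ.symm w, hBxw, mul_one]
  have hd := inv_mul_cancel₀ hQx0
  refine ⟨hQ.refl _ hQx0 w, ?_, ?_, ?_, ?_⟩
  · rw [hrw]
    exact (D i).sub_mem hw ((D i).smul_mem _ hxD)
  · rw [hQ.refl_mem_OG _ hQx0 w, hQw]
  · rw [hrw, map_sub, LinearMap.sub_apply, map_smul, LinearMap.smul_apply, hQ.self, hQw, hBxw,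
      smul_eq_mul]
    intro h0
    have e1 : (Q (c • (w + w') + z))⁻¹ = 2 * ν := by linear_combination -h0
    rw [e1, hQx] at hd
    have h3 : 2 * ν * Q z = 0 := by linear_combination hd - hc
    rcases mul_eq_zero.1 h3 with h' | h'
    · exact h2ν h'
    · exact hQz0 h'
  · rw [hrw, map_sub, LinearMap.sub_apply, map_smul, LinearMap.smul_apply, hww', hBxw',
      smul_eq_mul, zero_sub, mul_one]
    exact neg_ne_zero.2 (inv_ne_zero hQx0)

/-- **Spanning**: a block is spanned by its vectors of a given non-zero norm -/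
lemma mem_span_norm (h : Ctx hQ D M) (i : Fin t) {ν : K} (hν : ν ≠ 0) {x : V} (hx : x ∈ D i) :
    x ∈ Submodule.span K {w | w ∈ D i ∧ Q w = ν} := by
  have hns : ∀ y ∈ D i, Q y ≠ 0 → y ∈ Submodule.span K {w | w ∈ D i ∧ Q w = ν} := by
    intro y hy hQy
    have hy0 : y ≠ 0 := by rintro rfl; exact hQy hQ.zero
    obtain ⟨w₂, hw₂, hB, hQw₂⟩ := exists_prod_norm hQ h.two (h.dec.nd i) (h.rank i) hy hy0
      (-Q y) ν (Or.inr hQy)
    have h1 : y + w₂ ∈ Submodule.span K {w | w ∈ D i ∧ Q w = ν} := by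
      apply Submodule.subset_span
      refine ⟨(D i).add_mem hy hw₂, ?_⟩
      rw [hQ.polar, hB, hQw₂]; ring
    have h2 : w₂ ∈ Submodule.span K {w | w ∈ D i ∧ Q w = ν} :=
      Submodule.subset_span ⟨hw₂, hQw₂⟩
    have : y = (y + w₂) - w₂ := by abel
    rw [this]
    exact Submodule.sub_mem _ h1 h2
  by_cases hx0 : x = 0
  · rw [hx0]; exact Submodule.zero_mem _
  by_cases hQx : Q x = 0
  · obtain ⟨τ, hτ0, hτ1⟩ := exists_ne2 h.two 0 (-1)
    obtain ⟨y, hy, hB, hQy⟩ := exists_prod_norm hQ h.two (h.dec.nd i) (h.rank i) hx hx0 1 τ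
      (Or.inl one_ne_zero)
    have h1 := hns (x + y) ((D i).add_mem hx hy) (by
      rw [hQ.polar, hQx, hB, hQy]
      intro h0
      apply hτ1
      linear_combination h0)
    have h2 := hns y hy (by rw [hQy]; exact hτ0)
    have : x = (x + y) - y := by abel
    rw [this]
    exact Submodule.sub_mem _ h1 h2
  · exact hns x hx hQx

/-- an isometry mapping every block vector of a given norm into a block stabilises the
decomposition -/
lemma mem_stabDec_of_maps (h : Ctx hQ D M) {m : V ≃ₗ[K] V} (hmO : m ∈ OG Q) {ν : K}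
    (hν : ν ≠ 0) (hmap : ∀ i, ∀ w ∈ D i, Q w = ν → ∃ j, m w ∈ D j) :
    m ∈ SympData.stabDec D := by
  classical
  have hfr : ∀ a b : Fin t, finrank K (D a) = finrank K (D b) := by
    intro a b
    obtain ⟨e, -⟩ := h.iso a b
    exact LinearEquiv.finrank_eq e
  choose w₀ hw₀ hQw₀ using fun i => h.exists_norm_block i ν
  choose σ hσ using fun i => hmap i (w₀ i) (hw₀ i) (hQw₀ i)
  have huniq : ∀ {a b : Fin t} {x : V}, x ∈ D a → x ∈ D b → x ≠ 0 → a = b := by
    intro a b x hxa hxb hx0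
    by_contra hab
    apply hx0
    apply h.dec.nd a x hxa
    intro p' hp'
    rw [hQ.symm]
    exact h.dec.orth a b hab p' hp' x hxb
  have hsame : ∀ {a b : Fin t} {x y : V}, x ∈ D a → y ∈ D b → B x y ≠ 0 → a = b := by
    intro a b x y hx hy hxy
    by_contra hab
    exact hxy (h.dec.orth a b hab x hx y hy)
  have hall : ∀ i, ∀ w ∈ D i, Q w = ν → m w ∈ D (σ i) := by
    intro i w hw hQw
    obtain ⟨j, hj⟩ := hmap i w hw hQw
    by_cases hB : B w (w₀ i) = 0
    · obtain ⟨w'', hw'', hQw'', h1, h2⟩ :=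
        h.exists_neighbour hw (hw₀ i) hν hQw (hQw₀ i) hB
      obtain ⟨j'', hj''⟩ := hmap i w'' hw'' hQw''
      have e1 : j'' = j := hsame hj'' hj (by rw [hQ.B_map hmO]; exact h1)
      have e2 : j'' = σ i := hsame hj'' (hσ i) (by rw [hQ.B_map hmO]; exact h2)
      rw [← e2, e1]; exact hj
    · have e : j = σ i := hsame hj (hσ i) (by rw [hQ.B_map hmO]; exact hB)
      rw [← e]; exact hj
  have hall' : ∀ i, ∀ x ∈ D i, m x ∈ D (σ i) := by
    intro i x hx
    have h1 := h.mem_span_norm i hν hx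
    have hle : Submodule.span K {w | w ∈ D i ∧ Q w = ν} ≤
        (D (σ i)).comap (m : V →ₗ[K] V) := by
      rw [Submodule.span_le]
      rintro w ⟨hw, hQw⟩
      exact hall i w hw hQw
    exact hle h1
  have hmapeq : ∀ i, (D i).map (m : V →ₗ[K] V) = D (σ i) :=
    fun i => map_eq_of_map_le (hall' i) (hfr _ _)
  have hinj : Function.Injective σ := by
    intro a b hab
    have h1 := hmapeq a
    have h2 := hmapeq b
    rw [hab] at h1
    have h3 : D a = D b :=
      Submodule.map_injective_of_injective (f := (m : V →ₗ[K] V)) m.injective (h1.trans h2.symm)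
    have hw0 : w₀ a ≠ 0 := by
      intro h0
      have := hQw₀ a
      rw [h0, hQ.zero] at this
      exact hν this.symm
    exact huniq (hw₀ a) (h3 ▸ hw₀ a) hw0
  have hbij : Function.Bijective σ := Finite.injective_iff_bijective.1 hinj
  rw [SympData.mem_stabDec]
  exact ⟨Equiv.ofBijective σ hbij, fun i => by rw [Equiv.ofBijective_apply]; exact hmapeq i⟩

/-- if every member of the class lies in a block, an element of `M` mapping one non-singular block
vector into a block stabilises the decomposition -/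
lemma mem_stabDec_of_fix (h : Ctx hQ D M) (NM : ∀ a ∈ Cls hQ D M, ∃ i, a ∈ D i)
    {m : V ≃ₗ[K] V} (hm : m ∈ M) {i j : Fin t} {d : V} (hd : d ∈ D i) (hQd : Q d ≠ 0)
    (hmd : m d ∈ D j) : m ∈ SympData.stabDec D := by
  have hmO := h.mem_OG hm
  apply h.mem_stabDec_of_maps hmO hQd
  intro i' w hw hQw
  apply NM
  have hw0 : Q w ≠ 0 := by rw [hQw]; exact hQd
  exact h.Cls_map hm (h.mem_Cls_of_mem hw hw0) (h.mem_Cls_of_mem hd hQd) hQw.symm
    (h.mem_Cls_of_mem hmd (by rw [hmO d]; exact hQd))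

/-- in rank at least five, block vectors of any norm orthogonal to a given vector -/
lemma exists_perp_norm5 (h : Ctx hQ D M) (h5 : ∀ i, 5 ≤ finrank K (D i)) (e : V) (l : Fin t)
    (γ : K) : ∃ x ∈ D l, B x e = 0 ∧ Q x = γ := by
  have hz := h.dec.proj_mem hQ l e
  by_cases hgood : h.dec.proj hQ l e = 0 ∨ Q (h.dec.proj hQ l e) ≠ 0
  · exact h.exists_perp_norm e l hgood γ
  · push Not at hgood
    obtain ⟨hz0, hQz⟩ := hgood
    obtain ⟨f, hf, hQf, hef⟩ := exists_hyp_partner hQ (h.dec.nd l) hz hz0 hQz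
    have hP₂ := ndOn_hyp_compl hQ (h.dec.nd l) hz hf hQz hQf hef
    have hd₁ := finrank_le_perpIn_add_one (B := B) (D l) (h.dec.proj hQ l e)
    have hd₂ := finrank_le_perpIn_add_one (B := B) (perpIn B (D l) (h.dec.proj hQ l e)) f
    have := h5 l
    obtain ⟨y, hy, hQy⟩ := exists_norm_in2 hQ h.two hP₂ (by omega) γ
    obtain ⟨hy1, -⟩ := mem_perpIn.1 hy
    obtain ⟨hyP, hyz⟩ := mem_perpIn.1 hy1
    exact ⟨y, hyP, by rw [h.dec.B_proj hQ hyP e]; exact hyz, hQy⟩

/-- a non-singular block vector orthogonal to a given vector -/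
lemma exists_ns_perp (h : Ctx hQ D M) (e : V) (l : Fin t) :
    ∃ c ∈ D l, Q c ≠ 0 ∧ B c e = 0 := by
  have hz := h.dec.proj_mem hQ l e
  by_cases hgood : h.dec.proj hQ l e = 0 ∨ Q (h.dec.proj hQ l e) ≠ 0
  · obtain ⟨d, hd, hde, hQd⟩ := h.exists_perp_norm e l hgood 1
    exact ⟨d, hd, by rw [hQd]; exact one_ne_zero, hde⟩
  · push Not at hgood
    obtain ⟨hz0, hQz⟩ := hgood
    obtain ⟨f, hf, hQf, hef⟩ := exists_hyp_partner hQ (h.dec.nd l) hz hz0 hQz
    obtain ⟨c, hc, hQc, hce, -⟩ :=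
      exists_ns_perp_hyp hQ (h.dec.nd l) (h.rank l) hz hf hQz hQf hef
    exact ⟨c, hc, hQc, by rw [h.dec.B_proj hQ hc e]; exact hce⟩

/-- three vectors of the same non-zero norm, in three different blocks, orthogonal to a given
vector -/
lemma exists_three (h : Ctx hQ D M) (e : V) : ∃ μ : K, μ ≠ 0 ∧ ∃ l₁ l₂ l₃ : Fin t,
    l₁ ≠ l₂ ∧ l₁ ≠ l₃ ∧ l₂ ≠ l₃ ∧ ∃ w₁ ∈ D l₁, ∃ w₂ ∈ D l₂, ∃ w₃ ∈ D l₃,
      Q w₁ = μ ∧ Q w₂ = μ ∧ Q w₃ = μ ∧ B w₁ e = 0 ∧ B w₂ e = 0 ∧ B w₃ e = 0 := by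
  classical
  rcases h.big with h5 | ⟨hK, ht5⟩
  · have ht := h.three
    obtain ⟨w₁, hw₁, h1, hQ1⟩ := h.exists_perp_norm5 h5 e ⟨0, by omega⟩ 1
    obtain ⟨w₂, hw₂, h2, hQ2⟩ := h.exists_perp_norm5 h5 e ⟨1, by omega⟩ 1
    obtain ⟨w₃, hw₃, h3, hQ3⟩ := h.exists_perp_norm5 h5 e ⟨2, by omega⟩ 1
    exact ⟨1, one_ne_zero, ⟨0, by omega⟩, ⟨1, by omega⟩, ⟨2, by omega⟩, by simp [Fin.ext_iff],
      by simp [Fin.ext_iff], by simp [Fin.ext_iff], w₁, hw₁, w₂, hw₂, w₃, hw₃, hQ1, hQ2, hQ3,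
      h1, h2, h3⟩
  · choose c hc hQc hce using fun l => h.exists_ns_perp e l
    obtain ⟨y, hy⟩ := Fintype.exists_lt_card_fiber_of_mul_lt_card
      (fun l : Fin t => decide (IsSquare (Q (c l)))) (n := 2) (by
        rw [Fintype.card_bool, Fintype.card_fin]; omega)
    obtain ⟨l₁, hl₁, l₂, hl₂, l₃, hl₃, h12, h13, h23⟩ := Finset.two_lt_card.1 hy
    simp only [Finset.mem_filter, Finset.mem_univ, true_and] at hl₁ hl₂ hl₃
    have key : ∀ l, decide (IsSquare (Q (c l))) = y →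
        ∃ w ∈ D l, Q w = Q (c l₁) ∧ B w e = 0 := by
      intro l hl
      have hiff : IsSquare (Q (c l₁)) ↔ IsSquare (Q (c l)) := by
        have := hl₁.trans hl.symm
        simpa using this
      obtain ⟨r, hr⟩ := isSquare_div_of_iff h.two (hQc l₁) (hQc l) hiff
      refine ⟨r • c l, (D l).smul_mem _ (hc l), ?_, ?_⟩
      · rw [hQ.smul, pow_two, ← hr]
        have := hQc l
        field_simp
      · rw [map_smul, LinearMap.smul_apply, hce l, smul_zero]
    obtain ⟨w₁, hw₁, hQ1, h1⟩ := key l₁ hl₁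
    obtain ⟨w₂, hw₂, hQ2, h2⟩ := key l₂ hl₂
    obtain ⟨w₃, hw₃, hQ3, h3⟩ := key l₃ hl₃
    exact ⟨Q (c l₁), hQc l₁, l₁, l₂, l₃, h12, h13, h23, w₁, hw₁, w₂, hw₂, w₃, hw₃, hQ1, hQ2,
      hQ3, h1, h2, h3⟩

omit [Finite K] [FiniteDimensional K V] in
lemma apply_inv' (g : V ≃ₗ[K] V) (x : V) : g (g⁻¹ x) = x := by
  rw [← LinearEquiv.mul_apply, mul_inv_cancel]; rfl

/-- conjugating a product of two block reflections fixing `g⁻¹ d` by `g` -/
lemma conj_pair_maps (h : Ctx hQ D M) (NM : ∀ a ∈ Cls hQ D M, ∃ i, a ∈ D i)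
    {g : V ≃ₗ[K] V} (hg : g ∈ M) {i₀ : Fin t} {d : V} (hd : d ∈ D i₀) (hQd : Q d ≠ 0) {μ : K}
    (hμ : μ ≠ 0) {l l' : Fin t} (hll' : l ≠ l') {w w' : V} (hw : w ∈ D l) (hw' : w' ∈ D l')
    (hQw : Q w = μ) (hQw' : Q w' = μ) (hwe : B w (g⁻¹ d) = 0) (hw'e : B w' (g⁻¹ d) = 0) :
    ∀ c, ∀ x ∈ D c, B x (g w) • g w + B x (g w') • g w' ∈ D c := by
  have hgO := h.mem_OG hg
  have hQw0 : Q w ≠ 0 := by rw [hQw]; exact hμ
  have hQw'0 : Q w' ≠ 0 := by rw [hQw']; exact hμ
  have hww' : B w w' = 0 := h.dec.orth l l' hll' w hw w' hw'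
  have hpair : hQ.refl w hQw0 * hQ.refl w' hQw'0 ∈ M :=
    h.pair_mem_M hw hw' hQw0 hQw'0 (hQw.trans hQw'.symm)
  have hy : g * (hQ.refl w hQw0 * hQ.refl w' hQw'0) * g⁻¹ ∈ M :=
    mul_mem (mul_mem hg hpair) (inv_mem hg)
  have hBg : ∀ x v : V, B (g⁻¹ x) v = B x (g v) := by
    intro x v
    have := hQ.B_map hgO (g⁻¹ x) v
    rw [apply_inv'] at this
    exact this.symm
  have hyx : ∀ x, (g * (hQ.refl w hQw0 * hQ.refl w' hQw'0) * g⁻¹) x =
      x - (μ⁻¹ * B x (g w')) • g w' - (μ⁻¹ * B x (g w)) • g w := by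
    intro x
    have e1 : hQ.refl w' hQw'0 (g⁻¹ x) = g⁻¹ x - (μ⁻¹ * B x (g w')) • w' := by
      rw [QuadData.refl_apply, hBg, hQw']
    have e2 : hQ.refl w hQw0 (g⁻¹ x - (μ⁻¹ * B x (g w')) • w') =
        g⁻¹ x - (μ⁻¹ * B x (g w')) • w' - (μ⁻¹ * B x (g w)) • w := by
      rw [QuadData.refl_apply, map_sub, LinearMap.sub_apply, map_smul, LinearMap.smul_apply,
        hQ.symm w' w, hww', smul_zero, sub_zero, hBg, hQw]
    rw [LinearEquiv.mul_apply, LinearEquiv.mul_apply, LinearEquiv.mul_apply, e1, e2, map_sub,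
      map_sub, map_smul, map_smul, apply_inv']
  have hyd : (g * (hQ.refl w hQw0 * hQ.refl w' hQw'0) * g⁻¹) d = d := by
    rw [hyx, ← hBg, ← hBg, hQ.symm _ w', hw'e, hQ.symm _ w, hwe]
    simp
  have hyS : g * (hQ.refl w hQw0 * hQ.refl w' hQw'0) * g⁻¹ ∈ SympData.stabDec D :=
    h.mem_stabDec_of_fix NM hy hd hQd (by rw [hyd]; exact hd)
  obtain ⟨σ, hσ⟩ := SympData.mem_stabDec.1 hyS
  intro c x hx
  have hσc : σ c = c := by
    have hd₁ := finrank_le_perpIn_add_one (B := B) (D c) (g w)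
    have hd₂ := finrank_le_perpIn_add_one (B := B) (perpIn B (D c) (g w)) (g w')
    have := h.rank c
    obtain ⟨x₀, hx₀, hx₀0⟩ := exists_ne_zero_of_finrank_pos
      (P := perpIn B (perpIn B (D c) (g w)) (g w')) (by omega)
    obtain ⟨hx₁, hx₀w'⟩ := mem_perpIn.1 hx₀
    obtain ⟨hx₀D, hx₀w⟩ := mem_perpIn.1 hx₁
    have hfix : (g * (hQ.refl w hQw0 * hQ.refl w' hQw'0) * g⁻¹) x₀ = x₀ := by
      rw [hyx, hx₀w', hx₀w]; simp
    have hmem : x₀ ∈ D (σ c) := by
      rw [← hσ c]; exact ⟨x₀, hx₀D, hfix⟩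
    by_contra hne
    apply hx₀0
    apply h.dec.nd c x₀ hx₀D
    intro p' hp'
    rw [hQ.symm]
    exact h.dec.orth c (σ c) (Ne.symm hne) p' hp' x₀ hmem
  have hyxD : (g * (hQ.refl w hQw0 * hQ.refl w' hQw'0) * g⁻¹) x ∈ D c := by
    have : (g * (hQ.refl w hQw0 * hQ.refl w' hQw'0) * g⁻¹) x ∈ D (σ c) := by
      rw [← hσ c]; exact ⟨x, hx, rfl⟩
    rwa [hσc] at this
  rw [hyx] at hyxD
  have h1 := (D c).smul_mem μ ((D c).sub_mem hx hyxD)
  have h2 : μ • (x - (x - (μ⁻¹ * B x (g w')) • g w' - (μ⁻¹ * B x (g w)) • g w)) =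
      B x (g w) • g w + B x (g w') • g w' := by
    simp only [smul_sub, smul_smul, mul_inv_cancel_left₀ hμ]
    abel
  rw [h2] at h1
  exact h1

/-- **Existence of a mixed member**: if `M` does not stabilise the decomposition, its class
contains a vector lying in no block. -/
theorem exists_mixed (h : Ctx hQ D M) (hne : ¬ M ≤ SympData.stabDec D) :
    ∃ a ∈ Cls hQ D M, ∀ i, a ∉ D i := by
  by_contra hcon
  have NM : ∀ a ∈ Cls hQ D M, ∃ i, a ∈ D i := by
    intro a ha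
    by_contra h'
    push Not at h'
    exact hcon ⟨a, ha, h'⟩
  obtain ⟨g, hg, hgS⟩ := SetLike.not_le_iff_exists.1 hne
  have hgO := h.mem_OG hg
  have hb : ∀ i j, ∀ w ∈ D i, Q w ≠ 0 → g w ∉ D j :=
    fun i j w hw hQw hgw => hgS (h.mem_stabDec_of_fix NM hg hw hQw hgw)
  obtain ⟨d, hd, hQd⟩ := h.exists_norm_block h.i0 1
  have hQd0 : Q d ≠ 0 := by rw [hQd]; exact one_ne_zero
  obtain ⟨μ, hμ, l₁, l₂, l₃, h12, h13, h23, w₁, hw₁, w₂, hw₂, w₃, hw₃, hQ1, hQ2, hQ3, he1,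
    he2, he3⟩ := h.exists_three (g⁻¹ d)
  have F12 := h.conj_pair_maps NM hg hd hQd0 hμ h12 hw₁ hw₂ hQ1 hQ2 he1 he2
  have F13 := h.conj_pair_maps NM hg hd hQd0 hμ h13 hw₁ hw₃ hQ1 hQ3 he1 he3
  have F23 := h.conj_pair_maps NM hg hd hQd0 hμ h23 hw₂ hw₃ hQ2 hQ3 he2 he3
  have hp0 : g w₁ ≠ 0 := by
    intro h0
    have := hgO w₁
    rw [h0, hQ.zero, hQ1] at this
    exact hμ this.symm
  obtain ⟨c, x, hx, hBx⟩ : ∃ c, ∃ x ∈ D c, B x (g w₁) ≠ 0 := by
    by_contra h'
    push Not at h'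
    exact hp0 (h.dec.eq_zero_of_perp_all hQ h.nd (fun j d' hd' => h' j d' hd'))
  have h1 := F12 c x hx
  have h2 := F13 c x hx
  have h3 := F23 c x hx
  have h4 : (2 * B x (g w₁)) • g w₁ ∈ D c := by
    have := (D c).sub_mem ((D c).add_mem h1 h2) h3
    have e : (2 * B x (g w₁)) • g w₁ = B x (g w₁) • g w₁ + B x (g w₂) • g w₂ +
        (B x (g w₁) • g w₁ + B x (g w₃) • g w₃) - (B x (g w₂) • g w₂ + B x (g w₃) • g w₃) := by
      module
    rw [e]
    exact this
  have h5 : g w₁ ∈ D c := by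
    have := (D c).smul_mem (2 * B x (g w₁))⁻¹ h4
    rwa [smul_smul, inv_mul_cancel₀ (mul_ne_zero h.two hBx), one_smul] at this
  exact hb l₁ c w₁ hw₁ (by rw [hQ1]; exact hμ) h5

end Ctx

end Cfsg.Agent.Lib.Helper5.ODec
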