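/-
Helper5: **maximality in `Ω` of the stabiliser of an orthogonal decomposition** of a quadratic
space over a finite field of odd characteristic into at least three pairwise isometric
non-degenerate blocks of rank at least three (rank at least five, or at least five blocks over a
field with at least five elements).
-/
import Mathlib
import Cfsg.Prelude.Def_GeometricClasses
import Cfsg.Agent.Lib.Helper5.DecMixed

set_option autoImplicit false
set_option linter.unusedSimpArgs false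
set_option linter.unusedSectionVars false
set_option linter.unusedVariables false

namespace Cfsg.Agent.Lib.Helper5.ODec

open LinearMap (BilinForm)
open Module
open scoped commutatorElement
open Cfsg.Agent.Lib.Helper94

variable {K V : Type*} [Field K] [AddCommGroup V] [Module K V]
variable {B : BilinForm K V} {Q : V → K}
variable [Finite K] [FiniteDimensional K V]

/-- the stabiliser in `Ω` of the decomposition is a proper subgroup of `Ω` -/
lemma stabDec_ne_commutator (hQ : QuadData B Q) (hnd : ∀ x, (∀ y, B x y = 0) → x = 0)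
    (h2 : (2 : K) ≠ 0) {t : ℕ} (D : Fin t → Submodule K V) (hdec : Dec B D)
    (hrank : ∀ i, 3 ≤ finrank K (D i)) (ht : 3 ≤ t) :
    ∃ g ∈ ⁅OG Q, OG Q⁆, g ∉ SympData.stabDec D := by
  have h01 : (⟨0, by omega⟩ : Fin t) ≠ ⟨1, by omega⟩ := by simp [Fin.ext_iff]
  have h02 : (⟨0, by omega⟩ : Fin t) ≠ ⟨2, by omega⟩ := by simp [Fin.ext_iff]
  have h12 : (⟨1, by omega⟩ : Fin t) ≠ ⟨2, by omega⟩ := by simp [Fin.ext_iff]
  obtain ⟨x, hx, hx0, hQx⟩ := exists_singular_in3 hQ h2 (hdec.nd ⟨0, by omega⟩)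
    (hrank ⟨0, by omega⟩)
  obtain ⟨u, hu, hux⟩ := hQ.exists_prod_eq_in (D ⟨0, by omega⟩) (hdec.nd ⟨0, by omega⟩) hx hx0 1
  obtain ⟨y, hy, hQy⟩ := exists_norm_in2 hQ h2 (hdec.nd ⟨1, by omega⟩)
    (by have := hrank ⟨1, by omega⟩; omega) 1
  obtain ⟨b, hb, hQb⟩ := exists_norm_in2 hQ h2 (hdec.nd ⟨2, by omega⟩)
    (by have := hrank ⟨2, by omega⟩; omega) 1
  have hxy : B x y = 0 := hdec.orth _ _ h01 x hx y hy
  have hQa : Q (x + y) = 1 := by rw [hQ.polar, hQx, hQy, hxy]; ring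
  have hQa0 : Q (x + y) ≠ 0 := by rw [hQa]; exact one_ne_zero
  have hQb0 : Q b ≠ 0 := by rw [hQb]; exact one_ne_zero
  refine ⟨hQ.refl (x + y) hQa0 * hQ.refl b hQb0,
    hQ.refl_mul_refl_mem' hnd hQa0 hQb0 (by rw [hQa, hQb]), ?_⟩
  intro hS
  obtain ⟨σ, hσ⟩ := SympData.mem_stabDec.1 hS
  have hgu : (hQ.refl (x + y) hQa0 * hQ.refl b hQb0) u = u - (x + y) := by
    rw [LinearEquiv.mul_apply, hQ.refl_apply_of_orth b hQb0 (hdec.orth _ _ h02 u hu b hb),
      QuadData.refl_apply, hQa, map_add, hux, hdec.orth _ _ h01 u hu y hy]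
    simp
  have hmem : u - (x + y) ∈ D (σ ⟨0, by omega⟩) := by
    rw [← hσ ⟨0, by omega⟩, ← hgu]
    exact ⟨u, hu, rfl⟩
  -- the product with `y` forces the block `1`
  have e1 : σ ⟨0, by omega⟩ = ⟨1, by omega⟩ := by
    by_contra hne
    have := hdec.orth _ _ hne _ hmem y hy
    rw [map_sub, LinearMap.sub_apply, map_add, LinearMap.add_apply,
      hdec.orth _ _ h01 u hu y hy, hxy, hQ.self, hQy] at this
    apply h2
    linear_combination -this
  -- the product with `x` forces the block `0`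
  have e0 : σ ⟨0, by omega⟩ = ⟨0, by omega⟩ := by
    by_contra hne
    have := hdec.orth _ _ hne _ hmem x hx
    rw [map_sub, LinearMap.sub_apply, map_add, LinearMap.add_apply, hux, hQ.self, hQx,
      hQ.symm y x, hxy] at this
    simp at this
  rw [e0] at e1
  exact h01 e1

/-- **Maximality of the stabiliser of an orthogonal decomposition.** -/
theorem stabDec_isMaximalIn (hQ : QuadData B Q) (hnd : ∀ x, (∀ y, B x y = 0) → x = 0)
    (h2 : (2 : K) ≠ 0) {t : ℕ} (D : Fin t → Submodule K V) (hdec : Dec B D)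
    (hrank : ∀ i, 3 ≤ finrank K (D i)) (ht : 3 ≤ t)
    (hbig : (∀ i, 5 ≤ finrank K (D i)) ∨ (5 ≤ Nat.card K ∧ 5 ≤ t))
    (hiso : ∀ i j, ∃ e : D i ≃ₗ[K] D j, ∀ w : D i, Q ((e w : D j) : V) = Q (w : V)) :
    Cfsg.Geo.IsMaximalIn ⁅OG Q, OG Q⁆ (SympData.stabDec D ⊓ ⁅OG Q, OG Q⁆) := by
  refine ⟨?_, ?_⟩
  · rw [SetLike.lt_iff_le_and_exists]
    refine ⟨inf_le_right, ?_⟩
    obtain ⟨g, hg, hgS⟩ := stabDec_ne_commutator hQ hnd h2 D hdec hrank ht
    exact ⟨g, hg, fun h => hgS h.1⟩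
  · intro M hHM hMΩ
    have hctx : Ctx hQ D M := ⟨hdec, hnd, h2, hrank, ht, hHM, hMΩ, hbig, hiso⟩
    by_cases hle : M ≤ SympData.stabDec D
    · left
      exact le_antisymm (le_inf hle hMΩ) hHM
    · right
      obtain ⟨a, ha, hmix⟩ := hctx.exists_mixed hle
      exact hctx.eq_commutator_of_mixed ha hmix

end Cfsg.Agent.Lib.Helper5.ODec
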