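import Mathlib
import Cfsg.Agent.S0263

set_option autoImplicit false

namespace Cfsg.Agent.Lib.Helper5

open Matrix
open scoped MatrixGroups

variable {F : Type*} [Field F]

/-- Entries of a product in `GL₂`. -/
theorem gl2_mul_apply (a b : GL (Fin 2) F) (i j : Fin 2) :
    (a * b).1 i j = a.1 i 0 * b.1 0 j + a.1 i 1 * b.1 1 j := by
  simp [Matrix.mul_apply, Fin.sum_univ_two]

theorem gl2_ext {a b : GL (Fin 2) F} (h00 : a.1 0 0 = b.1 0 0) (h01 : a.1 0 1 = b.1 0 1)
    (h10 : a.1 1 0 = b.1 1 0) (h11 : a.1 1 1 = b.1 1 1) : a = b := by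
  apply Units.ext
  ext i j
  fin_cases i <;> fin_cases j <;> assumption

theorem gl2_mul_inv_entries (a : GL (Fin 2) F) :
    a.1 0 0 * a⁻¹.1 0 0 + a.1 0 1 * a⁻¹.1 1 0 = 1 ∧
    a.1 0 0 * a⁻¹.1 0 1 + a.1 0 1 * a⁻¹.1 1 1 = 0 ∧
    a.1 1 0 * a⁻¹.1 0 0 + a.1 1 1 * a⁻¹.1 1 0 = 0 ∧
    a.1 1 0 * a⁻¹.1 0 1 + a.1 1 1 * a⁻¹.1 1 1 = 1 := by
  have h : (a * a⁻¹).1 = 1 := by rw [mul_inv_cancel]; rfl
  refine ⟨?_, ?_, ?_, ?_⟩
  · rw [← gl2_mul_apply, h]; simp
  · rw [← gl2_mul_apply, h]; simp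
  · rw [← gl2_mul_apply, h]; simp
  · rw [← gl2_mul_apply, h]; simp

/-- The upper triangular (Borel) subgroup of `GL₂(F)`. -/
def borel (F : Type*) [Field F] : Subgroup (GL (Fin 2) F) where
  carrier := {g | g.1 1 0 = 0}
  mul_mem' := by
    intro a b ha hb
    simp only [Set.mem_ofPred_eq] at ha hb ⊢
    rw [gl2_mul_apply, ha, hb]; ring
  one_mem' := by simp
  inv_mem' := by
    intro a ha
    simp only [Set.mem_ofPred_eq] at ha ⊢
    obtain ⟨-, -, h3, h4⟩ := gl2_mul_inv_entries a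
    rw [ha] at h3 h4
    have hd : a.1 1 1 ≠ 0 := by
      intro h; rw [h] at h4; simp at h4
    simpa [hd] using h3

theorem mem_borel {g : GL (Fin 2) F} : g ∈ borel F ↔ g.1 1 0 = 0 := Iff.rfl

/-- The upper unitriangular subgroup of `GL₂(F)`. -/
def unip (F : Type*) [Field F] : Subgroup (GL (Fin 2) F) where
  carrier := {g | g.1 0 0 = 1 ∧ g.1 1 0 = 0 ∧ g.1 1 1 = 1}
  mul_mem' := by
    rintro a b ⟨ha1, ha2, ha3⟩ ⟨hb1, hb2, hb3⟩
    simp only [Set.mem_ofPred_eq] at *
    refine ⟨?_, ?_, ?_⟩ <;> rw [gl2_mul_apply] <;> simp [*]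
  one_mem' := by simp
  inv_mem' := by
    rintro a ⟨ha1, ha2, ha3⟩
    simp only [Set.mem_ofPred_eq] at *
    obtain ⟨h1, h2, h3, h4⟩ := gl2_mul_inv_entries a
    rw [ha1, ha2, ha3] at *
    have e10 : a⁻¹.1 1 0 = 0 := by simpa using h3
    have e11 : a⁻¹.1 1 1 = 1 := by simpa using h4
    rw [e10] at h1
    refine ⟨by simpa using h1, e10, e11⟩

theorem mem_unip {g : GL (Fin 2) F} : g ∈ unip F ↔ g.1 0 0 = 1 ∧ g.1 1 0 = 0 ∧ g.1 1 1 = 1 := Iff.rfl

/-- The group of matrices `[[x, y], [0, x]]`: scalars times the unitriangular group. -/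
def scalUnip (F : Type*) [Field F] : Subgroup (GL (Fin 2) F) where
  carrier := {g | g.1 1 0 = 0 ∧ g.1 0 0 = g.1 1 1}
  mul_mem' := by
    rintro a b ⟨ha1, ha2⟩ ⟨hb1, hb2⟩
    simp only [Set.mem_ofPred_eq] at *
    refine ⟨?_, ?_⟩
    · rw [gl2_mul_apply]; simp [*]
    · rw [gl2_mul_apply, gl2_mul_apply]; simp [*]
  one_mem' := by simp
  inv_mem' := by
    rintro a ⟨ha1, ha2⟩
    simp only [Set.mem_ofPred_eq] at *
    obtain ⟨h1, h2, h3, h4⟩ := gl2_mul_inv_entries a
    rw [ha1] at h3 h4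
    have hd : a.1 1 1 ≠ 0 := by
      intro h; rw [h] at h4; simp at h4
    have e10 : a⁻¹.1 1 0 = 0 := by simpa [hd] using h3
    rw [e10, ha2] at h1
    refine ⟨e10, ?_⟩
    have h5 : a.1 1 1 * a⁻¹.1 0 0 = a.1 1 1 * a⁻¹.1 1 1 := by
      rw [zero_mul, zero_add] at h4
      rw [mul_zero, add_zero] at h1
      rw [h1, h4]
    exact mul_left_cancel₀ hd h5

theorem mem_scalUnip {g : GL (Fin 2) F} : g ∈ scalUnip F ↔ g.1 1 0 = 0 ∧ g.1 0 0 = g.1 1 1 := Iff.rfl

/-- An upper triangular element of `GL₂`. -/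
def upperTri (a d : Fˣ) (b : F) : GL (Fin 2) F :=
  ⟨!![(a : F), b; 0, (d : F)], !![((a⁻¹ : Fˣ) : F), -((a⁻¹ : Fˣ) : F) * b * ((d⁻¹ : Fˣ) : F); 0, ((d⁻¹ : Fˣ) : F)],
    by
      ext i j
      fin_cases i <;> fin_cases j <;> simp [Matrix.mul_apply, Fin.sum_univ_two]
      ring_nf
      simp,
    by
      ext i j
      fin_cases i <;> fin_cases j <;> simp [Matrix.mul_apply, Fin.sum_univ_two]⟩

end Cfsg.Agent.Lib.Helper5

namespace Cfsg.Agent.Lib.Helper5

open Matrix
open scoped MatrixGroups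

variable {F : Type*} [Field F]

@[simp] theorem upperTri_00 (a d : Fˣ) (b : F) : (upperTri a d b).1 0 0 = a := rfl
@[simp] theorem upperTri_01 (a d : Fˣ) (b : F) : (upperTri a d b).1 0 1 = b := rfl
@[simp] theorem upperTri_10 (a d : Fˣ) (b : F) : (upperTri a d b).1 1 0 = 0 := rfl
@[simp] theorem upperTri_11 (a d : Fˣ) (b : F) : (upperTri a d b).1 1 1 = d := rfl

theorem gl2_det_ne_zero (g : GL (Fin 2) F) : g.1 0 0 * g.1 1 1 - g.1 0 1 * g.1 1 0 ≠ 0 := by
  have := Matrix.GeneralLinearGroup.det_ne_zero g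
  rwa [Matrix.det_fin_two] at this

theorem borel_diag_ne_zero {g : GL (Fin 2) F} (hg : g ∈ borel F) : g.1 0 0 ≠ 0 ∧ g.1 1 1 ≠ 0 := by
  have h := gl2_det_ne_zero g
  rw [mem_borel.mp hg, mul_zero, sub_zero] at h
  exact ⟨left_ne_zero_of_mul h, right_ne_zero_of_mul h⟩

/-- The Borel subgroup is in bijection with `Fˣ × Fˣ × F`. -/
noncomputable def borelEquiv : borel F ≃ Fˣ × Fˣ × F where
  toFun g := (Units.mk0 _ (borel_diag_ne_zero g.2).1, Units.mk0 _ (borel_diag_ne_zero g.2).2, g.1.1 0 1)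
  invFun x := ⟨upperTri x.1 x.2.1 x.2.2, by simp [mem_borel]⟩
  left_inv g := by
    apply Subtype.ext
    apply gl2_ext <;> simp
    exact (mem_borel.mp g.2).symm
  right_inv x := by
    obtain ⟨a, d, b⟩ := x
    simp

noncomputable def unipEquiv : unip F ≃ F where
  toFun g := g.1.1 0 1
  invFun b := ⟨upperTri 1 1 b, by simp [mem_unip]⟩
  left_inv g := by
    obtain ⟨h1, h2, h3⟩ := mem_unip.mp g.2
    apply Subtype.ext
    apply gl2_ext <;> simp [h1, h2, h3]
  right_inv b := by simp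

theorem scalUnip_diag_ne_zero {g : GL (Fin 2) F} (hg : g ∈ scalUnip F) : g.1 0 0 ≠ 0 :=
  (borel_diag_ne_zero (g := g) (mem_borel.mpr (mem_scalUnip.mp hg).1)).1

noncomputable def scalUnipEquiv : scalUnip F ≃ Fˣ × F where
  toFun g := (Units.mk0 _ (scalUnip_diag_ne_zero g.2), g.1.1 0 1)
  invFun x := ⟨upperTri x.1 x.1 x.2, by simp [mem_scalUnip]⟩
  left_inv g := by
    obtain ⟨h1, h2⟩ := mem_scalUnip.mp g.2
    apply Subtype.ext
    apply gl2_ext <;> simp [h1, h2]
  right_inv x := by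
    obtain ⟨a, b⟩ := x
    simp

theorem card_units_eq [Fintype F] : Nat.card Fˣ = Fintype.card F - 1 := by
  classical
  rw [Nat.card_eq_fintype_card, Fintype.card_units]

theorem card_borel [Fintype F] : Nat.card (borel F) = (Fintype.card F - 1) ^ 2 * Fintype.card F := by
  rw [Nat.card_congr borelEquiv, Nat.card_prod, Nat.card_prod, card_units_eq, Nat.card_eq_fintype_card]
  ring

theorem card_unip [Fintype F] : Nat.card (unip F) = Fintype.card F := by
  rw [Nat.card_congr unipEquiv, Nat.card_eq_fintype_card]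

theorem card_scalUnip [Fintype F] : Nat.card (scalUnip F) = (Fintype.card F - 1) * Fintype.card F := by
  rw [Nat.card_congr scalUnipEquiv, Nat.card_prod, card_units_eq, Nat.card_eq_fintype_card]

theorem unip_le_borel : unip F ≤ borel F := fun _ hg => mem_borel.mpr (mem_unip.mp hg).2.1

/-- The normalizer of the unitriangular group is the Borel subgroup. -/
theorem normalizer_unip : Subgroup.normalizer (unip F : Set (GL (Fin 2) F)) = borel F := by
  ext g
  rw [Subgroup.mem_set_normalizer_iff']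
  constructor
  · intro h
    -- apply to n = g⁻¹ * u, u = upperTri 1 1 1
    have hu : upperTri 1 1 (1 : F) ∈ unip F := by simp [mem_unip]
    have h1 := (h (upperTri 1 1 (1 : F) * g⁻¹)).mp (by simpa using hu)
    -- g * u * g⁻¹ ∈ unip
    set y := g * (upperTri 1 1 (1 : F) * g⁻¹) with hy
    have hyg : y * g = g * upperTri 1 1 (1 : F) := by rw [hy]; group
    obtain ⟨y1, y2, y3⟩ := mem_unip.mp h1
    have e := congrArg (fun m : GL (Fin 2) F => m.1 1 1) hyg
    simp only [gl2_mul_apply, y2, y3, upperTri_01, upperTri_11] at e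
    rw [mem_borel]
    simpa using e.symm
  · intro hg n
    have hg0 := mem_borel.mp hg
    obtain ⟨ha, hd⟩ := borel_diag_ne_zero hg
    simp only [SetLike.mem_coe, mem_unip, gl2_mul_apply, hg0]
    constructor
    · rintro ⟨h1, h2, h3⟩
      have hn10 : n.1 1 0 = 0 := by
        have := h2; simp only [mul_zero, add_zero] at this
        rcases mul_eq_zero.mp this with h | h
        · exact h
        · exact absurd h ha
      have hn11 : n.1 1 1 = (g.1 1 1)⁻¹ := by
        rw [hn10] at h3; simp only [zero_mul, zero_add] at h3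
        exact eq_inv_of_mul_eq_one_left h3
      have hn00 : n.1 0 0 = (g.1 0 0)⁻¹ := by
        simp only [mul_zero, add_zero] at h1
        exact eq_inv_of_mul_eq_one_left h1
      refine ⟨?_, ?_, ?_⟩
      · rw [hn10, hn00]; simp [ha]
      · rw [hn10]; simp
      · rw [hn11]; simp [hd]
    · rintro ⟨h1, h2, h3⟩
      have hn10 : n.1 1 0 = 0 := by
        have := h2; simp only [zero_mul, zero_add] at this
        rcases mul_eq_zero.mp this with h | h
        · exact absurd h hd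
        · exact h
      have hn11 : n.1 1 1 = (g.1 1 1)⁻¹ := by
        simp only [zero_mul, zero_add] at h3
        exact eq_inv_of_mul_eq_one_right h3
      have hn00 : n.1 0 0 = (g.1 0 0)⁻¹ := by
        rw [hn10] at h1; simp only [mul_zero, add_zero] at h1
        exact eq_inv_of_mul_eq_one_right h1
      refine ⟨?_, ?_, ?_⟩
      · rw [hn00]; simp [ha]
      · rw [hn10]; simp
      · rw [hn10, hn11]; simp [hd]

end Cfsg.Agent.Lib.Helper5

namespace Cfsg.Agent.Lib.Helper5

open Matrix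
open scoped MatrixGroups Pointwise

variable {F : Type*} [Field F] [Fintype F] (p : ℕ) [Fact p.Prime] [CharP F p]

theorem card_sylow_gl2 (P : Sylow p (GL (Fin 2) F)) : Nat.card P = Fintype.card F := by
  simpa using Cfsg.Agent.S0263.result (F := F) rfl p 2 P

theorem card_unip_eq_pow_factorization :
    Nat.card (unip F) = p ^ (Nat.card (GL (Fin 2) F)).factorization p := by
  have P : Sylow p (GL (Fin 2) F) := default
  rw [card_unip, ← card_sylow_gl2 p P, Sylow.card_eq_multiplicity]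

/-- The unitriangular group as a Sylow `p`-subgroup of `GL₂(F)`. -/
noncomputable def unipSylow : Sylow p (GL (Fin 2) F) :=
  Sylow.ofCard (unip F) (card_unip_eq_pow_factorization p)

@[simp] theorem coe_unipSylow : ((unipSylow p : Sylow p (GL (Fin 2) F)) : Subgroup (GL (Fin 2) F)) = unip F := rfl

/-- Every Sylow `p`-subgroup of `GL₂(F)` is a conjugate of the unitriangular group. -/
theorem exists_smul_unipSylow_eq (P : Sylow p (GL (Fin 2) F)) :
    ∃ g : GL (Fin 2) F, g • (unipSylow p : Sylow p (GL (Fin 2) F)) = P :=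
  MulAction.exists_smul_eq _ _ _

theorem card_gl2 : Nat.card (GL (Fin 2) F) =
    (Fintype.card F ^ 2 - 1) * (Fintype.card F ^ 2 - Fintype.card F) := by
  rw [Matrix.card_GL_field, Fin.prod_univ_two]
  simp

theorem two_le_card_field : 2 ≤ Fintype.card F := Fintype.one_lt_card

/-- `GL₂(q)` has `q + 1` Sylow `p`-subgroups. -/
theorem card_sylow_gl2_eq : Nat.card (Sylow p (GL (Fin 2) F)) = Fintype.card F + 1 := by
  have h0 : Nat.card (Sylow p (GL (Fin 2) F)) =
      (Subgroup.normalizer ((unip F : Subgroup (GL (Fin 2) F)) : Set (GL (Fin 2) F))).index :=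
    Sylow.card_eq_index_normalizer (unipSylow p)
  rw [h0, normalizer_unip]
  have h1 := Subgroup.card_mul_index (borel F)
  rw [card_borel, card_gl2] at h1
  have hq := two_le_card_field (F := F)
  set q := Fintype.card F with hq'
  obtain ⟨r, hr⟩ : ∃ r, q = r + 2 := ⟨q - 2, by omega⟩
  rw [hr] at h1 ⊢
  have e1 : r + 2 - 1 = r + 1 := by omega
  have e2 : (r + 2) ^ 2 - 1 = (r + 1) * (r + 3) := by
    have : (r + 2) ^ 2 = (r + 1) * (r + 3) + 1 := by ring
    omega
  have e3 : (r + 2) ^ 2 - (r + 2) = (r + 2) * (r + 1) := by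
    have : (r + 2) ^ 2 = (r + 2) * (r + 1) + (r + 2) := by ring
    omega
  rw [e1, e2, e3] at h1
  have hpos : 0 < (r + 1) ^ 2 * (r + 2) := by positivity
  have : (r + 1) ^ 2 * (r + 2) * (borel F).index = (r + 1) ^ 2 * (r + 2) * (r + 2 + 1) := by
    rw [h1]; ring
  exact Nat.eq_of_mul_eq_mul_left hpos this

/-- The normalizer of any Sylow `p`-subgroup of `GL₂(q)` has order `q (q - 1)^2`. -/
theorem card_normalizer_sylow_gl2 (P : Sylow p (GL (Fin 2) F)) :
    Nat.card (Subgroup.normalizer ((P : Subgroup (GL (Fin 2) F)) : Set (GL (Fin 2) F))) =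
      Fintype.card F * (Fintype.card F - 1) ^ 2 := by
  have h0 : Nat.card (Sylow p (GL (Fin 2) F)) =
      (Subgroup.normalizer ((P : Subgroup (GL (Fin 2) F)) : Set (GL (Fin 2) F))).index :=
    Sylow.card_eq_index_normalizer P
  rw [card_sylow_gl2_eq] at h0
  have h1 := Subgroup.card_mul_index (Subgroup.normalizer ((P : Subgroup (GL (Fin 2) F)) : Set (GL (Fin 2) F)))
  rw [← h0, card_gl2] at h1
  have hq := two_le_card_field (F := F)
  set q := Fintype.card F with hq'
  obtain ⟨r, hr⟩ : ∃ r, q = r + 2 := ⟨q - 2, by omega⟩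
  rw [hr] at h1 ⊢
  have e1 : r + 2 - 1 = r + 1 := by omega
  have e2 : (r + 2) ^ 2 - 1 = (r + 1) * (r + 3) := by
    have : (r + 2) ^ 2 = (r + 1) * (r + 3) + 1 := by ring
    omega
  have e3 : (r + 2) ^ 2 - (r + 2) = (r + 2) * (r + 1) := by
    have : (r + 2) ^ 2 = (r + 2) * (r + 1) + (r + 2) := by ring
    omega
  rw [e2, e3] at h1
  rw [e1]
  have hpos : 0 < r + 2 + 1 := by positivity
  have : Nat.card (Subgroup.normalizer ((P : Subgroup (GL (Fin 2) F)) : Set (GL (Fin 2) F))) * (r + 2 + 1)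
      = (r + 2) * (r + 1) ^ 2 * (r + 2 + 1) := by
    rw [h1]; ring
  exact Nat.eq_of_mul_eq_mul_right hpos this

end Cfsg.Agent.Lib.Helper5

namespace Cfsg.Agent.Lib.Helper5

open Matrix
open scoped MatrixGroups Pointwise

section conj
variable {G : Type*} [Group G]

theorem card_centralizer_conj (g y : G) :
    Nat.card (Subgroup.centralizer ({g * y * g⁻¹} : Set G)) = Nat.card (Subgroup.centralizer ({y} : Set G)) := by
  refine Nat.card_congr
    { toFun := fun c => ⟨g⁻¹ * c.1 * g, ?_⟩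
      invFun := fun c => ⟨g * c.1 * g⁻¹, ?_⟩
      left_inv := fun c => by apply Subtype.ext; simp [mul_assoc]
      right_inv := fun c => by apply Subtype.ext; simp [mul_assoc] }
  · have hc := Subgroup.mem_centralizer_singleton_iff.mp c.2
    rw [Subgroup.mem_centralizer_singleton_iff]
    have : g⁻¹ * (c.1 * (g * y * g⁻¹)) * g = g⁻¹ * ((g * y * g⁻¹) * c.1) * g := by rw [hc]
    simp only [mul_assoc] at this ⊢
    simpa using this
  · have hc := Subgroup.mem_centralizer_singleton_iff.mp c.2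
    rw [Subgroup.mem_centralizer_singleton_iff]
    simp only [mul_assoc, inv_mul_cancel_left]
    rw [← mul_assoc c.1, hc]
    simp [mul_assoc]

end conj

variable {F : Type*} [Field F]

theorem unip_eq_one_iff {y : GL (Fin 2) F} (hy : y ∈ unip F) : y = 1 ↔ y.1 0 1 = 0 := by
  obtain ⟨h1, h2, h3⟩ := mem_unip.mp hy
  constructor
  · intro h; rw [h]; simp
  · intro h
    apply gl2_ext <;> simp [h1, h2, h3, h]

/-- If a nontrivial unitriangular element is conjugated into the unitriangular group by `k`,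
then `k` is upper triangular. -/
theorem mem_borel_of_conj_mem_unip {y k : GL (Fin 2) F} (hy : y ∈ unip F) (hy1 : y ≠ 1)
    (hz : k⁻¹ * y * k ∈ unip F) : k ∈ borel F := by
  obtain ⟨h1, h2, h3⟩ := mem_unip.mp hy
  obtain ⟨z1, z2, z3⟩ := mem_unip.mp hz
  have hb : y.1 0 1 ≠ 0 := fun h => hy1 ((unip_eq_one_iff hy).mpr h)
  have hyk : y * k = k * (k⁻¹ * y * k) := by group
  have e := congrArg (fun m : GL (Fin 2) F => m.1 0 0) hyk
  simp only [gl2_mul_apply (a := k) (b := k⁻¹ * y * k), gl2_mul_apply (a := y) (b := k), h1, z1, z2] at e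
  rw [mem_borel]
  have : y.1 0 1 * k.1 1 0 = 0 := by linear_combination e
  rcases mul_eq_zero.mp this with h | h
  · exact absurd h hb
  · exact h

/-- The centralizer of a nontrivial unitriangular element. -/
theorem centralizer_unip_elt {y : GL (Fin 2) F} (hy : y ∈ unip F) (hy1 : y ≠ 1) :
    Subgroup.centralizer ({y} : Set (GL (Fin 2) F)) = scalUnip F := by
  obtain ⟨h1, h2, h3⟩ := mem_unip.mp hy
  have hb : y.1 0 1 ≠ 0 := fun h => hy1 ((unip_eq_one_iff hy).mpr h)
  ext k
  rw [Subgroup.mem_centralizer_singleton_iff, mem_scalUnip]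
  constructor
  · intro h
    have e00 := congrArg (fun m : GL (Fin 2) F => m.1 0 0) h
    have e01 := congrArg (fun m : GL (Fin 2) F => m.1 0 1) h
    simp only [gl2_mul_apply, h1, h2, h3] at e00 e01
    have hk10 : k.1 1 0 = 0 := by
      have : y.1 0 1 * k.1 1 0 = 0 := by linear_combination -e00
      rcases mul_eq_zero.mp this with h | h
      · exact absurd h hb
      · exact h
    refine ⟨hk10, ?_⟩
    have : y.1 0 1 * (k.1 0 0 - k.1 1 1) = 0 := by linear_combination e01
    rcases mul_eq_zero.mp this with h | h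
    · exact absurd h hb
    · exact sub_eq_zero.mp h
  · rintro ⟨hk1, hk2⟩
    apply gl2_ext <;> simp only [gl2_mul_apply, h1, h2, h3, hk1, hk2] <;> ring

variable [Fintype F] (p : ℕ) [Fact p.Prime] [CharP F p]

theorem smul_unipSylow_coe (g : GL (Fin 2) F) :
    ((g • (unipSylow p : Sylow p (GL (Fin 2) F)) : Sylow p (GL (Fin 2) F)) : Subgroup (GL (Fin 2) F)) =
      MulAut.conj g • unip F := rfl

theorem mem_smul_unipSylow {g x : GL (Fin 2) F} :
    x ∈ ((g • (unipSylow p : Sylow p (GL (Fin 2) F)) : Sylow p (GL (Fin 2) F)) : Subgroup (GL (Fin 2) F)) ↔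
      g⁻¹ * x * g ∈ unip F := by
  rw [smul_unipSylow_coe, Subgroup.mem_pointwise_smul_iff_inv_smul_mem]
  simp [MulAut.smul_def]

/-- Distinct Sylow `p`-subgroups of `GL₂(F)` intersect trivially. -/
theorem sylow_gl2_inf_eq_bot (P Q : Sylow p (GL (Fin 2) F)) (h : P ≠ Q) :
    (P : Subgroup (GL (Fin 2) F)) ⊓ (Q : Subgroup (GL (Fin 2) F)) = ⊥ := by
  obtain ⟨g, rfl⟩ := exists_smul_unipSylow_eq p P
  obtain ⟨k, rfl⟩ := exists_smul_unipSylow_eq p Q
  rw [eq_bot_iff]
  intro x hx
  rw [Subgroup.mem_inf] at hx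
  obtain ⟨hx1, hx2⟩ := hx
  rw [mem_smul_unipSylow] at hx1 hx2
  rw [Subgroup.mem_bot]
  by_contra hx0
  apply h
  have hy1 : g⁻¹ * x * g ≠ 1 := by
    intro h1
    apply hx0
    have : x = g * (g⁻¹ * x * g) * g⁻¹ := by group
    rw [this, h1]; group
  have hk : (g⁻¹ * k) ∈ borel F := by
    apply mem_borel_of_conj_mem_unip hx1 hy1
    have : (g⁻¹ * k)⁻¹ * (g⁻¹ * x * g) * (g⁻¹ * k) = k⁻¹ * x * k := by group
    rw [this]; exact hx2
  rw [← normalizer_unip] at hk
  have h2 : (g⁻¹ * k) • (unipSylow p : Sylow p (GL (Fin 2) F)) = unipSylow p := by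
    rw [Sylow.smul_eq_iff_mem_normalizer]
    exact hk
  rw [mul_smul] at h2
  have h3 := congrArg (fun S : Sylow p (GL (Fin 2) F) => g • S) h2
  simp only [smul_inv_smul] at h3
  exact h3.symm

/-- The centralizer in `GL₂(q)` of a nontrivial element of a Sylow `p`-subgroup has order `q (q-1)`. -/
theorem card_centralizer_of_mem_sylow_gl2 (P : Sylow p (GL (Fin 2) F)) (a : GL (Fin 2) F)
    (ha : a ∈ P) (ha1 : a ≠ 1) :
    Nat.card (Subgroup.centralizer ({a} : Set (GL (Fin 2) F))) = Fintype.card F * (Fintype.card F - 1) := by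
  obtain ⟨g, rfl⟩ := exists_smul_unipSylow_eq p P
  replace ha := (mem_smul_unipSylow p).mp ha
  have hy1 : g⁻¹ * a * g ≠ 1 := by
    intro h1
    apply ha1
    have : a = g * (g⁻¹ * a * g) * g⁻¹ := by group
    rw [this, h1]; group
  have : a = g * (g⁻¹ * a * g) * g⁻¹ := by group
  rw [this, card_centralizer_conj, centralizer_unip_elt ha hy1, card_scalUnip, mul_comm]

end Cfsg.Agent.Lib.Helper5
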