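import Mathlib

set_option autoImplicit false

namespace Cfsg.Agent.Lib.Helper5

open Matrix

section glprod
variable {R : Type*} [CommRing R]
variable {l₁ l₂ : Type*} [DecidableEq l₁] [Fintype l₁] [DecidableEq l₂] [Fintype l₂]

/-- block diagonal as a monoid hom -/
def blockDiagHom : Matrix l₁ l₁ R × Matrix l₂ l₂ R →* Matrix (l₁ ⊕ l₂) (l₁ ⊕ l₂) R where
  toFun x := Matrix.fromBlocks x.1 0 0 x.2
  map_one' := Matrix.fromBlocks_one
  map_mul' x y := by
    show Matrix.fromBlocks (x.1 * y.1) 0 0 (x.2 * y.2) = _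
    rw [Matrix.fromBlocks_multiply]
    simp

/-- `GL(l₁) × GL(l₂) → GL(l₁ ⊕ l₂)` -/
def glProd : GL l₁ R × GL l₂ R →* GL (l₁ ⊕ l₂) R :=
  (Units.map blockDiagHom).comp (MulEquiv.prodUnits (M := Matrix l₁ l₁ R) (N := Matrix l₂ l₂ R)).symm.toMonoidHom

theorem glProd_val (x : GL l₁ R × GL l₂ R) :
    ((glProd x : GL (l₁ ⊕ l₂) R) : Matrix (l₁ ⊕ l₂) (l₁ ⊕ l₂) R) =
      Matrix.fromBlocks (x.1 : Matrix l₁ l₁ R) 0 0 (x.2 : Matrix l₂ l₂ R) := rfl

theorem glProd_injective : Function.Injective (glProd : GL l₁ R × GL l₂ R →* _) := by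
  intro x y h
  have h1 := congrArg (fun g : GL (l₁ ⊕ l₂) R => (g : Matrix (l₁ ⊕ l₂) (l₁ ⊕ l₂) R)) h
  simp only [glProd_val] at h1
  rw [Matrix.fromBlocks_inj] at h1
  exact Prod.ext (Units.ext h1.1) (Units.ext h1.2.2.2)

theorem det_glProd (x : GL l₁ R × GL l₂ R) :
    Matrix.GeneralLinearGroup.det (glProd x) =
      Matrix.GeneralLinearGroup.det x.1 * Matrix.GeneralLinearGroup.det x.2 := by
  apply Units.ext
  show (Matrix.fromBlocks (x.1 : Matrix l₁ l₁ R) 0 0 (x.2 : Matrix l₂ l₂ R)).det = _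
  rw [Matrix.det_fromBlocks_zero₂₁]
  rfl

end glprod

section glswap
variable {R : Type*} [CommRing R]
variable {l : Type*} [DecidableEq l] [Fintype l]

/-- the block swap matrix -/
def swapBlocks (l : Type*) [DecidableEq l] [Fintype l] (R : Type*) [CommRing R] :
    Matrix (l ⊕ l) (l ⊕ l) R := Matrix.fromBlocks 0 1 1 0

theorem swapBlocks_mul_self : swapBlocks l R * swapBlocks l R = 1 := by
  unfold swapBlocks
  rw [Matrix.fromBlocks_multiply]
  simp [Matrix.fromBlocks_one]

/-- the block swap in `GL(l ⊕ l)` -/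
def glSwap (l : Type*) [DecidableEq l] [Fintype l] (R : Type*) [CommRing R] : GL (l ⊕ l) R :=
  ⟨swapBlocks l R, swapBlocks l R, swapBlocks_mul_self, swapBlocks_mul_self⟩

theorem glSwap_mul_self : glSwap l R * glSwap l R = 1 := by
  apply Units.ext
  exact swapBlocks_mul_self

theorem glSwap_inv : (glSwap l R)⁻¹ = glSwap l R := inv_eq_of_mul_eq_one_left glSwap_mul_self

theorem glSwap_conj (a b : GL l R) :
    glSwap l R * glProd (a, b) * (glSwap l R)⁻¹ = glProd (b, a) := by
  rw [glSwap_inv]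
  apply Units.ext
  show swapBlocks l R * Matrix.fromBlocks (a : Matrix l l R) 0 0 (b : Matrix l l R) *
    swapBlocks l R = Matrix.fromBlocks (b : Matrix l l R) 0 0 (a : Matrix l l R)
  unfold swapBlocks
  rw [Matrix.fromBlocks_multiply, Matrix.fromBlocks_multiply]
  simp

theorem glSwap_not_mem_range [Nonempty l] [Nontrivial R] :
    glSwap l R ∉ (glProd : GL l R × GL l R →* _).range := by
  rintro ⟨⟨a, b⟩, h⟩
  have h1 := congrArg (fun g : GL (l ⊕ l) R => (g : Matrix (l ⊕ l) (l ⊕ l) R)) h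
  obtain ⟨i⟩ := ‹Nonempty l›
  have h2 := congrFun (congrFun h1 (Sum.inl i)) (Sum.inr i)
  simp [glProd_val, glSwap, swapBlocks] at h2

theorem det_swapBlocks : (swapBlocks l R).det = (-1) ^ Fintype.card l := by
  have e1 : swapBlocks l R =
      Matrix.fromBlocks (1 : Matrix l l R) (1 : Matrix l l R) 0 (1 : Matrix l l R) *
        Matrix.fromBlocks (1 : Matrix l l R) 0 (-1 : Matrix l l R) (1 : Matrix l l R) *
        Matrix.fromBlocks (1 : Matrix l l R) (1 : Matrix l l R) 0 (1 : Matrix l l R) *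
        Matrix.fromBlocks (-1 : Matrix l l R) 0 0 (1 : Matrix l l R) := by
    unfold swapBlocks
    rw [Matrix.fromBlocks_multiply, Matrix.fromBlocks_multiply, Matrix.fromBlocks_multiply]
    simp
  rw [e1, Matrix.det_mul, Matrix.det_mul, Matrix.det_mul, Matrix.det_fromBlocks_zero₂₁,
    Matrix.det_fromBlocks_zero₁₂, Matrix.det_fromBlocks_zero₂₁]
  simp [Matrix.det_neg]

theorem det_glSwap (h : Even (Fintype.card l)) :
    Matrix.GeneralLinearGroup.det (glSwap l R) = 1 := by
  apply Units.ext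
  show (swapBlocks l R).det = 1
  rw [det_swapBlocks, h.neg_one_pow]

end glswap

section glreindex
variable {R : Type*} [CommRing R]
variable {l l' : Type*} [DecidableEq l] [Fintype l] [DecidableEq l'] [Fintype l']

/-- reindexing isomorphism of general linear groups -/
def glReindex (e : l ≃ l') : GL l R ≃* GL l' R :=
  Units.mapEquiv (Matrix.reindexAlgEquiv R R e).toMulEquiv

theorem glReindex_val (e : l ≃ l') (g : GL l R) :
    ((glReindex e g : GL l' R) : Matrix l' l' R) = Matrix.reindex e e (g : Matrix l l R) := rfl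

theorem det_glReindex (e : l ≃ l') (g : GL l R) :
    Matrix.GeneralLinearGroup.det (glReindex e g) = Matrix.GeneralLinearGroup.det g := by
  apply Units.ext
  show (Matrix.reindex e e (g : Matrix l l R)).det = (g : Matrix l l R).det
  exact Matrix.det_reindex_self e _

end glreindex

end Cfsg.Agent.Lib.Helper5
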