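import Mathlib
import Cfsg.Agent.Lib.Helper5.SymplecticOrder

set_option autoImplicit false

namespace Cfsg.Agent.Lib.Helper5

open Matrix

/-- `s2 n = Σ_{i<n} v₂(i+1) = v₂(n!)` -/
def s2 (n : ℕ) : ℕ := ∑ i ∈ Finset.range n, padicValNat 2 (i + 1)

theorem s2_succ (n : ℕ) : s2 (n + 1) = s2 n + padicValNat 2 (n + 1) := by
  unfold s2; rw [Finset.sum_range_succ]

theorem s2_two_mul (m : ℕ) : s2 (2 * m) = m + s2 m := by
  induction m with
  | zero => simp [s2]
  | succ m ih =>
    have e : 2 * (m + 1) = (2 * m + 1) + 1 := by ring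
    rw [e, s2_succ, s2_succ, ih, s2_succ]
    have h1 : padicValNat 2 (2 * m + 1) = 0 := by
      apply padicValNat.eq_zero_of_not_dvd
      omega
    have h2 : padicValNat 2 (2 * m + 1 + 1) = 1 + padicValNat 2 (m + 1) := by
      have : 2 * m + 1 + 1 = 2 * (m + 1) := by ring
      rw [this, padicValNat.mul (by norm_num) (by omega), padicValNat_self]
    rw [h1, h2]; ring

theorem s2_two_pow (k : ℕ) : s2 (2 ^ k) + 1 = 2 ^ k := by
  induction k with
  | zero => simp [s2]
  | succ k ih =>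
    rw [pow_succ, mul_comm, s2_two_mul]
    omega

theorem padicValNat_two_pow_add {k j : ℕ} (hj : 0 < j) (hjk : j < 2 ^ k) :
    padicValNat 2 (2 ^ k + j) = padicValNat 2 j := by
  obtain ⟨a, u, hu, rfl⟩ := Nat.exists_eq_two_pow_mul_odd (Nat.pos_iff_ne_zero.1 hj)
  have hu0 : u ≠ 0 := by rintro rfl; simp at hu
  have hak : a < k := by
    by_contra h
    push Not at h
    have : 2 ^ k ≤ 2 ^ a * u := by
      calc 2 ^ k ≤ 2 ^ a := Nat.pow_le_pow_right (by norm_num) h
        _ ≤ 2 ^ a * u := Nat.le_mul_of_pos_right _ (Nat.pos_of_ne_zero hu0)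
    omega
  obtain ⟨b, rfl⟩ : ∃ b, k = a + (b + 1) := ⟨k - a - 1, by omega⟩
  have e : 2 ^ (a + (b + 1)) + 2 ^ a * u = 2 ^ a * (2 ^ (b + 1) + u) := by
    rw [pow_add]; ring
  have hodd : ¬ 2 ∣ 2 ^ (b + 1) + u := by
    rw [pow_succ]
    obtain ⟨w, rfl⟩ := hu
    omega
  have hodd' : ¬ 2 ∣ u := by
    obtain ⟨w, rfl⟩ := hu
    omega
  rw [e, padicValNat.mul (by positivity) (by omega), padicValNat.mul (by positivity) hu0,
    padicValNat.eq_zero_of_not_dvd hodd, padicValNat.eq_zero_of_not_dvd hodd']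

theorem s2_add {k r : ℕ} (hr : r < 2 ^ k) : s2 (2 ^ k + r) = s2 (2 ^ k) + s2 r := by
  induction r with
  | zero => simp [s2]
  | succ r ih =>
    have e : 2 ^ k + (r + 1) = (2 ^ k + r) + 1 := by ring
    rw [e, s2_succ, s2_succ, ih (by omega)]
    have : 2 ^ k + r + 1 = 2 ^ k + (r + 1) := by ring
    rw [this, padicValNat_two_pow_add (by omega) hr]
    ring

/-- `c = v₂(q+1) + v₂(q-1)` -/
def cq (q : ℕ) : ℕ := padicValNat 2 (q + 1) + padicValNat 2 (q - 1)

theorem padicValNat_pow_sub_one {q : ℕ} (hq : Odd q) (h1 : 1 < q) {i : ℕ} (hi : 0 < i) :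
    padicValNat 2 (q ^ (2 * i) - 1) = cq q + padicValNat 2 i := by
  have hx : ¬ 2 ∣ q := by
    obtain ⟨w, rfl⟩ := hq
    omega
  have := padicValNat.pow_two_sub_one h1 hx (n := 2 * i) (by omega) (even_two_mul i)
  rw [padicValNat.mul (by norm_num) (by omega), padicValNat_self] at this
  unfold cq
  omega

theorem factorization_card_sp {F : Type*} [Field F] [Fintype F] (hq : Odd (Fintype.card F))
    (n : ℕ) :
    (Nat.card (symplecticGroup (Fin n) F)).factorization 2 = n * cq (Fintype.card F) + s2 n := by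
  have h1 : 1 < Fintype.card F := Fintype.one_lt_card
  have hx : ¬ 2 ∣ Fintype.card F := by
    obtain ⟨w, hw⟩ := hq
    omega
  rw [card_symplecticGroup]
  have hne : ∀ i ∈ Finset.range n, Fintype.card F ^ (2 * (i + 1)) - 1 ≠ 0 := by
    intro i _
    have : 1 < Fintype.card F ^ (2 * (i + 1)) := Nat.one_lt_pow (by omega) h1
    omega
  rw [Nat.factorization_mul (by positivity) (Finset.prod_ne_zero_iff.2 hne),
    Nat.factorization_pow, Nat.factorization_prod hne]
  simp only [Finsupp.coe_add, Finsupp.coe_smul, Pi.add_apply, Pi.smul_apply, smul_eq_mul,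
    Finsupp.coe_finset_sum, Finset.sum_apply]
  rw [Nat.factorization_eq_zero_of_not_dvd hx, mul_zero, zero_add]
  have : ∀ i ∈ Finset.range n, (Fintype.card F ^ (2 * (i + 1)) - 1).factorization 2 =
      cq (Fintype.card F) + padicValNat 2 (i + 1) := by
    intro i _
    rw [Nat.factorization_def _ Nat.prime_two, padicValNat_pow_sub_one hq h1 (by omega)]
  rw [Finset.sum_congr rfl this, Finset.sum_add_distrib, Finset.sum_const, Finset.card_range,
    smul_eq_mul]
  rfl

end Cfsg.Agent.Lib.Helper5
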