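import Mathlib
import Cfsg.Agent.Lib.Helper5.SpVal

set_option autoImplicit false

namespace Cfsg.Agent.Lib.Helper5

open Matrix

theorem factorization_card_GL {F : Type*} [Field F] [Fintype F] (hq : Odd (Fintype.card F))
    (n : ℕ) :
    (Nat.card (GL (Fin n) F)).factorization 2 =
      ∑ j ∈ Finset.range n, padicValNat 2 (Fintype.card F ^ (j + 1) - 1) := by
  have h1 : 1 < Fintype.card F := Fintype.one_lt_card
  have hx : ¬ 2 ∣ Fintype.card F := by
    obtain ⟨w, hw⟩ := hq
    omega
  rw [Matrix.card_GL_field, Fin.prod_univ_eq_prod_range (fun i => Fintype.card F ^ n - Fintype.card F ^ i) n]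
  have hne : ∀ i ∈ Finset.range n, Fintype.card F ^ n - Fintype.card F ^ i ≠ 0 := by
    intro i hi
    have : Fintype.card F ^ i < Fintype.card F ^ n :=
      Nat.pow_lt_pow_right h1 (Finset.mem_range.1 hi)
    omega
  rw [Nat.factorization_prod hne]
  simp only [Finsupp.coe_finset_sum, Finset.sum_apply]
  have key : ∀ i ∈ Finset.range n, (Fintype.card F ^ n - Fintype.card F ^ i).factorization 2 =
      padicValNat 2 (Fintype.card F ^ (n - 1 - i + 1) - 1) := by
    intro i hi
    have hin : i < n := Finset.mem_range.1 hi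
    have e : Fintype.card F ^ n - Fintype.card F ^ i =
        Fintype.card F ^ i * (Fintype.card F ^ (n - 1 - i + 1) - 1) := by
      have : n = i + (n - 1 - i + 1) := by omega
      conv_lhs => rw [this, pow_add]
      rw [Nat.mul_sub, mul_one]
    have hne2 : Fintype.card F ^ (n - 1 - i + 1) - 1 ≠ 0 := by
      have : 1 < Fintype.card F ^ (n - 1 - i + 1) := Nat.one_lt_pow (by omega) h1
      omega
    rw [e, Nat.factorization_mul (by positivity) hne2, Nat.factorization_pow]
    simp only [Finsupp.coe_add, Finsupp.coe_smul, Pi.add_apply, Pi.smul_apply, smul_eq_mul]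
    rw [Nat.factorization_eq_zero_of_not_dvd hx, mul_zero, zero_add,
      Nat.factorization_def _ Nat.prime_two]
  rw [Finset.sum_congr rfl key]
  exact Finset.sum_range_reflect (fun j => padicValNat 2 (Fintype.card F ^ (j + 1) - 1)) n

theorem padicValNat_two_of_mod_four {x : ℕ} (h : x % 4 = 2) : padicValNat 2 x = 1 := by
  obtain ⟨y, rfl⟩ : ∃ y, x = 2 * (2 * y + 1) := ⟨x / 4, by omega⟩
  rw [padicValNat.mul (by norm_num) (by omega), padicValNat_self,
    padicValNat.eq_zero_of_not_dvd (by omega)]

theorem pow_odd_mod_four {q : ℕ} (hq : q % 4 = 3) (m : ℕ) : q ^ (2 * m + 1) % 4 = 3 := by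
  induction m with
  | zero => simpa using hq
  | succ m ih =>
    have : q ^ (2 * (m + 1) + 1) = q ^ (2 * m + 1) * q * q := by ring
    rw [this, Nat.mul_mod, Nat.mul_mod (q ^ (2 * m + 1)), ih, hq]

/-- `q ≡ 3 mod 4`: `v₂ |GL_{2m}(q)|`. -/
theorem sum_val_three {q : ℕ} (hq : q % 4 = 3) (m : ℕ) :
    ∑ j ∈ Finset.range (2 * m), padicValNat 2 (q ^ (j + 1) - 1) = m * (cq q + 1) + s2 m := by
  have hodd : Odd q := ⟨q / 2, by omega⟩
  have h1 : 1 < q := by omega
  induction m with
  | zero => simp [s2]
  | succ m ih =>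
    have e : 2 * (m + 1) = 2 * m + 1 + 1 := by ring
    rw [e, Finset.sum_range_succ, Finset.sum_range_succ, ih, s2_succ]
    have t1 : padicValNat 2 (q ^ (2 * m + 1) - 1) = 1 := by
      apply padicValNat_two_of_mod_four
      have := pow_odd_mod_four hq m
      have hpos : 0 < q ^ (2 * m + 1) := by positivity
      omega
    have t2 : padicValNat 2 (q ^ (2 * m + 1 + 1) - 1) = cq q + padicValNat 2 (m + 1) := by
      have : 2 * m + 1 + 1 = 2 * (m + 1) := by ring
      rw [this]
      exact padicValNat_pow_sub_one hodd h1 (by omega)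
    rw [t1, t2]; ring

theorem padicValNat_pow_sub_one_of_mod_four_one {q : ℕ} (hq : q % 4 = 1) (h1 : 1 < q) {j : ℕ}
    (hj : 0 < j) : padicValNat 2 (q ^ j - 1) = padicValNat 2 (q - 1) + padicValNat 2 j := by
  have hodd : Odd q := ⟨q / 2, by omega⟩
  have hx : ¬ 2 ∣ q := by omega
  rcases Nat.even_or_odd j with he | ho
  · have := padicValNat.pow_two_sub_one h1 hx (n := j) (by omega) he
    have h2 : padicValNat 2 (q + 1) = 1 := padicValNat_two_of_mod_four (by omega)
    omega
  · -- odd exponent
    have hgeom := geom_sum_mul_of_one_le (x := q) (by omega) j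
    have hsum_odd : ¬ 2 ∣ ∑ i ∈ Finset.range j, q ^ i := by
      have : (∑ i ∈ Finset.range j, q ^ i) % 2 = j % 2 := by
        clear hgeom hj ho
        induction j with
        | zero => simp
        | succ j ih =>
          rw [Finset.sum_range_succ, Nat.add_mod, ih]
          have : q ^ j % 2 = 1 := by
            rw [Nat.pow_mod]
            have : q % 2 = 1 := by omega
            rw [this]; simp
          omega
      obtain ⟨w, hw⟩ := ho
      omega
    have hne : q - 1 ≠ 0 := by omega
    have hne2 : ∑ i ∈ Finset.range j, q ^ i ≠ 0 := by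
      intro h; rw [h] at hsum_odd; exact hsum_odd (dvd_zero _)
    rw [← hgeom, padicValNat.mul hne2 hne, padicValNat.eq_zero_of_not_dvd hsum_odd, zero_add]
    have : padicValNat 2 j = 0 := by
      apply padicValNat.eq_zero_of_not_dvd
      obtain ⟨w, hw⟩ := ho
      omega
    rw [this, add_zero]

/-- `q ≡ 1 mod 4`: `v₂ |GL_n(q)|`. -/
theorem sum_val_one {q : ℕ} (hq : q % 4 = 1) (h1 : 1 < q) (n : ℕ) :
    ∑ j ∈ Finset.range n, padicValNat 2 (q ^ (j + 1) - 1) = n * padicValNat 2 (q - 1) + s2 n := by
  induction n with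
  | zero => simp [s2]
  | succ n ih =>
    rw [Finset.sum_range_succ, ih, s2_succ, padicValNat_pow_sub_one_of_mod_four_one hq h1 (by omega)]
    ring

end Cfsg.Agent.Lib.Helper5
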