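import Mathlib
import Cfsg.Prelude.Def_Transfer

set_option autoImplicit false

namespace Cfsg.Agent.Lib.Helper5

open Cfsg
open scoped commutatorElement

/-- Data carried along the tower of Sylow 2-subgroups: squares lie in the derived subgroup, there is a
normal elementary abelian subgroup of order `2 ^ n`, and the derived length is exactly `d`. -/
structure TowerData (P : Type*) [Group P] (n d : ℕ) : Prop where
  sq : ∀ x : P, x ^ 2 ∈ commutator P
  elem : ∃ E : Subgroup P, E.Normal ∧ IsElementaryAbelian 2 E ∧ Nat.card E = 2 ^ n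
  dl_top : derivedSeries P d = ⊥
  dl_lt : ∀ i, i < d → derivedSeries P i ≠ ⊥

theorem sq_mem_commutator_of_closure {K : Type*} [Group K] (S : Set K)
    (hS : Subgroup.closure S = ⊤) (h : ∀ s ∈ S, s ^ 2 ∈ commutator K) (x : K) :
    x ^ 2 ∈ commutator K := by
  let f : K →* Abelianization K := (powMonoidHom 2).comp Abelianization.of
  have hker : ∀ y : K, f y = 1 ↔ y ^ 2 ∈ commutator K := by
    intro y
    have : f y = Abelianization.of (y ^ 2) := by simp [f]
    rw [this, ← Abelianization.ker_of, MonoidHom.mem_ker]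
  have hle : Subgroup.closure S ≤ f.ker := by
    rw [Subgroup.closure_le]
    intro s hs
    exact (hker s).2 (h s hs)
  rw [hS] at hle
  exact (hker x).1 (hle (Subgroup.mem_top x))

theorem derivedSeries_prod (P₁ P₂ : Type*) [Group P₁] [Group P₂] (i : ℕ) :
    derivedSeries (P₁ × P₂) i = (derivedSeries P₁ i).prod (derivedSeries P₂ i) := by
  induction i with
  | zero => simp [Subgroup.top_prod_top]
  | succ i ih =>
    rw [derivedSeries_succ, derivedSeries_succ, derivedSeries_succ, ih, Subgroup.commutator_prod_prod]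

theorem commutator_prod (P₁ P₂ : Type*) [Group P₁] [Group P₂] :
    commutator (P₁ × P₂) = (commutator P₁).prod (commutator P₂) := by
  rw [← derivedSeries_one, ← derivedSeries_one, ← derivedSeries_one, derivedSeries_prod]

theorem TowerData.of_equiv {P Q : Type*} [Group P] [Group Q] {n d : ℕ} (h : TowerData P n d)
    (e : P ≃* Q) : TowerData Q n d := by
  have hmap : ∀ i, (derivedSeries P i).map e.toMonoidHom = derivedSeries Q i := fun i =>
    map_derivedSeries_eq (f := e.toMonoidHom) e.surjective i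
  refine ⟨?_, ?_, ?_, ?_⟩
  · intro x
    have := h.sq (e.symm x)
    rw [← derivedSeries_one] at this ⊢
    rw [← hmap 1]
    refine ⟨_, this, ?_⟩
    simp
  · obtain ⟨E, hEn, ⟨hEc, hEe⟩, hEcard⟩ := h.elem
    refine ⟨E.map e.toMonoidHom, ?_, ⟨?_, ?_⟩, ?_⟩
    · exact hEn.map e.toMonoidHom e.surjective
    · refine ⟨⟨?_⟩⟩
      rintro ⟨a, ha⟩ ⟨b, hb⟩
      obtain ⟨a', ha', rfl⟩ := ha
      obtain ⟨b', hb', rfl⟩ := hb
      apply Subtype.ext
      have := hEc.is_comm.comm ⟨a', ha'⟩ ⟨b', hb'⟩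
      have h2 : a' * b' = b' * a' := congrArg Subtype.val this
      show e.toMonoidHom a' * e.toMonoidHom b' = e.toMonoidHom b' * e.toMonoidHom a'
      rw [← map_mul, ← map_mul, h2]
    · rintro a ⟨a', ha', rfl⟩
      rw [← map_pow, hEe a' ha', map_one]
    · rw [← hEcard]
      exact (Nat.card_congr (E.equivMapOfInjective e.toMonoidHom e.injective).toEquiv).symm
  · rw [← hmap d, h.dl_top, Subgroup.map_bot]
  · intro i hi hbot
    apply h.dl_lt i hi
    rw [← hmap i] at hbot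
    exact (Subgroup.map_eq_bot_iff_of_injective _ e.injective).1 hbot

theorem TowerData.prod {P₁ P₂ : Type*} [Group P₁] [Group P₂] {n₁ d₁ n₂ d₂ : ℕ}
    (h₁ : TowerData P₁ n₁ d₁) (h₂ : TowerData P₂ n₂ d₂) :
    TowerData (P₁ × P₂) (n₁ + n₂) (max d₁ d₂) := by
  have hanti₁ := derivedSeries_antitone (G := P₁)
  have hanti₂ := derivedSeries_antitone (G := P₂)
  refine ⟨?_, ?_, ?_, ?_⟩
  · rintro ⟨x, y⟩
    rw [commutator_prod]
    exact ⟨h₁.sq x, h₂.sq y⟩
  · obtain ⟨E₁, hn₁, ⟨hc₁, he₁⟩, hcard₁⟩ := h₁.elem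
    obtain ⟨E₂, hn₂, ⟨hc₂, he₂⟩, hcard₂⟩ := h₂.elem
    refine ⟨E₁.prod E₂, Subgroup.prod_normal E₁ E₂, ⟨?_, ?_⟩, ?_⟩
    · refine ⟨⟨?_⟩⟩
      rintro ⟨⟨a₁, a₂⟩, ha⟩ ⟨⟨b₁, b₂⟩, hb⟩
      apply Subtype.ext
      have e1 : a₁ * b₁ = b₁ * a₁ :=
        congrArg Subtype.val (hc₁.is_comm.comm ⟨a₁, ha.1⟩ ⟨b₁, hb.1⟩)
      have e2 : a₂ * b₂ = b₂ * a₂ :=
        congrArg Subtype.val (hc₂.is_comm.comm ⟨a₂, ha.2⟩ ⟨b₂, hb.2⟩)
      show (a₁ * b₁, a₂ * b₂) = (b₁ * a₁, b₂ * a₂)
      rw [e1, e2]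
    · rintro ⟨a₁, a₂⟩ ha
      show (a₁ ^ 2, a₂ ^ 2) = 1
      rw [he₁ a₁ ha.1, he₂ a₂ ha.2]; rfl
    · rw [Nat.card_congr (Subgroup.prodEquiv E₁ E₂).toEquiv, Nat.card_prod, hcard₁, hcard₂, pow_add]
  · rw [derivedSeries_prod]
    have e1 : derivedSeries P₁ (max d₁ d₂) = ⊥ :=
      le_bot_iff.1 (h₁.dl_top ▸ hanti₁ (le_max_left d₁ d₂))
    have e2 : derivedSeries P₂ (max d₁ d₂) = ⊥ :=
      le_bot_iff.1 (h₂.dl_top ▸ hanti₂ (le_max_right d₁ d₂))
    rw [e1, e2, Subgroup.bot_prod_bot]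
  · intro i hi hbot
    rw [derivedSeries_prod, Subgroup.prod_eq_bot_iff] at hbot
    rcases lt_max_iff.1 hi with h | h
    · exact h₁.dl_lt i h hbot.1
    · exact h₂.dl_lt i h hbot.2

section double
variable {P K : Type*} [Group P] [Group K]
variable (ι : P × P →* K) (t : K)

/-- hypotheses of the doubling lemma -/
structure DoubleHyp : Prop where
  inj : Function.Injective ι
  sq : t * t = 1
  not_mem : t ∉ ι.range
  conj : ∀ a b, t * ι (a, b) * t⁻¹ = ι (b, a)
  gen : ∀ k : K, k ∈ ι.range ∨ t * k ∈ ι.range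

variable {ι t}

theorem DoubleHyp.inv_eq (H : DoubleHyp ι t) : t⁻¹ = t := inv_eq_of_mul_eq_one_left H.sq

theorem DoubleHyp.conj' (H : DoubleHyp ι t) (r : K) (hr : r ∈ ι.range) : t * r * t⁻¹ ∈ ι.range := by
  obtain ⟨⟨a, b⟩, rfl⟩ := hr
  rw [H.conj]; exact ⟨_, rfl⟩

theorem DoubleHyp.normal (H : DoubleHyp ι t) : ι.range.Normal := by
  refine ⟨fun n hn g => ?_⟩
  rcases H.gen g with hg | hg
  · exact ι.range.mul_mem (ι.range.mul_mem hg hn) (ι.range.inv_mem hg)
  · have hg' : g = t * (t * g) := by rw [← mul_assoc, H.sq, one_mul]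
    have h1 : (t * g) * n * (t * g)⁻¹ ∈ ι.range :=
      ι.range.mul_mem (ι.range.mul_mem hg hn) (ι.range.inv_mem hg)
    have h2 := H.conj' _ h1
    have : g * n * g⁻¹ = t * ((t * g) * n * (t * g)⁻¹) * t⁻¹ := by
      rw [H.inv_eq]
      have e : (t * g)⁻¹ = g⁻¹ * t := by rw [mul_inv_rev, H.inv_eq]
      rw [e]
      have : t * (t * g * n * (g⁻¹ * t)) * t = (t * t) * g * n * g⁻¹ * (t * t) := by group
      rw [this, H.sq, one_mul, mul_one]
    rw [this]; exact h2

theorem DoubleHyp.commutator_le (H : DoubleHyp ι t) : commutator K ≤ ι.range := by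
  haveI := H.normal
  rw [commutator_def, Subgroup.commutator_le]
  intro g₁ _ g₂ _
  rw [← QuotientGroup.eq_one_iff]
  have key : ∀ g : K, (g : K ⧸ ι.range) = 1 ∨ (g : K ⧸ ι.range) = (t : K ⧸ ι.range) := by
    intro g
    rcases H.gen g with hg | hg
    · left; exact (QuotientGroup.eq_one_iff g).2 hg
    · right
      have : ((t * g : K) : K ⧸ ι.range) = 1 := (QuotientGroup.eq_one_iff _).2 hg
      rw [QuotientGroup.mk_mul] at this
      have ht : ((t : K) : K ⧸ ι.range) * (t : K ⧸ ι.range) = 1 := by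
        rw [← QuotientGroup.mk_mul, H.sq]; rfl
      calc (g : K ⧸ ι.range) = ((t : K ⧸ ι.range) * (t : K ⧸ ι.range)) * (g : K ⧸ ι.range) := by
            rw [ht, one_mul]
        _ = (t : K ⧸ ι.range) * ((t : K ⧸ ι.range) * (g : K ⧸ ι.range)) := mul_assoc _ _ _
        _ = (t : K ⧸ ι.range) := by rw [this, mul_one]
  have hc : (g₁ : K ⧸ ι.range) * (g₂ : K ⧸ ι.range) = (g₂ : K ⧸ ι.range) * (g₁ : K ⧸ ι.range) := by
    rcases key g₁ with h1 | h1 <;> rcases key g₂ with h2 | h2 <;> rw [h1, h2] <;> simp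
  show ((⁅g₁, g₂⁆ : K) : K ⧸ ι.range) = 1
  rw [commutatorElement_def, QuotientGroup.mk_mul, QuotientGroup.mk_mul, QuotientGroup.mk_mul,
    QuotientGroup.mk_inv, QuotientGroup.mk_inv, hc]
  group

theorem DoubleHyp.derivedSeries_succ_le (H : DoubleHyp ι t) (i : ℕ) :
    derivedSeries K (i + 1) ≤ (derivedSeries (P × P) i).map ι := by
  induction i with
  | zero =>
    rw [derivedSeries_one, derivedSeries_zero, ← MonoidHom.range_eq_map]
    exact H.commutator_le
  | succ i ih =>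
    rw [derivedSeries_succ, derivedSeries_succ (P × P), Subgroup.map_commutator]
    exact Subgroup.commutator_mono ih ih

theorem DoubleHyp.le_map_fst (H : DoubleHyp ι t) (j : ℕ) :
    derivedSeries P j ≤ ((derivedSeries K (j + 1)).comap ι).map (MonoidHom.fst P P) := by
  induction j with
  | zero =>
    intro x _
    refine ⟨(x, x⁻¹), ?_, rfl⟩
    show ι (x, x⁻¹) ∈ derivedSeries K (0 + 1)
    rw [zero_add, derivedSeries_one, commutator_def]
    have : ι (x, x⁻¹) = ⁅ι (x, 1), t⁆ := by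
      rw [commutatorElement_def]
      have h1 : t * (ι (x, 1))⁻¹ * t⁻¹ = ι (1, x⁻¹) := by
        rw [← map_inv, Prod.inv_mk, inv_one, H.conj]
      have : ι (x, 1) * t * (ι (x, 1))⁻¹ * t⁻¹ = ι (x, 1) * (t * (ι (x, 1))⁻¹ * t⁻¹) := by group
      rw [this, h1, ← map_mul]
      simp
    rw [this]
    exact Subgroup.commutator_mem_commutator (Subgroup.mem_top _) (Subgroup.mem_top _)
  | succ j ih =>
    rw [derivedSeries_succ, Subgroup.commutator_le]
    intro x hx y hy
    obtain ⟨a, ha, rfl⟩ := ih hx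
    obtain ⟨b, hb, rfl⟩ := ih hy
    refine ⟨⁅a, b⁆, ?_, by simp [commutatorElement_def]⟩
    show ι ⁅a, b⁆ ∈ derivedSeries K (j + 1 + 1)
    rw [derivedSeries_succ, map_commutatorElement]
    exact Subgroup.commutator_mem_commutator ha hb

theorem DoubleHyp.index_eq_two (H : DoubleHyp ι t) : ι.range.index = 2 := by
  haveI := H.normal
  rw [Subgroup.index_eq_two_iff]
  refine ⟨t, fun b => ?_⟩
  have hbt : b * t ∈ ι.range ↔ t * b ∈ ι.range := by
    constructor
    · intro h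
      have := H.conj' _ h
      rwa [mul_assoc, mul_assoc, mul_inv_cancel, mul_one] at this
    · intro h
      have := H.conj' _ h
      rw [H.inv_eq, ← mul_assoc, H.sq, one_mul] at this
      exact this
  rcases H.gen b with hb | hb
  · right
    refine ⟨hb, fun h => H.not_mem ?_⟩
    have := ι.range.mul_mem (ι.range.inv_mem hb) h
    rwa [inv_mul_cancel_left] at this
  · left
    refine ⟨hbt.2 hb, fun h => H.not_mem ?_⟩
    have := ι.range.mul_mem hb (ι.range.inv_mem h)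
    rwa [mul_inv_cancel_right] at this

theorem DoubleHyp.card [Finite P] (H : DoubleHyp ι t) : Nat.card K = 2 * Nat.card P ^ 2 := by
  rw [← Subgroup.card_mul_index ι.range, H.index_eq_two,
    Nat.card_congr (MonoidHom.ofInjective H.inj).toEquiv.symm, Nat.card_prod]
  ring

theorem DoubleHyp.towerData (H : DoubleHyp ι t) {n d : ℕ} (h : TowerData P n d) :
    TowerData K (2 * n) (d + 1) := by
  refine ⟨?_, ?_, ?_, ?_⟩
  · -- squares
    apply sq_mem_commutator_of_closure ({t} ∪ Set.range ι)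
    · rw [eq_top_iff]
      intro k _
      rcases H.gen k with hk | hk
      · exact Subgroup.subset_closure (Or.inr hk)
      · have hk' : k = t * (t * k) := by rw [← mul_assoc, H.sq, one_mul]
        rw [hk']
        exact Subgroup.mul_mem _ (Subgroup.subset_closure (Or.inl rfl))
          (Subgroup.subset_closure (Or.inr hk))
    · rintro s (hs | ⟨⟨a, b⟩, rfl⟩)
      · rw [Set.mem_singleton_iff] at hs
        rw [hs, pow_two, H.sq]; exact Subgroup.one_mem _
      · rw [← map_pow]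
        have h1 : ((a, b) : P × P) ^ 2 ∈ commutator (P × P) := by
          rw [commutator_prod]; exact ⟨h.sq a, h.sq b⟩
        have h2 : (commutator (P × P)).map ι ≤ commutator K := by
          rw [commutator_def, Subgroup.map_commutator, commutator_def]
          exact Subgroup.commutator_mono le_top le_top
        exact h2 ⟨_, h1, rfl⟩
  · obtain ⟨E, hEn, ⟨hEc, hEe⟩, hEcard⟩ := h.elem
    refine ⟨(E.prod E).map ι, ?_, ⟨?_, ?_⟩, ?_⟩
    · -- normal
      have hr : ∀ r ∈ ι.range, ∀ e ∈ (E.prod E).map ι, r * e * r⁻¹ ∈ (E.prod E).map ι := by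
        rintro _ ⟨⟨a, b⟩, rfl⟩ _ ⟨⟨e₁, e₂⟩, he, rfl⟩
        refine ⟨(a * e₁ * a⁻¹, b * e₂ * b⁻¹), ⟨hEn.conj_mem e₁ he.1 a, hEn.conj_mem e₂ he.2 b⟩, ?_⟩
        rw [← map_inv, ← map_mul, ← map_mul]; rfl
      have ht : ∀ e ∈ (E.prod E).map ι, t * e * t⁻¹ ∈ (E.prod E).map ι := by
        rintro _ ⟨⟨e₁, e₂⟩, he, rfl⟩
        rw [H.conj]
        exact ⟨(e₂, e₁), ⟨he.2, he.1⟩, rfl⟩
      refine ⟨fun e he g => ?_⟩
      rcases H.gen g with hg | hg
      · exact hr g hg e he
      · have h1 := ht _ (hr _ hg e he)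
        have : g * e * g⁻¹ = t * ((t * g) * e * (t * g)⁻¹) * t⁻¹ := by
          rw [H.inv_eq]
          have e' : (t * g)⁻¹ = g⁻¹ * t := by rw [mul_inv_rev, H.inv_eq]
          rw [e']
          have : t * (t * g * e * (g⁻¹ * t)) * t = (t * t) * g * e * g⁻¹ * (t * t) := by group
          rw [this, H.sq, one_mul, mul_one]
        rw [this]; exact h1
    · refine ⟨⟨?_⟩⟩
      rintro ⟨_, ⟨⟨a₁, a₂⟩, ha, rfl⟩⟩ ⟨_, ⟨⟨b₁, b₂⟩, hb, rfl⟩⟩
      apply Subtype.ext
      have e1 : a₁ * b₁ = b₁ * a₁ :=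
        congrArg Subtype.val (hEc.is_comm.comm ⟨a₁, ha.1⟩ ⟨b₁, hb.1⟩)
      have e2 : a₂ * b₂ = b₂ * a₂ :=
        congrArg Subtype.val (hEc.is_comm.comm ⟨a₂, ha.2⟩ ⟨b₂, hb.2⟩)
      show ι (a₁, a₂) * ι (b₁, b₂) = ι (b₁, b₂) * ι (a₁, a₂)
      rw [← map_mul, ← map_mul]
      show ι (a₁ * b₁, a₂ * b₂) = ι (b₁ * a₁, b₂ * a₂)
      rw [e1, e2]
    · rintro _ ⟨⟨a₁, a₂⟩, ha, rfl⟩
      rw [← map_pow]
      show ι (a₁ ^ 2, a₂ ^ 2) = 1
      rw [hEe a₁ ha.1, hEe a₂ ha.2]
      exact map_one ι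
    · rw [← Nat.card_congr ((E.prod E).equivMapOfInjective ι H.inj).toEquiv,
        Nat.card_congr (Subgroup.prodEquiv E E).toEquiv, Nat.card_prod, hEcard]
      ring
  · have := H.derivedSeries_succ_le d
    rw [derivedSeries_prod, h.dl_top, Subgroup.bot_prod_bot, Subgroup.map_bot] at this
    exact le_bot_iff.1 this
  · intro i hi hbot
    rcases i with _ | j
    · rw [derivedSeries_zero] at hbot
      apply H.not_mem
      have : t ∈ (⊥ : Subgroup K) := hbot ▸ Subgroup.mem_top t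
      rw [Subgroup.mem_bot] at this
      rw [this]; exact Subgroup.one_mem _
    · have hj : j < d := by omega
      apply h.dl_lt j hj
      have := H.le_map_fst j
      rw [hbot] at this
      have h2 : (⊥ : Subgroup K).comap ι = ⊥ := by
        show ι.ker = ⊥
        exact (MonoidHom.ker_eq_bot_iff ι).2 H.inj
      rw [h2, Subgroup.map_bot] at this
      exact le_bot_iff.1 this

end double

end Cfsg.Agent.Lib.Helper5
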