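import Mathlib
import Cfsg.Agent.Lib.Helper5.SylowTower

set_option autoImplicit false

namespace Cfsg.Agent.Lib.Helper5

open Cfsg
open scoped commutatorElement



section internal
variable {G : Type*} [Group G]

/-- Given `N ≤ G` and `t` with `t * t = 1` normalizing `N`: the subgroup `N ∪ tN`. -/
def doubleSubgroup (N : Subgroup G) (t : G) (ht : t * t = 1) (hN : ∀ n ∈ N, t * n * t⁻¹ ∈ N) :
    Subgroup G where
  carrier := {k | k ∈ N ∨ t * k ∈ N}
  one_mem' := Or.inl N.one_mem
  mul_mem' := by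
    have hinv : t⁻¹ = t := inv_eq_of_mul_eq_one_left ht
    rintro x y (hx | hx) (hy | hy)
    · exact Or.inl (N.mul_mem hx hy)
    · right
      have : t * (x * y) = (t * x * t⁻¹) * (t * y) := by group
      rw [this]; exact N.mul_mem (hN x hx) hy
    · right
      rw [← mul_assoc]; exact N.mul_mem hx hy
    · left
      have : x * y = (t * (t * x) * t⁻¹) * (t * y) := by
        rw [hinv]
        have : t * (t * x) * t * (t * y) = (t * t) * x * (t * t) * y := by group
        rw [this, ht, one_mul, mul_one]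
      rw [this]; exact N.mul_mem (hN _ hx) hy
  inv_mem' := by
    have hinv : t⁻¹ = t := inv_eq_of_mul_eq_one_left ht
    rintro x (hx | hx)
    · exact Or.inl (N.inv_mem hx)
    · right
      have : t * x⁻¹ = t * (t * x)⁻¹ * t⁻¹ := by
        rw [mul_inv_rev, hinv]
        have : t * (x⁻¹ * t) * t = t * x⁻¹ * (t * t) := by group
        rw [this, ht, mul_one]
      rw [this]; exact hN _ (N.inv_mem hx)

theorem mem_doubleSubgroup {N : Subgroup G} {t : G} {ht : t * t = 1}
    {hN : ∀ n ∈ N, t * n * t⁻¹ ∈ N} {k : G} :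
    k ∈ doubleSubgroup N t ht hN ↔ k ∈ N ∨ t * k ∈ N := Iff.rfl

theorem exists_double {P : Type*} [Group P] [Finite P] (ι₀ : P × P →* G)
    (hinj : Function.Injective ι₀) (t : G) (ht : t * t = 1) (hnot : t ∉ ι₀.range)
    (hconj : ∀ a b, t * ι₀ (a, b) * t⁻¹ = ι₀ (b, a)) {n d : ℕ} (h : TowerData P n d) :
    ∃ K : Subgroup G, Nat.card K = 2 * Nat.card P ^ 2 ∧ TowerData K (2 * n) (d + 1) := by
  have hN : ∀ n ∈ ι₀.range, t * n * t⁻¹ ∈ ι₀.range := by
    rintro _ ⟨⟨a, b⟩, rfl⟩
    rw [hconj]; exact ⟨_, rfl⟩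
  let K : Subgroup G := doubleSubgroup ι₀.range t ht hN
  have hle : ∀ x, ι₀ x ∈ K := fun x => Or.inl ⟨x, rfl⟩
  let ι : P × P →* K := ι₀.codRestrict K hle
  have htK : t ∈ K := Or.inr (by rw [ht]; exact Subgroup.one_mem _)
  let t' : K := ⟨t, htK⟩
  have hrange : ∀ k : K, k ∈ ι.range ↔ (k : G) ∈ ι₀.range := by
    intro k
    constructor
    · rintro ⟨x, rfl⟩; exact ⟨x, rfl⟩
    · rintro ⟨x, hx⟩; exact ⟨x, Subtype.ext hx⟩
  have H : DoubleHyp ι t' := by
    refine ⟨?_, ?_, ?_, ?_, ?_⟩
    · intro x y hxy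
      apply hinj
      exact congrArg Subtype.val hxy
    · exact Subtype.ext ht
    · intro hmem
      exact hnot ((hrange t').1 hmem)
    · intro a b
      apply Subtype.ext
      exact hconj a b
    · intro k
      rcases k.2 with hk | hk
      · exact Or.inl ((hrange k).2 hk)
      · exact Or.inr ((hrange (t' * k)).2 hk)
  exact ⟨K, H.card, H.towerData h⟩

theorem exists_prod {P₁ P₂ : Type*} [Group P₁] [Group P₂] (ι₀ : P₁ × P₂ →* G)
    (hinj : Function.Injective ι₀) {n₁ d₁ n₂ d₂ : ℕ} (h₁ : TowerData P₁ n₁ d₁)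
    (h₂ : TowerData P₂ n₂ d₂) :
    ∃ K : Subgroup G, Nat.card K = Nat.card P₁ * Nat.card P₂ ∧
      TowerData K (n₁ + n₂) (max d₁ d₂) := by
  refine ⟨ι₀.range, ?_, (h₁.prod h₂).of_equiv (MonoidHom.ofInjective hinj)⟩
  rw [← Nat.card_congr (MonoidHom.ofInjective hinj).toEquiv, Nat.card_prod]

theorem TowerData.sylow [Finite G] (K : Subgroup G)
    (hK : Nat.card K = 2 ^ (Nat.card G).factorization 2) {n d : ℕ} (h : TowerData K n d)
    (P : Sylow 2 G) : TowerData P n d := by
  let Q : Sylow 2 G := Sylow.ofCard K hK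
  obtain ⟨g, hg⟩ := MulAction.exists_smul_eq G Q P
  have e : (Q : Subgroup G) ≃* ((g • Q : Sylow 2 G) : Subgroup G) := Sylow.equivSMul Q g
  rw [hg] at e
  exact h.of_equiv e

end internal

section quaternion
open QuaternionGroup

theorem towerData_quaternion (k : ℕ) (hk : 1 ≤ k) : TowerData (QuaternionGroup (2 ^ k)) 1 2 := by
  haveI : NeZero (2 ^ k) := ⟨by positivity⟩
  set n := 2 ^ k with hn
  -- a (2 i) is a commutator
  have hcomm : ∀ i : ZMod (2 * n), (a (i + i) : QuaternionGroup n) ∈ commutator (QuaternionGroup n) := by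
    intro i
    have : (a (i + i) : QuaternionGroup n) = ⁅(xa 0 : QuaternionGroup n), (a (-i) : QuaternionGroup n)⁆ := by
      rw [commutatorElement_def]
      have h1 : (xa (0 : ZMod (2 * n)) : QuaternionGroup n)⁻¹ = xa ((n : ZMod (2 * n)) + 0) := rfl
      have h2 : (a (-i) : QuaternionGroup n)⁻¹ = a (- -i) := rfl
      rw [h1, h2, xa_mul_a, xa_mul_xa, a_mul_a]
      congr 1
      have h2n : ((n : ℕ) : ZMod (2 * n)) + (n : ℕ) = 0 := by
        have : ((n : ℕ) : ZMod (2 * n)) + (n : ℕ) = ((2 * n : ℕ) : ZMod (2 * n)) := by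
          push_cast; ring
        rw [this, ZMod.natCast_self]
      linear_combination -h2n
    rw [this, commutator_def]
    exact Subgroup.commutator_mem_commutator (Subgroup.mem_top _) (Subgroup.mem_top _)
  have hnn : ((n : ℕ) : ZMod (2 * n)) = ((2 ^ (k - 1) : ℕ) : ZMod (2 * n)) + ((2 ^ (k - 1) : ℕ) : ZMod (2 * n)) := by
    rw [← Nat.cast_add, hn]
    congr 1
    obtain ⟨j, rfl⟩ : ∃ j, k = j + 1 := ⟨k - 1, by omega⟩
    simp [pow_succ]; ring
  -- commutator ≤ zpowers (a 1)
  have hder : commutator (QuaternionGroup n) ≤ Subgroup.zpowers (a 1 : QuaternionGroup n) := by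
    rw [commutator_def, Subgroup.commutator_le]
    have ha : ∀ i : ZMod (2 * n), (a i : QuaternionGroup n) ∈ Subgroup.zpowers (a 1 : QuaternionGroup n) := by
      intro i
      have h : (a 1 : QuaternionGroup n) ^ i.val = a i := by
        rw [a_one_pow, ZMod.natCast_zmod_val]
      rw [← h]
      exact Subgroup.npow_mem_zpowers _ _
    rintro (i | i) _ (j | j) _
    · rw [commutatorElement_def]
      have h2 : (a i : QuaternionGroup n)⁻¹ = a (-i) := rfl
      have h3 : (a j : QuaternionGroup n)⁻¹ = a (-j) := rfl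
      rw [h2, h3, a_mul_a, a_mul_a, a_mul_a]; exact ha _
    · rw [commutatorElement_def]
      have h2 : (a i : QuaternionGroup n)⁻¹ = a (-i) := rfl
      have h3 : (xa j : QuaternionGroup n)⁻¹ = xa ((n : ZMod (2 * n)) + j) := rfl
      rw [h2, h3, a_mul_xa, xa_mul_a, xa_mul_xa]; exact ha _
    · rw [commutatorElement_def]
      have h2 : (xa i : QuaternionGroup n)⁻¹ = xa ((n : ZMod (2 * n)) + i) := rfl
      have h3 : (a j : QuaternionGroup n)⁻¹ = a (-j) := rfl
      rw [h2, h3, xa_mul_a, xa_mul_xa, a_mul_a]; exact ha _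
    · rw [commutatorElement_def]
      have h2 : (xa i : QuaternionGroup n)⁻¹ = xa ((n : ZMod (2 * n)) + i) := rfl
      have h3 : (xa j : QuaternionGroup n)⁻¹ = xa ((n : ZMod (2 * n)) + j) := rfl
      rw [h2, h3, xa_mul_xa, a_mul_xa, xa_mul_xa]; exact ha _
  refine ⟨?_, ?_, ?_, ?_⟩
  · rintro (i | i)
    · have : (a i : QuaternionGroup n) ^ 2 = a (i + i) := by rw [pow_two, a_mul_a]
      rw [this]; exact hcomm i
    · rw [xa_sq, hnn]; exact hcomm _
  · have hz2 : (a (n : ZMod (2 * n)) : QuaternionGroup n) * a (n : ZMod (2 * n)) = 1 := by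
      rw [a_mul_a, one_def]
      congr 1
      have : ((n : ℕ) : ZMod (2 * n)) + (n : ℕ) = ((2 * n : ℕ) : ZMod (2 * n)) := by
        push_cast; ring
      rw [this, ZMod.natCast_self]
    have hz1 : (a (n : ZMod (2 * n)) : QuaternionGroup n) ≠ 1 := by
      rw [one_def]
      intro h
      have h1 : ((n : ℕ) : ZMod (2 * n)) = 0 := by injection h
      rw [ZMod.natCast_eq_zero_iff] at h1
      have hn0 : 0 < n := Nat.pos_of_ne_zero (NeZero.ne n)
      have := Nat.le_of_dvd hn0 h1
      omega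
    have hord : orderOf (a (n : ZMod (2 * n)) : QuaternionGroup n) = 2 := by
      apply orderOf_eq_prime
      · rw [pow_two]; exact hz2
      · exact hz1
    have hcentral : ∀ g : QuaternionGroup n, g * a (n : ZMod (2 * n)) = a (n : ZMod (2 * n)) * g := by
      have h2n : ((n : ℕ) : ZMod (2 * n)) + (n : ℕ) = 0 := by
        have : ((n : ℕ) : ZMod (2 * n)) + (n : ℕ) = ((2 * n : ℕ) : ZMod (2 * n)) := by
          push_cast; ring
        rw [this, ZMod.natCast_self]
      rintro (i | i)
      · rw [a_mul_a, a_mul_a, add_comm]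
      · rw [xa_mul_a, a_mul_xa]
        congr 1
        have : (n : ZMod (2 * n)) = -(n : ZMod (2 * n)) := eq_neg_of_add_eq_zero_left h2n
        rw [sub_eq_add_neg, ← this]
    refine ⟨Subgroup.zpowers (a (n : ZMod (2 * n))), ?_, ⟨?_, ?_⟩, ?_⟩
    · refine ⟨fun x hx g => ?_⟩
      obtain ⟨m, rfl⟩ := hx
      have : g * a (n : ZMod (2 * n)) ^ m * g⁻¹ = a (n : ZMod (2 * n)) ^ m := by
        have hc : Commute g (a (n : ZMod (2 * n)) : QuaternionGroup n) := hcentral g
        rw [(hc.zpow_right m).eq, mul_inv_cancel_right]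
      rw [this]; exact ⟨m, rfl⟩
    · exact Subgroup.zpowers_isMulCommutative _
    · rintro x ⟨m, rfl⟩
      show (a (n : ZMod (2 * n)) ^ m) ^ 2 = 1
      rw [← zpow_natCast, ← zpow_mul, mul_comm m, zpow_mul, zpow_natCast, pow_two, hz2, one_zpow]
    · rw [Nat.card_zpowers, hord, pow_one]
  · rw [show 2 = 1 + 1 from rfl, derivedSeries_succ, derivedSeries_one]
    rw [eq_bot_iff]
    calc ⁅commutator (QuaternionGroup n), commutator (QuaternionGroup n)⁆
        ≤ ⁅Subgroup.zpowers (a 1 : QuaternionGroup n), Subgroup.zpowers (a 1 : QuaternionGroup n)⁆ :=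
          Subgroup.commutator_mono hder hder
      _ = ⊥ := by
          rw [Subgroup.commutator_eq_bot_iff_le_centralizer]
          intro x hx
          rw [Subgroup.mem_centralizer_iff]
          intro y hy
          obtain ⟨m, rfl⟩ := hx
          obtain ⟨m', rfl⟩ := hy
          exact ((Commute.refl _).zpow_zpow m' m).eq
  · intro i hi hbot
    interval_cases i
    · rw [derivedSeries_zero] at hbot
      exact top_ne_bot hbot
    · rw [derivedSeries_one] at hbot
      have h1 := hcomm 1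
      rw [hbot, Subgroup.mem_bot, one_def] at h1
      have h2 : (1 + 1 : ZMod (2 * n)) = 0 := by injection h1
      have h3 : ((2 : ℕ) : ZMod (2 * n)) = 0 := by push_cast; rw [← h2]; ring
      rw [ZMod.natCast_eq_zero_iff] at h3
      have hn0 : 0 < n := Nat.pos_of_ne_zero (NeZero.ne n)
      have := Nat.le_of_dvd (by norm_num) h3
      have hn2 : 2 ≤ n := by
        rw [hn]
        calc 2 = 2 ^ 1 := rfl
          _ ≤ 2 ^ k := Nat.pow_le_pow_right (by norm_num) hk
      omega

end quaternion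

end Cfsg.Agent.Lib.Helper5
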