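import Mathlib
import Cfsg.Agent.Lib.Helper5.SylowTower2

set_option autoImplicit false

namespace Cfsg.Agent.Lib.Helper5

open Cfsg
open scoped commutatorElement

/-- squares of elements of the kernel lie in the derived subgroup of the kernel -/
def KerSq {P A : Type*} [Group P] [CommGroup A] (δ : P →* A) : Prop :=
  ∀ x : δ.ker, x ^ 2 ∈ commutator δ.ker

section basic
variable {P Q A : Type*} [Group P] [Group Q] [CommGroup A]

/-- a homomorphism into a kernel maps squares-in-commutator to squares-in-commutator -/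
theorem sq_mem_commutator_map {H K : Type*} [Group H] [Group K] (j : H →* K) {x : H}
    (hx : x ^ 2 ∈ commutator H) : (j x) ^ 2 ∈ commutator K := by
  rw [← map_pow]
  have h2 : (commutator H).map j ≤ commutator K := by
    rw [commutator_def, Subgroup.map_commutator, commutator_def]
    exact Subgroup.commutator_mono le_top le_top
  exact h2 ⟨_, hx, rfl⟩

theorem KerSq.of_equiv {δ : P →* A} (h : KerSq δ) (e : P ≃* Q) (δ' : Q →* A)
    (hδ : ∀ x, δ' (e x) = δ x) : KerSq δ' := by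
  intro y
  have hmem : ∀ x : δ.ker, e x.1 ∈ δ'.ker := by
    intro x
    rw [MonoidHom.mem_ker, hδ]
    exact x.2
  let j : δ.ker →* δ'.ker := (e.toMonoidHom.comp δ.ker.subtype).codRestrict δ'.ker hmem
  have hy : e.symm y.1 ∈ δ.ker := by
    rw [MonoidHom.mem_ker, ← hδ, e.apply_symm_apply]
    exact y.2
  have := sq_mem_commutator_map j (h ⟨e.symm y.1, hy⟩)
  have e2 : j ⟨e.symm y.1, hy⟩ = y := by
    apply Subtype.ext
    show e (e.symm y.1) = y.1
    exact e.apply_symm_apply _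
  rwa [e2] at this

/-- a subgroup of the kernel isomorphic (compatibly) -/
theorem KerSq.sq_of_equiv {δ : P →* A} (h : KerSq δ) {H : Type*} [Group H] (e : H ≃* δ.ker)
    (x : H) : x ^ 2 ∈ commutator H := by
  have := sq_mem_commutator_map e.symm.toMonoidHom (h (e x))
  simpa using this

end basic

section prod
variable {P₁ P₂ A : Type*} [Group P₁] [Group P₂] [CommGroup A]

theorem KerSq.prod {δ₁ : P₁ →* A} {δ₂ : P₂ →* A} (h₁ : KerSq δ₁) (h₂ : KerSq δ₂) (c : A)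
    (hc : c * c = 1) (hv₁ : ∀ x, δ₁ x = 1 ∨ δ₁ x = c) (hv₂ : ∀ x, δ₂ x = 1 ∨ δ₂ x = c)
    (σ₁ : P₁) (hσ₁ : σ₁ * σ₁ = 1) (hδσ₁ : δ₁ σ₁ = c)
    (σ₂ : P₂) (hσ₂ : σ₂ * σ₂ = 1) (hδσ₂ : δ₂ σ₂ = c) :
    KerSq ((δ₁.comp (MonoidHom.fst P₁ P₂)) * (δ₂.comp (MonoidHom.snd P₁ P₂))) := by
  set δ : P₁ × P₂ →* A := (δ₁.comp (MonoidHom.fst P₁ P₂)) * (δ₂.comp (MonoidHom.snd P₁ P₂)) with hδ
  have hδapp : ∀ x y, δ (x, y) = δ₁ x * δ₂ y := fun x y => rfl
  have hm1 : ∀ k : δ₁.ker, ((k.1, 1) : P₁ × P₂) ∈ δ.ker := by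
    intro k
    rw [MonoidHom.mem_ker, hδapp, map_one, mul_one]
    exact k.2
  have hm2 : ∀ k : δ₂.ker, ((1, k.1) : P₁ × P₂) ∈ δ.ker := by
    intro k
    rw [MonoidHom.mem_ker, hδapp, map_one, one_mul]
    exact k.2
  let j₁ : δ₁.ker →* δ.ker :=
    ((MonoidHom.inl P₁ P₂).comp δ₁.ker.subtype).codRestrict δ.ker hm1
  let j₂ : δ₂.ker →* δ.ker :=
    ((MonoidHom.inr P₁ P₂).comp δ₂.ker.subtype).codRestrict δ.ker hm2
  have hσ : ((σ₁, σ₂) : P₁ × P₂) ∈ δ.ker := by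
    rw [MonoidHom.mem_ker, hδapp, hδσ₁, hδσ₂, hc]
  let s : δ.ker := ⟨(σ₁, σ₂), hσ⟩
  intro z
  apply sq_mem_commutator_of_closure (Set.range j₁ ∪ Set.range j₂ ∪ {s})
  · rw [eq_top_iff]
    rintro ⟨⟨x, y⟩, hxy⟩ _
    have hxy' : δ₁ x * δ₂ y = 1 := hxy
    rcases hv₁ x with hx | hx
    · have hy : δ₂ y = 1 := by rwa [hx, one_mul] at hxy'
      have : (⟨(x, y), hxy⟩ : δ.ker) = j₁ ⟨x, hx⟩ * j₂ ⟨y, hy⟩ := by
        apply Subtype.ext
        show (x, y) = (x * 1, 1 * y)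
        simp
      rw [this]
      exact Subgroup.mul_mem _ (Subgroup.subset_closure (Or.inl (Or.inl ⟨_, rfl⟩)))
        (Subgroup.subset_closure (Or.inl (Or.inr ⟨_, rfl⟩)))
    · have hy : δ₂ y = c := by
        rw [hx] at hxy'
        calc δ₂ y = (c * c) * δ₂ y := by rw [hc, one_mul]
          _ = c * (c * δ₂ y) := mul_assoc _ _ _
          _ = c := by rw [hxy', mul_one]
      have hx' : δ₁ (σ₁ * x) = 1 := by rw [map_mul, hδσ₁, hx, hc]
      have hy' : δ₂ (σ₂ * y) = 1 := by rw [map_mul, hδσ₂, hy, hc]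
      have : (⟨(x, y), hxy⟩ : δ.ker) = s * (j₁ ⟨σ₁ * x, hx'⟩ * j₂ ⟨σ₂ * y, hy'⟩) := by
        apply Subtype.ext
        show (x, y) = (σ₁ * (σ₁ * x * 1), σ₂ * (1 * (σ₂ * y)))
        rw [mul_one, one_mul, ← mul_assoc, ← mul_assoc, hσ₁, hσ₂, one_mul, one_mul]
      rw [this]
      exact Subgroup.mul_mem _ (Subgroup.subset_closure (Or.inr rfl))
        (Subgroup.mul_mem _ (Subgroup.subset_closure (Or.inl (Or.inl ⟨_, rfl⟩)))
          (Subgroup.subset_closure (Or.inl (Or.inr ⟨_, rfl⟩))))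
  · rintro g ((⟨k, rfl⟩ | ⟨k, rfl⟩) | hg)
    · exact sq_mem_commutator_map j₁ (h₁ k)
    · exact sq_mem_commutator_map j₂ (h₂ k)
    · rw [Set.mem_singleton_iff] at hg
      rw [hg]
      have : s ^ 2 = 1 := by
        apply Subtype.ext
        show (σ₁, σ₂) ^ 2 = (1 : P₁ × P₂)
        rw [pow_two]
        show (σ₁ * σ₁, σ₂ * σ₂) = 1
        rw [hσ₁, hσ₂]; rfl
      rw [this]; exact Subgroup.one_mem _

end prod

section double
variable {P K A : Type*} [Group P] [Group K] [CommGroup A]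
variable {ι : P × P →* K} {t : K}

theorem DoubleHyp.kerSq (H : DoubleHyp ι t) {δ : P →* A} (h : KerSq δ) (δK : K →* A)
    (hδ : ∀ a b, δK (ι (a, b)) = δ a * δ b) (hδt : δK t = 1) : KerSq δK := by
  have hm : ∀ k : δ.ker, ι (1, k.1) ∈ δK.ker := by
    intro k
    rw [MonoidHom.mem_ker, hδ, map_one, one_mul]
    exact k.2
  let j : δ.ker →* δK.ker :=
    ((ι.comp (MonoidHom.inr P P)).comp δ.ker.subtype).codRestrict δK.ker hm
  have hu : ∀ u : P, ι (u, u⁻¹) ∈ δK.ker := by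
    intro u
    rw [MonoidHom.mem_ker, hδ, map_inv, mul_inv_cancel]
  have ht : t ∈ δK.ker := hδt
  let τ : δK.ker := ⟨t, ht⟩
  intro z
  apply sq_mem_commutator_of_closure
    (Set.range j ∪ Set.range (fun u : P => (⟨ι (u, u⁻¹), hu u⟩ : δK.ker)) ∪ {τ})
  · rw [eq_top_iff]
    rintro ⟨z, hz⟩ _
    have key : ∀ w : K, w ∈ ι.range → ∀ hw : w ∈ δK.ker, (⟨w, hw⟩ : δK.ker) ∈
        Subgroup.closure (Set.range j ∪
          Set.range (fun u : P => (⟨ι (u, u⁻¹), hu u⟩ : δK.ker)) ∪ {τ}) := by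
      rintro _ ⟨⟨x, y⟩, rfl⟩ hw
      have hxy : δ (x * y) = 1 := by
        rw [map_mul, ← hδ]; exact hw
      have : (⟨ι (x, y), hw⟩ : δK.ker) = ⟨ι (x, x⁻¹), hu x⟩ * j ⟨x * y, hxy⟩ := by
        apply Subtype.ext
        show ι (x, y) = ι (x, x⁻¹) * ι (1, x * y)
        rw [← map_mul]
        congr 1
        show (x, y) = (x * 1, x⁻¹ * (x * y))
        rw [mul_one, inv_mul_cancel_left]
      rw [this]
      exact Subgroup.mul_mem _ (Subgroup.subset_closure (Or.inl (Or.inr ⟨x, rfl⟩)))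
        (Subgroup.subset_closure (Or.inl (Or.inl ⟨_, rfl⟩)))
    rcases H.gen z with hzr | hzr
    · exact key z hzr hz
    · have htz : t * z ∈ δK.ker := Subgroup.mul_mem _ ht hz
      have : (⟨z, hz⟩ : δK.ker) = τ * ⟨t * z, htz⟩ := by
        apply Subtype.ext
        show z = t * (t * z)
        rw [← mul_assoc, H.sq, one_mul]
      rw [this]
      exact Subgroup.mul_mem _ (Subgroup.subset_closure (Or.inr rfl)) (key _ hzr htz)
  · rintro g ((⟨k, rfl⟩ | ⟨u, rfl⟩) | hg)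
    · exact sq_mem_commutator_map j (h k)
    · -- ι(u,u⁻¹)^2 = ⁅ι(u,u⁻¹), t⁆
      have : (⟨ι (u, u⁻¹), hu u⟩ : δK.ker) ^ 2 = ⁅(⟨ι (u, u⁻¹), hu u⟩ : δK.ker), τ⁆ := by
        apply Subtype.ext
        show ι (u, u⁻¹) ^ 2 = ι (u, u⁻¹) * t * (ι (u, u⁻¹))⁻¹ * t⁻¹
        have h1 : t * (ι (u, u⁻¹))⁻¹ * t⁻¹ = ι (u, u⁻¹) := by
          rw [← map_inv, Prod.inv_mk, inv_inv, H.conj]
        have : ι (u, u⁻¹) * t * (ι (u, u⁻¹))⁻¹ * t⁻¹ =
            ι (u, u⁻¹) * (t * (ι (u, u⁻¹))⁻¹ * t⁻¹) := by group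
        rw [this, h1, pow_two]
      show (⟨ι (u, u⁻¹), hu u⟩ : δK.ker) ^ 2 ∈ commutator δK.ker
      rw [this, commutator_def]
      exact Subgroup.commutator_mem_commutator (Subgroup.mem_top _) (Subgroup.mem_top _)
    · rw [Set.mem_singleton_iff] at hg
      rw [hg]
      have : τ ^ 2 = 1 := by
        apply Subtype.ext
        show t ^ 2 = 1
        rw [pow_two, H.sq]
      rw [this]; exact Subgroup.one_mem _

end double

section inf_normal

/-- the intersection of a Sylow subgroup with a normal subgroup has Sylow order in it -/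
theorem card_sylow_inf_normal {G : Type*} [Group G] [Finite G] {p : ℕ} [Fact p.Prime]
    (S : Sylow p G) (N : Subgroup G) [N.Normal] :
    Nat.card ↥((S : Subgroup G) ⊓ N) = p ^ (Nat.card N).factorization p := by
  have hp : p.Prime := Fact.out
  obtain ⟨Q⟩ := (inferInstance : Nonempty (Sylow p N))
  let Q' : Subgroup G := (Q : Subgroup N).map N.subtype
  have hQ'card : Nat.card Q' = p ^ (Nat.card N).factorization p := by
    rw [← Nat.card_congr ((Q : Subgroup N).equivMapOfInjective N.subtype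
      (Subgroup.subtype_injective N)).toEquiv, Sylow.card_eq_multiplicity]
  have hQ'p : IsPGroup p Q' := IsPGroup.of_card hQ'card
  obtain ⟨S', hS'⟩ := hQ'p.exists_le_sylow
  obtain ⟨g, hg⟩ := MulAction.exists_smul_eq G S' S
  have hQ'N : Q' ≤ N := by
    rintro _ ⟨x, _, rfl⟩
    exact x.2
  -- the conjugate of Q' by g lies in S ⊓ N
  have hle : Q'.map (MulAut.conj g).toMonoidHom ≤ (S : Subgroup G) ⊓ N := by
    rintro _ ⟨x, hx, rfl⟩
    refine ⟨?_, ?_⟩
    · rw [← hg]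
      exact ⟨x, hS' hx, rfl⟩
    · exact ‹N.Normal›.conj_mem x (hQ'N hx) g
  have hcard2 : Nat.card (Q'.map (MulAut.conj g).toMonoidHom) = p ^ (Nat.card N).factorization p := by
    rw [← Nat.card_congr (Q'.equivMapOfInjective (MulAut.conj g).toMonoidHom
      (MulAut.conj g).injective).toEquiv, hQ'card]
  have hge : p ^ (Nat.card N).factorization p ≤ Nat.card ↥((S : Subgroup G) ⊓ N) := by
    rw [← hcard2]
    exact Subgroup.card_le_of_le hle
  have hpg : IsPGroup p ↥((S : Subgroup G) ⊓ N) := S.2.to_le inf_le_left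
  obtain ⟨k, hk⟩ := IsPGroup.iff_card.1 hpg
  have hdvd : p ^ k ∣ Nat.card N := by
    rw [← hk]
    exact Subgroup.card_dvd_of_le inf_le_right
  have hkle : k ≤ (Nat.card N).factorization p :=
    (hp.pow_dvd_iff_le_factorization Nat.card_pos.ne').1 hdvd
  have hle2 : Nat.card ↥((S : Subgroup G) ⊓ N) ≤ p ^ (Nat.card N).factorization p := by
    rw [hk]
    exact Nat.pow_le_pow_right hp.pos hkle
  exact le_antisymm hle2 hge

end inf_normal

end Cfsg.Agent.Lib.Helper5
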