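import Mathlib
import Cfsg.Agent.Lib.Helper5.KerSq
import Cfsg.Agent.Lib.Helper5.GLEmbed
import Cfsg.Agent.Lib.Helper5.GLVal
import Cfsg.Agent.Lib.Helper40.SylowSL
import Cfsg.Agent.S0261

set_option autoImplicit false

namespace Cfsg.Agent.Lib.Helper5

open Matrix Cfsg
open scoped commutatorElement MatrixGroups

section abstract'
variable {G : Type*} [Group G]

/-- version of `exists_double` exposing the `DoubleHyp` -/
theorem exists_doubleHyp {P : Type*} [Group P] (ι₀ : P × P →* G)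
    (hinj : Function.Injective ι₀) (t : G) (ht : t * t = 1) (hnot : t ∉ ι₀.range)
    (hconj : ∀ a b, t * ι₀ (a, b) * t⁻¹ = ι₀ (b, a)) :
    ∃ (K : Subgroup G) (ι : P × P →* K) (t' : K), DoubleHyp ι t' ∧ (∀ x, (ι x : G) = ι₀ x) ∧
      (t' : G) = t := by
  have hN : ∀ n ∈ ι₀.range, t * n * t⁻¹ ∈ ι₀.range := by
    rintro _ ⟨⟨a, b⟩, rfl⟩
    rw [hconj]; exact ⟨_, rfl⟩
  let K : Subgroup G := doubleSubgroup ι₀.range t ht hN
  have hle : ∀ x, ι₀ x ∈ K := fun x => Or.inl ⟨x, rfl⟩
  let ι : P × P →* K := ι₀.codRestrict K hle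
  have htK : t ∈ K := Or.inr (by rw [ht]; exact Subgroup.one_mem _)
  let t' : K := ⟨t, htK⟩
  have hrange : ∀ k : K, k ∈ ι.range ↔ (k : G) ∈ ι₀.range := by
    intro k
    constructor
    · rintro ⟨x, rfl⟩; exact ⟨x, rfl⟩
    · rintro ⟨x, hx⟩; exact ⟨x, Subtype.ext hx⟩
  refine ⟨K, ι, t', ⟨?_, ?_, ?_, ?_, ?_⟩, fun _ => rfl, rfl⟩
  · intro x y hxy
    apply hinj
    exact congrArg Subtype.val hxy
  · exact Subtype.ext ht
  · intro hmem
    exact hnot ((hrange t').1 hmem)
  · intro a b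
    apply Subtype.ext
    exact hconj a b
  · intro k
    rcases k.2 with hk | hk
    · exact Or.inl ((hrange k).2 hk)
    · exact Or.inr ((hrange (t' * k)).2 hk)

/-- transfer of `KerSq` to every Sylow 2-subgroup -/
theorem KerSq.sylow [Finite G] {A : Type*} [CommGroup A] (δ : G →* A) (K : Subgroup G)
    (hK : Nat.card K = 2 ^ (Nat.card G).factorization 2) (h : KerSq (δ.comp K.subtype))
    (S : Sylow 2 G) : KerSq (δ.comp S.toSubgroup.subtype) := by
  let Q : Sylow 2 G := Sylow.ofCard K hK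
  obtain ⟨g, hg⟩ := MulAction.exists_smul_eq G Q S
  subst hg
  have e : Q.toSubgroup ≃* (g • Q : Sylow 2 G).toSubgroup := Sylow.equivSMul Q g
  refine KerSq.of_equiv (P := ↥Q.toSubgroup) h (Sylow.equivSMul Q g) _ ?_
  intro x
  have hx : ((Sylow.equivSMul Q g x : (g • Q : Sylow 2 G).toSubgroup) : G) = g * x * g⁻¹ := rfl
  show δ ((Sylow.equivSMul Q g x : (g • Q : Sylow 2 G).toSubgroup) : G) = δ (x : G)
  rw [hx, map_mul, map_mul, map_inv, mul_comm, inv_mul_cancel_left]

/-- from `KerSq` and an involution with the other value: all squares are in the commutator -/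
theorem sq_mem_commutator_of_kerSq {P A : Type*} [Group P] [CommGroup A] {δ : P →* A}
    (h : KerSq δ) (c : A) (hc : c * c = 1) (hv : ∀ x, δ x = 1 ∨ δ x = c) (σ : P)
    (hσ : σ * σ = 1) (hδσ : δ σ = c) (x : P) : x ^ 2 ∈ commutator P := by
  apply sq_mem_commutator_of_closure ((δ.ker : Set P) ∪ {σ})
  · rw [eq_top_iff]
    intro y _
    rcases hv y with hy | hy
    · exact Subgroup.subset_closure (Or.inl hy)
    · have h1 : σ * y ∈ δ.ker := by
        rw [MonoidHom.mem_ker, map_mul, hδσ, hy, hc]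
      have : y = σ * (σ * y) := by rw [← mul_assoc, hσ, one_mul]
      rw [this]
      exact Subgroup.mul_mem _ (Subgroup.subset_closure (Or.inr rfl))
        (Subgroup.subset_closure (Or.inl h1))
  · rintro s (hs | hs)
    · exact sq_mem_commutator_map δ.ker.subtype (h ⟨s, hs⟩)
    · rw [Set.mem_singleton_iff] at hs
      rw [hs, pow_two, hσ]; exact Subgroup.one_mem _

/-- squares-in-commutator transfers to every Sylow 2-subgroup -/
theorem sq_sylow_of_card [Finite G] (K : Subgroup G)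
    (hK : Nat.card K = 2 ^ (Nat.card G).factorization 2)
    (h : ∀ x : K, x ^ 2 ∈ commutator K) (P : Sylow 2 G) (x : P.toSubgroup) :
    x ^ 2 ∈ commutator P.toSubgroup := by
  let Q : Sylow 2 G := Sylow.ofCard K hK
  obtain ⟨g, hg⟩ := MulAction.exists_smul_eq G Q P
  subst hg
  have e : Q.toSubgroup ≃* (g • Q : Sylow 2 G).toSubgroup := Sylow.equivSMul Q g
  have := sq_mem_commutator_map e.toMonoidHom (h (e.symm x))
  simpa using this

end abstract'

section gl
variable {F : Type*} [Field F] [Fintype F]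

/-- the 2-adic valuation of `|GL_n(q)|` -/
def vGL (q n : ℕ) : ℕ := ∑ j ∈ Finset.range n, padicValNat 2 (q ^ (j + 1) - 1)

theorem card_sylow_GL (hq : Odd (Fintype.card F)) (n : ℕ) (S : Sylow 2 (GL (Fin n) F)) :
    Nat.card S = 2 ^ vGL (Fintype.card F) n := by
  rw [Sylow.card_eq_multiplicity, factorization_card_GL hq]; rfl

variable (F) in
/-- squares of determinant-one elements of a Sylow 2-subgroup `S` of `GL_n` lie in the derived
subgroup of `S ∩ SL_n`. -/
def KS (n : ℕ) : Prop :=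
  ∀ S : Sylow 2 (GL (Fin n) F), KerSq (Matrix.GeneralLinearGroup.det.comp S.toSubgroup.subtype)

theorem exists_invol {n : ℕ} (hn : 1 ≤ n) (S : Sylow 2 (GL (Fin n) F)) :
    ∃ σ : S.toSubgroup, σ * σ = 1 ∧ Matrix.GeneralLinearGroup.det (σ : GL (Fin n) F) = -1 := by
  let i0 : Fin n := ⟨0, hn⟩
  let u : Fin n → Fˣ := fun i => if i = i0 then -1 else 1
  have huu : u * u = 1 := by
    funext i
    show u i * u i = 1
    by_cases h : i = i0 <;> simp [u, h]
  let d : GL (Fin n) F := Cfsg.Agent.Lib.Helper40.diagGL n u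
  have hdd : d * d = 1 := by
    show Cfsg.Agent.Lib.Helper40.diagGL n u * Cfsg.Agent.Lib.Helper40.diagGL n u = 1
    rw [← map_mul, huu, map_one]
  have hdet : Matrix.GeneralLinearGroup.det d = -1 := by
    show Matrix.GeneralLinearGroup.det (Cfsg.Agent.Lib.Helper40.diagGL n u) = -1
    rw [Cfsg.Agent.Lib.Helper40.diagGL_det]
    simp [u]
  have hp : IsPGroup 2 (Subgroup.zpowers d) := by
    rintro ⟨g, hg⟩
    refine ⟨1, ?_⟩
    obtain ⟨j, rfl⟩ := Subgroup.mem_zpowers_iff.1 hg
    apply Subtype.ext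
    show (d ^ j) ^ (2 ^ 1) = 1
    rw [pow_one, ← zpow_natCast, ← _root_.zpow_mul, mul_comm, _root_.zpow_mul, zpow_natCast, pow_two, hdd, _root_.one_zpow]
  obtain ⟨S₀, hS₀⟩ := hp.exists_le_sylow
  obtain ⟨g, hg⟩ := MulAction.exists_smul_eq (GL (Fin n) F) S₀ S
  have hmem : g * d * g⁻¹ ∈ S.toSubgroup := by
    rw [← hg]
    exact ⟨d, hS₀ (Subgroup.mem_zpowers d), rfl⟩
  refine ⟨⟨g * d * g⁻¹, hmem⟩, ?_, ?_⟩
  · apply Subtype.ext
    show g * d * g⁻¹ * (g * d * g⁻¹) = 1
    have : g * d * g⁻¹ * (g * d * g⁻¹) = g * (d * d) * g⁻¹ := by group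
    rw [this, hdd, mul_one, mul_inv_cancel]
  · show Matrix.GeneralLinearGroup.det (g * d * g⁻¹) = -1
    rw [map_mul, map_mul, map_inv, mul_comm, inv_mul_cancel_left, hdet]

theorem det_eq_one_or_neg_one (hq : Fintype.card F % 4 = 3) {n : ℕ} (S : Sylow 2 (GL (Fin n) F))
    (x : S.toSubgroup) :
    Matrix.GeneralLinearGroup.det (x : GL (Fin n) F) = 1 ∨
      Matrix.GeneralLinearGroup.det (x : GL (Fin n) F) = -1 := by
  obtain ⟨k, hk⟩ := S.2 x
  set u : Fˣ := Matrix.GeneralLinearGroup.det (x : GL (Fin n) F) with hu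
  have h1 : u ^ (2 ^ k) = 1 := by
    have := congrArg (fun y : S.toSubgroup => Matrix.GeneralLinearGroup.det (y : GL (Fin n) F)) hk
    simpa using this
  have hd1 : orderOf u ∣ 2 ^ k := orderOf_dvd_of_pow_eq_one h1
  have hd2 : orderOf u ∣ Fintype.card F - 1 := by
    have := orderOf_dvd_natCard u
    rwa [Nat.card_units, Nat.card_eq_fintype_card] at this
  obtain ⟨j, hj, hj'⟩ := (Nat.dvd_prime_pow Nat.prime_two).1 hd1
  have hj1 : j ≤ 1 := by
    by_contra hcon
    rw [not_le] at hcon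
    have : 4 ∣ Fintype.card F - 1 := by
      refine dvd_trans ?_ hd2
      rw [hj']
      exact pow_dvd_pow 2 hcon
    omega
  have h2 : u ^ 2 = 1 := by
    apply orderOf_dvd_iff_pow_eq_one.1
    rw [hj']
    exact pow_dvd_pow 2 hj1
  have h3 : (u : F) * (u : F) = 1 := by
    have := congrArg Units.val h2
    simpa [pow_two] using this
  rcases mul_self_eq_one_iff.1 h3 with h4 | h4
  · left; exact Units.ext h4
  · right; apply Units.ext; rw [h4]; simp

/-- `S ∩ SL_n` has Sylow order in `SL_n`. -/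
theorem card_comap_toGL {n : ℕ} (S : Sylow 2 (GL (Fin n) F)) :
    Nat.card (S.toSubgroup.comap (Matrix.SpecialLinearGroup.toGL (n := Fin n) (R := F))) =
      2 ^ (Nat.card (Matrix.SpecialLinearGroup (Fin n) F)).factorization 2 := by
  let N : Subgroup (GL (Fin n) F) := (Matrix.SpecialLinearGroup.toGL (n := Fin n) (R := F)).range
  haveI : N.Normal := by
    show (Matrix.SpecialLinearGroup.toGL (n := Fin n) (R := F)).range.Normal
    rw [Cfsg.Agent.Lib.Helper40.range_toGL]
    infer_instance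
  have h1 := card_sylow_inf_normal S N
  have h2 : Nat.card N = Nat.card (Matrix.SpecialLinearGroup (Fin n) F) :=
    (Nat.card_congr (MonoidHom.ofInjective Matrix.SpecialLinearGroup.toGL_injective).toEquiv).symm
  rw [h2] at h1
  rw [← h1]
  have h3 : (S.toSubgroup.comap (Matrix.SpecialLinearGroup.toGL (n := Fin n) (R := F))).map
      Matrix.SpecialLinearGroup.toGL = S.toSubgroup ⊓ N := by
    rw [Subgroup.map_comap_eq, inf_comm]
  rw [← h3]
  exact Nat.card_congr (Subgroup.equivMapOfInjective _ _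
    Matrix.SpecialLinearGroup.toGL_injective).toEquiv

/-- `S ∩ SL_n` is the kernel of `det` on `S`. -/
theorem comap_toGL_equiv_ker {n : ℕ} (S : Subgroup (GL (Fin n) F)) :
    Nonempty (S.comap (Matrix.SpecialLinearGroup.toGL (n := Fin n) (R := F)) ≃*
      (Matrix.GeneralLinearGroup.det.comp S.subtype).ker) := by
  let T := S.comap (Matrix.SpecialLinearGroup.toGL (n := Fin n) (R := F))
  have hmem : ∀ x : T, (⟨Matrix.SpecialLinearGroup.toGL x.1, x.2⟩ : S) ∈
      (Matrix.GeneralLinearGroup.det.comp S.subtype).ker := by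
    intro x
    rw [MonoidHom.mem_ker]
    show Matrix.GeneralLinearGroup.det (Matrix.SpecialLinearGroup.toGL x.1) = 1
    have : Matrix.SpecialLinearGroup.toGL x.1 ∈
        (Matrix.GeneralLinearGroup.det (n := Fin n) (R := F)).ker := by
      rw [← Cfsg.Agent.Lib.Helper40.range_toGL]; exact ⟨_, rfl⟩
    exact this
  let f : T →* (Matrix.GeneralLinearGroup.det.comp S.subtype).ker :=
    { toFun := fun x => ⟨⟨Matrix.SpecialLinearGroup.toGL x.1, x.2⟩, hmem x⟩
      map_one' := by
        apply Subtype.ext; apply Subtype.ext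
        show Matrix.SpecialLinearGroup.toGL (1 : Matrix.SpecialLinearGroup (Fin n) F) = 1
        exact map_one _
      map_mul' := by
        intro x y
        apply Subtype.ext; apply Subtype.ext
        show Matrix.SpecialLinearGroup.toGL (x.1 * y.1) = _
        exact map_mul _ _ _ }
  refine ⟨MulEquiv.ofBijective f ⟨?_, ?_⟩⟩
  · intro x y hxy
    apply Subtype.ext
    apply Matrix.SpecialLinearGroup.toGL_injective
    exact congrArg (fun z : (Matrix.GeneralLinearGroup.det.comp S.subtype).ker =>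
      (z.1.1 : GL (Fin n) F)) hxy
  · rintro ⟨⟨y, hyS⟩, hy⟩
    have hy' : y ∈ (Matrix.GeneralLinearGroup.det (n := Fin n) (R := F)).ker := hy
    rw [← Cfsg.Agent.Lib.Helper40.range_toGL] at hy'
    obtain ⟨s, rfl⟩ := hy'
    exact ⟨⟨s, hyS⟩, rfl⟩

theorem KS_two (hq : Odd (Fintype.card F)) : KS F 2 := by
  intro S
  let T := S.toSubgroup.comap (Matrix.SpecialLinearGroup.toGL (n := Fin 2) (R := F))
  have hT := card_comap_toGL S
  let Q : Sylow 2 (Matrix.SpecialLinearGroup (Fin 2) F) := Sylow.ofCard T hT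
  obtain ⟨k, hk, ⟨f⟩⟩ := Cfsg.Agent.S0261.result hq Q
  obtain ⟨e⟩ := comap_toGL_equiv_ker S.toSubgroup
  have f' : T ≃* QuaternionGroup (2 ^ k) := f
  exact ((towerData_quaternion k hk).of_equiv (e.symm.trans f').symm).sq


end gl

end Cfsg.Agent.Lib.Helper5
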