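import Mathlib
import Cfsg.Agent.Lib.Helper5.GLSylowA

set_option autoImplicit false

namespace Cfsg.Agent.Lib.Helper5

open Matrix Cfsg
open scoped commutatorElement MatrixGroups

section gl
variable {F : Type*} [Field F] [Fintype F]

theorem KS_of_subgroup {n : ℕ} (K : Subgroup (GL (Fin n) F))
    (hK : Nat.card K = 2 ^ (Nat.card (GL (Fin n) F)).factorization 2)
    (h : KerSq (Matrix.GeneralLinearGroup.det.comp K.subtype)) : KS F n := by
  intro S
  have h1 := KerSq.sylow (G := GL (Fin n) F) (A := Fˣ) Matrix.GeneralLinearGroup.det K hK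
  have h2 := h1 h
  have h3 := h2 S
  exact h3

theorem KS_prod (hq : Odd (Fintype.card F)) (hq3 : Fintype.card F % 4 = 3) (n₁ n₂ : ℕ)
    (h1 : 1 ≤ n₁) (h2 : 1 ≤ n₂) (K1 : KS F n₁) (K2 : KS F n₂)
    (harith : vGL (Fintype.card F) n₁ + vGL (Fintype.card F) n₂ =
      vGL (Fintype.card F) (n₁ + n₂)) : KS F (n₁ + n₂) := by
  obtain ⟨S₁⟩ := (inferInstance : Nonempty (Sylow 2 (GL (Fin n₁) F)))
  obtain ⟨S₂⟩ := (inferInstance : Nonempty (Sylow 2 (GL (Fin n₂) F)))
  obtain ⟨σ₁, hσ₁, hdσ₁⟩ := exists_invol h1 S₁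
  obtain ⟨σ₂, hσ₂, hdσ₂⟩ := exists_invol h2 S₂
  have hprod := KerSq.prod (K1 S₁) (K2 S₂) (-1 : Fˣ) (by simp)
    (det_eq_one_or_neg_one hq3 S₁) (det_eq_one_or_neg_one hq3 S₂) σ₁ hσ₁ hdσ₁ σ₂ hσ₂ hdσ₂
  let φ : GL (Fin n₁ ⊕ Fin n₂) F ≃* GL (Fin (n₁ + n₂)) F := glReindex finSumFinEquiv
  let ι₀ : S₁.toSubgroup × S₂.toSubgroup →* GL (Fin (n₁ + n₂)) F :=
    φ.toMonoidHom.comp
      (glProd.comp (MonoidHom.prodMap S₁.toSubgroup.subtype S₂.toSubgroup.subtype))
  have hinj : Function.Injective ι₀ := by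
    intro x y hxy
    have := glProd_injective (φ.injective hxy)
    have e1 : (x.1 : GL (Fin n₁) F) = y.1 := congrArg Prod.fst this
    have e2 : (x.2 : GL (Fin n₂) F) = y.2 := congrArg Prod.snd this
    exact Prod.ext (Subtype.ext e1) (Subtype.ext e2)
  let K : Subgroup (GL (Fin (n₁ + n₂)) F) := ι₀.range
  let e : S₁.toSubgroup × S₂.toSubgroup ≃* K := MonoidHom.ofInjective hinj
  have hK : Nat.card K = 2 ^ (Nat.card (GL (Fin (n₁ + n₂)) F)).factorization 2 := by
    rw [← Nat.card_congr e.toEquiv, Nat.card_prod]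
    have c1 := card_sylow_GL hq n₁ S₁
    have c2 := card_sylow_GL hq n₂ S₂
    rw [c1, c2, factorization_card_GL hq, ← pow_add, harith]
    rfl
  have hKS : KerSq (Matrix.GeneralLinearGroup.det.comp K.subtype) := by
    refine KerSq.of_equiv hprod e _ ?_
    intro x
    show Matrix.GeneralLinearGroup.det (φ (glProd ((x.1 : GL (Fin n₁) F), (x.2 : GL (Fin n₂) F)))) =
      Matrix.GeneralLinearGroup.det (x.1 : GL (Fin n₁) F) *
        Matrix.GeneralLinearGroup.det (x.2 : GL (Fin n₂) F)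
    rw [det_glReindex, det_glProd]
  exact KS_of_subgroup K hK hKS

theorem KS_double (hq : Odd (Fintype.card F)) (h : ℕ) (hh : 1 ≤ h) (heven : Even h)
    (Kh : KS F h)
    (harith : 2 * vGL (Fintype.card F) h + 1 = vGL (Fintype.card F) (h + h)) :
    KS F (h + h) := by
  haveI : Nonempty (Fin h) := ⟨⟨0, hh⟩⟩
  obtain ⟨S⟩ := (inferInstance : Nonempty (Sylow 2 (GL (Fin h) F)))
  let ι₀ : S.toSubgroup × S.toSubgroup →* GL (Fin h ⊕ Fin h) F :=
    glProd.comp (MonoidHom.prodMap S.toSubgroup.subtype S.toSubgroup.subtype)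
  have hinj : Function.Injective ι₀ := by
    intro x y hxy
    have := glProd_injective hxy
    have e1 : (x.1 : GL (Fin h) F) = y.1 := congrArg Prod.fst this
    have e2 : (x.2 : GL (Fin h) F) = y.2 := congrArg Prod.snd this
    exact Prod.ext (Subtype.ext e1) (Subtype.ext e2)
  have hnot : glSwap (Fin h) F ∉ ι₀.range := by
    rintro ⟨x, hx⟩
    exact glSwap_not_mem_range ⟨_, hx⟩
  have hconj : ∀ a b, glSwap (Fin h) F * ι₀ (a, b) * (glSwap (Fin h) F)⁻¹ = ι₀ (b, a) :=
    fun a b => glSwap_conj a.1 b.1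
  obtain ⟨K, ι, t', H, hι, ht'⟩ :=
    exists_doubleHyp ι₀ hinj (glSwap (Fin h) F) glSwap_mul_self hnot hconj
  have hKS : KerSq (Matrix.GeneralLinearGroup.det.comp K.subtype) := by
    refine H.kerSq (Kh S) (Matrix.GeneralLinearGroup.det.comp K.subtype) ?_ ?_
    · intro a b
      show Matrix.GeneralLinearGroup.det ((ι (a, b) : K) : GL (Fin h ⊕ Fin h) F) = _
      rw [hι]
      exact det_glProd ((a : GL (Fin h) F), (b : GL (Fin h) F))
    · show Matrix.GeneralLinearGroup.det ((t' : K) : GL (Fin h ⊕ Fin h) F) = 1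
      rw [ht']
      exact det_glSwap (by simpa using heven)
  have hKcard : Nat.card K = 2 * Nat.card S.toSubgroup ^ 2 := H.card
  let φ : GL (Fin h ⊕ Fin h) F ≃* GL (Fin (h + h)) F := glReindex finSumFinEquiv
  let K' : Subgroup (GL (Fin (h + h)) F) := K.map φ.toMonoidHom
  let e : K ≃* K' := K.equivMapOfInjective φ.toMonoidHom φ.injective
  have hK' : Nat.card K' = 2 ^ (Nat.card (GL (Fin (h + h)) F)).factorization 2 := by
    rw [← Nat.card_congr e.toEquiv, hKcard]
    have c1 := card_sylow_GL hq h S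
    rw [c1, factorization_card_GL hq]
    show _ = 2 ^ vGL (Fintype.card F) (h + h)
    rw [← harith, pow_succ, ← pow_mul]
    ring
  have hKS' : KerSq (Matrix.GeneralLinearGroup.det.comp K'.subtype) := by
    refine KerSq.of_equiv hKS e _ ?_
    intro x
    show Matrix.GeneralLinearGroup.det (φ (x : GL (Fin h ⊕ Fin h) F)) =
      Matrix.GeneralLinearGroup.det (x : GL (Fin h ⊕ Fin h) F)
    exact det_glReindex _ _
  exact KS_of_subgroup K' hK' hKS'

theorem vGL_three {q : ℕ} (hq : q % 4 = 3) (m : ℕ) :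
    vGL q (2 * m) = m * (cq q + 1) + s2 m := sum_val_three hq m

theorem vGL_one {q : ℕ} (hq : q % 4 = 1) (h1 : 1 < q) (n : ℕ) :
    vGL q n = n * padicValNat 2 (q - 1) + s2 n := sum_val_one hq h1 n

/-- `q ≡ 3 mod 4`: all even degrees. -/
theorem KS_three (hq3 : Fintype.card F % 4 = 3) : ∀ m, 1 ≤ m → KS F (2 * m) := by
  have hq : Odd (Fintype.card F) := ⟨Fintype.card F / 2, by omega⟩
  intro m
  induction m using Nat.strong_induction_on with
  | _ m ih =>
    intro hm
    rcases Nat.lt_or_ge m 2 with h2 | h2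
    · obtain rfl : m = 1 := by omega
      exact KS_two hq
    · obtain ⟨k, hk⟩ : ∃ k, k = Nat.log 2 m := ⟨_, rfl⟩
      have hk1 : 1 ≤ k := by
        rw [hk]
        exact Nat.log_pos (by norm_num) h2
      have hle : 2 ^ k ≤ m := by rw [hk]; exact Nat.pow_log_le_self 2 (by omega)
      have hlt : m < 2 ^ (k + 1) := by rw [hk]; exact Nat.lt_pow_succ_log_self (by norm_num) m
      rcases Nat.eq_or_lt_of_le hle with heq | hlt'
      · -- m = 2^k
        obtain ⟨j, rfl⟩ : ∃ j, k = j + 1 := ⟨k - 1, by omega⟩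
        have hm' : m = 2 ^ j + 2 ^ j := by rw [← heq, pow_succ]; ring
        have hjpos : 1 ≤ 2 ^ j := Nat.one_le_two_pow
        have hjlt : 2 ^ j < m := by omega
        have IH := ih (2 ^ j) hjlt hjpos
        have harith : 2 * vGL (Fintype.card F) (2 * 2 ^ j) + 1 =
            vGL (Fintype.card F) (2 * 2 ^ j + 2 * 2 ^ j) := by
          have e1 : 2 * 2 ^ j + 2 * 2 ^ j = 2 * (2 ^ j + 2 ^ j) := by ring
          rw [e1, vGL_three hq3, vGL_three hq3]
          have h1 := s2_two_mul (2 ^ j)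
          have h2' := s2_two_pow j
          rw [two_mul] at h1
          rw [h1]
          have : (2 ^ j + 2 ^ j) * (cq (Fintype.card F) + 1) =
              2 * (2 ^ j * (cq (Fintype.card F) + 1)) := by ring
          rw [this]
          omega
        have := KS_double hq (2 * 2 ^ j) (by omega) ⟨2 ^ j, by ring⟩ IH harith
        have e2 : 2 * 2 ^ j + 2 * 2 ^ j = 2 * m := by rw [hm']; ring
        rwa [e2] at this
      · -- m = 2^k + r
        obtain ⟨r, hr⟩ : ∃ r, m = 2 ^ k + r := ⟨m - 2 ^ k, by omega⟩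
        have hr0 : 0 < r := by omega
        have hrlt : r < 2 ^ k := by rw [pow_succ] at hlt; omega
        have IHm := ih (2 ^ k) (by omega) Nat.one_le_two_pow
        have IHr := ih r (by omega) hr0
        have harith : vGL (Fintype.card F) (2 * 2 ^ k) + vGL (Fintype.card F) (2 * r) =
            vGL (Fintype.card F) (2 * 2 ^ k + 2 * r) := by
          have e1 : 2 * 2 ^ k + 2 * r = 2 * (2 ^ k + r) := by ring
          rw [e1, vGL_three hq3, vGL_three hq3, vGL_three hq3, s2_add hrlt]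
          ring
        have := KS_prod hq hq3 (2 * 2 ^ k) (2 * r) (by have := Nat.one_le_two_pow (n := k); omega)
          (by omega) IHm IHr harith
        have e2 : 2 * 2 ^ k + 2 * r = 2 * m := by rw [hr]; ring
        rwa [e2] at this

/-- `q ≡ 1 mod 4`: degrees `2^(j+1)`. -/
theorem KS_one (hq1 : Fintype.card F % 4 = 1) : ∀ j : ℕ, KS F (2 * 2 ^ j) := by
  have hq : Odd (Fintype.card F) := ⟨Fintype.card F / 2, by omega⟩
  have h1 : 1 < Fintype.card F := Fintype.one_lt_card
  intro j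
  induction j with
  | zero => simpa using KS_two hq
  | succ j ih =>
    have harith : 2 * vGL (Fintype.card F) (2 * 2 ^ j) + 1 =
        vGL (Fintype.card F) (2 * 2 ^ j + 2 * 2 ^ j) := by
      rw [vGL_one hq1 h1, vGL_one hq1 h1]
      have e1 : 2 * 2 ^ j = 2 ^ (j + 1) := by rw [pow_succ]; ring
      have h1 := s2_two_mul (2 ^ (j + 1))
      have h2' := s2_two_pow (j + 1)
      rw [two_mul] at h1
      rw [e1, h1]
      have : (2 ^ (j + 1) + 2 ^ (j + 1)) * padicValNat 2 (Fintype.card F - 1) =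
          2 * (2 ^ (j + 1) * padicValNat 2 (Fintype.card F - 1)) := by ring
      rw [this]
      omega
    have := KS_double hq (2 * 2 ^ j) (by have := Nat.one_le_two_pow (n := j); omega)
      ⟨2 ^ j, by ring⟩ ih harith
    have e2 : 2 * 2 ^ j + 2 * 2 ^ j = 2 * 2 ^ (j + 1) := by rw [pow_succ]; ring
    rwa [e2] at this

end gl

end Cfsg.Agent.Lib.Helper5
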