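import Mathlib
import Cfsg.Agent.Lib.Helper5.GLSylowB

set_option autoImplicit false

namespace Cfsg.Agent.Lib.Helper5

open Matrix Cfsg
open scoped commutatorElement MatrixGroups

section gl
variable {F : Type*} [Field F] [Fintype F]

theorem sq_sylow_SL_of_KS {n : ℕ} (h : KS F n)
    (P : Sylow 2 (Matrix.SpecialLinearGroup (Fin n) F)) (x : P.toSubgroup) :
    x ^ 2 ∈ commutator P.toSubgroup := by
  let P' : Subgroup (GL (Fin n) F) :=
    P.toSubgroup.map (Matrix.SpecialLinearGroup.toGL (n := Fin n) (R := F))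
  have hP' : IsPGroup 2 P' := P.2.map _
  obtain ⟨S, hS⟩ := hP'.exists_le_sylow
  let T := S.toSubgroup.comap (Matrix.SpecialLinearGroup.toGL (n := Fin n) (R := F))
  have hle : P.toSubgroup ≤ T := fun y hy => hS ⟨y, hy, rfl⟩
  have hcard : Nat.card T = Nat.card P.toSubgroup := by
    rw [card_comap_toGL S, Sylow.card_eq_multiplicity]
  have heq : P.toSubgroup = T := Subgroup.eq_of_le_of_card_ge hle (le_of_eq hcard)
  obtain ⟨e⟩ := comap_toGL_equiv_ker S.toSubgroup
  have e' : P.toSubgroup ≃* (Matrix.GeneralLinearGroup.det.comp S.toSubgroup.subtype).ker :=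
    (MulEquiv.subgroupCongr heq).trans e
  exact (h S).sq_of_equiv e' x

theorem det_unitsScalar (a : Fˣ) :
    Matrix.GeneralLinearGroup.det
      (Units.map (Matrix.scalar (Fin 1) : F →+* Matrix (Fin 1) (Fin 1) F).toMonoidHom a) = a := by
  apply Units.ext
  show (Matrix.scalar (Fin 1) (a : F)).det = a
  simp

theorem factorization_card_SL_odd (hq3 : Fintype.card F % 4 = 3) (m : ℕ) :
    (Nat.card (Matrix.SpecialLinearGroup (Fin (2 * m + 1)) F)).factorization 2 =
      vGL (Fintype.card F) (2 * m) := by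
  have hq : Odd (Fintype.card F) := ⟨Fintype.card F / 2, by omega⟩
  have h1 := Cfsg.Agent.Lib.Helper40.card_GL_eq_card_SL_mul (F := F) (2 * m)
  have h2 := factorization_card_GL hq (2 * m + 1)
  rw [h1, Nat.factorization_mul Nat.card_pos.ne' (by omega), Finset.sum_range_succ] at h2
  have h3 : (Fintype.card F - 1).factorization 2 = 1 := by
    rw [Nat.factorization_def _ Nat.prime_two]
    exact padicValNat_two_of_mod_four (by omega)
  have h4 : padicValNat 2 (Fintype.card F ^ (2 * m + 1) - 1) = 1 := by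
    have := pow_odd_mod_four hq3 m
    exact padicValNat_two_of_mod_four (by omega)
  simp only [Finsupp.coe_add, Pi.add_apply] at h2
  rw [h3, h4] at h2
  have : vGL (Fintype.card F) (2 * m) =
      ∑ j ∈ Finset.range (2 * m), padicValNat 2 (Fintype.card F ^ (j + 1) - 1) := rfl
  omega

theorem sq_sylow_SL_succ (hq3 : Fintype.card F % 4 = 3) (m : ℕ) (hm : 1 ≤ m)
    (P : Sylow 2 (Matrix.SpecialLinearGroup (Fin (2 * m + 1)) F)) (x : P.toSubgroup) :
    x ^ 2 ∈ commutator P.toSubgroup := by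
  have hq : Odd (Fintype.card F) := ⟨Fintype.card F / 2, by omega⟩
  obtain ⟨S'⟩ := (inferInstance : Nonempty (Sylow 2 (GL (Fin (2 * m)) F)))
  have hA : ∀ y : S'.toSubgroup, y ^ 2 ∈ commutator S'.toSubgroup := by
    obtain ⟨σ, hσ, hdσ⟩ := exists_invol (n := 2 * m) (by omega) S'
    exact sq_mem_commutator_of_kerSq (KS_three hq3 m hm S') (-1) (by simp)
      (det_eq_one_or_neg_one hq3 S') σ hσ hdσ
  let u : Fˣ →* GL (Fin 1) F :=
    Units.map (Matrix.scalar (Fin 1) : F →+* Matrix (Fin 1) (Fin 1) F).toMonoidHom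
  let ψ₀ : GL (Fin (2 * m)) F →* GL (Fin (2 * m) ⊕ Fin 1) F :=
    glProd.comp (MonoidHom.prod (MonoidHom.id _)
      (u.comp (invMonoidHom.comp Matrix.GeneralLinearGroup.det)))
  let φ : GL (Fin (2 * m) ⊕ Fin 1) F ≃* GL (Fin (2 * m + 1)) F := glReindex finSumFinEquiv
  let ι : S'.toSubgroup →* GL (Fin (2 * m + 1)) F :=
    φ.toMonoidHom.comp (ψ₀.comp S'.toSubgroup.subtype)
  have hinj : Function.Injective ι := by
    intro a b hab
    have := glProd_injective (φ.injective hab)
    exact Subtype.ext (congrArg Prod.fst this)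
  have hdet : ∀ a, Matrix.GeneralLinearGroup.det (ι a) = 1 := by
    intro a
    show Matrix.GeneralLinearGroup.det (φ (glProd ((a : GL (Fin (2 * m)) F),
      u ((Matrix.GeneralLinearGroup.det (a : GL (Fin (2 * m)) F))⁻¹)))) = 1
    rw [det_glReindex, det_glProd]
    show _ * Matrix.GeneralLinearGroup.det (u _) = 1
    rw [det_unitsScalar, mul_inv_cancel]
  obtain ⟨χ, hχ⟩ := Cfsg.Agent.Lib.Helper40.lift_to_SL (2 * m + 1) S'.toSubgroup ι hinj hdet
  let K : Subgroup (Matrix.SpecialLinearGroup (Fin (2 * m + 1)) F) := χ.range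
  let e : S'.toSubgroup ≃* K := MonoidHom.ofInjective hχ
  have hK : Nat.card K =
      2 ^ (Nat.card (Matrix.SpecialLinearGroup (Fin (2 * m + 1)) F)).factorization 2 := by
    rw [← Nat.card_congr e.toEquiv, factorization_card_SL_odd hq3]
    exact card_sylow_GL hq (2 * m) S'
  have hKsq : ∀ y : K, y ^ 2 ∈ commutator K := by
    intro y
    have := sq_mem_commutator_map e.toMonoidHom (hA (e.symm y))
    simpa using this
  exact sq_sylow_of_card K hK hKsq P x

end gl
end Cfsg.Agent.Lib.Helper5
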