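import Mathlib

/-!
# The complex group algebra of a finite group: coefficient functions, the conjugate-inverse involution
and the averaging idempotent of a subgroup (definitions)
-/

set_option autoImplicit false

namespace Cfsg.Agent.Lib.Helper5.GAlg

open MonoidAlgebra
open scoped ComplexConjugate

variable {G : Type*} [Group G] [Fintype G]

/-- the element of the group algebra with prescribed coefficients -/
noncomputable def ofFun (f : G → ℂ) : MonoidAlgebra ℂ G := ∑ g : G, single g (f g)

omit [Group G] in
lemma coeff_ofFun (f : G → ℂ) (g : G) : (ofFun f).coeff g = f g := by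
  classical
  unfold ofFun
  rw [coeff_sum, Finsupp.finsetSum_apply]
  simp only [coeff_single, Finsupp.single_apply]
  rw [Finset.sum_ite_eq' Finset.univ g]
  simp

omit [Group G] in
lemma ofFun_coeff (x : MonoidAlgebra ℂ G) : ofFun (fun g => x.coeff g) = x := by
  ext g
  rw [coeff_ofFun]

/-- the conjugate-linear anti-involution `g ↦ g⁻¹` -/
noncomputable def gstar (x : MonoidAlgebra ℂ G) : MonoidAlgebra ℂ G :=
  ofFun fun g => conj (x.coeff g⁻¹)

lemma coeff_gstar (x : MonoidAlgebra ℂ G) (g : G) : (gstar x).coeff g = conj (x.coeff g⁻¹) :=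
  coeff_ofFun _ g

/-- the averaging idempotent `|B|⁻¹ ∑_{b ∈ B} b` of a subgroup -/
noncomputable def avg (B : Subgroup G) : MonoidAlgebra ℂ G :=
  ofFun (Set.indicator (B : Set G) fun _ => (Nat.card B : ℂ)⁻¹)

lemma coeff_avg (B : Subgroup G) (g : G) :
    (avg B).coeff g = Set.indicator (B : Set G) (fun _ => (Nat.card B : ℂ)⁻¹) g :=
  coeff_ofFun _ g

lemma coeff_avg_of_mem {B : Subgroup G} {g : G} (hg : g ∈ B) :
    (avg B).coeff g = (Nat.card B : ℂ)⁻¹ := by
  rw [coeff_avg, Set.indicator_of_mem (by exact hg)]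

lemma coeff_avg_of_not_mem {B : Subgroup G} {g : G} (hg : g ∉ B) : (avg B).coeff g = 0 := by
  rw [coeff_avg, Set.indicator_of_notMem (by exact hg)]

end Cfsg.Agent.Lib.Helper5.GAlg
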