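import Mathlib
import Cfsg.Agent.Lib.Helper5.HeckeDefB
import Cfsg.Agent.Lib.Helper92.HeckeGAlg

/-!
# Iwahori's theorem inside the group algebra, part A: the double coset elements and their relations

`CellData G D`: a finite group `G` with a subgroup `B` and a "Bruhat cell" map `cell : G → W` onto a
group `W` with length data `D`, all rank one cells having `q` cosets.  With `e` the averaging idempotent of
`B`, `E g = e g e` and `T w = q^{l(w)} E(n_w)` we prove `T_s T_w = T_{sw}` if `l(sw) > l(w)`,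
`T_s² = q T_1 + (q - 1) T_s`, and that `Φ f = ∑ f(w) T_w` turns the generic multiplication `hmul q`
into the multiplication of the group algebra.
-/

set_option autoImplicit false

namespace Cfsg.Agent.Lib.Helper5.HeckeCell

open Finset MonoidAlgebra Cfsg.Agent.Lib.Helper5.HeckeDef Cfsg.Agent.Lib.Helper5.GAlg
  Cfsg.Agent.Lib.Helper92.HeckeGAlg

/-- a finite group with a subgroup `B` and a cell map onto a group with length data -/
structure CellData (G : Type*) [Group G] {W : Type*} [Group W] (D : LenData W) where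
  /-- the subgroup `B` -/
  B : Subgroup G
  /-- the cell map -/
  cell : G → W
  /-- the parameter -/
  q : ℕ
  q_pos : 0 < q
  cell_mul_left : ∀ b ∈ B, ∀ g, cell (b * g) = cell g
  cell_mul_right : ∀ b ∈ B, ∀ g, cell (g * b) = cell g
  cell_eq : ∀ g h, cell g = cell h → ∃ b ∈ B, ∃ b' ∈ B, h = b * g * b'
  cell_one : ∀ g, cell g = 1 ↔ g ∈ B
  cell_inv : ∀ g, cell g⁻¹ = (cell g)⁻¹
  cell_surj : Function.Surjective cell
  cell_mul : ∀ g h, D.isGen (cell g) → cell (g * h) = cell g * cell h ∨ cell (g * h) = cell h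
  cell_mul_up : ∀ g h, D.isGen (cell g) → D.len (cell g * cell h) = D.len (cell h) + 1 →
    cell (g * h) = cell g * cell h
  card_conj : ∀ g, D.isGen (cell g) →
    q * Nat.card {b : G // b ∈ B ∧ g * b * g⁻¹ ∈ B} = Nat.card B

section general

variable {G : Type*} [Group G] [Fintype G]

open Classical in
/-- the elements of a subgroup, as a finset -/
noncomputable def Bset (B : Subgroup G) : Finset G := Finset.univ.filter (· ∈ B)

lemma mem_Bset {B : Subgroup G} {g : G} : g ∈ Bset B ↔ g ∈ B := by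
  unfold Bset
  simp

lemma card_Bset (B : Subgroup G) : (Bset B).card = Nat.card B := by
  classical
  unfold Bset
  rw [Nat.card_eq_fintype_card, Fintype.card_subtype]

lemma card_B_ne_zero (B : Subgroup G) : (Nat.card B : ℂ) ≠ 0 := by
  have : 0 < Nat.card B := Nat.card_pos
  exact_mod_cast this.ne'

lemma avg_eq_sum_Bset (B : Subgroup G) :
    avg B = (Nat.card B : ℂ)⁻¹ • ∑ b ∈ Bset B, single b (1 : ℂ) := by
  classical
  ext g
  rw [coeff_avg, coeff_smul, coeff_sum]
  simp only [Finsupp.smul_apply, Finsupp.finsetSum_apply, coeff_single, Finsupp.single_apply,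
    smul_eq_mul]
  by_cases hg : g ∈ B
  · rw [Set.indicator_of_mem (by exact hg), Finset.sum_eq_single g]
    · simp
    · intro b _ hb
      rw [if_neg hb]
    · intro h
      exact absurd (mem_Bset.2 hg) h
  · rw [Set.indicator_of_notMem (by exact hg), Finset.sum_eq_zero, mul_zero]
    intro b hb
    rw [if_neg]
    rintro rfl
    exact hg (mem_Bset.1 hb)

lemma mul_avg_mul (B : Subgroup G) (x y : MonoidAlgebra ℂ G) :
    x * avg B * y = (Nat.card B : ℂ)⁻¹ • ∑ b ∈ Bset B, x * single b 1 * y := by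
  rw [avg_eq_sum_Bset, mul_smul_comm, smul_mul_assoc, Finset.mul_sum, Finset.sum_mul]

lemma single_one_mul_single (g h : G) :
    (single g (1 : ℂ) : MonoidAlgebra ℂ G) * single h 1 = single (g * h) 1 := by
  rw [single_mul_single, one_mul]

end general

variable {G : Type*} [Group G] [Fintype G] {W : Type*} [Group W] {D : LenData W}
  (C : CellData G D)

/-- `E g = e g e` -/
noncomputable def E (g : G) : MonoidAlgebra ℂ G := avg C.B * single g 1 * avg C.B

lemma E_mul_left {b : G} (hb : b ∈ C.B) (g : G) : E C (b * g) = E C g := by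
  unfold E
  rw [← single_one_mul_single, ← mul_assoc, avg_mul_single hb]

lemma E_mul_right {b : G} (hb : b ∈ C.B) (g : G) : E C (g * b) = E C g := by
  unfold E
  rw [← single_one_mul_single, mul_assoc, mul_assoc, single_mul_avg hb, ← mul_assoc]

lemma E_congr {g h : G} (hgh : C.cell g = C.cell h) : E C g = E C h := by
  obtain ⟨b, hb, b', hb', rfl⟩ := C.cell_eq g h hgh
  rw [E_mul_right C hb', E_mul_left C hb]

lemma E_of_mem {g : G} (hg : g ∈ C.B) : E C g = avg C.B := by
  unfold E
  rw [avg_mul_single hg, avg_mul_avg]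

lemma avg_mul_E (g : G) : avg C.B * E C g = E C g := by
  unfold E
  rw [← mul_assoc, ← mul_assoc, avg_mul_avg]

lemma E_mul_avg (g : G) : E C g * avg C.B = E C g := by
  unfold E
  rw [mul_assoc, avg_mul_avg]

lemma E_mul_E (g h : G) :
    E C g * E C h = (Nat.card C.B : ℂ)⁻¹ • ∑ b ∈ Bset C.B, E C (g * b * h) := by
  have h1 : E C g * E C h =
      (avg C.B * single g 1) * avg C.B * (single h 1 * avg C.B) := by
    unfold E
    calc avg C.B * single g 1 * avg C.B * (avg C.B * single h 1 * avg C.B)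
        = avg C.B * single g 1 * (avg C.B * avg C.B) * (single h 1 * avg C.B) := by
          simp only [mul_assoc]
      _ = _ := by rw [avg_mul_avg]
  rw [h1, mul_avg_mul]
  congr 1
  refine Finset.sum_congr rfl fun b _ => ?_
  unfold E
  rw [← single_one_mul_single, ← single_one_mul_single]
  simp only [mul_assoc]

/-- a representative of a cell -/
noncomputable def rep (w : W) : G := Classical.choose (C.cell_surj w)

lemma cell_rep (w : W) : C.cell (rep C w) = w := Classical.choose_spec (C.cell_surj w)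

/-- `E` of a representative of the cell `w` -/
noncomputable def Ew (w : W) : MonoidAlgebra ℂ G := E C (rep C w)

lemma E_eq_Ew (g : G) : E C g = Ew C (C.cell g) :=
  E_congr C (cell_rep C (C.cell g)).symm

lemma Ew_one : Ew C 1 = avg C.B :=
  E_of_mem C ((C.cell_one _).1 (cell_rep C 1))

lemma avg_mul_Ew (w : W) : avg C.B * Ew C w = Ew C w := avg_mul_E C _

lemma Ew_mul_avg (w : W) : Ew C w * avg C.B = Ew C w := E_mul_avg C _

lemma gen_inv {s : W} (hs : D.isGen s) : s⁻¹ = s :=
  inv_eq_of_mul_eq_one_left (D.gen_sq s hs)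

lemma len_gen {s : W} (hs : D.isGen s) : D.len s = 1 := by
  have h := D.len_mul s hs 1
  rw [mul_one, D.len_one] at h
  omega

lemma Ew_mul_up {s w : W} (hs : D.isGen s) (h : D.len (s * w) = D.len w + 1) :
    Ew C s * Ew C w = Ew C (s * w) := by
  unfold Ew
  rw [E_mul_E]
  have h1 : ∀ b ∈ Bset C.B, E C (rep C s * b * rep C w) = Ew C (s * w) := by
    intro b hb
    rw [E_eq_Ew, mul_assoc]
    have hc : C.cell (b * rep C w) = w := by
      rw [C.cell_mul_left b (mem_Bset.1 hb), cell_rep]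
    rw [C.cell_mul_up (rep C s) (b * rep C w) (by rw [cell_rep]; exact hs)
      (by rw [cell_rep, hc]; exact h), cell_rep, hc]
  rw [Finset.sum_congr rfl h1, Finset.sum_const, card_Bset, ← Nat.cast_smul_eq_nsmul ℂ,
    smul_smul, inv_mul_cancel₀ (card_B_ne_zero C.B), one_smul]
  rfl

lemma Ew_sq {s : W} (hs : D.isGen s) :
    Ew C s * Ew C s = ((C.q : ℂ)⁻¹) • Ew C 1 + (1 - (C.q : ℂ)⁻¹) • Ew C s := by
  classical
  set g := rep C s with hg
  have hcg : C.cell g = s := cell_rep C s
  have hcg' : C.cell g⁻¹ = s := by rw [C.cell_inv, hcg, gen_inv hs]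
  have e1 : Ew C s = E C g := rfl
  have e2 : Ew C s = E C g⁻¹ := by
    rw [E_eq_Ew, hcg']
  have h0 : Ew C s * Ew C s = E C g * E C g⁻¹ := by rw [← e1, ← e2]
  rw [h0, E_mul_E]
  -- split the sum
  have hsplit := Finset.sum_filter_add_sum_filter_not (Bset C.B) (fun b => g * b * g⁻¹ ∈ C.B)
    (fun b => E C (g * b * g⁻¹))
  have h1 : ∀ b ∈ (Bset C.B).filter (fun b => g * b * g⁻¹ ∈ C.B), E C (g * b * g⁻¹) = Ew C 1 := by
    intro b hb
    rw [Finset.mem_filter] at hb
    rw [E_of_mem C hb.2, Ew_one]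
  have h2 : ∀ b ∈ (Bset C.B).filter (fun b => ¬ g * b * g⁻¹ ∈ C.B),
      E C (g * b * g⁻¹) = Ew C s := by
    intro b hb
    rw [Finset.mem_filter] at hb
    rw [E_eq_Ew]
    congr 1
    have hc : C.cell (b * g⁻¹) = s := by
      rw [C.cell_mul_left b (mem_Bset.1 hb.1), hcg']
    rw [mul_assoc]
    rcases C.cell_mul g (b * g⁻¹) (by rw [hcg]; exact hs) with h3 | h3
    · exfalso
      apply hb.2
      rw [← mul_assoc] at h3
      rw [← C.cell_one, h3, hcg, hc, D.gen_sq s hs]
    · rw [h3, hc]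
  rw [Finset.sum_congr rfl h1, Finset.sum_congr rfl h2, Finset.sum_const, Finset.sum_const]
    at hsplit
  rw [← hsplit]
  -- the cardinalities
  have hk : C.q * ((Bset C.B).filter (fun b => g * b * g⁻¹ ∈ C.B)).card = Nat.card C.B := by
    rw [← C.card_conj g (by rw [hcg]; exact hs)]
    congr 1
    rw [Nat.card_eq_fintype_card, Fintype.card_subtype]
    congr 1
    ext b
    simp only [Finset.mem_filter, mem_Bset, Finset.mem_univ, true_and]
  have hk2 : ((Bset C.B).filter (fun b => g * b * g⁻¹ ∈ C.B)).card +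
      ((Bset C.B).filter (fun b => ¬ g * b * g⁻¹ ∈ C.B)).card = Nat.card C.B := by
    rw [Finset.card_filter_add_card_filter_not, card_Bset]
  set k := ((Bset C.B).filter (fun b => g * b * g⁻¹ ∈ C.B)).card with hkdef
  set k' := ((Bset C.B).filter (fun b => ¬ g * b * g⁻¹ ∈ C.B)).card with hkdef'
  have hq0 : (C.q : ℂ) ≠ 0 := by
    have := C.q_pos
    exact_mod_cast this.ne'
  have hB0 := card_B_ne_zero C.B
  have hkc : (C.q : ℂ) * (k : ℂ) = (Nat.card C.B : ℂ) := by exact_mod_cast hk
  have hk2c : (k : ℂ) + (k' : ℂ) = (Nat.card C.B : ℂ) := by exact_mod_cast hk2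
  rw [← Nat.cast_smul_eq_nsmul ℂ, ← Nat.cast_smul_eq_nsmul ℂ, smul_add, smul_smul, smul_smul]
  have hk0 : (k : ℂ) ≠ 0 := by
    intro h
    rw [h, mul_zero] at hkc
    exact hB0 hkc.symm
  have c1 : (Nat.card C.B : ℂ)⁻¹ * (k : ℂ) = (C.q : ℂ)⁻¹ := by
    rw [← hkc]
    field_simp
  have c2 : (Nat.card C.B : ℂ)⁻¹ * (k' : ℂ) = 1 - (C.q : ℂ)⁻¹ := by
    have : (k' : ℂ) = (Nat.card C.B : ℂ) - k := by rw [← hk2c]; ring
    rw [this, mul_sub, c1, inv_mul_cancel₀ hB0]
  rw [c1, c2]

/-- the standard basis elements `T_w = q^{l(w)} E(n_w)` -/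
noncomputable def T (w : W) : MonoidAlgebra ℂ G := ((C.q : ℂ) ^ D.len w) • Ew C w

lemma T_one : T C (1 : W) = avg C.B := by
  unfold T
  rw [D.len_one, pow_zero, one_smul, Ew_one]

lemma avg_mul_T (w : W) : avg C.B * T C w = T C w := by
  unfold T
  rw [mul_smul_comm, avg_mul_Ew]

lemma T_mul_avg (w : W) : T C w * avg C.B = T C w := by
  unfold T
  rw [smul_mul_assoc, Ew_mul_avg]

lemma T_mul_up {s w : W} (hs : D.isGen s) (h : D.len (s * w) = D.len w + 1) :
    T C s * T C w = T C (s * w) := by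
  unfold T
  rw [smul_mul_assoc, mul_smul_comm, smul_smul, Ew_mul_up C hs h, h, len_gen hs, ← pow_add]
  congr 2
  omega

lemma T_sq {s : W} (hs : D.isGen s) :
    T C s * T C s = (C.q : ℂ) • T C 1 + ((C.q : ℂ) - 1) • T C s := by
  have hq0 : (C.q : ℂ) ≠ 0 := by
    have := C.q_pos
    exact_mod_cast this.ne'
  unfold T
  rw [smul_mul_assoc, mul_smul_comm, smul_smul, Ew_sq C hs, len_gen hs, D.len_one, pow_zero,
    one_smul, pow_one, smul_add, smul_smul, smul_smul, smul_smul]
  congr 2
  · field_simp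
  · field_simp

lemma T_mul_down {s w : W} (hs : D.isGen s) (h : D.len (s * w) + 1 = D.len w) :
    T C s * T C w = ((C.q : ℂ) - 1) • T C w + (C.q : ℂ) • T C (s * w) := by
  have h1 : T C s * T C (s * w) = T C w := by
    rw [T_mul_up C hs (by rw [gen_mul_cancel D hs]; omega), gen_mul_cancel D hs]
  rw [← h1, ← mul_assoc, T_sq C hs, add_mul, smul_mul_assoc, smul_mul_assoc, T_one, avg_mul_T,
    add_comm]

variable [Fintype W] [DecidableEq W]

/-- the linear map `f ↦ ∑_w f(w) T_w` -/
noncomputable def Phi : (W → ℂ) →ₗ[ℂ] MonoidAlgebra ℂ G where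
  toFun f := ∑ w, f w • T C w
  map_add' f g := by
    simp only [Pi.add_apply, add_smul, Finset.sum_add_distrib]
  map_smul' r f := by
    simp only [Pi.smul_apply, smul_eq_mul, mul_smul, RingHom.id_apply, Finset.smul_sum]

lemma Phi_apply (f : W → ℂ) : Phi C f = ∑ w, f w • T C w := rfl

lemma Phi_single (v : W) : Phi C (Pi.single v 1) = T C v := by
  rw [Phi_apply, Finset.sum_eq_single v]
  · rw [Pi.single_eq_same, one_smul]
  · intro w _ hw
    rw [Pi.single_eq_of_ne hw, zero_smul]
  · intro h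
    exact absurd (Finset.mem_univ _) h

lemma T_mul_T_eq_Phi {s : W} (hs : D.isGen s) (v : W) :
    T C s * T C v = Phi C (Ls D (C.q : ℂ) s (Pi.single v 1)) := by
  rcases D.len_mul s hs v with h | h
  · rw [Ls_single_up D _ hs h, Phi_single, T_mul_up C hs h]
  · rw [Ls_single_down D _ hs h, map_add, map_smul, map_smul, Phi_single, Phi_single,
      T_mul_down C hs h]

lemma T_mul_Phi {s : W} (hs : D.isGen s) (g : W → ℂ) :
    T C s * Phi C g = Phi C (Ls D (C.q : ℂ) s g) := by
  have hg := eq_sum_single g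
  have h1 : Ls D (C.q : ℂ) s g = ∑ v, g v • Ls D (C.q : ℂ) s (Pi.single v 1) := by
    conv_lhs => rw [hg]
    rw [map_sum]
    exact Finset.sum_congr rfl fun v _ => map_smul _ _ _
  rw [h1, map_sum, Phi_apply, Finset.mul_sum]
  refine Finset.sum_congr rfl fun v _ => ?_
  rw [mul_smul_comm, map_smul, T_mul_T_eq_Phi C hs]

lemma T_mul_Phi_word (g : W → ℂ) : ∀ l : List W, IsRedWord D l →
    T C l.prod * Phi C g = Phi C (Lw D (C.q : ℂ) l g)
  | [], _ => by
    rw [List.prod_nil, T_one, Lw_nil, LinearMap.id_apply, Phi_apply, Finset.mul_sum]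
    exact Finset.sum_congr rfl fun w _ => by rw [mul_smul_comm, avg_mul_T]
  | s :: l, h => by
    obtain ⟨hl, hs, hlen⟩ := IsRedWord.tail D h
    rw [List.prod_cons, ← T_mul_up C hs hlen, mul_assoc, T_mul_Phi_word g l hl, T_mul_Phi C hs,
      Lw_cons, LinearMap.comp_apply]

/-- **`Φ` is multiplicative.** -/
theorem Phi_mul (f g : W → ℂ) : Phi C f * Phi C g = Phi C (hmul D (C.q : ℂ) f g) := by
  have h1 : hmul D (C.q : ℂ) f g = ∑ x, f x • Mw D (C.q : ℂ) x g := rfl
  rw [h1, map_sum, Phi_apply, Finset.sum_mul]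
  refine Finset.sum_congr rfl fun x _ => ?_
  rw [smul_mul_assoc, map_smul]
  congr 1
  have := T_mul_Phi_word C g (D.word x) (isRedWord_word D x)
  rw [D.word_prod] at this
  exact this

end Cfsg.Agent.Lib.Helper5.HeckeCell
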