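import Mathlib
import Cfsg.Agent.Lib.Helper5.BNStRes
import Cfsg.Agent.Lib.Helper5.HeckeCellA

/-!
# Cell data from a (B,N)-pair

A group `G` with a (B,N)-pair, an identification `Ψ` of its Weyl group with a group `W'` carrying length
data compatible with the word length, and a parameter `q` with `[B : B ∩ s⁻¹ B s] = q` for the
distinguished generators give `CellData G D`.
-/

set_option autoImplicit false

namespace Cfsg.Agent.Lib.Helper5.HeckeBN

open Cfsg Cfsg.Agent.Lib.Helper6 Cfsg.Agent.Lib.Helper5.BNSt Cfsg.Agent.Lib.Helper5.CoxEx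
  Cfsg.Agent.Lib.Helper5.HeckeDef Cfsg.Agent.Lib.Helper5.HeckeCell

variable {G : Type*} [Group G] (P : Cfsg.BNPair G)

lemma cellOf_eq_one_iff (g : G) : cellOf P g = 1 ↔ g ∈ P.B := by
  rw [← clG_one P, cellOf_eq_clG_iff P P.N.one_mem, inDC_one_iff]

lemma cellOf_inv (g : G) : cellOf P g⁻¹ = (cellOf P g)⁻¹ := by
  have h1 : cellOf P g = clG P (nOf P g) := rfl
  rw [h1, ← clG_inv P (nOf_mem P g), cellOf_eq_clG_iff P (P.N.inv_mem (nOf_mem P g))]
  exact inDC_inv P (nOf_inDC P g)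

lemma cellOf_surjective : Function.Surjective (cellOf P) := by
  intro w
  obtain ⟨n, hn, rfl⟩ := clG_surjective P w
  exact ⟨n, cellOf_of_mem_N P hn⟩

lemma exists_S_of_mem_SW {g : G} (h : cellOf P g ∈ SW P) : ∃ s ∈ P.S, InDC P s g := by
  obtain ⟨s, hs, e⟩ := h
  exact ⟨s, hs, (cellOf_eq_clG_iff P (P.subset hs) g).1 e.symm⟩

lemma cellOf_mul_of_mem_SW {g : G} (hg : cellOf P g ∈ SW P) (h : G) :
    cellOf P (g * h) = cellOf P g * cellOf P h ∨ cellOf P (g * h) = cellOf P h := by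
  obtain ⟨s, hs, hsg⟩ := exists_S_of_mem_SW P hg
  have hsN := P.subset hs
  have hn := nOf_mem P h
  have e1 : cellOf P g = clG P s := (cellOf_eq_clG_iff P hsN g).2 hsg
  have e2 : cellOf P h = clG P (nOf P h) := rfl
  rcases dc_mul_left P hs hn hsg (nOf_inDC P h) with k | k
  · left
    rw [e1, e2, ← clG_mul P hsN hn, cellOf_eq_clG_iff P (P.N.mul_mem hsN hn)]
    exact k
  · right
    rw [e2, cellOf_eq_clG_iff P hn]
    exact k

lemma cellOf_mul_up {g : G} (hg : cellOf P g ∈ SW P) (h : G)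
    (hlen : wlen (SW P) (cellOf P g * cellOf P h) = wlen (SW P) (cellOf P h) + 1) :
    cellOf P (g * h) = cellOf P g * cellOf P h := by
  obtain ⟨s, hs, hsg⟩ := exists_S_of_mem_SW P hg
  have hsN := P.subset hs
  have hn := nOf_mem P h
  have e1 : cellOf P g = clG P s := (cellOf_eq_clG_iff P hsN g).2 hsg
  have e2 : cellOf P h = clG P (nOf P h) := rfl
  rw [e1, e2, ← clG_mul P hsN hn, wlen_clG P (P.N.mul_mem hsN hn), wlen_clG P hn] at hlen
  have hgood := good_of_len_le' P hn hs (by omega)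
  rw [e1, e2, ← clG_mul P hsN hn, cellOf_eq_clG_iff P (P.N.mul_mem hsN hn)]
  obtain ⟨x, hx, y, hy, rfl⟩ := hsg
  obtain ⟨x', hx', y', hy', e⟩ := nOf_inDC P h
  have e' : x * s * y * h = x * (s * (y * x') * nOf P h) * y' := by
    conv_lhs => rw [e]
    group
  rw [e']
  exact inDC_mul_right P hy' (inDC_mul_left P hx (hgood _ (P.B.mul_mem hy hx')))

lemma card_conj_of_inDC {s g : G} (hsg : InDC P s g) :
    Nat.card {b : G // b ∈ P.B ∧ g * b * g⁻¹ ∈ P.B} =
      Nat.card {b : G // b ∈ P.B ∧ s * b * s⁻¹ ∈ P.B} := by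
  obtain ⟨x, hx, y, hy, rfl⟩ := hsg
  have key : ∀ b : G, x * s * y * b * (x * s * y)⁻¹ ∈ P.B ↔ s * (y * b * y⁻¹) * s⁻¹ ∈ P.B := by
    intro b
    have e : x * s * y * b * (x * s * y)⁻¹ = x * (s * (y * b * y⁻¹) * s⁻¹) * x⁻¹ := by group
    rw [e]
    constructor
    · intro h
      have := P.B.mul_mem (P.B.mul_mem (P.B.inv_mem hx) h) hx
      have e2 : x⁻¹ * (x * (s * (y * b * y⁻¹) * s⁻¹) * x⁻¹) * x = s * (y * b * y⁻¹) * s⁻¹ := by
        group
      rwa [e2] at this
    · intro h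
      exact P.B.mul_mem (P.B.mul_mem hx h) (P.B.inv_mem hx)
  refine Nat.card_congr
    { toFun := fun b => ⟨y * b.1 * y⁻¹,
        P.B.mul_mem (P.B.mul_mem hy b.2.1) (P.B.inv_mem hy), (key b.1).1 b.2.2⟩
      invFun := fun b => ⟨y⁻¹ * b.1 * y,
        P.B.mul_mem (P.B.mul_mem (P.B.inv_mem hy) b.2.1) hy, (key _).2 (by
          have e : y * (y⁻¹ * b.1 * y) * y⁻¹ = b.1 := by group
          rw [e]
          exact b.2.2)⟩
      left_inv := fun b => Subtype.ext (by
        show y⁻¹ * (y * b.1 * y⁻¹) * y = b.1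
        group)
      right_inv := fun b => Subtype.ext (by
        show y * (y⁻¹ * b.1 * y) * y⁻¹ = b.1
        group) }

variable {W' : Type*} [Group W'] (D : LenData W')

/-- **Cell data from a (B,N)-pair.** -/
noncomputable def cellData (Ψ : Weyl P →* W') (hΨ : Function.Bijective Ψ)
    (hlen : ∀ w, D.len (Ψ w) = wlen (SW P) w)
    (hgen : ∀ w, D.isGen (Ψ w) ↔ w ∈ SW P) (q : ℕ) (hq : 0 < q)
    (hcard : ∀ s ∈ P.S, q * Nat.card {b : G // b ∈ P.B ∧ s * b * s⁻¹ ∈ P.B} = Nat.card P.B) :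
    CellData G D where
  B := P.B
  cell g := Ψ (cellOf P g)
  q := q
  q_pos := hq
  cell_mul_left b hb g := by rw [cellOf_mul_left P hb]
  cell_mul_right b hb g := by rw [cellOf_mul_right P hb]
  cell_eq g h e := by
    have := (cellOf_eq_iff P g h).1 (hΨ.1 e)
    exact this
  cell_one g := by
    rw [← map_one Ψ, hΨ.1.eq_iff, cellOf_eq_one_iff]
  cell_inv g := by rw [cellOf_inv, map_inv]
  cell_surj := hΨ.2.comp (cellOf_surjective P)
  cell_mul g h hg := by
    rcases cellOf_mul_of_mem_SW P ((hgen _).1 hg) h with k | k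
    · left
      rw [k, map_mul]
    · right
      rw [k]
  cell_mul_up g h hg hl := by
    rw [← map_mul, hlen, hlen] at hl
    rw [cellOf_mul_up P ((hgen _).1 hg) h hl, map_mul]
  card_conj g hg := by
    obtain ⟨s, hs, hsg⟩ := exists_S_of_mem_SW P ((hgen _).1 hg)
    rw [card_conj_of_inDC P hsg]
    exact hcard s hs

end Cfsg.Agent.Lib.Helper5.HeckeBN
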