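import Mathlib
import Cfsg.Agent.Lib.Helper5.HeckeCellA

/-!
# Iwahori's theorem inside the group algebra, part B: the trace form; `q` is a genuine parameter
-/

set_option autoImplicit false

namespace Cfsg.Agent.Lib.Helper5.HeckeCell

open Finset MonoidAlgebra Cfsg.Agent.Lib.Helper5.HeckeDef Cfsg.Agent.Lib.Helper5.GAlg
  Cfsg.Agent.Lib.Helper92.HeckeGAlg
open scoped ComplexConjugate

variable {G : Type*} [Group G] [Fintype G] {W : Type*} [Group W] {D : LenData W}
  (C : CellData G D)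

/-! ### Supports and the coefficient of `1` -/

lemma E_eq_sum (g : G) : E C g = ((Nat.card C.B : ℂ)⁻¹ * (Nat.card C.B : ℂ)⁻¹) •
    ∑ b ∈ Bset C.B, ∑ b' ∈ Bset C.B, single (b * g * b') (1 : ℂ) := by
  have h1 : E C g = 1 * avg C.B * (single g 1 * avg C.B) := by
    unfold E
    rw [one_mul, mul_assoc]
  rw [h1, mul_avg_mul, mul_smul]
  congr 1
  rw [Finset.smul_sum]
  refine Finset.sum_congr rfl fun b _ => ?_
  have h2 : 1 * single b (1 : ℂ) * (single g 1 * avg C.B) =
      (single b (1 : ℂ) * single g 1) * avg C.B * 1 := by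
    rw [one_mul, mul_one, mul_assoc]
  rw [h2, mul_avg_mul]
  congr 1
  refine Finset.sum_congr rfl fun b' _ => ?_
  rw [mul_one, single_one_mul_single, single_one_mul_single]

lemma cell_of_coeff_ne_zero {g x : G} (h : (E C g).coeff x ≠ 0) : C.cell x = C.cell g := by
  classical
  by_contra hne
  apply h
  rw [E_eq_sum, coeff_smul, coeff_sum]
  simp only [Finsupp.smul_apply, Finsupp.finsetSum_apply, coeff_sum, coeff_single,
    Finsupp.single_apply, smul_eq_mul]
  rw [Finset.sum_eq_zero, mul_zero]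
  intro b hb
  apply Finset.sum_eq_zero
  intro b' hb'
  rw [if_neg]
  intro e
  apply hne
  rw [← e, C.cell_mul_right b' (mem_Bset.1 hb'), C.cell_mul_left b (mem_Bset.1 hb)]

lemma coeff_one_E (g : G) [Decidable (g ∈ C.B)] :
    (E C g).coeff 1 = if g ∈ C.B then (Nat.card C.B : ℂ)⁻¹ else 0 := by
  split_ifs with hg
  · rw [E_of_mem C hg, coeff_avg_of_mem C.B.one_mem]
  · by_contra h
    have := cell_of_coeff_ne_zero C h
    rw [(C.cell_one 1).2 C.B.one_mem] at this
    exact hg ((C.cell_one g).1 this.symm)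

lemma coeff_one_E_mul_E_of_ne {g h : G} (hne : C.cell h ≠ (C.cell g)⁻¹) :
    (E C g * E C h).coeff 1 = 0 := by
  classical
  rw [E_mul_E, coeff_smul, coeff_sum]
  simp only [Finsupp.smul_apply, Finsupp.finsetSum_apply, smul_eq_mul]
  rw [Finset.sum_eq_zero, mul_zero]
  intro b hb
  rw [coeff_one_E, if_neg]
  intro hmem
  apply hne
  have hb' := mem_Bset.1 hb
  have e : h = (g * b)⁻¹ * (g * b * h) := by group
  rw [e, C.cell_mul_right _ hmem, C.cell_inv, C.cell_mul_right b hb']

lemma gstar_E (g : G) : gstar (E C g) = E C g⁻¹ := by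
  unfold E
  rw [gstar_mul, gstar_mul, gstar_avg, gstar_single, map_one, mul_assoc]

lemma gstar_Ew (w : W) : gstar (Ew C w) = Ew C w⁻¹ := by
  unfold Ew
  rw [gstar_E]
  apply E_congr
  rw [C.cell_inv, cell_rep, cell_rep]

lemma coeff_one_Ew_mul_Ew_of_ne {x y : W} (hne : y ≠ x⁻¹) : (Ew C x * Ew C y).coeff 1 = 0 := by
  unfold Ew
  apply coeff_one_E_mul_E_of_ne
  rw [cell_rep, cell_rep]
  exact hne

/-! ### The index formula -/

lemma Ew_one_mul (w : W) : Ew C 1 * Ew C w = Ew C w := by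
  rw [Ew_one, avg_mul_Ew]

lemma kappa_word : ∀ l : List W, IsRedWord D l →
    (C.q : ℂ) ^ l.length * (Ew C l.prod * Ew C l.prod⁻¹).coeff 1 = (Nat.card C.B : ℂ)⁻¹
  | [], _ => by
    rw [List.length_nil, pow_zero, one_mul, List.prod_nil, inv_one, Ew_one, avg_mul_avg,
      coeff_avg_of_mem C.B.one_mem]
  | s :: l, h => by
    obtain ⟨hl, hs, hlen⟩ := IsRedWord.tail D h
    have ih := kappa_word l hl
    have hq0 : (C.q : ℂ) ≠ 0 := by
      have := C.q_pos
      exact_mod_cast this.ne'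
    set w := l.prod with hw
    rw [List.prod_cons, List.length_cons]
    have h1 : Ew C (s * w)⁻¹ = Ew C w⁻¹ * Ew C s := by
      rw [← gstar_Ew, ← Ew_mul_up C hs hlen, gstar_mul, gstar_Ew, gstar_Ew, gen_inv hs]
    have hne : w⁻¹ ≠ (s * w)⁻¹ := by
      intro e
      have e' : w = s * w := inv_injective e
      rw [← e'] at hlen
      omega
    have h2 : (Ew C (s * w) * Ew C (s * w)⁻¹).coeff 1 =
        (C.q : ℂ)⁻¹ * (Ew C w * Ew C w⁻¹).coeff 1 := by
      rw [h1, ← Ew_mul_up C hs hlen]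
      have e1 : Ew C s * Ew C w * (Ew C w⁻¹ * Ew C s) = (Ew C s * Ew C w * Ew C w⁻¹) * Ew C s := by
        simp only [mul_assoc]
      rw [e1, coeff_one_mul_comm]
      have e2 : Ew C s * (Ew C s * Ew C w * Ew C w⁻¹) = (Ew C s * Ew C s) * Ew C w * Ew C w⁻¹ := by
        simp only [mul_assoc]
      rw [e2, Ew_sq C hs, add_mul, add_mul, smul_mul_assoc, smul_mul_assoc, smul_mul_assoc,
        smul_mul_assoc, Ew_one_mul, Ew_mul_up C hs hlen, coeff_add, coeff_smul, coeff_smul]
      simp only [Finsupp.add_apply, Finsupp.smul_apply, smul_eq_mul]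
      rw [coeff_one_Ew_mul_Ew_of_ne C hne, mul_zero, add_zero]
    rw [h2, pow_succ, ← ih]
    field_simp

lemma kappa [Fintype W] [DecidableEq W] (w : W) :
    (C.q : ℂ) ^ D.len w * (Ew C w * Ew C w⁻¹).coeff 1 = (Nat.card C.B : ℂ)⁻¹ := by
  have h := kappa_word C (D.word w) (isRedWord_word D w)
  rw [D.word_prod, D.word_len] at h
  exact h

/-- **The trace formula.** -/
theorem tau_T_mul_T [Fintype W] [DecidableEq W] (x y : W) :
    (Nat.card C.B : ℂ) * (T C x * T C y).coeff 1 = if y = x⁻¹ then (C.q : ℂ) ^ D.len x else 0 := by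
  have hB0 := card_B_ne_zero C.B
  unfold T
  rw [smul_mul_assoc, mul_smul_comm, smul_smul, coeff_smul]
  simp only [Finsupp.smul_apply, smul_eq_mul]
  split_ifs with h
  · subst h
    rw [D.len_inv]
    have hk := kappa C x
    have e : (C.q : ℂ) ^ D.len x * (C.q : ℂ) ^ D.len x * (Ew C x * Ew C x⁻¹).coeff 1 =
        (C.q : ℂ) ^ D.len x * ((C.q : ℂ) ^ D.len x * (Ew C x * Ew C x⁻¹).coeff 1) := by ring
    rw [e, hk]
    field_simp
  · rw [coeff_one_Ew_mul_Ew_of_ne C h, mul_zero, mul_zero]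

variable [Fintype W] [DecidableEq W]

lemma tau_T (w : W) : (Nat.card C.B : ℂ) * (T C w).coeff 1 = if w = 1 then 1 else 0 := by
  have h := tau_T_mul_T C w 1
  rw [T_one, T_mul_avg] at h
  rw [h]
  by_cases hw : w = 1
  · rw [if_pos hw, if_pos (by rw [hw, inv_one]), hw, D.len_one, pow_zero]
  · rw [if_neg hw, if_neg]
    intro e
    apply hw
    rw [← inv_inv w, ← e, inv_one]

lemma tau_Phi (f : W → ℂ) : (Nat.card C.B : ℂ) * (Phi C f).coeff 1 = f 1 := by
  rw [Phi_apply, coeff_sum]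
  simp only [Finsupp.finsetSum_apply, coeff_smul, Finsupp.smul_apply, smul_eq_mul]
  rw [Finset.mul_sum, Finset.sum_eq_single 1]
  · rw [mul_left_comm, tau_T, if_pos rfl, mul_one]
  · intro w _ hw
    rw [mul_left_comm, tau_T, if_neg hw, mul_zero]
  · intro h
    exact absurd (Finset.mem_univ _) h

lemma q_ne_zero : (C.q : ℂ) ≠ 0 := by
  have := C.q_pos
  exact_mod_cast this.ne'

/-- **`Φ` is injective.** -/
theorem Phi_injective : Function.Injective (Phi C) := by
  rw [← LinearMap.ker_eq_bot, LinearMap.ker_eq_bot']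
  intro f hf
  funext v
  have h1 : (Nat.card C.B : ℂ) * (Phi C f * T C v⁻¹).coeff 1 = 0 := by
    rw [hf, zero_mul]
    simp
  rw [Phi_apply, Finset.sum_mul, coeff_sum] at h1
  simp only [Finsupp.finsetSum_apply, smul_mul_assoc, coeff_smul, Finsupp.smul_apply,
    smul_eq_mul] at h1
  rw [Finset.mul_sum, Finset.sum_eq_single v] at h1
  · rw [mul_left_comm, tau_T_mul_T, if_pos rfl] at h1
    rcases mul_eq_zero.1 h1 with h2 | h2
    · exact h2
    · exact absurd h2 (pow_ne_zero _ (q_ne_zero C))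
  · intro w _ hw
    rw [mul_left_comm, tau_T_mul_T, if_neg, mul_zero]
    intro e
    exact hw (inv_injective e).symm
  · intro h
    exact absurd (Finset.mem_univ _) h

/-- **Iwahori's theorem**: `q` is a genuine parameter. -/
theorem genuine : Genuine D (C.q : ℂ) := by
  refine ⟨q_ne_zero C, ?_, ?_⟩
  · intro f g h
    apply Phi_injective C
    rw [← Phi_mul, ← Phi_mul, ← Phi_mul, ← Phi_mul, mul_assoc]
  · intro x y
    rw [← tau_Phi C (hmul D (C.q : ℂ) (Pi.single x 1) (Pi.single y 1)), ← Phi_mul, Phi_single,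
      Phi_single, tau_T_mul_T]

end Cfsg.Agent.Lib.Helper5.HeckeCell
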