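import Mathlib
import Cfsg.Agent.Lib.Helper5.HeckeCellB

/-!
# Iwahori's theorem inside the group algebra, part C: semisimplicity at `q` and the centre

Multiplication by `z₀` is injective at the parameter `q` (positivity of the form `τ(x* x)`), and the centre of
`(W → ℂ, hmul q)` has the dimension of `e Z(ℂG)`.
-/

set_option autoImplicit false

namespace Cfsg.Agent.Lib.Helper5.HeckeCell

open Finset MonoidAlgebra Cfsg.Agent.Lib.Helper5.HeckeDef Cfsg.Agent.Lib.Helper5.GAlg
  Cfsg.Agent.Lib.Helper92.HeckeGAlg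
open scoped ComplexConjugate

section pos

variable {G : Type*} [Group G] [Fintype G]

/-- positivity: if `∑ cᵢ aᵢ* aᵢ x = 0` with `cᵢ ≥ 0` and `c_{i₀} > 0` then `a_{i₀} x = 0` -/
lemma eq_zero_of_sum_gstar_mul {ι : Type*} (s : Finset ι) (a : ι → MonoidAlgebra ℂ G) (c : ι → ℝ)
    (hc : ∀ i ∈ s, 0 ≤ c i) {i₀ : ι} (hi₀ : i₀ ∈ s) (hc₀ : 0 < c i₀) (x : MonoidAlgebra ℂ G)
    (h : ∑ i ∈ s, (c i : ℂ) • (gstar (a i) * (a i * x)) = 0) : a i₀ * x = 0 := by
  have h1 : (gstar x * ∑ i ∈ s, (c i : ℂ) • (gstar (a i) * (a i * x))).coeff 1 = 0 := by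
    rw [h, mul_zero]
    simp
  rw [Finset.mul_sum, coeff_sum] at h1
  simp only [Finsupp.finsetSum_apply, mul_smul_comm, coeff_smul, Finsupp.smul_apply,
    smul_eq_mul] at h1
  have h2 : ∀ i, (gstar x * (gstar (a i) * (a i * x))).coeff 1 =
      ((∑ g : G, Complex.normSq ((a i * x).coeff g) : ℝ) : ℂ) := by
    intro i
    rw [← mul_assoc, ← gstar_mul, coeff_one_gstar_mul]
    push_cast
    rfl
  simp only [h2] at h1
  have h3 : (∑ i ∈ s, c i * ∑ g : G, Complex.normSq ((a i * x).coeff g) : ℝ) = 0 := by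
    exact_mod_cast h1
  rw [Finset.sum_eq_zero_iff_of_nonneg] at h3
  · have h4 := h3 i₀ hi₀
    rcases mul_eq_zero.1 h4 with h5 | h5
    · exact absurd h5 hc₀.ne'
    · apply eq_zero_of_coeff_one_gstar_mul
      rw [coeff_one_gstar_mul]
      exact_mod_cast h5
  · intro i hi
    exact mul_nonneg (hc i hi) (Finset.sum_nonneg fun g _ => Complex.normSq_nonneg _)

/-- an element commuting with all group elements is central -/
lemma mem_center_of_forall_single {z : MonoidAlgebra ℂ G}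
    (h : ∀ g : G, single g (1 : ℂ) * z = z * single g 1) :
    z ∈ Subalgebra.center ℂ (MonoidAlgebra ℂ G) := by
  rw [Subalgebra.mem_center_iff]
  intro b
  induction b using MonoidAlgebra.induction_linear with
  | zero => simp
  | add x y hx hy => rw [add_mul, mul_add, hx, hy]
  | single g c =>
    have : single g c = c • single g (1 : ℂ) := by
      rw [smul_single, smul_eq_mul, mul_one]
    rw [this, smul_mul_assoc, mul_smul_comm, h g]

/-- the class average `∑_g g x g⁻¹` -/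
noncomputable def Gam (x : MonoidAlgebra ℂ G) : MonoidAlgebra ℂ G :=
  ∑ g : G, single g (1 : ℂ) * x * single g⁻¹ 1

lemma Gam_mem_center (x : MonoidAlgebra ℂ G) :
    Gam x ∈ Subalgebra.center ℂ (MonoidAlgebra ℂ G) := by
  apply mem_center_of_forall_single
  intro h
  unfold Gam
  rw [Finset.mul_sum, Finset.sum_mul]
  refine Fintype.sum_equiv (Equiv.mulLeft h) _ _ fun g => ?_
  rw [Equiv.coe_mulLeft, ← mul_assoc, ← mul_assoc, single_one_mul_single, mul_assoc (single (h * g) 1 * x),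
    single_one_mul_single]
  congr 2
  group

/-- `e Z(ℂG)` -/
noncomputable def avgCenter (B : Subgroup G) : Submodule ℂ (MonoidAlgebra ℂ G) :=
  Submodule.map (LinearMap.mulLeft ℂ (avg B))
    (Subalgebra.toSubmodule (Subalgebra.center ℂ (MonoidAlgebra ℂ G)))

lemma mem_avgCenter {B : Subgroup G} {y : MonoidAlgebra ℂ G} : y ∈ avgCenter B ↔
    ∃ z ∈ Subalgebra.center ℂ (MonoidAlgebra ℂ G), avg B * z = y := by
  unfold avgCenter
  rw [Submodule.mem_map]
  rfl

lemma eq_sum_coeff (z : MonoidAlgebra ℂ G) : z = ∑ g : G, z.coeff g • single g (1 : ℂ) := by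
  have h := ofFun_coeff z
  unfold ofFun at h
  rw [← h]
  refine Finset.sum_congr rfl fun g _ => ?_
  rw [smul_single, smul_eq_mul, mul_one, h]

end pos

variable {G : Type*} [Group G] [Fintype G] {W : Type*} [Group W] [Fintype W] [DecidableEq W]
  {D : LenData W} (C : CellData G D)

lemma gstar_T (w : W) : gstar (T C w) = T C w⁻¹ := by
  unfold T
  rw [gstar_smul, gstar_Ew, map_pow, Complex.conj_natCast, D.len_inv]

lemma avg_mul_Phi (f : W → ℂ) : avg C.B * Phi C f = Phi C f := by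
  rw [Phi_apply, Finset.mul_sum]
  exact Finset.sum_congr rfl fun w _ => by rw [mul_smul_comm, avg_mul_T]

lemma Phi_mul_avg (f : W → ℂ) : Phi C f * avg C.B = Phi C f := by
  rw [Phi_apply, Finset.sum_mul]
  exact Finset.sum_congr rfl fun w _ => by rw [smul_mul_assoc, T_mul_avg]

lemma Phi_z0 : Phi C (z0 D (C.q : ℂ)) =
    ∑ w, ((C.q : ℂ) ^ (Lmax D - D.len w)) • (T C w * T C w⁻¹) := by
  unfold z0
  rw [cas_apply, map_sum]
  refine Finset.sum_congr rfl fun w _ => ?_
  rw [map_smul, ← Phi_mul, ← Phi_mul, Phi_single, Phi_single, Phi_single, T_one, T_mul_avg]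

/-- **Multiplication by `z₀` is injective at the parameter `q`.** -/
theorem zInj : ZInj D (C.q : ℂ) := by
  have key : ∀ f : W → ℂ, hmul D (C.q : ℂ) (z0 D (C.q : ℂ)) f = 0 → f = 0 := by
    intro f hf
    have h1 : Phi C (z0 D (C.q : ℂ)) * Phi C f = 0 := by
      rw [Phi_mul, hf, map_zero]
    rw [Phi_z0, Finset.sum_mul] at h1
    have h2 : ∑ w : W, (((C.q : ℝ) ^ (Lmax D - D.len w) : ℝ) : ℂ) •
        (gstar (T C w⁻¹) * (T C w⁻¹ * Phi C f)) = 0 := by
      rw [← h1]
      refine Finset.sum_congr rfl fun w _ => ?_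
      rw [gstar_T, inv_inv, smul_mul_assoc, mul_assoc]
      push_cast
      rfl
    have h3 := eq_zero_of_sum_gstar_mul (Finset.univ : Finset W) (fun w => T C w⁻¹)
      (fun w => (C.q : ℝ) ^ (Lmax D - D.len w)) (fun w _ => by positivity)
      (Finset.mem_univ (1 : W))
      (by
        have : (0 : ℝ) < C.q := by exact_mod_cast C.q_pos
        positivity) (Phi C f) h2
    simp only [inv_one] at h3
    rw [T_one, avg_mul_Phi] at h3
    exact Phi_injective C (by rw [h3, map_zero])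
  intro f f' hff'
  have h0 : hmul D (C.q : ℂ) (z0 D (C.q : ℂ)) (f + (-1 : ℂ) • f') = 0 := by
    rw [hmul_add_right, hmul_smul_right]
    have : hmul D (C.q : ℂ) (z0 D (C.q : ℂ)) f = hmul D (C.q : ℂ) (z0 D (C.q : ℂ)) f' := hff'
    rw [this]
    simp
  have := key _ h0
  have e : f = f + (-1 : ℂ) • f' + f' := by simp
  rw [e, this, zero_add]

/-! ### The centre -/

lemma Phi_comm_T {f : W → ℂ} (hf : f ∈ center D (C.q : ℂ)) (y : W) :
    Phi C f * T C y = T C y * Phi C f := by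
  rw [← Phi_single C y, Phi_mul, Phi_mul, hf y]

lemma Phi_comm_E {f : W → ℂ} (hf : f ∈ center D (C.q : ℂ)) (g : G) :
    Phi C f * E C g = E C g * Phi C f := by
  have hq : ((C.q : ℂ) ^ D.len (C.cell g)) ≠ 0 := pow_ne_zero _ (q_ne_zero C)
  have h1 : E C g = ((C.q : ℂ) ^ D.len (C.cell g))⁻¹ • T C (C.cell g) := by
    unfold T
    rw [smul_smul, inv_mul_cancel₀ hq, one_smul, E_eq_Ew]
  rw [h1, mul_smul_comm, smul_mul_assoc, Phi_comm_T C hf]

/-- the element `u = ∑_g E(g) E(g⁻¹)` -/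
noncomputable def uElt : MonoidAlgebra ℂ G := ∑ g : G, E C g * E C g⁻¹

lemma uElt_mul_Phi {f : W → ℂ} (hf : f ∈ center D (C.q : ℂ)) :
    uElt C * Phi C f = avg C.B * Gam (Phi C f) := by
  have hG := Gam_mem_center (Phi C f)
  have h1 : avg C.B * Gam (Phi C f) = avg C.B * Gam (Phi C f) * avg C.B := by
    rw [mul_assoc, ← (Subalgebra.mem_center_iff.1 hG) (avg C.B), ← mul_assoc, avg_mul_avg]
  rw [h1]
  unfold uElt Gam
  rw [Finset.sum_mul, Finset.mul_sum, Finset.sum_mul]
  refine Finset.sum_congr rfl fun g _ => ?_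
  rw [mul_assoc, ← Phi_comm_E C hf g⁻¹]
  unfold E
  have e1 : avg C.B * single g 1 * avg C.B * (Phi C f * (avg C.B * single g⁻¹ 1 * avg C.B)) =
      avg C.B * single g 1 * (avg C.B * Phi C f * avg C.B) * single g⁻¹ 1 * avg C.B := by
    simp only [mul_assoc]
  rw [e1, avg_mul_Phi, Phi_mul_avg]
  simp only [mul_assoc]

lemma uElt_eq : uElt C = ∑ g : G, ((1 : ℝ) : ℂ) • (gstar (E C g⁻¹) * E C g⁻¹) := by
  unfold uElt
  refine Finset.sum_congr rfl fun g _ => ?_
  rw [gstar_E, inv_inv, Complex.ofReal_one, one_smul]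

lemma eq_zero_of_uElt_mul {x : MonoidAlgebra ℂ G} (hx : avg C.B * x = x) (h : uElt C * x = 0) :
    x = 0 := by
  rw [uElt_eq, Finset.sum_mul] at h
  have h2 : ∑ g : G, ((1 : ℝ) : ℂ) • (gstar (E C g⁻¹) * (E C g⁻¹ * x)) = 0 := by
    rw [← h]
    refine Finset.sum_congr rfl fun g _ => ?_
    rw [smul_mul_assoc, mul_assoc]
  have h3 := eq_zero_of_sum_gstar_mul (Finset.univ : Finset G) (fun g => E C g⁻¹)
    (fun _ => (1 : ℝ)) (fun _ _ => zero_le_one) (Finset.mem_univ (1 : G)) zero_lt_one x h2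
  simp only [inv_one] at h3
  rw [E_of_mem C C.B.one_mem, hx] at h3
  exact h3

/-- every element of `e Z(ℂG)` is the image of a central function -/
lemma avgCenter_le : avgCenter C.B ≤ Submodule.map (Phi C) (center D (C.q : ℂ)) := by
  intro y hy
  obtain ⟨z, hz, rfl⟩ := mem_avgCenter.1 hy
  have hzc := Subalgebra.mem_center_iff.1 hz
  -- `e z = e z e` lies in the range of `Φ`
  have h1 : avg C.B * z = avg C.B * z * avg C.B := by
    rw [mul_assoc, ← hzc (avg C.B), ← mul_assoc, avg_mul_avg]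
  have h2 : avg C.B * z * avg C.B = ∑ g : G, z.coeff g • E C g := by
    conv_lhs => rw [eq_sum_coeff z]
    rw [Finset.mul_sum, Finset.sum_mul]
    refine Finset.sum_congr rfl fun g _ => ?_
    rw [mul_smul_comm, smul_mul_assoc]
    rfl
  have h3 : ∀ g : G, E C g =
      Phi C (((C.q : ℂ) ^ D.len (C.cell g))⁻¹ • (Pi.single (C.cell g) 1 : W → ℂ)) := by
    intro g
    have hq : ((C.q : ℂ) ^ D.len (C.cell g)) ≠ 0 := pow_ne_zero _ (q_ne_zero C)
    rw [map_smul, Phi_single]
    unfold T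
    rw [smul_smul, inv_mul_cancel₀ hq, one_smul, E_eq_Ew]
  set f : W → ℂ := ∑ g : G, z.coeff g •
    (((C.q : ℂ) ^ D.len (C.cell g))⁻¹ • (Pi.single (C.cell g) 1 : W → ℂ)) with hf
  have h4 : Phi C f = avg C.B * z := by
    rw [h1, h2, hf, map_sum]
    refine Finset.sum_congr rfl fun g _ => ?_
    rw [map_smul, ← h3]
  refine ⟨f, ?_, h4⟩
  intro y
  apply Phi_injective C
  rw [← Phi_mul, ← Phi_mul, Phi_single, h4, mul_assoc, ← hzc (T C y), ← mul_assoc, avg_mul_T,
    ← mul_assoc, T_mul_avg]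

/-- **The centre at the parameter `q` has the dimension of `e Z(ℂG)`.** -/
theorem finrank_center :
    Module.finrank ℂ ↥(center D (C.q : ℂ)) = Module.finrank ℂ ↥(avgCenter C.B) := by
  set Zc := Submodule.map (Phi C) (center D (C.q : ℂ)) with hZc
  have h1 : Module.finrank ℂ ↥Zc = Module.finrank ℂ ↥(center D (C.q : ℂ)) :=
    (LinearEquiv.finrank_eq
      (Submodule.equivMapOfInjective (Phi C) (Phi_injective C) (center D (C.q : ℂ)))).symm
  have h2 : Module.finrank ℂ ↥(avgCenter C.B) ≤ Module.finrank ℂ ↥Zc :=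
    Submodule.finrank_mono (avgCenter_le C)
  -- multiplication by `u` maps `Zc` injectively into `e Z(ℂG)`
  have hmem : ∀ x ∈ Zc, (LinearMap.mulLeft ℂ (uElt C)) x ∈ avgCenter C.B := by
    rintro _ ⟨f, hf, rfl⟩
    rw [LinearMap.mulLeft_apply, uElt_mul_Phi C hf]
    exact mem_avgCenter.2 ⟨_, Gam_mem_center _, rfl⟩
  let L : ↥Zc →ₗ[ℂ] ↥(avgCenter C.B) :=
    ((LinearMap.mulLeft ℂ (uElt C)).domRestrict Zc).codRestrict (avgCenter C.B)
      (fun x => hmem x.1 x.2)
  have hL : Function.Injective L := by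
    rw [← LinearMap.ker_eq_bot, LinearMap.ker_eq_bot']
    intro x hx
    have hx' : uElt C * (x : MonoidAlgebra ℂ G) = 0 := by
      have := congrArg Subtype.val hx
      exact this
    obtain ⟨f, hf, hfx⟩ := x.2
    have h5 : avg C.B * (x : MonoidAlgebra ℂ G) = x := by
      rw [← hfx, avg_mul_Phi]
    exact Subtype.ext (eq_zero_of_uElt_mul C h5 hx')
  have h3 : Module.finrank ℂ ↥Zc ≤ Module.finrank ℂ ↥(avgCenter C.B) :=
    LinearMap.finrank_le_finrank_of_injective hL
  omega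

end Cfsg.Agent.Lib.Helper5.HeckeCell
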