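import Mathlib
import Cfsg.Agent.Lib.Helper5.HeckeDefA

/-!
# Length data of a Coxeter system
-/

set_option autoImplicit false

namespace Cfsg.Agent.Lib.Helper5.HeckeCox

open Cfsg.Agent.Lib.Helper5.HeckeDef

variable {B : Type*} {M : CoxeterMatrix B} {W : Type*} [Group W] (cs : CoxeterSystem M W)

/-- a chosen reduced word -/
noncomputable def redWord (w : W) : List B := Classical.choose (cs.exists_isReduced w)

lemma redWord_length (w : W) : (redWord cs w).length = cs.length w := by
  have h := Classical.choose_spec (cs.exists_isReduced w)
  have h1 : cs.length (cs.wordProd (redWord cs w)) = (redWord cs w).length := h.1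
  rw [← h1]
  congr 1
  exact h.2.symm

lemma redWord_prod (w : W) : cs.wordProd (redWord cs w) = w :=
  (Classical.choose_spec (cs.exists_isReduced w)).2.symm

/-- the length data of a Coxeter system -/
noncomputable def lenData : LenData W where
  len := cs.length
  isGen s := ∃ i, s = cs.simple i
  word w := (redWord cs w).map cs.simple
  word_gen w s hs := by
    rw [List.mem_map] at hs
    obtain ⟨i, _, rfl⟩ := hs
    exact ⟨i, rfl⟩
  word_prod w := redWord_prod cs w
  word_len w := by rw [List.length_map, redWord_length]
  len_one := cs.length_one
  len_mul s hs w := by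
    obtain ⟨i, rfl⟩ := hs
    exact cs.length_simple_mul w i
  len_inv := cs.length_inv
  gen_sq s hs := by
    obtain ⟨i, rfl⟩ := hs
    exact cs.simple_mul_simple_self i

lemma lenData_len (w : W) : (lenData cs).len w = cs.length w := rfl

lemma lenData_isGen (s : W) : (lenData cs).isGen s ↔ ∃ i, s = cs.simple i := Iff.rfl

end Cfsg.Agent.Lib.Helper5.HeckeCox
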