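import Mathlib
import Cfsg.Agent.Lib.Helper5.CoxExA

/-!
# Word length in an exchange system versus the length function of a Coxeter system
-/

set_option autoImplicit false

namespace Cfsg.Agent.Lib.Helper5.HeckeCox

open Cfsg.Agent.Lib.Helper5.CoxEx

variable {W₁ : Type*} [Group W₁] {S : Set W₁}
variable {B : Type*} {M : CoxeterMatrix B} {W₂ : Type*} [Group W₂] (cs : CoxeterSystem M W₂)

lemma exists_word_of_isW (Ψ : W₁ →* W₂) (h1 : ∀ x ∈ S, ∃ i, Ψ x = cs.simple i) :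
    ∀ l : List W₁, IsW S l → ∃ ω : List B, ω.length = l.length ∧ cs.wordProd ω = Ψ l.prod
  | [], _ => ⟨[], rfl, by simp⟩
  | x :: l, hl => by
    rw [isW_cons] at hl
    obtain ⟨ω, hω, hp⟩ := exists_word_of_isW Ψ h1 l hl.2
    obtain ⟨i, hi⟩ := h1 x hl.1
    refine ⟨i :: ω, by simp [hω], ?_⟩
    rw [cs.wordProd_cons, List.prod_cons, map_mul, hi, hp]

lemma exists_isW_of_word (Ψ : W₁ →* W₂) (h2 : ∀ i, ∃ x ∈ S, Ψ x = cs.simple i) :
    ∀ ω : List B, ∃ l : List W₁, IsW S l ∧ l.length = ω.length ∧ Ψ l.prod = cs.wordProd ω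
  | [] => ⟨[], isW_nil S, rfl, by simp⟩
  | i :: ω => by
    obtain ⟨l, hl, hlen, hp⟩ := exists_isW_of_word Ψ h2 ω
    obtain ⟨x, hx, hxi⟩ := h2 i
    refine ⟨x :: l, isW_cons.2 ⟨hx, hl⟩, by simp [hlen], ?_⟩
    rw [cs.wordProd_cons, List.prod_cons, map_mul, hxi, hp]

/-- the Coxeter length of `Ψ w` is the word length of `w` -/
theorem length_eq_wlen (hS : ExSys S) (Ψ : W₁ →* W₂) (hΨ : Function.Injective Ψ)
    (h1 : ∀ x ∈ S, ∃ i, Ψ x = cs.simple i) (h2 : ∀ i, ∃ x ∈ S, Ψ x = cs.simple i) (w : W₁) :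
    cs.length (Ψ w) = wlen S w := by
  apply le_antisymm
  · obtain ⟨l, hl, hp, hlen⟩ := exists_red hS w
    obtain ⟨ω, hω, hωp⟩ := exists_word_of_isW cs Ψ h1 l hl
    rw [← hlen, ← hω, ← hp, ← hωp]
    exact cs.length_wordProd_le ω
  · obtain ⟨ω, hω, hωp⟩ := cs.exists_isReduced (Ψ w)
    obtain ⟨l, hl, hlen, hp⟩ := exists_isW_of_word cs Ψ h2 ω
    have e : l.prod = w := hΨ (by rw [hp, ← hωp])
    have h3 : cs.length (cs.wordProd ω) = ω.length := hω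
    rw [hωp, h3, ← hlen, ← e]
    exact wlen_le hl

end Cfsg.Agent.Lib.Helper5.HeckeCox
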