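import Cfsg.Agent.S1039
import Cfsg.Agent.S1040
import Cfsg.Agent.Lib.Helper5.ChevSt
import Cfsg.Agent.Lib.Helper5.HeckeBN
import Cfsg.Agent.Lib.Helper5.HeckeCox
import Cfsg.Agent.Lib.Helper5.HeckeCoxLen
import Cfsg.Agent.Lib.Helper5.HeckeCellC
import Cfsg.Agent.Lib.Helper89.ChevRankOneIdx

/-!
# The Hecke algebra of a Chevalley group: `q = |F|` is a genuine semisimple parameter for the Coxeter group
-/

set_option autoImplicit false

namespace Cfsg.Agent.Lib.Helper5.HeckeChev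

open Cfsg Cfsg.Lie Cfsg.Agent.Lib.Helper18 Cfsg.Agent.Lib.Helper6
  Cfsg.Agent.Lib.Helper5.BNSt Cfsg.Agent.Lib.Helper5.CoxEx Cfsg.Agent.Lib.Helper5.ChevSt
  Cfsg.Agent.Lib.Helper5.HeckeDef Cfsg.Agent.Lib.Helper5.HeckeCell Cfsg.Agent.Lib.Helper5.HeckeCox

universe u

/-- the list of pairs (datum, Coxeter matrix) -/
def dwList : List (ChevalleyDatum × (Σ n : ℕ, CoxeterMatrix (Fin n))) :=
  [(Cfsg.Lie.chevG2, ⟨2, CoxeterMatrix.G₂⟩), (Cfsg.Lie.chevB2, ⟨2, CoxeterMatrix.B 2⟩),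
    (Cfsg.Lie.chevD4, ⟨4, Cfsg.Lie.coxeterD4⟩), (Cfsg.Lie.chevF4, ⟨4, CoxeterMatrix.F₄⟩),
    (Cfsg.Lie.chevE6, ⟨6, CoxeterMatrix.E₆⟩), (Cfsg.Lie.chevE7, ⟨7, CoxeterMatrix.E₇⟩),
    (Cfsg.Lie.chevE8, ⟨8, CoxeterMatrix.E₈⟩)]

lemma datum_mem {dw : ChevalleyDatum × (Σ n : ℕ, CoxeterMatrix (Fin n))} (hdw : dw ∈ dwList) :
    dw.1 ∈ [chevG2, chevB2, chevD4, chevF4, chevE6, chevE7, chevE8] := by
  unfold dwList at hdw
  simp only [List.mem_cons, List.not_mem_nil, or_false] at hdw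
  rcases hdw with rfl | rfl | rfl | rfl | rfl | rfl | rfl <;> simp

lemma rank_eq {dw : ChevalleyDatum × (Σ n : ℕ, CoxeterMatrix (Fin n))} (hdw : dw ∈ dwList) :
    dw.1.rank = dw.2.1 := by
  unfold dwList at hdw
  simp only [List.mem_cons, List.not_mem_nil, or_false] at hdw
  rcases hdw with rfl | rfl | rfl | rfl | rfl | rfl | rfl <;> rfl

variable {F : Type u} [Field F] {D : ChevalleyDatum}

section psi

/-- `N` of the (B,N)-pair, mapped to the monomial subgroup -/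
def iotaN (P : Cfsg.BNPair ↥(D.group F))
    (hPN : P.N = (D.monomialSubgroup F).subgroupOf (D.group F)) :
    ↥P.N →* ↥(D.monomialSubgroup F) where
  toFun n := ⟨((n : ↥(D.group F)) : GL D.Idx F), by
    have h' : (n : ↥(D.group F)) ∈ (D.monomialSubgroup F).subgroupOf (D.group F) := by
      rw [← hPN]
      exact n.2
    exact Subgroup.mem_subgroupOf.1 h'⟩
  map_one' := rfl
  map_mul' _ _ := rfl

variable {W' : Type*} [Group W']

lemma TN_le_ker (P : Cfsg.BNPair ↥(D.group F))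
    (hPB : P.B = (D.borelSubgroup F).subgroupOf (D.group F))
    (hPN : P.N = (D.monomialSubgroup F).subgroupOf (D.group F))
    (φ : ↥(D.monomialSubgroup F) →* W')
    (hker : φ.ker = (D.diagonalSubgroup F).subgroupOf (D.monomialSubgroup F))
    (hD : D ∈ [chevG2, chevB2, chevD4, chevF4, chevE6, chevE7, chevE8]) :
    TN P ≤ (φ.comp (iotaN P hPN)).ker := by
  intro n hn
  rw [MonoidHom.mem_ker, MonoidHom.comp_apply, ← MonoidHom.mem_ker, hker,
    Subgroup.mem_subgroupOf]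
  have hn' : (n : ↥(D.group F)) ∈ P.B ⊓ P.N := hn
  have h1 : ((n : ↥(D.group F)) : GL D.Idx F) ∈ D.borelSubgroup F := by
    have h3 : (n : ↥(D.group F)) ∈ (D.borelSubgroup F).subgroupOf (D.group F) := by
      rw [← hPB]
      exact hn'.1
    exact Subgroup.mem_subgroupOf.1 h3
  have h2 : ((n : ↥(D.group F)) : GL D.Idx F) ∈ D.monomialSubgroup F := (iotaN P hPN n).2
  rw [← (Cfsg.Agent.S1040.result D hD).2]
  exact ⟨h1, h2⟩

/-- the identification of the Weyl group of the (B,N)-pair -/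
noncomputable def PsiHom (P : Cfsg.BNPair ↥(D.group F))
    (hPB : P.B = (D.borelSubgroup F).subgroupOf (D.group F))
    (hPN : P.N = (D.monomialSubgroup F).subgroupOf (D.group F))
    (φ : ↥(D.monomialSubgroup F) →* W')
    (hker : φ.ker = (D.diagonalSubgroup F).subgroupOf (D.monomialSubgroup F))
    (hD : D ∈ [chevG2, chevB2, chevD4, chevF4, chevE6, chevE7, chevE8]) :
    Weyl P →* W' :=
  QuotientGroup.lift (TN P) (φ.comp (iotaN P hPN)) (TN_le_ker P hPB hPN φ hker hD)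

lemma PsiHom_cl (P : Cfsg.BNPair ↥(D.group F))
    (hPB : P.B = (D.borelSubgroup F).subgroupOf (D.group F))
    (hPN : P.N = (D.monomialSubgroup F).subgroupOf (D.group F))
    (φ : ↥(D.monomialSubgroup F) →* W')
    (hker : φ.ker = (D.diagonalSubgroup F).subgroupOf (D.monomialSubgroup F))
    (hD : D ∈ [chevG2, chevB2, chevD4, chevF4, chevE6, chevE7, chevE8]) (n : ↥P.N) :
    PsiHom P hPB hPN φ hker hD (cl P n) = φ (iotaN P hPN n) := rfl

lemma PsiHom_injective (P : Cfsg.BNPair ↥(D.group F))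
    (hPB : P.B = (D.borelSubgroup F).subgroupOf (D.group F))
    (hPN : P.N = (D.monomialSubgroup F).subgroupOf (D.group F))
    (φ : ↥(D.monomialSubgroup F) →* W')
    (hker : φ.ker = (D.diagonalSubgroup F).subgroupOf (D.monomialSubgroup F))
    (hD : D ∈ [chevG2, chevB2, chevD4, chevF4, chevE6, chevE7, chevE8]) :
    Function.Injective (PsiHom P hPB hPN φ hker hD) := by
  rw [injective_iff_map_eq_one]
  intro w hw
  obtain ⟨n, rfl⟩ := cl_surjective P w
  rw [PsiHom_cl, ← MonoidHom.mem_ker, hker, Subgroup.mem_subgroupOf] at hw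
  have h1 : ((n : ↥(D.group F)) : GL D.Idx F) ∈ D.diagonalSubgroup F := hw
  have h2 : (n : ↥(D.group F)) ∈ P.B := by
    rw [hPB, Subgroup.mem_subgroupOf]
    exact (le_sup_right : D.diagonalSubgroup F ≤ D.borelSubgroup F) h1
  have h3 : n ∈ TN P := by
    show (n : ↥(D.group F)) ∈ P.B ⊓ P.N
    exact ⟨h2, n.2⟩
  exact (QuotientGroup.eq_one_iff n).2 h3

lemma PsiHom_surjective (P : Cfsg.BNPair ↥(D.group F))
    (hPB : P.B = (D.borelSubgroup F).subgroupOf (D.group F))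
    (hPN : P.N = (D.monomialSubgroup F).subgroupOf (D.group F))
    (φ : ↥(D.monomialSubgroup F) →* W')
    (hker : φ.ker = (D.diagonalSubgroup F).subgroupOf (D.monomialSubgroup F))
    (hD : D ∈ [chevG2, chevB2, chevD4, chevF4, chevE6, chevE7, chevE8])
    (hφ : Function.Surjective φ) : Function.Surjective (PsiHom P hPB hPN φ hker hD) := by
  intro x
  obtain ⟨m, rfl⟩ := hφ x
  obtain ⟨-, hNG, -⟩ := Cfsg.Agent.S1043.result (F := F) D hD
  have hg : (⟨m.1, hNG m.2⟩ : ↥(D.group F)) ∈ P.N := by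
    rw [hPN, Subgroup.mem_subgroupOf]
    exact m.2
  refine ⟨cl P ⟨⟨m.1, hNG m.2⟩, hg⟩, ?_⟩
  rw [PsiHom_cl]
  rfl

end psi

/-- **The cell data of a Chevalley group over a finite field**, with values in the Coxeter group. -/
theorem exists_cellData [Fintype F]
    (dw : ChevalleyDatum × (Σ n : ℕ, CoxeterMatrix (Fin n))) (hdw : dw ∈ dwList) :
    ∃ C : CellData ↥(dw.1.group F) (lenData dw.2.2.toCoxeterSystem),
      C.B = (dw.1.borelSubgroup F).subgroupOf (dw.1.group F) ∧ C.q = Fintype.card F := by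
  classical
  have hD := datum_mem hdw
  have hr := rank_eq hdw
  obtain ⟨C⟩ := nonempty_chevData.{u} dw.1 hD
  obtain ⟨P, hPB, hPN, hPS⟩ := Cfsg.Agent.S1042.exists_bnPair (F := F) dw.1 hD C
  obtain ⟨hBG, hNG, -⟩ := Cfsg.Agent.S1043.result (F := F) dw.1 hD
  obtain ⟨φ, hφs, hker, hφ⟩ := Cfsg.Agent.S1039.result (F := F) dw hdw
  set cs := dw.2.2.toCoxeterSystem with hcs
  set Ψ := PsiHom P hPB hPN φ hker hD with hΨ
  have hinj : Function.Injective Ψ := PsiHom_injective P hPB hPN φ hker hD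
  have hsurj : Function.Surjective Ψ := PsiHom_surjective P hPB hPN φ hker hD hφs
  -- the images of the distinguished generators
  have hsig : ∀ i : Fin dw.1.rank,
      Ψ (clG P (sigma hD C i)) = cs.simple ⟨i.1, hr ▸ i.2⟩ := by
    intro i
    have hsN : sigma (F := F) hD C i ∈ P.N := P.subset (sigma_mem hD C P hPS i)
    rw [clG_of_mem P hsN, hΨ, PsiHom_cl]
    exact hφ ⟨i.1, hr ▸ i.2⟩ _ (coe_sigma hD C i)
  have h1 : ∀ x ∈ SW P, ∃ i, Ψ x = cs.simple i := by
    rintro _ ⟨s, hs, rfl⟩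
    obtain ⟨i, rfl⟩ := exists_sigma hD C P hPS s hs
    exact ⟨_, hsig i⟩
  have h2 : ∀ i, ∃ x ∈ SW P, Ψ x = cs.simple i := by
    intro i
    refine ⟨clG P (sigma hD C ⟨i.1, hr.symm ▸ i.2⟩),
      ⟨_, sigma_mem hD C P hPS _, rfl⟩, ?_⟩
    rw [hsig]
  have hlen : ∀ w, (lenData cs).len (Ψ w) = wlen (SW P) w := fun w =>
    length_eq_wlen cs (exSys P) Ψ hinj h1 h2 w
  have hgen : ∀ w, (lenData cs).isGen (Ψ w) ↔ w ∈ SW P := by
    intro w
    constructor
    · rintro ⟨i, hi⟩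
      obtain ⟨x, hx, hxi⟩ := h2 i
      have : w = x := hinj (by rw [hi, hxi])
      rw [this]
      exact hx
    · intro hw
      obtain ⟨i, hi⟩ := h1 w hw
      exact ⟨i, hi⟩
  have hq : 0 < Fintype.card F := Fintype.card_pos
  -- the rank one index
  have hcard : ∀ s ∈ P.S, Fintype.card F *
      Nat.card {b : ↥(dw.1.group F) // b ∈ P.B ∧ s * b * s⁻¹ ∈ P.B} = Nat.card P.B := by
    intro s hs
    have hs' := hs
    rw [hPS] at hs'
    obtain ⟨i, hi, hsi⟩ := hs'
    have key := Cfsg.Agent.Lib.Helper89.ChevRankOne.card_borel_conj (F := F) dw.1 hD i hi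
      (s : GL dw.1.Idx F) hsi
    have e1 : Nat.card {b : ↥(dw.1.group F) // b ∈ P.B ∧ s * b * s⁻¹ ∈ P.B} =
        Nat.card {b : GL dw.1.Idx F // b ∈ dw.1.borelSubgroup F ∧
          (s : GL dw.1.Idx F) * b * (s : GL dw.1.Idx F)⁻¹ ∈ dw.1.borelSubgroup F} := by
      have hB : ∀ x : ↥(dw.1.group F), x ∈ P.B ↔ (x : GL dw.1.Idx F) ∈ dw.1.borelSubgroup F := by
        intro x
        rw [hPB, Subgroup.mem_subgroupOf]
      refine Nat.card_congr
        { toFun := fun b => ⟨(b.1 : GL dw.1.Idx F), (hB _).1 b.2.1, (hB _).1 b.2.2⟩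
          invFun := fun b => ⟨⟨b.1, hBG b.2.1⟩, (hB _).2 b.2.1, (hB _).2 b.2.2⟩
          left_inv := fun b => rfl
          right_inv := fun b => rfl }
    have e2 : Nat.card P.B = Nat.card ↥(dw.1.borelSubgroup F) := by
      rw [hPB]
      exact Nat.card_congr (Subgroup.subgroupOfEquivOfLe hBG).toEquiv
    rw [e1, e2, key]
  refine ⟨Cfsg.Agent.Lib.Helper5.HeckeBN.cellData P (lenData cs) Ψ ⟨hinj, hsurj⟩ hlen hgen
    (Fintype.card F) hq hcard, hPB, rfl⟩

/-- the Coxeter group of the type is finite -/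
theorem finite_coxeter [Fintype F]
    (dw : ChevalleyDatum × (Σ n : ℕ, CoxeterMatrix (Fin n))) (hdw : dw ∈ dwList) :
    Finite dw.2.2.Group := by
  obtain ⟨C, -, -⟩ := exists_cellData (F := F) dw hdw
  have : Finite ↥(dw.1.group F) := inferInstance
  exact Finite.of_surjective C.cell C.cell_surj

/-- **The parameter `q = |F|` is genuine and semisimple, and the centre has the dimension of
`e Z(ℂG)`.** -/
theorem chev_point [Fintype F]
    (dw : ChevalleyDatum × (Σ n : ℕ, CoxeterMatrix (Fin n))) (hdw : dw ∈ dwList)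
    [Fintype dw.2.2.Group] [DecidableEq dw.2.2.Group] [Fintype ↥(dw.1.group F)] :
    Genuine (lenData dw.2.2.toCoxeterSystem) (Fintype.card F : ℂ) ∧
      ZInj (lenData dw.2.2.toCoxeterSystem) (Fintype.card F : ℂ) ∧
      Module.finrank ℂ ↥(center (lenData dw.2.2.toCoxeterSystem) (Fintype.card F : ℂ)) =
        Module.finrank ℂ
          ↥(avgCenter ((dw.1.borelSubgroup F).subgroupOf (dw.1.group F))) := by
  obtain ⟨C, hCB, hCq⟩ := exists_cellData (F := F) dw hdw
  rw [← hCq, ← hCB]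
  exact ⟨genuine C, zInj C, finrank_center C⟩

end Cfsg.Agent.Lib.Helper5.HeckeChev
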