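import Mathlib
import Cfsg.Agent.Lib.Helper5.HeckeDefB
import Cfsg.Agent.Lib.Helper89.RankSemicont

/-!
# The deformation argument: the dimension of the centre does not depend on the parameter
-/

set_option autoImplicit false

namespace Cfsg.Agent.Lib.Helper5.HeckeDef

open Finset Polynomial

variable {W : Type*} [Group W] [Fintype W] [DecidableEq W] (D : LenData W)
variable {R : Type*} [CommRing R] {R' : Type*} [CommRing R']

/-! ### Naturality of the Casimir map -/

lemma cas_map (φ : R →+* R') (c : R) (f : W → R) :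
    (fun v => φ (cas D c f v)) = cas D (φ c) (fun v => φ (f v)) := by
  funext v
  rw [cas_apply, cas_apply, Finset.sum_apply, Finset.sum_apply, map_sum]
  refine Finset.sum_congr rfl fun w _ => ?_
  rw [Pi.smul_apply, Pi.smul_apply, smul_eq_mul, smul_eq_mul, map_mul, map_pow]
  congr 1
  have h1 := congrFun (hmul_map D φ c (hmul D c (Pi.single w 1) f) (Pi.single w⁻¹ 1)) v
  rw [h1, hmul_map D φ c (Pi.single w 1) f, map_single, map_single]

/-! ### Matrices -/

/-- the matrix of the Casimir map -/
def casMat (c : R) : Matrix W W R := fun v x => cas D c (Pi.single x 1) v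

/-- the matrix of `f ↦ (f T_y - T_y f)_y` -/
def adMat (c : R) : Matrix (W × W) W R := fun p x =>
  hmul D c (Pi.single x 1) (Pi.single p.1 1) p.2 - hmul D c (Pi.single p.1 1) (Pi.single x 1) p.2

lemma casMat_map (φ : R →+* R') (c : R) : (casMat D c).map φ = casMat D (φ c) := by
  ext v x
  rw [Matrix.map_apply]
  unfold casMat
  rw [congrFun (cas_map D φ c (Pi.single x 1)) v, map_single]

lemma adMat_map (φ : R →+* R') (c : R) : (adMat D c).map φ = adMat D (φ c) := by
  ext p x
  rw [Matrix.map_apply]
  unfold adMat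
  rw [map_sub, congrFun (hmul_map D φ c (Pi.single x 1) (Pi.single p.1 1)) p.2,
    congrFun (hmul_map D φ c (Pi.single p.1 1) (Pi.single x 1)) p.2, map_single, map_single]

lemma casMat_mulVec (c : R) (f : W → R) : (casMat D c).mulVec f = cas D c f := by
  funext v
  have hf := eq_sum_single f
  have h1 : cas D c f = ∑ x, f x • cas D c (Pi.single x 1) := by
    conv_lhs => rw [hf]
    rw [map_sum]
    exact Finset.sum_congr rfl fun x _ => map_smul _ _ _
  rw [h1, Finset.sum_apply]
  unfold Matrix.mulVec dotProduct casMat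
  refine Finset.sum_congr rfl fun x _ => ?_
  rw [Pi.smul_apply, smul_eq_mul, mul_comm]

lemma adMat_mulVec (c : R) (f : W → R) (p : W × W) : (adMat D c).mulVec f p =
    hmul D c f (Pi.single p.1 1) p.2 - hmul D c (Pi.single p.1 1) f p.2 := by
  have hf := eq_sum_single f
  have h1 : hmul D c f (Pi.single p.1 1) = ∑ x, f x • hmul D c (Pi.single x 1) (Pi.single p.1 1) := by
    conv_lhs => rw [hf]
    rw [hmul_sum_left]
    exact Finset.sum_congr rfl fun x _ => hmul_smul_left D c _ _ _
  have h2 : hmul D c (Pi.single p.1 1) f = ∑ x, f x • hmul D c (Pi.single p.1 1) (Pi.single x 1) := by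
    conv_lhs => rw [hf]
    rw [hmul_sum_right]
    exact Finset.sum_congr rfl fun x _ => hmul_smul_right D c _ _ _
  rw [h1, h2, Finset.sum_apply, Finset.sum_apply, ← Finset.sum_sub_distrib]
  unfold Matrix.mulVec dotProduct adMat
  refine Finset.sum_congr rfl fun x _ => ?_
  rw [Pi.smul_apply, Pi.smul_apply, smul_eq_mul, smul_eq_mul]
  ring

lemma range_casMat (c : ℂ) : LinearMap.range (casMat D c).mulVecLin = LinearMap.range (cas D c) := by
  ext z
  constructor
  · rintro ⟨f, rfl⟩
    exact ⟨f, (casMat_mulVec D c f).symm⟩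
  · rintro ⟨f, rfl⟩
    exact ⟨f, casMat_mulVec D c f⟩

lemma ker_adMat (c : ℂ) : LinearMap.ker (adMat D c).mulVecLin = center D c := by
  ext z
  rw [LinearMap.mem_ker, mem_center_iff]
  constructor
  · intro h y
    funext v
    have h1 := congrFun h (y, v)
    rw [Matrix.mulVecLin_apply, adMat_mulVec] at h1
    exact sub_eq_zero.1 h1
  · intro h
    funext p
    rw [Matrix.mulVecLin_apply, adMat_mulVec, h p.1]
    simp

lemma rank_casMat (c : ℂ) :
    (casMat D c).rank = Module.finrank ℂ ↥(LinearMap.range (cas D c)) := by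
  unfold Matrix.rank
  rw [range_casMat]

lemma finrank_center_add (c : ℂ) :
    Module.finrank ℂ ↥(center D c) + (adMat D c).rank = Fintype.card W := by
  have h := LinearMap.finrank_range_add_finrank_ker (adMat D c).mulVecLin
  rw [ker_adMat] at h
  unfold Matrix.rank
  rw [add_comm, h, Module.finrank_fintype_fun_eq_card]

/-- **One half of the deformation theorem.** -/
theorem finrank_center_le {a b : ℂ} (hinf : {c : ℂ | Genuine D c}.Infinite)
    (hb : Genuine D b) (hzb : ZInj D b) :
    Module.finrank ℂ ↥(center D b) ≤ Module.finrank ℂ ↥(center D a) := by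
  have hS1 := Cfsg.Agent.Lib.Helper89.RankSemicont.finite_rank_lt (casMat D (X : ℂ[X])) b
  have hS2 := Cfsg.Agent.Lib.Helper89.RankSemicont.finite_rank_lt (adMat D (X : ℂ[X])) a
  obtain ⟨c₀, hc₀, hc₀'⟩ := (hinf.sdiff (hS1.union hS2)).nonempty
  have hg : Genuine D c₀ := hc₀
  have h1 : ¬ ((casMat D (X : ℂ[X])).map (Polynomial.eval c₀)).rank <
      ((casMat D (X : ℂ[X])).map (Polynomial.eval b)).rank := fun h => hc₀' (Or.inl h)
  have h2 : ¬ ((adMat D (X : ℂ[X])).map (Polynomial.eval c₀)).rank <
      ((adMat D (X : ℂ[X])).map (Polynomial.eval a)).rank := fun h => hc₀' (Or.inr h)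
  have e1 : ∀ c : ℂ, (casMat D (X : ℂ[X])).map (Polynomial.eval c) = casMat D c := by
    intro c
    have := casMat_map D (Polynomial.evalRingHom c) (X : ℂ[X])
    rw [Polynomial.coe_evalRingHom, Polynomial.eval_X] at this
    exact this
  have e2 : ∀ c : ℂ, (adMat D (X : ℂ[X])).map (Polynomial.eval c) = adMat D c := by
    intro c
    have := adMat_map D (Polynomial.evalRingHom c) (X : ℂ[X])
    rw [Polynomial.coe_evalRingHom, Polynomial.eval_X] at this
    exact this
  rw [e1, e1, rank_casMat, rank_casMat, range_cas hb hzb] at h1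
  rw [e2, e2] at h2
  have h3 : Module.finrank ℂ ↥(LinearMap.range (cas D c₀)) ≤ Module.finrank ℂ ↥(center D c₀) := by
    apply Submodule.finrank_mono
    rintro _ ⟨f, rfl⟩
    exact cas_mem_center hg f
  have h4 := finrank_center_add D c₀
  have h5 := finrank_center_add D a
  omega

/-- **The deformation theorem**: the centres at two semisimple genuine points have the same dimension. -/
theorem finrank_center_eq {a b : ℂ} (hinf : {c : ℂ | Genuine D c}.Infinite)
    (ha : Genuine D a) (hza : ZInj D a) (hb : Genuine D b) (hzb : ZInj D b) :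
    Module.finrank ℂ ↥(center D a) = Module.finrank ℂ ↥(center D b) :=
  le_antisymm (finrank_center_le D hinf ha hza) (finrank_center_le D hinf hb hzb)

end Cfsg.Agent.Lib.Helper5.HeckeDef
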