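import Mathlib

/-!
# Transvection systems (towards McLaughlin's theorem over a prime field)

`T a φ` abstracts "the transvection `x ↦ x + φ(x) a` lies in the group `H`".
-/

set_option autoImplicit false

namespace Cfsg.Agent.Lib.Helper5.Mc

open Module

variable {F V V' : Type*} [Field F] [AddCommGroup V] [Module F V] [AddCommGroup V'] [Module F V']

/-- a perfect pairing -/
structure Perf (B : V' →ₗ[F] V →ₗ[F] F) : Prop where
  sepL : ∀ φ, (∀ v, B φ v = 0) → φ = 0
  sepR : ∀ v, (∀ φ, B φ v = 0) → v = 0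
  surjL : ∀ f : Dual F V, ∃ φ, ∀ v, B φ v = f v
  surjR : ∀ g : Dual F V', ∃ v, ∀ φ, B φ v = g φ

theorem Perf.flip {B : V' →ₗ[F] V →ₗ[F] F} (h : Perf B) : Perf B.flip where
  sepL := fun v hv => h.sepR v (fun φ => by simpa using hv φ)
  sepR := fun φ hφ => h.sepL φ (fun v => by simpa using hφ v)
  surjL := fun g => by
    obtain ⟨v, hv⟩ := h.surjR g
    exact ⟨v, fun φ => by simpa using hv φ⟩
  surjR := fun f => by
    obtain ⟨φ, hφ⟩ := h.surjL f
    exact ⟨φ, fun v => by simpa using hφ v⟩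

/-- transvection system -/
structure TSys (B : V' →ₗ[F] V →ₗ[F] F) (T : V → V' → Prop) : Prop where
  t0 : ∀ a φ, T a φ → B φ a = 0
  tz1 : ∀ φ, T 0 φ
  tz2 : ∀ a, T a 0
  t1 : ∀ a φ ψ, T a φ → T a ψ → T a (φ + ψ)
  t2 : ∀ a b φ, T a φ → T b φ → T (a + b) φ
  t3 : ∀ a φ (c d : F), T a φ → T (c • a) (d • φ)
  t4 : ∀ a φ b ψ, T a φ → T b ψ → T (a + B ψ a • b) (φ - B φ b • ψ)
  t5 : ∀ a φ b ψ, T a φ → T (a + b) (φ + ψ) → T (-a + b) (-φ + ψ) →
    B φ b = 0 → B ψ a = 0 → B ψ b = 0 → T b ψ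
  tN : ∀ a φ, T a φ → a ≠ 0 → φ ≠ 0 → ∃ b ψ, T b ψ ∧ B φ b ≠ 0 ∧ B ψ a ≠ 0

namespace TSys

variable {B : V' →ₗ[F] V →ₗ[F] F} {T : V → V' → Prop}

theorem neg_left (h : TSys B T) {a φ} (ha : T a φ) : T (-a) φ := by
  have := h.t3 a φ (-1) 1 ha
  simpa using this

theorem neg_right (h : TSys B T) {a φ} (ha : T a φ) : T a (-φ) := by
  have := h.t3 a φ 1 (-1) ha
  simpa using this

theorem smul_left (h : TSys B T) {a φ} (c : F) (ha : T a φ) : T (c • a) φ := by
  have := h.t3 a φ c 1 ha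
  simpa using this

theorem smul_right (h : TSys B T) {a φ} (d : F) (ha : T a φ) : T a (d • φ) := by
  have := h.t3 a φ 1 d ha
  simpa using this

theorem of_smul_left (h : TSys B T) {a φ} {c : F} (hc : c ≠ 0) (ha : T (c • a) φ) : T a φ := by
  have := h.smul_left c⁻¹ ha
  rwa [smul_smul, inv_mul_cancel₀ hc, one_smul] at this

theorem of_smul_right (h : TSys B T) {a φ} {d : F} (hd : d ≠ 0) (ha : T a (d • φ)) : T a φ := by
  have := h.smul_right d⁻¹ ha
  rwa [smul_smul, inv_mul_cancel₀ hd, one_smul] at this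

theorem sub_right (h : TSys B T) {a φ ψ} (h1 : T a φ) (h2 : T a ψ) : T a (φ - ψ) := by
  rw [sub_eq_add_neg]; exact h.t1 _ _ _ h1 (h.neg_right h2)

theorem sub_left (h : TSys B T) {a b φ} (h1 : T a φ) (h2 : T b φ) : T (a - b) φ := by
  rw [sub_eq_add_neg]; exact h.t2 _ _ _ h1 (h.neg_left h2)

/-- the flipped system -/
theorem flip (h : TSys B T) : TSys B.flip (fun φ a => T a φ) where
  t0 := fun φ a hT => by simpa using h.t0 a φ hT
  tz1 := h.tz2
  tz2 := h.tz1
  t1 := fun φ a b h1 h2 => h.t2 a b φ h1 h2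
  t2 := fun φ ψ a h1 h2 => h.t1 a φ ψ h1 h2
  t3 := fun φ a c d hT => h.t3 a φ d c hT
  t4 := fun φ a ψ b h1 h2 => by
    have := h.t4 a φ (-b) ψ h1 (h.neg_left h2)
    simpa [sub_eq_add_neg] using this
  t5 := fun φ a ψ b h1 h2 h3 e1 e2 e3 => by
    refine h.t5 a φ b ψ h1 h2 h3 ?_ ?_ ?_
    · simpa using e2
    · simpa using e1
    · simpa using e3
  tN := fun φ a hT hφ ha => by
    obtain ⟨b, ψ, h1, h2, h3⟩ := h.tN a φ hT ha hφ
    exact ⟨ψ, b, h1, by simpa using h3, by simpa using h2⟩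

/-- rule R1 -/
theorem r1 (h : TSys B T) {a φ b ψ} (h1 : T a φ) (h2 : T b ψ) (e : B ψ a = 0) :
    T a (B φ b • ψ) := by
  have h3 := h.t4 a φ b ψ h1 h2
  rw [e, zero_smul, add_zero] at h3
  have h4 := h.sub_right h1 h3
  simpa using h4

/-- rule R2 -/
theorem r2 (h : TSys B T) {a φ b ψ} (h1 : T a φ) (h2 : T b ψ) (e : B φ b = 0) :
    T (B ψ a • b) φ := by
  have h3 := h.t4 a φ b ψ h1 h2
  rw [e, zero_smul, sub_zero] at h3
  have h4 := h.sub_left h3 h1
  simpa using h4

/-- the SL2 lemma -/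
theorem sl2 (h : TSys B T) {a φ b ψ} (h1 : T a φ) (h2 : T b ψ) (hα : B φ b ≠ 0) (hγ : B ψ a ≠ 0)
    (x y z t : F) (hz : z * y * B φ b + t * x * B ψ a = 0) :
    T (x • a + y • b) (z • φ + t • ψ) := by
  by_cases hx : x = 0
  · subst hx
    simp only [zero_smul, zero_add, mul_zero, zero_mul, add_zero] at hz ⊢
    rcases mul_eq_zero.mp hz with hzy | hb
    · rcases mul_eq_zero.mp hzy with hz0 | hy0
      · subst hz0
        simpa using h.t3 b ψ y t h2
      · subst hy0
        simpa using h.tz1 _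
    · exact absurd hb hα
  · -- conjugate (a,φ) by (s b, ψ)
    set s : F := y / (x * B ψ a) with hs
    have h3 := h.t4 a φ (s • b) ψ h1 (h.smul_left s h2)
    have h4 := h.t3 _ _ x z h3
    have e1 : x • (a + B ψ a • s • b) = x • a + y • b := by
      rw [smul_add, smul_smul, smul_smul]
      congr 2
      rw [hs]; field_simp
    have e2 : z • (φ - B φ (s • b) • ψ) = z • φ + t • ψ := by
      rw [smul_sub, smul_smul, sub_eq_add_neg, ← neg_smul]
      congr 2
      rw [map_smul, smul_eq_mul, hs]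
      have : t = - (z * y * B φ b) / (x * B ψ a) := by
        field_simp
        linear_combination hz
      rw [this]; field_simp
    rwa [e1, e2] at h4

end TSys

/-! ### linear algebra helpers -/

section Helpers

variable {B : V' →ₗ[F] V →ₗ[F] F}

theorem exists_sep (hB : Perf B) {x y : V} (h : y ∉ Submodule.span F {x}) :
    ∃ φ, B φ x = 0 ∧ B φ y = 1 := by
  obtain ⟨f, hf1, hf2⟩ := Submodule.exists_dual_map_eq_bot_of_notMem h inferInstance
  have hfx : f x = 0 := by
    have : f x ∈ (Submodule.span F {x}).map f :=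
      Submodule.mem_map_of_mem (Submodule.mem_span_singleton_self x)
    rw [hf2] at this
    simpa using this
  obtain ⟨φ, hφ⟩ := hB.surjL ((f y)⁻¹ • f)
  refine ⟨φ, ?_, ?_⟩
  · rw [hφ]; simp [hfx]
  · rw [hφ]; simp [hf1]

theorem exists_ne_of_ne_zero (hB : Perf B) {x : V} (hx : x ≠ 0) : ∃ φ, B φ x = 1 := by
  have : x ∉ Submodule.span F {(0 : V)} := by simpa using hx
  obtain ⟨φ, -, h⟩ := exists_sep hB this
  exact ⟨φ, h⟩

theorem prop_of_ker (hB : Perf B) {φ ψ : V'} (h : ∀ v, B φ v = 0 → B ψ v = 0) :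
    ∃ s : F, ψ = s • φ := by
  by_cases hφ : ∃ x, B φ x ≠ 0
  · obtain ⟨x, hx⟩ := hφ
    refine ⟨B ψ x / B φ x, hB.sepL _ ?_ |> sub_eq_zero.mp⟩
    intro v
    have h1 : B φ (v - (B φ v / B φ x) • x) = 0 := by
      rw [map_sub, map_smul, smul_eq_mul]; field_simp; ring
    have h2 := h _ h1
    rw [map_sub, map_smul, smul_eq_mul] at h2
    simp only [map_sub, LinearMap.sub_apply, map_smul, LinearMap.smul_apply, smul_eq_mul]
    field_simp
    field_simp at h2
    linear_combination h2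
  · have hφ : ∀ x, B φ x = 0 := by
      intro x
      by_contra hx
      exact hφ ⟨x, hx⟩
    refine ⟨0, ?_⟩
    rw [zero_smul]
    exact hB.sepL _ (fun v => h v (hφ v))

theorem two_hyper {φ ψ : V'} (h1 : ∃ v, B φ v ≠ 0) (h2 : ∃ v, B ψ v ≠ 0) :
    ∃ v, B φ v ≠ 0 ∧ B ψ v ≠ 0 := by
  obtain ⟨x, hx⟩ := h1
  obtain ⟨y, hy⟩ := h2
  by_cases h3 : B ψ x = 0
  · by_cases h4 : B φ y = 0
    · refine ⟨x + y, ?_, ?_⟩
      · rw [map_add, h4, add_zero]; exact hx
      · rw [map_add, h3, zero_add]; exact hy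
    · exact ⟨y, h4, hy⟩
  · exact ⟨x, hx, h3⟩

theorem finrank_span_singleton_le_one (c : V) : finrank F (Submodule.span F {c}) ≤ 1 := by
  have := finrank_span_le_card (R := F) ({c} : Set V)
  simpa using this

theorem exists_mem_ker_not_span [FiniteDimensional F V] (U : Submodule F V) (h : 3 ≤ finrank F U)
    (f : V →ₗ[F] F) (c : V) : ∃ u ∈ U, f u = 0 ∧ u ∉ Submodule.span F {c} := by
  have h1 : finrank F (LinearMap.ker f) + 1 ≥ finrank F V := by
    have := LinearMap.finrank_range_add_finrank_ker f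
    have h2 : finrank F (LinearMap.range f) ≤ 1 := by
      have := Submodule.finrank_le (LinearMap.range f)
      simpa using this
    omega
  have h2 := Submodule.finrank_sup_add_finrank_inf_eq U (LinearMap.ker f)
  have h3 : finrank F ↥(U ⊔ LinearMap.ker f) ≤ finrank F V := Submodule.finrank_le _
  have h4 : 2 ≤ finrank F ↥(U ⊓ LinearMap.ker f) := by omega
  by_contra hcon
  have h5 : U ⊓ LinearMap.ker f ≤ Submodule.span F {c} := by
    intro u hu
    by_contra hu2
    exact hcon ⟨u, hu.1, hu.2, hu2⟩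
  have h6 := Submodule.finrank_mono h5
  have h7 : finrank F (Submodule.span F {c}) ≤ 1 := finrank_span_singleton_le_one c
  omega

theorem exists_mem_not_span [FiniteDimensional F V] (U : Submodule F V) (h : 2 ≤ finrank F U)
    (c : V) : ∃ u ∈ U, u ∉ Submodule.span F {c} := by
  by_contra hcon
  have h5 : U ≤ Submodule.span F {c} := by
    intro u hu
    by_contra hu2
    exact hcon ⟨u, hu, hu2⟩
  have h6 := Submodule.finrank_mono h5
  have h7 : finrank F (Submodule.span F {c}) ≤ 1 := finrank_span_singleton_le_one c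
  omega

end Helpers

end Cfsg.Agent.Lib.Helper5.Mc
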