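import Mathlib
import Cfsg.Agent.Lib.Helper5.McBasic

/-!
# Dual pairs as adjoint idempotents, full pairs of linear type, the one-dimensional extension
-/

set_option autoImplicit false

namespace Cfsg.Agent.Lib.Helper5.Mc

open Module

variable {F V V' : Type*} [Field F] [AddCommGroup V] [Module F V] [AddCommGroup V'] [Module F V']

/-- a dual pair, given by adjoint idempotents -/
structure DP (B : V' →ₗ[F] V →ₗ[F] F) (π : V →ₗ[F] V) (π' : V' →ₗ[F] V') : Prop where
  idem : ∀ v, π (π v) = π v
  idem' : ∀ φ, π' (π' φ) = π' φ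
  adj : ∀ φ v, B (π' φ) v = B φ (π v)

namespace DP

variable {B : V' →ₗ[F] V →ₗ[F] F} {π : V →ₗ[F] V} {π' : V' →ₗ[F] V'}

theorem flip (h : DP B π π') : DP B.flip π' π where
  idem := h.idem'
  idem' := h.idem
  adj := fun v φ => by simpa using (h.adj φ v).symm

theorem B_both (h : DP B π π') (φ : V') (v : V) : B (π' φ) (π v) = B φ (π v) := by
  rw [h.adj, h.idem]

theorem B_both' (h : DP B π π') (φ : V') (v : V) : B (π' φ) (π v) = B (π' φ) v := by
  rw [h.adj, h.idem, ← h.adj]

theorem kill1 (h : DP B π π') {χ : V'} (hχ : π' χ = 0) (v : V) : B χ (π v) = 0 := by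
  rw [← h.adj, hχ]; simp

theorem kill2 (h : DP B π π') {d : V} (hd : π d = 0) (φ : V') : B (π' φ) d = 0 := by
  rw [h.adj, hd]; simp

theorem fix_sub (h : DP B π π') (c : V) : π (c - π c) = 0 := by
  rw [map_sub, h.idem, sub_self]

theorem fix_sub' (h : DP B π π') (χ : V') : π' (χ - π' χ) = 0 := by
  rw [map_sub, h.idem', sub_self]

/-- the ranks of the two idempotents agree -/
theorem finrank_le [FiniteDimensional F V] (hB : Perf B) (h : DP B π π') :
    finrank F (LinearMap.range π') ≤ finrank F (LinearMap.range π) := by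
  let Ψ : LinearMap.range π' →ₗ[F] Dual F (LinearMap.range π) :=
    { toFun := fun φ => (B φ.1).domRestrict (LinearMap.range π)
      map_add' := fun x y => by ext v; simp
      map_smul' := fun c x => by ext v; simp }
  have hinj : Function.Injective Ψ := by
    rw [← LinearMap.ker_eq_bot, LinearMap.ker_eq_bot']
    rintro ⟨φ, ψ, rfl⟩ hφ
    have h1 : ∀ v, B (π' ψ) v = 0 := by
      intro v
      have := congrArg (fun g => g ⟨π v, v, rfl⟩) hφ
      simp only [Ψ, LinearMap.coe_mk, AddHom.coe_mk, LinearMap.domRestrict_apply,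
        LinearMap.zero_apply] at this
      rw [← h.B_both', this]
    have := hB.sepL _ h1
    exact Subtype.ext this
  have := LinearMap.finrank_le_finrank_of_injective hinj
  rwa [Subspace.dual_finrank_eq] at this

theorem finrank_eq [FiniteDimensional F V] [FiniteDimensional F V'] (hB : Perf B) (h : DP B π π') :
    finrank F (LinearMap.range π') = finrank F (LinearMap.range π) :=
  le_antisymm (h.finrank_le hB) (h.flip.finrank_le hB.flip)

end DP

/-- full pair of linear type -/
def FullL (B : V' →ₗ[F] V →ₗ[F] F) (T : V → V' → Prop) (π : V →ₗ[F] V) (π' : V' →ₗ[F] V') :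
    Prop :=
  ∀ u φ, B (π' φ) (π u) = 0 → T (π u) (π' φ)

theorem FullL.flip {B : V' →ₗ[F] V →ₗ[F] F} {T : V → V' → Prop} {π : V →ₗ[F] V}
    {π' : V' →ₗ[F] V'} (h : FullL B T π π') : FullL B.flip (fun φ a => T a φ) π' π :=
  fun φ u e => h u φ (by simpa using e)

theorem FullL.of_fix {B : V' →ₗ[F] V →ₗ[F] F} {T : V → V' → Prop} {π : V →ₗ[F] V}
    {π' : V' →ₗ[F] V'} (h : FullL B T π π') {u : V} {φ : V'} (hu : π u = u) (hφ : π' φ = φ)
    (e : B φ u = 0) : T u φ := by
  have := h u φ (by rw [hu, hφ]; exact e)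
  rwa [hu, hφ] at this

/-- one-dimensional extension of the idempotent on `V` -/
def ext1 (B : V' →ₗ[F] V →ₗ[F] F) (π : V →ₗ[F] V) (χ : V') (d : V) : V →ₗ[F] V :=
  π + (B χ).smulRight d

/-- one-dimensional extension of the idempotent on `V'` -/
def ext1' (B : V' →ₗ[F] V →ₗ[F] F) (π' : V' →ₗ[F] V') (χ : V') (d : V) : V' →ₗ[F] V' :=
  π' + (B.flip d).smulRight χ

section Ext

variable {B : V' →ₗ[F] V →ₗ[F] F} {π : V →ₗ[F] V} {π' : V' →ₗ[F] V'}

@[simp] theorem ext1_apply (χ : V') (d v : V) : ext1 B π χ d v = π v + B χ v • d := by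
  simp [ext1]

@[simp] theorem ext1'_apply (χ φ : V') (d : V) : ext1' B π' χ d φ = π' φ + B φ d • χ := by
  simp [ext1']

theorem ext1_flip (χ : V') (d : V) : ext1' B.flip π d χ = ext1 B π χ d := by
  ext v; simp

theorem ext1'_flip (χ : V') (d : V) : ext1 B.flip π' d χ = ext1' B π' χ d := by
  ext v; simp

theorem DP.ext1 (h : DP B π π') {χ : V'} {d : V} (hd : π d = 0) (hχ : π' χ = 0)
    (h1 : B χ d = 1) : DP B (ext1 B π χ d) (ext1' B π' χ d) where
  idem := fun v => by
    simp [h.idem, hd, h.kill1 hχ, h1]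
  idem' := fun φ => by
    simp [h.idem', hχ, h.kill2 hd, h1]
  adj := fun φ v => by
    simp only [ext1_apply, ext1'_apply, map_add, map_smul, LinearMap.add_apply,
      LinearMap.smul_apply, h.adj, smul_eq_mul]
    ring

theorem ext1_comp (h : DP B π π') {χ : V'} (hχ : π' χ = 0) (d v : V) :
    ext1 B π χ d (π v) = π v := by
  simp [h.idem, h.kill1 hχ]

theorem ext1'_comp (h : DP B π π') {d : V} (hd : π d = 0) (χ φ : V') :
    ext1' B π' χ d (π' φ) = π' φ := by
  simp [h.idem', h.kill2 hd]

theorem ext1_self {χ : V'} {d : V} (hd : π d = 0) (h1 : B χ d = 1) : ext1 B π χ d d = d := by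
  simp [hd, h1]

theorem finrank_ext1 [FiniteDimensional F V] (h : DP B π π') {χ : V'} {d : V} (hd : π d = 0)
    (hχ : π' χ = 0) (h1 : B χ d = 1) :
    finrank F (LinearMap.range (ext1 B π χ d)) = finrank F (LinearMap.range π) + 1 := by
  have hd0 : d ≠ 0 := by
    rintro rfl
    simp at h1
  have hdn : d ∉ LinearMap.range π := by
    rintro ⟨w, hw⟩
    have : π d = d := by rw [← hw, h.idem]
    rw [hd] at this
    exact hd0 this.symm
  have hr : LinearMap.range (ext1 B π χ d) = LinearMap.range π ⊔ Submodule.span F {d} := by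
    apply le_antisymm
    · rintro _ ⟨v, rfl⟩
      rw [ext1_apply]
      exact Submodule.add_mem_sup ⟨v, rfl⟩
        (Submodule.smul_mem _ _ (Submodule.mem_span_singleton_self d))
    · rw [sup_le_iff]
      constructor
      · rintro _ ⟨v, rfl⟩
        exact ⟨π v, ext1_comp h hχ d v⟩
      · rw [Submodule.span_singleton_le_iff_mem]
        exact ⟨d, ext1_self hd h1⟩
  rw [hr]
  have hdisj : LinearMap.range π ⊓ Submodule.span F {d} = ⊥ := by
    rw [eq_bot_iff]
    rintro x ⟨hx1, hx2⟩
    obtain ⟨s, rfl⟩ := Submodule.mem_span_singleton.mp hx2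
    by_cases hs : s = 0
    · simp [hs]
    · exfalso
      apply hdn
      have := Submodule.smul_mem _ s⁻¹ hx1
      rwa [smul_smul, inv_mul_cancel₀ hs, one_smul] at this
  have := Submodule.finrank_sup_add_finrank_inf_eq (LinearMap.range π) (Submodule.span F {d})
  rw [hdisj, finrank_bot, add_zero, finrank_span_singleton hd0] at this
  exact this

end Ext

end Cfsg.Agent.Lib.Helper5.Mc
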