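import Mathlib
import Cfsg.Agent.Lib.Helper5.McDP

/-!
# The one-dimensional extension lemma for full pairs of linear type
-/

set_option autoImplicit false

namespace Cfsg.Agent.Lib.Helper5.Mc

open Module

variable {F V V' : Type*} [Field F] [AddCommGroup V] [Module F V] [AddCommGroup V'] [Module F V']
variable {B : V' →ₗ[F] V →ₗ[F] F} {T : V → V' → Prop} {π : V →ₗ[F] V} {π' : V' →ₗ[F] V'}

theorem not_mem_span_symm {c u : V} (hc0 : c ≠ 0) (hu : u ∉ Submodule.span F {c}) :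
    c ∉ Submodule.span F {u} := by
  intro hcu
  obtain ⟨s, hs⟩ := Submodule.mem_span_singleton.mp hcu
  have hs0 : s ≠ 0 := by
    rintro rfl
    rw [zero_smul] at hs
    exact hc0 hs.symm
  apply hu
  rw [Submodule.mem_span_singleton]
  exact ⟨s⁻¹, by rw [← hs, smul_smul, inv_mul_cancel₀ hs0, one_smul]⟩

/-- all vectors of `range π` are centres for the outside functional `χ` -/
theorem extL_E1 (hB : Perf B) (hT : TSys B T) (hdp : DP B π π') (hL : FullL B T π π')
    {c : V} {χ : V'} (hc : π c = c) (hc0 : c ≠ 0) (hχ : π' χ = 0) (hTc : T c χ) :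
    ∀ u, T (π u) χ := by
  intro u
  by_cases hu : π u ∈ Submodule.span F {c}
  · obtain ⟨s, hs⟩ := Submodule.mem_span_singleton.mp hu
    rw [← hs]; exact hT.smul_left s hTc
  · have hcu := not_mem_span_symm hc0 hu
    obtain ⟨ψ₀, h1, h2⟩ := exists_sep hB hcu
    have hTb : T (π u) (π' ψ₀) := hL u ψ₀ (by rw [hdp.B_both, h1])
    have := hT.r2 hTc hTb (hdp.kill1 hχ u)
    have e : B (π' ψ₀) c = 1 := by rw [hdp.adj, hc, h2]
    rwa [e, one_smul] at this

/-- Lemma E -/
theorem extL (hB : Perf B) (hT : TSys B T) (hdp : DP B π π') (hL : FullL B T π π')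
    {c : V} {χ : V'} (hc : π c = c) (hc0 : c ≠ 0) (hχ : π' χ = 0) (hχ0 : χ ≠ 0) (hTc : T c χ)
    {c' : V} (hc' : π c' = c') (hcc' : c' ∉ Submodule.span F {c}) :
    ∃ d, π d = 0 ∧ B χ d = 1 ∧ FullL B T (ext1 B π χ d) (ext1' B π' χ d) := by
  have E1 := extL_E1 hB hT hdp hL hc hc0 hχ hTc
  have hχc : B χ c = 0 := by rw [← hc]; exact hdp.kill1 hχ c
  -- E2 : the partner
  obtain ⟨d₀, δ₀, hT0, h01, h02⟩ := hT.tN c χ hTc hc0 hχ0
  set d₁ : V := (B χ d₀)⁻¹ • d₀ with hd₁
  have hT1 : T d₁ δ₀ := hT.smul_left _ hT0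
  have h11 : B χ d₁ = 1 := by rw [hd₁, map_smul, smul_eq_mul, inv_mul_cancel₀ h01]
  have hshift := hT.t4 d₁ δ₀ (-(π d₁)) χ hT1 (by
    have := E1 (-d₁)
    rwa [map_neg] at this)
  set d : V := d₁ - π d₁ with hd
  set δ : V' := δ₀ + B δ₀ (π d₁) • χ with hδ
  have hTd : T d δ := by
    have e1 : d₁ + B χ d₁ • (-(π d₁)) = d := by rw [h11, one_smul, hd, sub_eq_add_neg]
    have e2 : δ₀ - B δ₀ (-(π d₁)) • χ = δ := by
      rw [map_neg, neg_smul, sub_neg_eq_add]
    rwa [e1, e2] at hshift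
  have hπd : π d = 0 := hdp.fix_sub d₁
  have hχd : B χ d = 1 := by
    rw [hd, map_sub, h11, hdp.kill1 hχ, sub_zero]
  have hδc : B δ c ≠ 0 := by
    rw [hδ, map_add, map_smul, LinearMap.add_apply, LinearMap.smul_apply, hχc, smul_zero, add_zero]
    exact h02
  refine ⟨d, hπd, hχd, ?_⟩
  -- E3
  have S : ∀ u φ, B (π' φ) (π u) = 0 → B δ (π u) ≠ 0 → T d (π' φ) := by
    intro u φ e1 e2
    have h1 := hT.t4 d δ (π u) (π' φ) hTd (hL u φ e1)
    rw [hdp.kill2 hπd, zero_smul, add_zero] at h1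
    have h2 := hT.sub_right hTd h1
    rw [sub_sub_cancel] at h2
    exact hT.of_smul_right e2 h2
  obtain ⟨u₂, hu2, hu2c, hu2δ⟩ : ∃ u₂, π u₂ = u₂ ∧ u₂ ∉ Submodule.span F {c} ∧ B δ u₂ ≠ 0 := by
    by_cases h : B δ c' = 0
    · refine ⟨c' + c, by rw [map_add, hc', hc], ?_, ?_⟩
      · intro hmem
        apply hcc'
        have := Submodule.sub_mem _ hmem (Submodule.mem_span_singleton_self c)
        rwa [add_sub_cancel_right] at this
      · rw [map_add, h, zero_add]; exact hδc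
    · exact ⟨c', hc', hcc', h⟩
  obtain ⟨ε₀, hε1, hε2⟩ := exists_sep hB (not_mem_span_symm hc0 hu2c)
  have hTε : T d (π' ε₀) := S u₂ ε₀ (by rw [hdp.B_both, hu2, hε1]) (by rw [hu2]; exact hu2δ)
  have E3 : ∀ φ, T d (π' φ) := by
    intro φ
    have h1 : T d (π' (φ - B (π' φ) c • ε₀)) := by
      apply S c
      · have : B (π' ε₀) c = 1 := by rw [hdp.adj, hc, hε2]
        simp only [hc, map_sub, map_smul, LinearMap.sub_apply, LinearMap.smul_apply, this]
        simp
      · rw [hc]; exact hδc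
    have h2 := hT.t1 _ _ _ h1 (hT.smul_right (B (π' φ) c) hTε)
    rw [map_sub, map_smul, sub_add_cancel] at h2
    exact h2
  -- E4
  intro u φ e
  rw [ext1_apply, ext1'_apply] at e ⊢
  set s : F := B χ u with hs
  set r : F := B φ d with hr
  have e' : B (π' φ) (π u) + r * s = 0 := by
    have : B (π' φ + r • χ) (π u + s • d) = B (π' φ) (π u) + r * s := by
      simp only [map_add, map_smul, LinearMap.add_apply, LinearMap.smul_apply, smul_eq_mul,
        hdp.kill2 hπd, hdp.kill1 hχ, hχd]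
      ring
    rw [← this]; exact e
  by_cases hs0 : s = 0
  · rw [hs0, zero_smul, add_zero]
    rw [hs0, mul_zero, add_zero] at e'
    exact hT.t1 _ _ _ (hL u φ e') (hT.smul_right r (E1 u))
  · have h1 : T (s • d) (π' φ) := hT.smul_left s (E3 φ)
    have h2 : T (π (s⁻¹ • u)) χ := E1 _
    have h3 := hT.t4 _ _ _ _ h1 h2
    have e1 : s • d + B χ (s • d) • π (s⁻¹ • u) = π u + s • d := by
      rw [map_smul, hχd, smul_eq_mul, mul_one, map_smul, smul_smul, mul_inv_cancel₀ hs0, one_smul,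
        add_comm]
    have e2 : π' φ - B (π' φ) (π (s⁻¹ • u)) • χ = π' φ + r • χ := by
      rw [sub_eq_add_neg, ← neg_smul]
      congr 2
      rw [map_smul, map_smul, smul_eq_mul]
      have : B (π' φ) (π u) = - (r * s) := by linear_combination e'
      rw [this]; field_simp
    rwa [e1, e2] at h3

end Cfsg.Agent.Lib.Helper5.Mc
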