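import Mathlib
import Cfsg.Agent.Lib.Helper5.McExtL

/-!
# Analysis of a transvection against a full pair of linear type of rank ≥ 3
-/

set_option autoImplicit false

namespace Cfsg.Agent.Lib.Helper5.Mc

open Module

variable {F V V' : Type*} [Field F] [AddCommGroup V] [Module F V] [AddCommGroup V'] [Module F V']
variable {B : V' →ₗ[F] V →ₗ[F] F} {T : V → V' → Prop} {π : V →ₗ[F] V} {π' : V' →ₗ[F] V'}

/-- (L-i) : if the inner part of the axis is non-zero, the outer part of the centre is a centre for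
all inner axes -/
theorem LA_i [FiniteDimensional F V] [FiniteDimensional F V'] (hB : Perf B) (hT : TSys B T)
    (hdp : DP B π π') (hL : FullL B T π π')
    (h3 : 3 ≤ finrank F (LinearMap.range π)) (h3' : 3 ≤ finrank F (LinearMap.range π'))
    {c : V} {χ : V'} (hTc : T c χ) (hχ1 : π' χ ≠ 0) : ∀ ψ, T (c - π c) (π' ψ) := by
  -- good functionals
  have good : ∀ φ u, B (π' φ) c = 0 → B (π' φ) (π u) = 0 → B χ (π u) ≠ 0 → T c (π' φ) := by
    intro φ u e1 e2 e3
    have := hT.r2 (hL u φ e2) hTc e1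
    exact hT.of_smul_left e3 this
  have nonprop : ∀ φ, B (π' φ) c = 0 → π' φ ∉ Submodule.span F {π' χ} → T c (π' φ) := by
    intro φ e1 hn
    by_contra hcon
    have hall : ∀ u, B (π' φ) (π u) = 0 → B χ (π u) = 0 := by
      intro u e2
      by_contra e3
      exact hcon (good φ u e1 e2 e3)
    have hker : ∀ v, B (π' φ) v = 0 → B (π' χ) v = 0 := by
      intro v hv
      rw [hdp.adj]
      apply hall
      rw [hdp.B_both']; exact hv
    obtain ⟨s, hs⟩ := prop_of_ker hB hker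
    have hs0 : s ≠ 0 := by
      rintro rfl
      rw [zero_smul] at hs
      exact hχ1 hs
    apply hn
    rw [Submodule.mem_span_singleton]
    exact ⟨s⁻¹, by rw [hs, smul_smul, inv_mul_cancel₀ hs0, one_smul]⟩
  obtain ⟨z₀, ⟨φ₀, rfl⟩, hz1, hz2⟩ :=
    exists_mem_ker_not_span (LinearMap.range π') h3' (B.flip c) (π' χ)
  rw [LinearMap.flip_apply] at hz1
  have step1 : ∀ φ, B (π' φ) c = 0 → T c (π' φ) := by
    intro φ e1
    by_cases hn : π' φ ∈ Submodule.span F {π' χ}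
    · have h1 : T c (π' (φ - φ₀)) := by
        apply nonprop
        · rw [map_sub, map_sub, LinearMap.sub_apply, e1, hz1, sub_zero]
        · intro hmem
          apply hz2
          rw [map_sub] at hmem
          have := Submodule.sub_mem _ hn hmem
          rwa [sub_sub_cancel] at this
      have h2 := hT.t1 _ _ _ h1 (nonprop φ₀ hz1 hz2)
      rwa [map_sub, sub_add_cancel] at h2
    · exact nonprop φ e1 hn
  have step2 : ∀ φ, B (π' φ) c = 0 → T (c - π c) (π' φ) := by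
    intro φ e1
    refine hT.sub_left (step1 φ e1) (hL c φ ?_)
    rw [hdp.B_both']; exact e1
  intro ψ
  obtain ⟨u', ⟨u, rfl⟩, hu1, hu2⟩ :=
    exists_mem_ker_not_span (LinearMap.range π) h3 (B (π' ψ)) (π c)
  obtain ⟨z, hz3, hz4⟩ := exists_sep hB hu2
  have hzc : B (π' z) c = 0 := by rw [hdp.adj]; exact hz3
  have h1 := step2 z hzc
  have h2 := hT.r1 h1 (hL u ψ hu1) (hdp.kill2 (hdp.fix_sub c) ψ)
  have e : B (π' z) (π u) = 1 := by rw [hdp.B_both]; exact hz4
  rwa [e, one_smul] at h2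

/-- the structure produced by an extension step -/
def Bigger (B : V' →ₗ[F] V →ₗ[F] F) (_T : V → V' → Prop) (π : V →ₗ[F] V) (π' : V' →ₗ[F] V')
    (π₁ : V →ₗ[F] V) (π₁' : V' →ₗ[F] V') : Prop :=
  DP B π₁ π₁' ∧ (∀ v, π₁ (π v) = π v) ∧ (∀ φ, π₁' (π' φ) = π' φ)

theorem LA [FiniteDimensional F V] [FiniteDimensional F V'] (hB : Perf B) (hT : TSys B T)
    (hdp : DP B π π') (hL : FullL B T π π')
    (h3 : 3 ≤ finrank F (LinearMap.range π))
    {c : V} {χ : V'} (hTc : T c χ) (hc0 : c ≠ 0) (hχ0 : χ ≠ 0) :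
    (π c = c ∧ π' χ = χ) ∨ (π c = 0 ∧ π' χ = 0) ∨
    ∃ π₁ π₁', Bigger B T π π' π₁ π₁' ∧ FullL B T π₁ π₁' ∧
      finrank F (LinearMap.range π₁) = finrank F (LinearMap.range π) + 1 := by
  have h3' : 3 ≤ finrank F (LinearMap.range π') := by rw [hdp.finrank_eq hB]; exact h3
  by_cases hA : c - π c ≠ 0 ∧ π' χ ≠ 0
  · -- flipped extension
    right; right
    obtain ⟨hc2, hχ1⟩ := hA
    have hT' : T (c - π c) (π' χ) := LA_i hB hT hdp hL h3 h3' hTc hχ1 χ
    obtain ⟨z, ⟨φ, rfl⟩, hz⟩ := exists_mem_not_span (LinearMap.range π') (by omega) (π' χ)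
    obtain ⟨d', hd1, hd2, hd3⟩ := extL (B := B.flip) (T := fun φ a => T a φ) (π := π') (π' := π)
      hB.flip hT.flip hdp.flip hL.flip (c := π' χ) (χ := c - π c) (hdp.idem' χ) hχ1
      (hdp.fix_sub c) hc2 hT' (c' := π' φ) (hdp.idem' φ) hz
    rw [LinearMap.flip_apply] at hd2
    rw [ext1'_flip, ext1_flip] at hd3
    refine ⟨ext1 B π d' (c - π c), ext1' B π' d' (c - π c),
      ⟨hdp.ext1 (hdp.fix_sub c) hd1 hd2, fun v => ext1_comp hdp hd1 _ v,
        fun φ => ext1'_comp hdp (hdp.fix_sub c) _ φ⟩, ?_,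
      finrank_ext1 hdp (hdp.fix_sub c) hd1 hd2⟩
    intro u φ e
    exact hd3 φ u e
  by_cases hBc : χ - π' χ ≠ 0 ∧ π c ≠ 0
  · right; right
    obtain ⟨hχ2, hc1⟩ := hBc
    have hT' : T (π c) (χ - π' χ) :=
      LA_i (B := B.flip) (T := fun φ a => T a φ) (π := π') (π' := π) hB.flip hT.flip hdp.flip
        hL.flip h3' h3 hTc hc1 c
    obtain ⟨z, ⟨u, rfl⟩, hz⟩ := exists_mem_not_span (LinearMap.range π) (by omega) (π c)
    obtain ⟨d, hd1, hd2, hd3⟩ := extL hB hT hdp hL (hdp.idem c) hc1 (hdp.fix_sub' χ) hχ2 hT'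
      (hdp.idem u) hz
    exact ⟨_, _, ⟨hdp.ext1 hd1 (hdp.fix_sub' χ) hd2, fun v => ext1_comp hdp (hdp.fix_sub' χ) _ v,
      fun φ => ext1'_comp hdp hd1 _ φ⟩, hd3, finrank_ext1 hdp hd1 (hdp.fix_sub' χ) hd2⟩
  · rw [not_and_or, not_not, not_not] at hA hBc
    rcases hA with h1 | h1 <;> rcases hBc with h2 | h2
    · left
      exact ⟨(sub_eq_zero.mp h1).symm, (sub_eq_zero.mp h2).symm⟩
    · exfalso
      apply hc0
      rw [sub_eq_zero.mp h1, h2]
    · exfalso
      apply hχ0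
      rw [sub_eq_zero.mp h2, h1]
    · right; left
      exact ⟨h2, h1⟩

end Cfsg.Agent.Lib.Helper5.Mc
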