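import Mathlib
import Cfsg.Agent.Lib.Helper5.McLA

/-!
# Full pairs of symplectic type: basics, connectivity, upgrade to linear type
-/

set_option autoImplicit false

namespace Cfsg.Agent.Lib.Helper5.Mc

open Module

variable {F V V' : Type*} [Field F] [AddCommGroup V] [Module F V] [AddCommGroup V'] [Module F V']

/-- full pair of symplectic type -/
structure FullS (B : V' →ₗ[F] V →ₗ[F] F) (T : V → V' → Prop) (π : V →ₗ[F] V)
    (π' : V' →ₗ[F] V') (θ : V →ₗ[F] V') (η : V' →ₗ[F] V) : Prop where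
  ηθ : ∀ v, η (θ v) = π v
  θη : ∀ φ, θ (η φ) = π' φ
  θπ : ∀ v, θ (π v) = θ v
  πθ : ∀ v, π' (θ v) = θ v
  ηπ : ∀ φ, η (π' φ) = η φ
  πη : ∀ φ, π (η φ) = η φ
  alt : ∀ v, B (θ v) v = 0
  mem : ∀ u, T (π u) (θ u)

variable {B : V' →ₗ[F] V →ₗ[F] F} {T : V → V' → Prop} {π : V →ₗ[F] V} {π' : V' →ₗ[F] V'}
  {θ : V →ₗ[F] V'} {η : V' →ₗ[F] V}

namespace FullS

theorem flip (hdp : DP B π π') (h : FullS B T π π' θ η) :
    FullS B.flip (fun φ a => T a φ) π' π η θ where
  ηθ := h.θη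
  θη := h.ηθ
  θπ := h.ηπ
  πθ := h.πη
  ηπ := h.θπ
  πη := h.πθ
  alt := fun φ => by
    rw [LinearMap.flip_apply, ← h.πη, ← hdp.adj, ← h.θη]
    exact h.alt _
  mem := fun φ => by
    have := h.mem (η φ)
    rwa [h.πη, h.θη] at this

theorem skew (h : FullS B T π π' θ η) (u v : V) : B (θ u) v = - B (θ v) u := by
  have h1 := h.alt (u + v)
  simp only [map_add, LinearMap.add_apply, h.alt, zero_add, add_zero] at h1
  linear_combination h1

theorem mem_fix (h : FullS B T π π' θ η) {u : V} (hu : π u = u) : T u (θ u) := by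
  have := h.mem u
  rwa [hu] at this

theorem inj (h : FullS B T π π' θ η) {u : V} (hu : θ u = 0) : π u = 0 := by
  rw [← h.ηθ, hu, map_zero]

theorem ne_zero (h : FullS B T π π' θ η) {u : V} (hu : π u = u) (hu0 : u ≠ 0) : θ u ≠ 0 := by
  intro h0
  apply hu0
  rw [← hu, h.inj h0]

theorem B_π (hdp : DP B π π') (h : FullS B T π π' θ η) (u v : V) :
    B (θ u) (π v) = B (θ u) v := by
  rw [← hdp.adj, h.πθ]

theorem B_kill (hdp : DP B π π') (h : FullS B T π π' θ η) (u : V) {y : V} (hy : π y = 0) :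
    B (θ u) y = 0 := by
  rw [← h.B_π hdp, hy, map_zero]

theorem exists_ne (hB : Perf B) (hdp : DP B π π') (h : FullS B T π π' θ η) {u : V} (hu : π u = u)
    (hu0 : u ≠ 0) : ∃ v, π v = v ∧ B (θ u) v ≠ 0 := by
  have h1 := h.ne_zero hu hu0
  have h2 : ∃ v, B (θ u) v ≠ 0 := by
    by_contra hcon
    apply h1
    apply hB.sepL
    intro v
    by_contra hv
    exact hcon ⟨v, hv⟩
  obtain ⟨v, hv⟩ := h2
  exact ⟨π v, hdp.idem v, by rw [h.B_π hdp]; exact hv⟩

/-- connectivity of the nonzero vectors of a symplectic space under the elementary moves -/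
theorem conn (hB : Perf B) (hdp : DP B π π') (h : FullS B T π π' θ η) (P : V → Prop)
    (hmove : ∀ u v, P u → π u = u → π v = v → B (θ v) u ≠ 0 → ∀ s : F, P (u + s • v))
    {u₀ : V} (h0 : P u₀) (hu₀ : π u₀ = u₀) (hne : u₀ ≠ 0) :
    ∀ u, π u = u → u ≠ 0 → P u := by
  have stepa : ∀ u u', P u → π u = u → π u' = u' → B (θ u') u ≠ 0 → P u' := by
    intro u u' hP hu hu' hb
    have := hmove u (u' - u) hP hu (by rw [map_sub, hu, hu']) (by
      rw [map_sub, map_sub, LinearMap.sub_apply, h.alt, sub_zero]; exact hb) 1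
    rwa [one_smul, add_sub_cancel] at this
  intro u hu hu0
  by_cases hb : B (θ u) u₀ = 0
  · obtain ⟨v1, -, hv1⟩ := h.exists_ne hB hdp hu₀ hne
    obtain ⟨v2, -, hv2⟩ := h.exists_ne hB hdp hu hu0
    obtain ⟨v, hv3, hv4⟩ := two_hyper (B := B) ⟨v1, hv1⟩ ⟨v2, hv2⟩
    have h1 : P (π v) := by
      apply stepa u₀ (π v) h0 hu₀ (hdp.idem v)
      rw [h.skew, h.B_π hdp, neg_ne_zero]
      exact hv3
    apply stepa (π v) u h1 (hdp.idem v) hu
    rw [h.B_π hdp]
    exact hv4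
  · exact stepa u₀ u h0 hu₀ hu hb

/-- the orbit lemma -/
theorem orbit (hB : Perf B) (hT : TSys B T) (hdp : DP B π π') (h : FullS B T π π' θ η)
    {y : V} {υ : V'} (hy : π y = 0) (hυ : π' υ = 0) {u₀ : V} (hu₀ : π u₀ = u₀) (hne : u₀ ≠ 0)
    (h0 : T (u₀ + y) (θ u₀ + υ)) : ∀ u, π u = u → u ≠ 0 → T (u + y) (θ u + υ) := by
  refine h.conn hB hdp (fun u => T (u + y) (θ u + υ)) ?_ h0 hu₀ hne
  intro u v hP hu hv hb s
  have hTv : T ((s / B (θ v) u) • v) (θ v) := hT.smul_left _ (h.mem_fix hv)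
  have h1 := hT.t4 _ _ _ _ hP hTv
  have e1 : u + y + B (θ v) (u + y) • (s / B (θ v) u) • v = u + s • v + y := by
    rw [map_add, h.B_kill hdp v hy, add_zero, smul_smul, mul_div_cancel₀ _ hb]
    abel
  have e2 : θ u + υ - B (θ u + υ) ((s / B (θ v) u) • v) • θ v = θ (u + s • v) + υ := by
    have e3 : B υ v = 0 := by rw [← hv]; exact hdp.kill1 hυ v
    rw [map_add, LinearMap.add_apply, map_smul, map_smul, e3, smul_zero, add_zero, h.skew u v,
      map_add, map_smul, smul_eq_mul]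
    have : s / B (θ v) u * -B (θ v) u = -s := by field_simp
    rw [this, neg_smul]
    abel
  rwa [e1, e2] at h1

end FullS

end Cfsg.Agent.Lib.Helper5.Mc
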