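import Mathlib
import Cfsg.Agent.Lib.Helper5.McS1

/-!
# Symplectic full pairs: upgrade to linear type, and analysis of a transvection with inner centre
-/

set_option autoImplicit false

namespace Cfsg.Agent.Lib.Helper5.Mc

open Module

variable {F V V' : Type*} [Field F] [AddCommGroup V] [Module F V] [AddCommGroup V'] [Module F V']
variable {B : V' →ₗ[F] V →ₗ[F] F} {T : V → V' → Prop} {π : V →ₗ[F] V} {π' : V' →ₗ[F] V'}
  {θ : V →ₗ[F] V'} {η : V' →ₗ[F] V}

theorem two_le_finrank_of [FiniteDimensional F V] (U : Submodule F V) {x y : V} (hx : x ∈ U)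
    (hx0 : x ≠ 0) (hy : y ∈ U) (hyx : y ∉ Submodule.span F {x}) : 2 ≤ finrank F U := by
  by_contra hlt
  have hle : Submodule.span F {x} ≤ U := by
    rw [Submodule.span_singleton_le_iff_mem]; exact hx
  have h1 : Submodule.span F {x} = U := by
    apply Submodule.eq_of_le_of_finrank_le hle
    rw [finrank_span_singleton hx0]
    omega
  apply hyx
  rw [h1]; exact hy

/-- if a proper subspace has dimension at least two, the space has dimension at least three -/
theorem three_le_finrank_of [FiniteDimensional F V] (U : Submodule F V) (f : V →ₗ[F] F)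
    {x y z : V} (hx : x ∈ U) (hx0 : x ≠ 0) (hy : y ∈ U) (hyx : y ∉ Submodule.span F {x})
    (hz : z ∈ U) (hfx : f x = 0) (hfy : f y = 0) (hfz : f z ≠ 0) : 3 ≤ finrank F U := by
  have h2 : 2 ≤ finrank F ↥(U ⊓ LinearMap.ker f) :=
    two_le_finrank_of _ ⟨hx, hfx⟩ hx0 ⟨hy, hfy⟩ hyx
  have hlt : U ⊓ LinearMap.ker f < U := by
    refine lt_of_le_of_ne inf_le_left ?_
    intro heq
    have : z ∈ U ⊓ LinearMap.ker f := by rw [heq]; exact hz
    exact hfz this.2
  have := Submodule.finrank_lt_finrank_of_lt hlt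
  omega

/-- upgrade: a symplectic full pair with an extra inner transvection is of linear type -/
theorem upgrade [FiniteDimensional F V] [FiniteDimensional F V'] (hB : Perf B) (hT : TSys B T)
    (hdp : DP B π π') (hS : FullS B T π π' θ η)
    {c : V} {χ : V'} (hc : π c = c) (hc0 : c ≠ 0) (hχ : π' χ = χ) (hTc : T c χ)
    (hnp : χ ∉ Submodule.span F {θ c}) :
    FullL B T π π' ∧ 3 ≤ finrank F (LinearMap.range π) := by
  have hχc : B χ c = 0 := hT.t0 _ _ hTc
  -- (U1)
  have key : ∀ u, π u = u → B (θ u) c = 0 → B χ u ≠ 0 → T c (θ u) := by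
    intro u hu e1 e2
    have h1 := hT.t4 _ _ _ _ hTc (hS.mem_fix hu)
    rw [e1, zero_smul, add_zero] at h1
    have h2 := hT.sub_right hTc h1
    rw [sub_sub_cancel] at h2
    exact hT.of_smul_right e2 h2
  obtain ⟨v', hv'1, hv'2, hv'3⟩ : ∃ v', π v' = v' ∧ B (θ v') c = 0 ∧ B χ v' ≠ 0 := by
    by_contra hcon
    have hall : ∀ u, π u = u → B (θ u) c = 0 → B χ u = 0 := by
      intro u hu e1
      by_contra e2
      exact hcon ⟨u, hu, e1, e2⟩
    have hker : ∀ v, B (θ c) v = 0 → B χ v = 0 := by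
      intro v hv
      have h1 : B (θ (π v)) c = 0 := by
        rw [hS.skew, hS.B_π hdp, hv, neg_zero]
      have h2 := hall (π v) (hdp.idem v) h1
      rw [← hχ, hdp.adj]; exact h2
    obtain ⟨s, hs⟩ := prop_of_ker hB hker
    apply hnp
    rw [hs]
    exact Submodule.smul_mem _ _ (Submodule.mem_span_singleton_self _)
  have U1 : ∀ φ, B (π' φ) c = 0 → T c (π' φ) := by
    intro φ e
    have hv : π (η φ) = η φ := hS.πη φ
    have hθv : θ (η φ) = π' φ := hS.θη φ
    by_cases h1 : B χ (η φ) = 0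
    · have h2 : T c (θ (η φ - v')) := by
        apply key
        · rw [map_sub, hv, hv'1]
        · rw [map_sub, map_sub, LinearMap.sub_apply, hθv, e, hv'2, sub_zero]
        · rw [map_sub, h1, zero_sub, neg_ne_zero]; exact hv'3
      have h3 := hT.t1 _ _ _ h2 (key v' hv'1 hv'2 hv'3)
      rwa [← map_add, sub_add_cancel, hθv] at h3
    · rw [← hθv]
      exact key (η φ) hv (by rw [hθv]; exact e) h1
  -- (U2)
  have hmove : ∀ u v, (π u = u ∧ ∀ φ, B (π' φ) u = 0 → T u (π' φ)) → π u = u → π v = v →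
      B (θ v) u ≠ 0 → ∀ s : F, (π (u + s • v) = u + s • v ∧
        ∀ φ, B (π' φ) (u + s • v) = 0 → T (u + s • v) (π' φ)) := by
    intro u v hP hu hv hb s
    refine ⟨by rw [map_add, map_smul, hu, hv], ?_⟩
    intro φ e
    set β : F := B (θ v) u with hβ
    set x : F := - B (π' φ) u / β with hx
    have h1 : T u (π' (φ + x • θ v)) := by
      apply hP.2
      rw [map_add, map_smul, hS.πθ, map_add, map_smul, LinearMap.add_apply, LinearMap.smul_apply,
        smul_eq_mul, hx]
      field_simp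
      ring
    have hTv : T ((s / β) • v) (θ v) := hT.smul_left _ (hS.mem_fix hv)
    have h2 := hT.t4 _ _ _ _ h1 hTv
    have e1 : u + B (θ v) u • (s / β) • v = u + s • v := by
      rw [smul_smul, mul_div_cancel₀ _ hb]
    have e2 : π' (φ + x • θ v) - B (π' (φ + x • θ v)) ((s / β) • v) • θ v = π' φ := by
      simp only [map_add, map_smul, hS.πθ, LinearMap.add_apply, LinearMap.smul_apply, hS.alt,
        smul_eq_mul]
      have e3 : x = s / β * B (π' φ) v := by
        rw [map_add, map_smul, smul_eq_mul] at e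
        rw [hx, div_mul_eq_mul_div, div_left_inj' hb]
        linear_combination (-1 : F) * e
      rw [e3]
      module
    rwa [e1, e2] at h2
  have hall := hS.conn hB hdp
    (fun u => π u = u ∧ ∀ φ, B (π' φ) u = 0 → T u (π' φ)) hmove ⟨hc, U1⟩ hc hc0
  constructor
  · intro u φ e
    by_cases hu0 : π u = 0
    · rw [hu0]; exact hT.tz1 _
    · exact (hall (π u) (hdp.idem u) hu0).2 φ e
  · -- rank
    rw [← hdp.finrank_eq hB]
    obtain ⟨φ₁, hφ₁⟩ := exists_ne_of_ne_zero hB hc0
    have hθc0 : θ c ≠ 0 := hS.ne_zero hc hc0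
    refine three_le_finrank_of (LinearMap.range π') (B.flip c) (x := θ c) (y := χ) (z := π' φ₁)
      ⟨θ c, hS.πθ c⟩ hθc0 ⟨χ, hχ⟩ hnp ⟨φ₁, rfl⟩ ?_ ?_ ?_
    · rw [LinearMap.flip_apply]; exact hS.alt c
    · rw [LinearMap.flip_apply]; exact hχc
    · rw [LinearMap.flip_apply, hdp.adj, hc, hφ₁]; exact one_ne_zero

end Cfsg.Agent.Lib.Helper5.Mc
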