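import Mathlib
import Cfsg.Agent.Lib.Helper5.McS2

/-!
# Symplectic full pairs: a transvection with inner centre and an outer part of the axis
-/

set_option autoImplicit false

namespace Cfsg.Agent.Lib.Helper5.Mc

open Module

variable {F V V' : Type*} [Field F] [AddCommGroup V] [Module F V] [AddCommGroup V'] [Module F V']
variable {B : V' →ₗ[F] V →ₗ[F] F} {T : V → V' → Prop} {π : V →ₗ[F] V} {π' : V' →ₗ[F] V'}
  {θ : V →ₗ[F] V'} {η : V' →ₗ[F] V}

/-- a normalised hyperbolic partner of an outside functional -/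
theorem partner (hT : TSys B T) (hdp : DP B π π') {c : V} {χ : V'} (hc : π c = c) (hc0 : c ≠ 0)
    (hχ : π' χ = 0) (hχ0 : χ ≠ 0) (hTc : T c χ) (E1 : ∀ u, T (π u) χ) :
    ∃ d δ, T d δ ∧ π d = 0 ∧ B χ d = 1 ∧ B δ c ≠ 0 := by
  have hχc : B χ c = 0 := by rw [← hc]; exact hdp.kill1 hχ c
  obtain ⟨d₀, δ₀, hT0, h01, h02⟩ := hT.tN c χ hTc hc0 hχ0
  set d₁ : V := (B χ d₀)⁻¹ • d₀ with hd₁
  have hT1 : T d₁ δ₀ := hT.smul_left _ hT0
  have h11 : B χ d₁ = 1 := by rw [hd₁, map_smul, smul_eq_mul, inv_mul_cancel₀ h01]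
  have hshift := hT.t4 d₁ δ₀ (-(π d₁)) χ hT1 (by
    have := E1 (-d₁)
    rwa [map_neg] at this)
  refine ⟨d₁ - π d₁, δ₀ + B δ₀ (π d₁) • χ, ?_, hdp.fix_sub d₁, ?_, ?_⟩
  · have e1 : d₁ + B χ d₁ • (-(π d₁)) = d₁ - π d₁ := by rw [h11, one_smul, sub_eq_add_neg]
    have e2 : δ₀ - B δ₀ (-(π d₁)) • χ = δ₀ + B δ₀ (π d₁) • χ := by
      rw [map_neg, neg_smul, sub_neg_eq_add]
    rwa [e1, e2] at hshift
  · rw [map_sub, h11, hdp.kill1 hχ, sub_zero]
  · rw [map_add, map_smul, LinearMap.add_apply, LinearMap.smul_apply, hχc, smul_zero, add_zero]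
    exact h02

/-- the outcome of an extension step -/
def ExtL (B : V' →ₗ[F] V →ₗ[F] F) (T : V → V' → Prop) (π : V →ₗ[F] V) (π' : V' →ₗ[F] V') :
    Prop :=
  ∃ π₁ π₁', Bigger B T π π' π₁ π₁' ∧ FullL B T π₁ π₁' ∧
    finrank F (LinearMap.range π₁) = finrank F (LinearMap.range π) + 1 ∧
    3 ≤ finrank F (LinearMap.range π₁)

theorem ExtL.unflip [FiniteDimensional F V] [FiniteDimensional F V'] (hB : Perf B)
    (hdp : DP B π π') (h : ExtL B.flip (fun φ a => T a φ) π' π) : ExtL B T π π' := by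
  obtain ⟨π₁', π₁, ⟨h1, h2, h3⟩, h4, h5, h6⟩ := h
  have hdp1 : DP B π₁ π₁' :=
    { idem := h1.idem'
      idem' := h1.idem
      adj := fun φ v => by simpa using (h1.adj v φ).symm }
  have e1 := hdp1.finrank_eq hB
  have e2 := hdp.finrank_eq hB
  refine ⟨π₁, π₁', ⟨hdp1, h3, h2⟩, fun u φ e => h4 φ u e, by omega, by omega⟩

/-- SA-iii : inner centre, axis with an outer part -/
theorem SA_iii [FiniteDimensional F V] [FiniteDimensional F V'] (hB : Perf B) (hT : TSys B T)
    (hdp : DP B π π') (hS : FullS B T π π' θ η)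
    {c : V} {χ : V'} (hc : π c = c) (hc0 : c ≠ 0) (hχ2 : χ - π' χ ≠ 0) (hTc : T c χ) :
    ExtL B T π π' := by
  have hχc : B χ c = 0 := hT.t0 _ _ hTc
  have hχ1c : B (π' χ) c = 0 := by rw [hdp.adj, hc]; exact hχc
  -- a second vector
  obtain ⟨v₁, hv₁, hv₁b⟩ := hS.exists_ne hB hdp hc hc0
  have hv₁c : v₁ ∉ Submodule.span F {c} := by
    intro hmem
    obtain ⟨s, rfl⟩ := Submodule.mem_span_singleton.mp hmem
    apply hv₁b
    rw [map_smul, hS.alt, smul_zero]
  have hrank2 : 2 ≤ finrank F (LinearMap.range π) :=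
    two_le_finrank_of _ ⟨c, hc⟩ hc0 ⟨v₁, hv₁⟩ hv₁c
  -- main claim
  have main : FullL B T π π' ∧ T c (χ - π' χ) := by
    by_cases hA : ∃ u, π u = u ∧ B (θ u) c = 0 ∧ B χ u ≠ 0 ∧ θ u ∉ Submodule.span F {θ c}
    · obtain ⟨u, hu, e1, e2, e3⟩ := hA
      have h1 := hT.t4 _ _ _ _ hTc (hS.mem_fix hu)
      rw [e1, zero_smul, add_zero] at h1
      have h2 := hT.sub_right hTc h1
      rw [sub_sub_cancel] at h2
      have h3 : T c (θ u) := hT.of_smul_right e2 h2
      have hL := (upgrade hB hT hdp hS hc hc0 (hS.πθ u) h3 e3).1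
      refine ⟨hL, hT.sub_right hTc ?_⟩
      exact hL.of_fix hc (hdp.idem' χ) hχ1c
    · have hall : ∀ u, π u = u → B (θ u) c = 0 → B χ u = 0 := by
        intro u hu e1
        by_contra e2
        have hmem : θ u ∈ Submodule.span F {θ c} := by
          by_contra e3
          exact hA ⟨u, hu, e1, e2, e3⟩
        obtain ⟨s, hs⟩ := Submodule.mem_span_singleton.mp hmem
        have h1 : θ (u - s • c) = 0 := by rw [map_sub, map_smul, hs, sub_self]
        have h2 := hS.inj h1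
        rw [map_sub, map_smul, hu, hc, sub_eq_zero] at h2
        apply e2
        rw [h2, map_smul, hχc, smul_zero]
      have hker : ∀ v, B (θ c) v = 0 → B (π' χ) v = 0 := by
        intro v hv
        have h1 : B (θ (π v)) c = 0 := by
          rw [hS.skew, hS.B_π hdp, hv, neg_zero]
        rw [hdp.adj]
        exact hall (π v) (hdp.idem v) h1
      obtain ⟨s, hs⟩ := prop_of_ker hB hker
      have hT1 : T c (π' χ) := by
        rw [hs]; exact hT.smul_right s (hS.mem_fix hc)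
      have hT2 : T c (χ - π' χ) := hT.sub_right hTc hT1
      have hχ2' : π' (χ - π' χ) = 0 := hdp.fix_sub' χ
      -- E1
      have E1 : ∀ u, T (π u) (χ - π' χ) := by
        intro u
        by_cases hu0 : π u = 0
        · rw [hu0]; exact hT.tz1 _
        · refine hS.conn hB hdp (fun u => T u (χ - π' χ)) ?_ hT2 hc hc0 (π u) (hdp.idem u) hu0
          intro u v hP hu hv hb s
          have h1 := hT.r2 hP (hS.mem_fix hv) (by rw [← hv]; exact hdp.kill1 hχ2' v)
          have h2 := hT.of_smul_left hb h1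
          exact hT.t2 _ _ _ hP (hT.smul_left s h2)
      obtain ⟨d, δ, hTd, hπd, hχd, hδc⟩ := partner hT hdp hc hc0 hχ2' hχ2 hT2 E1
      have hd1 : ∀ v, π v = v → B δ v ≠ 0 → T d (θ v) := by
        intro v hv hb
        have h1 := hT.t4 _ _ _ _ hTd (hS.mem_fix hv)
        rw [hS.B_kill hdp v hπd, zero_smul, add_zero] at h1
        have h2 := hT.sub_right hTd h1
        rw [sub_sub_cancel] at h2
        exact hT.of_smul_right hb h2
      have hd2 : ∀ v, T d (θ v) := by
        intro v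
        rw [← hS.θπ]
        by_cases hb : B δ (π v) = 0
        · have h1 : T d (θ (π v + c)) := by
            apply hd1
            · rw [map_add, hdp.idem, hc]
            · rw [map_add, hb, zero_add]; exact hδc
          have h2 : T d (θ (-c)) := by
            apply hd1
            · rw [map_neg, hc]
            · rw [map_neg, neg_ne_zero]; exact hδc
          have h3 := hT.t1 _ _ _ h1 h2
          rwa [← map_add, add_neg_cancel_right] at h3
        · exact hd1 _ (hdp.idem v) hb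
      refine ⟨?_, hT2⟩
      intro u φ e
      have h1 : T d (π' φ) := by rw [← hS.θη]; exact hd2 _
      have h2 := hT.r1 (E1 u) h1 e
      rwa [hχd, one_smul] at h2
  obtain ⟨hL, hT2⟩ := main
  obtain ⟨d, hd1, hd2, hd3⟩ := extL hB hT hdp hL hc hc0 (hdp.fix_sub' χ) hχ2 hT2 hv₁ hv₁c
  have hr := finrank_ext1 hdp hd1 (hdp.fix_sub' χ) hd2
  exact ⟨_, _, ⟨hdp.ext1 hd1 (hdp.fix_sub' χ) hd2, fun v => ext1_comp hdp (hdp.fix_sub' χ) _ v,
    fun φ => ext1'_comp hdp hd1 _ φ⟩, hd3, hr, by omega⟩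

/-- SA-iii' : the dual statement -/
theorem SA_iii' [FiniteDimensional F V] [FiniteDimensional F V'] (hB : Perf B) (hT : TSys B T)
    (hdp : DP B π π') (hS : FullS B T π π' θ η)
    {c : V} {χ : V'} (hχ : π' χ = χ) (hχ0 : χ ≠ 0) (hc2 : c - π c ≠ 0) (hTc : T c χ) :
    ExtL B T π π' :=
  ExtL.unflip hB hdp
    (SA_iii (B := B.flip) (T := fun φ a => T a φ) hB.flip hT.flip hdp.flip (hS.flip hdp)
      hχ hχ0 hc2 hTc)

end Cfsg.Agent.Lib.Helper5.Mc
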