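import Mathlib
import Cfsg.Agent.Lib.Helper5.McS3

/-!
# Symplectic full pairs: transvections with outer parts on both sides; hyperbolic planes
-/

set_option autoImplicit false

namespace Cfsg.Agent.Lib.Helper5.Mc

open Module

variable {F V V' : Type*} [Field F] [AddCommGroup V] [Module F V] [AddCommGroup V'] [Module F V']
variable {B : V' →ₗ[F] V →ₗ[F] F} {T : V → V' → Prop} {π : V →ₗ[F] V} {π' : V' →ₗ[F] V'}
  {θ : V →ₗ[F] V'} {η : V' →ₗ[F] V}

/-- SA-iv -/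
theorem SA_iv [FiniteDimensional F V] [FiniteDimensional F V'] (hB : Perf B) (hT : TSys B T)
    (hdp : DP B π π') (hS : FullS B T π π' θ η)
    {c : V} {χ : V'} (hTc : T c χ) (hc2 : c - π c ≠ 0) (hχ2 : χ - π' χ ≠ 0) :
    ExtL B T π π' ∨ (T (c - π c) (χ - π' χ) ∧
      ((π c = 0 ∧ π' χ = 0) ∨ (π c ≠ 0 ∧ ∃ s : F, s ≠ 0 ∧ π' χ = s • θ (π c)))) := by
  have hχc : B χ c = 0 := hT.t0 _ _ hTc
  by_cases ha : ∃ u, π u = u ∧ B (θ u) c = 0 ∧ B χ u ≠ 0
  · left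
    obtain ⟨u, hu, e1, e2⟩ := ha
    have h1 := hT.t4 _ _ _ _ hTc (hS.mem_fix hu)
    rw [e1, zero_smul, add_zero] at h1
    have h2 := hT.sub_right hTc h1
    rw [sub_sub_cancel] at h2
    have h3 : T c (θ u) := hT.of_smul_right e2 h2
    have hu0 : u ≠ 0 := by
      rintro rfl
      simp at e2
    exact SA_iii' hB hT hdp hS (hS.πθ u) (hS.ne_zero hu hu0) hc2 h3
  by_cases hb : ∃ u, π u = u ∧ B χ u = 0 ∧ B (θ u) c ≠ 0
  · left
    obtain ⟨u, hu, e1, e2⟩ := hb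
    have h1 := hT.t4 _ _ _ _ hTc (hS.mem_fix hu)
    rw [e1, zero_smul, sub_zero] at h1
    have h2 := hT.sub_left h1 hTc
    rw [add_sub_cancel_left] at h2
    have h3 : T u χ := hT.of_smul_left e2 h2
    have hu0 : u ≠ 0 := by
      rintro rfl
      simp at e2
    exact SA_iii hB hT hdp hS hu hu0 hχ2 h3
  right
  have hall_a : ∀ u, π u = u → B (θ u) c = 0 → B χ u = 0 := by
    intro u hu e1
    by_contra e2
    exact ha ⟨u, hu, e1, e2⟩
  have hall_b : ∀ u, π u = u → B χ u = 0 → B (θ u) c = 0 := by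
    intro u hu e1
    by_contra e2
    exact hb ⟨u, hu, e1, e2⟩
  by_cases h0 : π c = 0 ∧ π' χ = 0
  · refine ⟨?_, Or.inl h0⟩
    rw [h0.1, h0.2, sub_zero, sub_zero]; exact hTc
  have ker1 : ∀ v, B (θ (π c)) v = 0 → B (π' χ) v = 0 := by
    intro v hv
    rw [hS.θπ] at hv
    rw [hdp.adj]
    apply hall_a (π v) (hdp.idem v)
    rw [hS.θπ, hS.skew, hv, neg_zero]
  have ker2 : ∀ v, B (π' χ) v = 0 → B (θ (π c)) v = 0 := by
    intro v hv
    have h1 := hall_b (π v) (hdp.idem v) (by rw [← hdp.adj]; exact hv)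
    rw [hS.θπ, hS.skew, neg_eq_zero] at h1
    rw [hS.θπ]; exact h1
  obtain ⟨s, hs⟩ := prop_of_ker hB ker1
  obtain ⟨s', hs'⟩ := prop_of_ker hB ker2
  have hc1 : π c ≠ 0 := by
    intro h
    apply h0
    refine ⟨h, ?_⟩
    rw [hs, h, map_zero, smul_zero]
  have hθc1 : θ (π c) ≠ 0 := hS.ne_zero (hdp.idem c) hc1
  have hs0 : s ≠ 0 := by
    rintro rfl
    rw [zero_smul] at hs
    rw [hs, smul_zero] at hs'
    exact hθc1 hs'
  refine ⟨?_, Or.inr ⟨hc1, s, hs0, hs⟩⟩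
  -- the normalised element
  have hπy : π (c - π c) = 0 := hdp.fix_sub c
  have hπυ : π' (s⁻¹ • (χ - π' χ)) = 0 := by rw [map_smul, hdp.fix_sub', smul_zero]
  have hT0 : T (π c + (c - π c)) (θ (π c) + s⁻¹ • (χ - π' χ)) := by
    have h1 := hT.smul_right s⁻¹ hTc
    have e1 : π c + (c - π c) = c := by abel
    have e2 : θ (π c) + s⁻¹ • (χ - π' χ) = s⁻¹ • χ := by
      rw [smul_sub, hs, smul_smul, inv_mul_cancel₀ hs0, one_smul]
      abel
    rwa [e1, e2]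
  have hT1 := hS.orbit hB hT hdp hπy hπυ (hdp.idem c) hc1 hT0 (-(π c))
    (by rw [map_neg, hdp.idem]) (neg_ne_zero.mpr hc1)
  rw [map_neg] at hT1
  have hB1 : B (θ (π c)) (c - π c) = 0 := hS.B_kill hdp _ hπy
  have hB2 : B (s⁻¹ • (χ - π' χ)) (π c) = 0 := hdp.kill1 hπυ c
  have hB3 : B (s⁻¹ • (χ - π' χ)) (c - π c) = 0 := by
    have e1 : B (π' χ) (π c) = 0 := by rw [hs, map_smul, LinearMap.smul_apply, hS.alt, smul_zero]
    have e2 : B (π' χ) (c - π c) = 0 := by rw [hdp.adj, hπy, map_zero]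
    have e3 : B (χ - π' χ) (π c) = 0 := hdp.kill1 (hdp.fix_sub' χ) c
    have e4 : B χ c = B (π' χ) (π c) + B (π' χ) (c - π c) + B (χ - π' χ) (π c)
        + B (χ - π' χ) (c - π c) := by
      simp only [map_sub, LinearMap.sub_apply]
      ring
    rw [map_smul, LinearMap.smul_apply]
    rw [hχc, e1, e2, e3] at e4
    rw [show B (χ - π' χ) (c - π c) = 0 by linear_combination -e4, smul_zero]
  have h5 := hT.t5 _ _ _ _ (hS.mem_fix (hdp.idem c)) hT0 hT1 hB1 hB2 hB3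
  exact hT.of_smul_right (inv_ne_zero hs0) h5

end Cfsg.Agent.Lib.Helper5.Mc
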