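import Mathlib
import Cfsg.Agent.Lib.Helper5.McS4

/-!
# Hyperbolic planes and orthogonal sums of symplectic full pairs
-/

set_option autoImplicit false

namespace Cfsg.Agent.Lib.Helper5.Mc

open Module

variable {F V V' : Type*} [Field F] [AddCommGroup V] [Module F V] [AddCommGroup V'] [Module F V']

/-- idempotent of a hyperbolic plane -/
def p2 (B : V' →ₗ[F] V →ₗ[F] F) (x₁ x₂ : V) (ξ₁ ξ₂ : V') : V →ₗ[F] V :=
  (B ξ₂ x₁)⁻¹ • (B ξ₂).smulRight x₁ + (B ξ₁ x₂)⁻¹ • (B ξ₁).smulRight x₂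

/-- dual idempotent of a hyperbolic plane -/
def p2' (B : V' →ₗ[F] V →ₗ[F] F) (x₁ x₂ : V) (ξ₁ ξ₂ : V') : V' →ₗ[F] V' :=
  (B ξ₂ x₁)⁻¹ • (B.flip x₁).smulRight ξ₂ + (B ξ₁ x₂)⁻¹ • (B.flip x₂).smulRight ξ₁

/-- the symplectic structure of a hyperbolic plane, scaled by `l` -/
def th2 (B : V' →ₗ[F] V →ₗ[F] F) (l : F) (x₁ : V) (ξ₁ ξ₂ : V') : V →ₗ[F] V' :=
  (l * (B ξ₂ x₁)⁻¹) • ((B ξ₂).smulRight ξ₁ - (B ξ₁).smulRight ξ₂)

/-- inverse of `th2` -/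
def et2 (B : V' →ₗ[F] V →ₗ[F] F) (l : F) (x₁ x₂ : V) (ξ₁ : V') : V' →ₗ[F] V :=
  (l * B ξ₁ x₂)⁻¹ • ((B.flip x₂).smulRight x₁ - (B.flip x₁).smulRight x₂)

variable {B : V' →ₗ[F] V →ₗ[F] F} {T : V → V' → Prop}

@[simp] theorem p2_apply (x₁ x₂ : V) (ξ₁ ξ₂ : V') (v : V) :
    p2 B x₁ x₂ ξ₁ ξ₂ v = ((B ξ₂ x₁)⁻¹ * B ξ₂ v) • x₁ + ((B ξ₁ x₂)⁻¹ * B ξ₁ v) • x₂ := by
  simp [p2, smul_smul]

@[simp] theorem p2'_apply (x₁ x₂ : V) (ξ₁ ξ₂ : V') (φ : V') :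
    p2' B x₁ x₂ ξ₁ ξ₂ φ = ((B ξ₂ x₁)⁻¹ * B φ x₁) • ξ₂ + ((B ξ₁ x₂)⁻¹ * B φ x₂) • ξ₁ := by
  simp [p2', smul_smul]

@[simp] theorem th2_apply (l : F) (x₁ : V) (ξ₁ ξ₂ : V') (v : V) :
    th2 B l x₁ ξ₁ ξ₂ v = (l * (B ξ₂ x₁)⁻¹ * B ξ₂ v) • ξ₁ - (l * (B ξ₂ x₁)⁻¹ * B ξ₁ v) • ξ₂ := by
  simp [th2, smul_smul, smul_sub]

@[simp] theorem et2_apply (l : F) (x₁ x₂ : V) (ξ₁ : V') (φ : V') :
    et2 B l x₁ x₂ ξ₁ φ = ((l * B ξ₁ x₂)⁻¹ * B φ x₂) • x₁ - ((l * B ξ₁ x₂)⁻¹ * B φ x₁) • x₂ := by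
  simp [et2, smul_smul, smul_sub]

section Hyp

variable {x₁ x₂ : V} {ξ₁ ξ₂ : V'}

theorem dp_p2 (h11 : B ξ₁ x₁ = 0) (h22 : B ξ₂ x₂ = 0) (hα : B ξ₁ x₂ ≠ 0) (hγ : B ξ₂ x₁ ≠ 0) :
    DP B (p2 B x₁ x₂ ξ₁ ξ₂) (p2' B x₁ x₂ ξ₁ ξ₂) where
  idem := fun v => by
    simp only [p2_apply, map_add, map_smul, smul_eq_mul, h11, h22, mul_zero, add_zero, zero_add]
    match_scalars <;> field_simp <;> ring
  idem' := fun φ => by
    simp only [p2'_apply, map_add, map_smul, LinearMap.add_apply, LinearMap.smul_apply,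
      smul_eq_mul, h11, h22, mul_zero, add_zero, zero_add]
    match_scalars <;> field_simp <;> ring
  adj := fun φ v => by
    simp only [p2_apply, p2'_apply, map_add, map_smul, LinearMap.add_apply, LinearMap.smul_apply,
      smul_eq_mul]
    ring

theorem p2_x1 (h11 : B ξ₁ x₁ = 0) (hγ : B ξ₂ x₁ ≠ 0) : p2 B x₁ x₂ ξ₁ ξ₂ x₁ = x₁ := by
  simp [h11, hγ]

theorem p2'_xi1 (h11 : B ξ₁ x₁ = 0) (hα : B ξ₁ x₂ ≠ 0) : p2' B x₁ x₂ ξ₁ ξ₂ ξ₁ = ξ₁ := by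
  simp [h11, hα]

theorem fullS_hyp (hT : TSys B T) (h1 : T x₁ ξ₁) (h2 : T x₂ ξ₂) (hα : B ξ₁ x₂ ≠ 0)
    (hγ : B ξ₂ x₁ ≠ 0) {l : F} (hl : l ≠ 0) :
    FullS B T (p2 B x₁ x₂ ξ₁ ξ₂) (p2' B x₁ x₂ ξ₁ ξ₂) (th2 B l x₁ ξ₁ ξ₂) (et2 B l x₁ x₂ ξ₁) := by
  have h11 : B ξ₁ x₁ = 0 := hT.t0 _ _ h1
  have h22 : B ξ₂ x₂ = 0 := hT.t0 _ _ h2
  refine ⟨?_, ?_, ?_, ?_, ?_, ?_, ?_, ?_⟩
  · intro v
    simp only [th2_apply, et2_apply, p2_apply, map_sub, map_smul, LinearMap.sub_apply,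
      LinearMap.smul_apply, smul_eq_mul, h11, h22, mul_zero, sub_zero, zero_sub]
    match_scalars <;> field_simp <;> ring
  · intro φ
    simp only [th2_apply, et2_apply, p2'_apply, map_sub, map_smul, smul_eq_mul, h11, h22, mul_zero,
      sub_zero, zero_sub]
    match_scalars <;> field_simp <;> ring
  · intro v
    simp only [th2_apply, p2_apply, map_add, map_smul, smul_eq_mul, h11, h22, mul_zero, add_zero,
      zero_add]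
    match_scalars <;> field_simp <;> ring
  · intro v
    simp only [th2_apply, p2'_apply, map_sub, map_smul, LinearMap.sub_apply,
      LinearMap.smul_apply, smul_eq_mul, h11, h22, mul_zero, sub_zero, zero_sub]
    match_scalars <;> field_simp <;> ring
  · intro φ
    simp only [et2_apply, p2'_apply, map_add, map_smul, LinearMap.add_apply,
      LinearMap.smul_apply, smul_eq_mul, h11, h22, mul_zero, add_zero, zero_add]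
    match_scalars <;> field_simp <;> ring
  · intro φ
    simp only [et2_apply, p2_apply, map_sub, map_smul, smul_eq_mul, h11, h22, mul_zero, sub_zero,
      zero_sub]
    match_scalars <;> field_simp <;> ring
  · intro v
    simp only [th2_apply, map_sub, map_smul, LinearMap.sub_apply, LinearMap.smul_apply,
      smul_eq_mul]
    ring
  · intro u
    rw [p2_apply, th2_apply, sub_eq_add_neg, ← neg_smul]
    apply hT.sl2 h1 h2 hα hγ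
    field_simp
    ring

end Hyp

end Cfsg.Agent.Lib.Helper5.Mc
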