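import Mathlib
import Cfsg.Agent.Lib.Helper5.McS5

/-!
# Orthogonal sums of symplectic full pairs and the symplectic extension step
-/

set_option autoImplicit false

namespace Cfsg.Agent.Lib.Helper5.Mc

open Module

variable {F V V' : Type*} [Field F] [AddCommGroup V] [Module F V] [AddCommGroup V'] [Module F V']
variable {B : V' →ₗ[F] V →ₗ[F] F} {T : V → V' → Prop} {π π₂ : V →ₗ[F] V} {π' π₂' : V' →ₗ[F] V'}
  {θ θ₂ : V →ₗ[F] V'} {η η₂ : V' →ₗ[F] V}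

theorem dp_sum (hdp : DP B π π') (hdp₂ : DP B π₂ π₂')
    (o1 : ∀ v, π (π₂ v) = 0) (o2 : ∀ v, π₂ (π v) = 0) (o1' : ∀ φ, π' (π₂' φ) = 0)
    (o2' : ∀ φ, π₂' (π' φ) = 0) : DP B (π + π₂) (π' + π₂') where
  idem := fun v => by
    simp only [LinearMap.add_apply, map_add, hdp.idem, hdp₂.idem, o1, o2, add_zero, zero_add]
  idem' := fun φ => by
    simp only [LinearMap.add_apply, map_add, hdp.idem', hdp₂.idem', o1', o2', add_zero, zero_add]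
  adj := fun φ v => by
    simp only [LinearMap.add_apply, map_add, hdp.adj, hdp₂.adj]

theorem fullS_sum (hB : Perf B) (hT : TSys B T) (hdp : DP B π π') (hS : FullS B T π π' θ η)
    (hdp₂ : DP B π₂ π₂') (hS₂ : FullS B T π₂ π₂' θ₂ η₂)
    (o1 : ∀ v, π (π₂ v) = 0) (o2 : ∀ v, π₂ (π v) = 0) (o1' : ∀ φ, π' (π₂' φ) = 0)
    (o2' : ∀ φ, π₂' (π' φ) = 0)
    {u₀ x₀ : V} (hu₀ : π u₀ = u₀) (hu₀0 : u₀ ≠ 0) (hx₀ : π₂ x₀ = x₀) (hx₀0 : x₀ ≠ 0)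
    (hlink : T (u₀ + x₀) (θ u₀ + θ₂ x₀)) :
    FullS B T (π + π₂) (π' + π₂') (θ + θ₂) (η + η₂) := by
  have a1 : ∀ v, η (θ₂ v) = 0 := fun v => by rw [← hS.ηπ, ← hS₂.πθ, o1', map_zero]
  have a2 : ∀ v, η₂ (θ v) = 0 := fun v => by rw [← hS₂.ηπ, ← hS.πθ, o2', map_zero]
  have a3 : ∀ φ, θ (η₂ φ) = 0 := fun φ => by rw [← hS.θπ, ← hS₂.πη, o1, map_zero]
  have a4 : ∀ φ, θ₂ (η φ) = 0 := fun φ => by rw [← hS₂.θπ, ← hS.πη, o2, map_zero]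
  have a5 : ∀ v, θ₂ (π v) = 0 := fun v => by rw [← hS₂.θπ, o2, map_zero]
  have a6 : ∀ v, θ (π₂ v) = 0 := fun v => by rw [← hS.θπ, o1, map_zero]
  have a7 : ∀ v, π' (θ₂ v) = 0 := fun v => by rw [← hS₂.πθ, o1']
  have a8 : ∀ v, π₂' (θ v) = 0 := fun v => by rw [← hS.πθ, o2']
  have a9 : ∀ φ, η (π₂' φ) = 0 := fun φ => by rw [← hS.ηπ, o1', map_zero]
  have a10 : ∀ φ, η₂ (π' φ) = 0 := fun φ => by rw [← hS₂.ηπ, o2', map_zero]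
  have a11 : ∀ φ, π (η₂ φ) = 0 := fun φ => by rw [← hS₂.πη, o1]
  have a12 : ∀ φ, π₂ (η φ) = 0 := fun φ => by rw [← hS.πη, o2]
  refine ⟨?_, ?_, ?_, ?_, ?_, ?_, ?_, ?_⟩
  · intro v
    simp only [LinearMap.add_apply, map_add, hS.ηθ, hS₂.ηθ, a1, a2, add_zero, zero_add]
  · intro φ
    simp only [LinearMap.add_apply, map_add, hS.θη, hS₂.θη, a3, a4, add_zero, zero_add]
  · intro v
    simp only [LinearMap.add_apply, map_add, hS.θπ, hS₂.θπ, a5, a6, add_zero, zero_add]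
  · intro v
    simp only [LinearMap.add_apply, map_add, hS.πθ, hS₂.πθ, a7, a8, add_zero, zero_add]
  · intro φ
    simp only [LinearMap.add_apply, map_add, hS.ηπ, hS₂.ηπ, a9, a10, add_zero, zero_add]
  · intro φ
    simp only [LinearMap.add_apply, map_add, hS.πη, hS₂.πη, a11, a12, add_zero, zero_add]
  · intro v
    simp only [LinearMap.add_apply, map_add, hS.alt, hS₂.alt, add_zero]
  · intro u
    simp only [LinearMap.add_apply]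
    by_cases ha : π u = 0
    · have : θ u = 0 := by rw [← hS.θπ, ha, map_zero]
      rw [ha, this, zero_add, zero_add]
      exact hS₂.mem u
    by_cases hb : π₂ u = 0
    · have : θ₂ u = 0 := by rw [← hS₂.θπ, hb, map_zero]
      rw [hb, this, add_zero, add_zero]
      exact hS.mem u
    have s1 := hS.orbit hB hT hdp (y := x₀) (υ := θ₂ x₀) (by rw [← hx₀, o1]) (a7 x₀) hu₀ hu₀0
      hlink (π u) (hdp.idem u) ha
    have s2 := hS₂.orbit hB hT hdp₂ (y := π u) (υ := θ (π u)) (o2 u) (a8 _) hx₀ hx₀0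
      (by rw [add_comm, add_comm (θ₂ x₀)]; exact s1) (π₂ u) (hdp₂.idem u) hb
    rw [add_comm, add_comm (θ₂ _), hS.θπ, hS₂.θπ] at s2
    exact s2

/-- the symplectic extension step -/
theorem extS [FiniteDimensional F V] [FiniteDimensional F V'] (hB : Perf B) (hT : TSys B T)
    (hdp : DP B π π') (hS : FullS B T π π' θ η)
    {c₁ x₁ : V} {ξ₁ : V'} {s : F} (hc₁ : π c₁ = c₁) (hc₁0 : c₁ ≠ 0) (hx₁ : π x₁ = 0)
    (hξ₁ : π' ξ₁ = 0) (hx₁0 : x₁ ≠ 0) (hξ₁0 : ξ₁ ≠ 0) (hT1 : T x₁ ξ₁) (hs : s ≠ 0)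
    (hlink : T (c₁ + x₁) (s • θ c₁ + ξ₁)) :
    ExtL B T π π' ∨ ∃ π₁ π₁' θ₁ η₁, Bigger B T π π' π₁ π₁' ∧ FullS B T π₁ π₁' θ₁ η₁ ∧
      finrank F (LinearMap.range π) < finrank F (LinearMap.range π₁) := by
  obtain ⟨d, δ, hTd, hα₀, hγ₀⟩ := hT.tN x₁ ξ₁ hT1 hx₁0 hξ₁0
  have hα : B ξ₁ (d - π d) ≠ 0 := by
    rw [map_sub, hdp.kill1 hξ₁, sub_zero]; exact hα₀
  have hγ : B (δ - π' δ) x₁ ≠ 0 := by
    rw [map_sub, LinearMap.sub_apply, hdp.kill2 hx₁, sub_zero]; exact hγ₀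
  have hd2 : d - π d ≠ 0 := by
    intro h; rw [h, map_zero] at hα; exact hα rfl
  have hδ2 : δ - π' δ ≠ 0 := by
    intro h; rw [h, map_zero, LinearMap.zero_apply] at hγ; exact hγ rfl
  rcases SA_iv hB hT hdp hS hTd hd2 hδ2 with hE | ⟨hT2, -⟩
  · exact Or.inl hE
  right
  set x₂ : V := d - π d with hx₂def
  set ξ₂ : V' := δ - π' δ with hξ₂def
  have hx₂ : π x₂ = 0 := hdp.fix_sub d
  have hξ₂ : π' ξ₂ = 0 := hdp.fix_sub' δ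
  have h11 : B ξ₁ x₁ = 0 := hT.t0 _ _ hT1
  have h22 : B ξ₂ x₂ = 0 := hT.t0 _ _ hT2
  have hdp₂ := dp_p2 h11 h22 hα hγ
  have hS₂ := fullS_hyp hT hT1 hT2 hα hγ (inv_ne_zero hs)
  have o1 : ∀ v, π (p2 B x₁ x₂ ξ₁ ξ₂ v) = 0 := fun v => by
    simp [hx₁, hx₂]
  have o2 : ∀ v, p2 B x₁ x₂ ξ₁ ξ₂ (π v) = 0 := fun v => by
    simp [hdp.kill1 hξ₁, hdp.kill1 hξ₂]
  have o1' : ∀ φ, π' (p2' B x₁ x₂ ξ₁ ξ₂ φ) = 0 := fun φ => by
    simp [hξ₁, hξ₂]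
  have o2' : ∀ φ, p2' B x₁ x₂ ξ₁ ξ₂ (π' φ) = 0 := fun φ => by
    simp [hdp.kill2 hx₁, hdp.kill2 hx₂]
  have hp2x : p2 B x₁ x₂ ξ₁ ξ₂ x₁ = x₁ := p2_x1 h11 hγ
  have hlink' : T (c₁ + x₁) (θ c₁ + th2 B s⁻¹ x₁ ξ₁ ξ₂ x₁) := by
    have h1 := hT.smul_right s⁻¹ hlink
    have e : s⁻¹ • (s • θ c₁ + ξ₁) = θ c₁ + th2 B s⁻¹ x₁ ξ₁ ξ₂ x₁ := by
      rw [th2_apply, h11, mul_zero, zero_smul, sub_zero, smul_add, smul_smul,
        inv_mul_cancel₀ hs, one_smul, mul_assoc, inv_mul_cancel₀ hγ, mul_one]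
    rwa [e] at h1
  have hsum := fullS_sum hB hT hdp hS hdp₂ hS₂ o1 o2 o1' o2' hc₁ hc₁0 hp2x hx₁0 hlink'
  have hdpsum := dp_sum hdp hdp₂ o1 o2 o1' o2'
  refine ⟨_, _, _, _, ⟨hdpsum, ?_, ?_⟩, hsum, ?_⟩
  · intro v
    rw [LinearMap.add_apply, hdp.idem, o2, add_zero]
  · intro φ
    rw [LinearMap.add_apply, hdp.idem', o2', add_zero]
  · apply Submodule.finrank_lt_finrank_of_lt
    refine lt_of_le_of_ne ?_ ?_
    · rintro _ ⟨v, rfl⟩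
      exact ⟨π v, by rw [LinearMap.add_apply, hdp.idem, o2, add_zero]⟩
    · intro heq
      have : x₁ ∈ LinearMap.range π := by
        rw [heq]
        exact ⟨x₁, by rw [LinearMap.add_apply, hx₁, hp2x, zero_add]⟩
      obtain ⟨w, hw⟩ := this
      apply hx₁0
      rw [← hw, ← hdp.idem, hw, hx₁]

end Cfsg.Agent.Lib.Helper5.Mc
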