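import Mathlib
import Cfsg.Agent.Lib.Helper5.McS6

/-!
# Existence of components
-/

set_option autoImplicit false

namespace Cfsg.Agent.Lib.Helper5.Mc

open Module

variable {F V V' : Type*} [Field F] [AddCommGroup V] [Module F V] [AddCommGroup V'] [Module F V']
variable {B : V' →ₗ[F] V →ₗ[F] F} {T : V → V' → Prop}

/-- a component of the transvection system -/
structure IsComp (B : V' →ₗ[F] V →ₗ[F] F) (T : V → V' → Prop) (π : V →ₗ[F] V)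
    (π' : V' →ₗ[F] V') : Prop where
  dp : DP B π π'
  dich : ∀ c χ, T c χ → c ≠ 0 → χ ≠ 0 → (π c = c ∧ π' χ = χ) ∨ (π c = 0 ∧ π' χ = 0)
  typ : (FullL B T π π' ∧ 3 ≤ finrank F (LinearMap.range π)) ∨
    ∃ θ η, FullS B T π π' θ η ∧
      ∀ c χ, T c χ → c ≠ 0 → π c = c → π' χ = χ → χ ∈ Submodule.span F {θ c}

theorem compL [FiniteDimensional F V] [FiniteDimensional F V'] (hB : Perf B) (hT : TSys B T) :
    ∀ (k : ℕ) (π : V →ₗ[F] V) (π' : V' →ₗ[F] V'), DP B π π' → FullL B T π π' →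
      3 ≤ finrank F (LinearMap.range π) → finrank F V - finrank F (LinearMap.range π) ≤ k →
      ∃ π₁ π₁', IsComp B T π₁ π₁' ∧ (∀ v, π₁ (π v) = π v) ∧ (∀ φ, π₁' (π' φ) = π' φ) := by
  intro k
  induction k with
  | zero =>
    intro π π' hdp hL h3 hk
    by_cases hd : ∀ c χ, T c χ → c ≠ 0 → χ ≠ 0 → (π c = c ∧ π' χ = χ) ∨ (π c = 0 ∧ π' χ = 0)
    · exact ⟨π, π', ⟨hdp, hd, Or.inl ⟨hL, h3⟩⟩, hdp.idem, hdp.idem'⟩
    · exfalso
      push Not at hd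
      obtain ⟨c, χ, hTc, hc0, hχ0, hn1, hn2⟩ := hd
      rcases LA hB hT hdp hL h3 hTc hc0 hχ0 with h | h | ⟨π₁, π₁', -, -, hr⟩
      · exact hn1 h.1 h.2
      · exact hn2 h.1 h.2
      · have := Submodule.finrank_le (LinearMap.range π₁)
        omega
  | succ k ih =>
    intro π π' hdp hL h3 hk
    by_cases hd : ∀ c χ, T c χ → c ≠ 0 → χ ≠ 0 → (π c = c ∧ π' χ = χ) ∨ (π c = 0 ∧ π' χ = 0)
    · exact ⟨π, π', ⟨hdp, hd, Or.inl ⟨hL, h3⟩⟩, hdp.idem, hdp.idem'⟩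
    · push Not at hd
      obtain ⟨c, χ, hTc, hc0, hχ0, hn1, hn2⟩ := hd
      rcases LA hB hT hdp hL h3 hTc hc0 hχ0 with h | h | ⟨π₁, π₁', ⟨hdp1, hb1, hb2⟩, hL1, hr⟩
      · exact absurd h.2 (hn1 h.1)
      · exact absurd h.2 (hn2 h.1)
      · obtain ⟨π₂, π₂', hc, h1, h2⟩ := ih π₁ π₁' hdp1 hL1 (by omega) (by omega)
        refine ⟨π₂, π₂', hc, ?_, ?_⟩
        · intro v; rw [← hb1, h1]
        · intro φ; rw [← hb2, h2]

theorem compL' [FiniteDimensional F V] [FiniteDimensional F V'] (hB : Perf B) (hT : TSys B T)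
    {π : V →ₗ[F] V} {π' : V' →ₗ[F] V'} (h : ExtL B T π π') :
    ∃ π₁ π₁', IsComp B T π₁ π₁' ∧ (∀ v, π₁ (π v) = π v) ∧ (∀ φ, π₁' (π' φ) = π' φ) := by
  obtain ⟨π₁, π₁', ⟨hdp1, hb1, hb2⟩, hL1, -, h3⟩ := h
  obtain ⟨π₂, π₂', hc, h1, h2⟩ := compL hB hT _ π₁ π₁' hdp1 hL1 h3 le_rfl
  refine ⟨π₂, π₂', hc, ?_, ?_⟩
  · intro v; rw [← hb1, h1]
  · intro φ; rw [← hb2, h2]

theorem compS [FiniteDimensional F V] [FiniteDimensional F V'] (hB : Perf B) (hT : TSys B T) :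
    ∀ (k : ℕ) (π : V →ₗ[F] V) (π' : V' →ₗ[F] V') (θ : V →ₗ[F] V') (η : V' →ₗ[F] V),
      DP B π π' → FullS B T π π' θ η → finrank F V - finrank F (LinearMap.range π) ≤ k →
      ∃ π₁ π₁', IsComp B T π₁ π₁' ∧ (∀ v, π₁ (π v) = π v) ∧ (∀ φ, π₁' (π' φ) = π' φ) := by
  intro k
  induction k using Nat.strong_induction_on with
  | _ k ih =>
    intro π π' θ η hdp hS hk
    by_cases hd : (∀ c χ, T c χ → c ≠ 0 → χ ≠ 0 → (π c = c ∧ π' χ = χ) ∨ (π c = 0 ∧ π' χ = 0)) ∧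
        ∀ c χ, T c χ → c ≠ 0 → π c = c → π' χ = χ → χ ∈ Submodule.span F {θ c}
    · exact ⟨π, π', ⟨hdp, hd.1, Or.inr ⟨θ, η, hS, hd.2⟩⟩, hdp.idem, hdp.idem'⟩
    rw [not_and_or] at hd
    rcases hd with hd | hd
    · push Not at hd
      obtain ⟨c, χ, hTc, hc0, hχ0, hn1, hn2⟩ := hd
      by_cases hc2 : c - π c = 0
      · have hc : π c = c := (sub_eq_zero.mp hc2).symm
        have hχ2 : χ - π' χ ≠ 0 := by
          intro h
          exact hn1 hc (sub_eq_zero.mp h).symm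
        exact compL' hB hT (SA_iii hB hT hdp hS hc hc0 hχ2 hTc)
      by_cases hχ2 : χ - π' χ = 0
      · have hχ : π' χ = χ := (sub_eq_zero.mp hχ2).symm
        exact compL' hB hT (SA_iii' hB hT hdp hS hχ hχ0 hc2 hTc)
      rcases SA_iv hB hT hdp hS hTc hc2 hχ2 with hE | ⟨hT2, hcase⟩
      · exact compL' hB hT hE
      rcases hcase with h0 | ⟨hc1, s, hs0, hs⟩
      · exact absurd h0.2 (hn2 h0.1)
      have hlink : T (π c + (c - π c)) (s • θ (π c) + (χ - π' χ)) := by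
        rw [← hs, add_sub_cancel, add_sub_cancel]; exact hTc
      rcases extS hB hT hdp hS (hdp.idem c) hc1 (hdp.fix_sub c) (hdp.fix_sub' χ) hc2 hχ2 hT2 hs0
        hlink with hE | ⟨π₁, π₁', θ₁, η₁, ⟨hdp1, hb1, hb2⟩, hS1, hr⟩
      · exact compL' hB hT hE
      have hle := Submodule.finrank_le (LinearMap.range π₁)
      obtain ⟨π₂, π₂', hc, h1, h2⟩ := ih (finrank F V - finrank F (LinearMap.range π₁)) (by omega)
        π₁ π₁' θ₁ η₁ hdp1 hS1 le_rfl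
      refine ⟨π₂, π₂', hc, ?_, ?_⟩
      · intro v; rw [← hb1, h1]
      · intro φ; rw [← hb2, h2]
    · push Not at hd
      obtain ⟨c, χ, hTc, hc0, hc, hχ, hnp⟩ := hd
      obtain ⟨hL, h3⟩ := upgrade hB hT hdp hS hc hc0 hχ hTc hnp
      exact compL hB hT _ π π' hdp hL h3 le_rfl

/-- every non-degenerate element of the system lies inside a component -/
theorem exists_comp [FiniteDimensional F V] [FiniteDimensional F V'] (hB : Perf B) (hT : TSys B T)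
    {a : V} {φ : V'} (hTa : T a φ) (ha : a ≠ 0) (hφ : φ ≠ 0) :
    ∃ π π', IsComp B T π π' ∧ π a = a ∧ π' φ = φ := by
  obtain ⟨b, ψ, hTb, hα, hγ⟩ := hT.tN a φ hTa ha hφ
  have h11 := hT.t0 _ _ hTa
  have h22 := hT.t0 _ _ hTb
  obtain ⟨π₁, π₁', hc, h1, h2⟩ := compS hB hT _ _ _ _ _ (dp_p2 h11 h22 hα hγ)
    (fullS_hyp hT hTa hTb hα hγ one_ne_zero) le_rfl
  refine ⟨π₁, π₁', hc, ?_, ?_⟩
  · have := h1 a
    rwa [p2_x1 h11 hγ] at this
  · have := h2 φ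
    rwa [p2'_xi1 h11 hα] at this

end Cfsg.Agent.Lib.Helper5.Mc
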