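import Mathlib
import Cfsg.Agent.Lib.Helper5.McStep

/-!
# Two components are equal or orthogonal
-/

set_option autoImplicit false

namespace Cfsg.Agent.Lib.Helper5.Mc

open Module

variable {F V V' : Type*} [Field F] [AddCommGroup V] [Module F V] [AddCommGroup V'] [Module F V']
variable {B : V' →ₗ[F] V →ₗ[F] F} {T : V → V' → Prop}

namespace IsComp

variable {π : V →ₗ[F] V} {π' : V' →ₗ[F] V'}

theorem gen [FiniteDimensional F V] (hB : Perf B) (h : IsComp B T π π') {u : V} (hu : π u = u)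
    (hu0 : u ≠ 0) : ∃ φ, π' φ = φ ∧ φ ≠ 0 ∧ T u φ := by
  rcases h.typ with ⟨hL, h3⟩ | ⟨θ, η, hS, -⟩
  · obtain ⟨u', ⟨w, rfl⟩, hu'⟩ := exists_mem_not_span (LinearMap.range π) (by omega) u
    obtain ⟨φ₀, h1, h2⟩ := exists_sep hB hu'
    refine ⟨π' φ₀, h.dp.idem' φ₀, ?_, hL.of_fix hu (h.dp.idem' φ₀) ?_⟩
    · intro h0
      have : B (π' φ₀) (π w) = 1 := by rw [h.dp.B_both]; exact h2
      rw [h0] at this
      simp at this
    · rw [h.dp.adj, hu]; exact h1
  · exact ⟨θ u, hS.πθ u, hS.ne_zero hu hu0, hS.mem_fix hu⟩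

theorem gen' [FiniteDimensional F V] [FiniteDimensional F V'] (hB : Perf B) (h : IsComp B T π π')
    {φ : V'} (hφ : π' φ = φ) (hφ0 : φ ≠ 0) : ∃ u, π u = u ∧ u ≠ 0 ∧ T u φ := by
  rcases h.typ with ⟨hL, h3⟩ | ⟨θ, η, hS, -⟩
  · have h3' : 3 ≤ finrank F (LinearMap.range π') := by rw [h.dp.finrank_eq hB]; exact h3
    obtain ⟨φ', ⟨ψ, rfl⟩, hφ'⟩ := exists_mem_not_span (LinearMap.range π') (by omega) φ
    obtain ⟨u₀, h1, h2⟩ := exists_sep hB.flip hφ'
    rw [LinearMap.flip_apply] at h1 h2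
    refine ⟨π u₀, h.dp.idem u₀, ?_, hL.of_fix (h.dp.idem u₀) hφ ?_⟩
    · intro h0
      have : B (π' ψ) (π u₀) = 1 := by rw [h.dp.B_both']; exact h2
      rw [h0] at this
      simp at this
    · rw [← h.dp.adj, hφ]; exact h1
  · refine ⟨η φ, hS.πη φ, ?_, ?_⟩
    · intro h0
      apply hφ0
      rw [← hφ, ← hS.θη, h0, map_zero]
    · have := hS.mem_fix (hS.πη φ)
      rwa [hS.θη, hφ] at this

end IsComp

variable {π₁ π₂ : V →ₗ[F] V} {π₁' π₂' : V' →ₗ[F] V'}

/-- one-sided comparison of two components -/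
theorem comp_in_or_orth [FiniteDimensional F V] [FiniteDimensional F V'] (hB : Perf B)
    (h1 : IsComp B T π₁ π₁') (h2 : IsComp B T π₂ π₂') :
    ((∀ v, π₂ (π₁ v) = π₁ v) ∧ (∀ φ, π₂' (π₁' φ) = π₁' φ)) ∨
    ((∀ v, π₂ (π₁ v) = 0) ∧ (∀ φ, π₂' (π₁' φ) = 0)) := by
  have dichu : ∀ u, π₁ u = u → u ≠ 0 → π₂ u = u ∨ π₂ u = 0 := by
    intro u hu hu0
    obtain ⟨φ, -, hφ0, hTu⟩ := h1.gen hB hu hu0
    rcases h2.dich u φ hTu hu0 hφ0 with h | h
    · exact Or.inl h.1
    · exact Or.inr h.1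
  by_cases hex : ∃ c, π₁ c = c ∧ c ≠ 0 ∧ π₂ c = c
  · left
    obtain ⟨c, hc, hc0, hc2⟩ := hex
    have hall : ∀ u, π₁ u = u → u ≠ 0 → π₂ u = u := by
      intro u hu hu0
      rcases dichu u hu hu0 with h | h
      · exact h
      · exfalso
        have e1 : π₂ (c + u) = c := by rw [map_add, hc2, h, add_zero]
        have e2 : c + u ≠ 0 := by
          intro h0
          rw [h0, map_zero] at e1
          exact hc0 e1.symm
        rcases dichu (c + u) (by rw [map_add, hc, hu]) e2 with h' | h'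
        · rw [e1] at h'
          apply hu0
          have := h'.symm
          rwa [add_eq_left] at this
        · rw [e1] at h'
          exact hc0 h'
    constructor
    · intro v
      by_cases hv : π₁ v = 0
      · rw [hv, map_zero]
      · exact hall _ (h1.dp.idem v) hv
    · intro φ
      by_cases hφ : π₁' φ = 0
      · rw [hφ, map_zero]
      · obtain ⟨u, hu, hu0, hTu⟩ := h1.gen' hB (h1.dp.idem' φ) hφ
        rcases h2.dich u _ hTu hu0 hφ with h | h
        · exact h.2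
        · exfalso
          rw [hall u hu hu0] at h
          exact hu0 h.1
  · right
    have hall : ∀ u, π₁ u = u → u ≠ 0 → π₂ u = 0 := by
      intro u hu hu0
      rcases dichu u hu hu0 with h | h
      · exact absurd ⟨u, hu, hu0, h⟩ hex
      · exact h
    constructor
    · intro v
      by_cases hv : π₁ v = 0
      · rw [hv, map_zero]
      · exact hall _ (h1.dp.idem v) hv
    · intro φ
      by_cases hφ : π₁' φ = 0
      · rw [hφ, map_zero]
      · obtain ⟨u, hu, hu0, hTu⟩ := h1.gen' hB (h1.dp.idem' φ) hφ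
        rcases h2.dich u _ hTu hu0 hφ with h | h
        · exfalso
          rw [hall u hu hu0] at h
          exact hu0 h.1.symm
        · exact h.2

/-- two components are equal or orthogonal -/
theorem comp_eq_or_orth [FiniteDimensional F V] [FiniteDimensional F V'] (hB : Perf B)
    (h1 : IsComp B T π₁ π₁') (h2 : IsComp B T π₂ π₂') :
    (π₁ = π₂ ∧ π₁' = π₂') ∨
    ((∀ v, π₁ (π₂ v) = 0) ∧ (∀ v, π₂ (π₁ v) = 0) ∧ (∀ φ, π₁' (π₂' φ) = 0) ∧
      (∀ φ, π₂' (π₁' φ) = 0)) := by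
  rcases comp_in_or_orth hB h1 h2 with ⟨a1, a2⟩ | ⟨a1, a2⟩ <;>
    rcases comp_in_or_orth hB h2 h1 with ⟨b1, b2⟩ | ⟨b1, b2⟩
  · left
    constructor
    · ext v
      apply sub_eq_zero.mp
      apply hB.sepR
      intro φ
      have e1 : B φ (π₁ (π₂ v)) = B φ (π₂ v) := by rw [b1]
      have e2 : B φ (π₁ (π₂ v)) = B φ (π₁ v) := by
        rw [← h1.dp.adj, ← h2.dp.adj, a2, h1.dp.adj]
      rw [map_sub, ← e2, e1, sub_self]
    · ext φ : 1
      apply sub_eq_zero.mp
      apply hB.sepL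
      intro v
      have e1 : B (π₁' (π₂' φ)) v = B (π₂' φ) v := by rw [b2]
      have e2 : B (π₁' (π₂' φ)) v = B (π₁' φ) v := by
        rw [h1.dp.adj, h2.dp.adj, a1, ← h1.dp.adj]
      rw [map_sub, LinearMap.sub_apply, ← e2, e1, sub_self]
  · right
    have z1 : ∀ v, π₁ v = 0 := by
      intro v
      have := b1 (π₁ v)
      rwa [a1, h1.dp.idem] at this
    have z1' : ∀ φ, π₁' φ = 0 := by
      intro φ
      have := b2 (π₁' φ)
      rwa [a2, h1.dp.idem'] at this
    exact ⟨fun v => z1 _, fun v => by rw [z1, map_zero], fun φ => z1' _,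
      fun φ => by rw [z1', map_zero]⟩
  · right
    have z2 : ∀ v, π₂ v = 0 := by
      intro v
      have := a1 (π₂ v)
      rwa [b1, h2.dp.idem] at this
    have z2' : ∀ φ, π₂' φ = 0 := by
      intro φ
      have := a2 (π₂' φ)
      rwa [b2, h2.dp.idem'] at this
    exact ⟨fun v => by rw [z2, map_zero], fun v => z2 _, fun φ => by rw [z2', map_zero],
      fun φ => z2' _⟩
  · right
    exact ⟨b1, a1, b2, a2⟩

end Cfsg.Agent.Lib.Helper5.Mc
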