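import Mathlib
import Cfsg.Agent.Lib.Helper5.McAsm
import Cfsg.Agent.Lib.Helper96.BaerSuzuki
import Cfsg.Agent.S3196
import Cfsg.Prelude.Def_Solvable

/-!
# The transvection system of a subgroup of `GL(V)`, `V` over a prime field
-/

set_option autoImplicit false

namespace Cfsg.Agent.Lib.Helper5.Mc

open Module

/-- the evaluation pairing -/
def evB (F V : Type*) [Field F] [AddCommGroup V] [Module F V] : Dual F V →ₗ[F] V →ₗ[F] F :=
  LinearMap.id

@[simp] theorem evB_apply {F V : Type*} [Field F] [AddCommGroup V] [Module F V] (φ : Dual F V)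
    (v : V) : evB F V φ v = φ v := rfl

theorem perf_evB (F V : Type*) [Field F] [AddCommGroup V] [Module F V] [FiniteDimensional F V] :
    Perf (evB F V) where
  sepL := fun φ h => LinearMap.ext h
  sepR := fun v h => (Module.forall_dual_apply_eq_zero_iff F v).mp h
  surjL := fun f => ⟨f, fun _ => rfl⟩
  surjR := fun g => ⟨(Module.evalEquiv F V).symm g, fun φ =>
    Module.apply_evalEquiv_symm_apply (R := F) (M := V) φ g⟩

variable {p : ℕ} [Fact p.Prime] {V : Type*} [AddCommGroup V] [Module (ZMod p) V]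

/-- the transvection system of a subgroup -/
def TH (H : Subgroup (V ≃ₗ[ZMod p] V)) (a : V) (φ : Dual (ZMod p) V) : Prop :=
  φ a = 0 ∧ ∃ g ∈ H, ∀ v, g v = v + φ v • a

theorem tv_pow {g : V ≃ₗ[ZMod p] V} {a : V} {φ : Dual (ZMod p) V} (h0 : φ a = 0)
    (hg : ∀ v, g v = v + φ v • a) (k : ℕ) : ∀ v, (g ^ k) v = v + ((k : ZMod p) * φ v) • a := by
  induction k with
  | zero => intro v; simp
  | succ k ih =>
    intro v
    rw [pow_succ, LinearEquiv.mul_apply, ih, hg, map_add, map_smul, h0, smul_zero, add_zero]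
    push_cast
    module

theorem tv_inv {g : V ≃ₗ[ZMod p] V} {a : V} {φ : Dual (ZMod p) V} (h0 : φ a = 0)
    (hg : ∀ v, g v = v + φ v • a) : ∀ v, g⁻¹ v = v - φ v • a := by
  intro v
  change g.symm v = _
  rw [LinearEquiv.symm_apply_eq, hg, map_sub, map_smul, h0, smul_zero, sub_zero]
  abel

theorem TH_smul {H : Subgroup (V ≃ₗ[ZMod p] V)} {a : V} {φ : Dual (ZMod p) V} (h : TH H a φ)
    (c : ZMod p) : TH H a (c • φ) := by
  obtain ⟨h0, g, hg, hf⟩ := h
  refine ⟨by simp [h0], g ^ c.val, H.pow_mem hg _, ?_⟩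
  intro v
  rw [tv_pow h0 hf, ZMod.natCast_zmod_val]
  simp


variable {H : Subgroup (V ≃ₗ[ZMod p] V)}

theorem TH_t1 {a : V} {φ ψ : Dual (ZMod p) V} (h1 : TH H a φ) (h2 : TH H a ψ) :
    TH H a (φ + ψ) := by
  obtain ⟨e1, g₁, hg₁, f₁⟩ := h1
  obtain ⟨e2, g₂, hg₂, f₂⟩ := h2
  refine ⟨by simp [e1, e2], g₁ * g₂, H.mul_mem hg₁ hg₂, ?_⟩
  intro v
  rw [LinearEquiv.mul_apply, f₂, f₁, map_add, map_smul, e1, smul_zero, add_zero,
    LinearMap.add_apply]
  module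

theorem TH_t2 {a b : V} {φ : Dual (ZMod p) V} (h1 : TH H a φ) (h2 : TH H b φ) :
    TH H (a + b) φ := by
  obtain ⟨e1, g₁, hg₁, f₁⟩ := h1
  obtain ⟨e2, g₂, hg₂, f₂⟩ := h2
  refine ⟨by simp [e1, e2], g₁ * g₂, H.mul_mem hg₁ hg₂, ?_⟩
  intro v
  rw [LinearEquiv.mul_apply, f₂, f₁, map_add, map_smul, e2, smul_zero, add_zero]
  module

theorem TH_t3 {a : V} {φ : Dual (ZMod p) V} (c d : ZMod p) (h : TH H a φ) :
    TH H (c • a) (d • φ) := by
  obtain ⟨h0, g, hg, hf⟩ := TH_smul h (c * d)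
  refine ⟨by simp [h.1], g, hg, ?_⟩
  intro v
  rw [hf]
  simp only [LinearMap.smul_apply, smul_eq_mul]
  module

theorem TH_t4 {a b : V} {φ ψ : Dual (ZMod p) V} (h1 : TH H a φ) (h2 : TH H b ψ) :
    TH H (a + ψ a • b) (φ - φ b • ψ) := by
  obtain ⟨e1, g₁, hg₁, f₁⟩ := h1
  obtain ⟨e2, g₂, hg₂, f₂⟩ := h2
  refine ⟨?_, g₂ * g₁ * g₂⁻¹, H.mul_mem (H.mul_mem hg₂ hg₁) (H.inv_mem hg₂), ?_⟩
  · simp only [LinearMap.sub_apply, LinearMap.smul_apply, map_add, map_smul, e1, e2, smul_eq_mul]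
    ring
  · intro v
    rw [LinearEquiv.mul_apply, LinearEquiv.mul_apply, tv_inv e2 f₂, f₁, f₂]
    simp only [map_add, map_sub, map_smul, e2, smul_eq_mul, LinearMap.sub_apply,
      LinearMap.smul_apply, mul_zero, sub_zero]
    module

theorem TH_t5 (hp : Odd p) {a b : V} {φ ψ : Dual (ZMod p) V} (h1 : TH H a φ)
    (h2 : TH H (a + b) (φ + ψ)) (h3 : TH H (-a + b) (-φ + ψ)) (e1 : φ b = 0) (e2 : ψ a = 0)
    (e3 : ψ b = 0) : TH H b ψ := by
  obtain ⟨ea, ga, hga, fa⟩ := h1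
  obtain ⟨ex, gx, hgx, fx⟩ := h2
  obtain ⟨ey, gy, hgy, fy⟩ := h3
  have h2ne : (2 : ZMod p) ≠ 0 := by
    intro h
    have h' : ((2 : ℕ) : ZMod p) = 0 := by exact_mod_cast h
    rw [ZMod.natCast_eq_zero_iff] at h'
    have hp2 : p = 2 := ((Nat.prime_dvd_prime_iff_eq Fact.out Nat.prime_two).mp h')
    rw [hp2] at hp
    exact absurd hp (by decide)
  have hT : TH H b ((2 : ZMod p) • ψ) := by
    refine ⟨by simp [e3], gx * gy * ga⁻¹ * ga⁻¹,
      H.mul_mem (H.mul_mem (H.mul_mem hgx hgy) (H.inv_mem hga)) (H.inv_mem hga), ?_⟩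
    intro v
    rw [LinearEquiv.mul_apply, LinearEquiv.mul_apply, LinearEquiv.mul_apply, tv_inv ea fa,
      tv_inv ea fa, fy, fx]
    simp only [map_add, map_sub, map_smul, map_neg, ea, e1, e2, e3, smul_eq_mul,
      LinearMap.add_apply, LinearMap.neg_apply, LinearMap.smul_apply, mul_zero, sub_zero,
      add_zero, neg_zero, zero_add]
    module
  have := TH_smul hT (2 : ZMod p)⁻¹
  rwa [smul_smul, inv_mul_cancel₀ h2ne, one_smul] at this

end Cfsg.Agent.Lib.Helper5.Mc
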