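import Mathlib
import Cfsg.Agent.Lib.Helper5.McGroup

/-!
# Hyperbolic partners from Baer–Suzuki, and the transvection system of a subgroup
-/

set_option autoImplicit false

namespace Cfsg.Agent.Lib.Helper5.Mc

open Module

variable {p : ℕ} [Fact p.Prime] {V : Type*} [AddCommGroup V] [Module (ZMod p) V]

theorem pair_eqs {x y : V ≃ₗ[ZMod p] V} {a₁ a₂ : V} {φ₁ φ₂ : Dual (ZMod p) V}
    (e1 : φ₁ a₁ = 0) (e2 : φ₂ a₂ = 0) (e12 : φ₁ a₂ = 0)
    (fx : ∀ v, x v = v + φ₁ v • a₁) (fy : ∀ v, y v = v + φ₂ v • a₂) :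
    x ^ p = 1 ∧ y ^ p = 1 ∧ (x⁻¹ * y⁻¹ * x * y) * x = x * (x⁻¹ * y⁻¹ * x * y) ∧
      (x⁻¹ * y⁻¹ * x * y) * y = y * (x⁻¹ * y⁻¹ * x * y) := by
  have fix := tv_inv e1 fx
  have fiy := tv_inv e2 fy
  refine ⟨?_, ?_, ?_, ?_⟩
  · ext v
    rw [tv_pow e1 fx]
    simp
  · ext v
    rw [tv_pow e2 fy]
    simp
  · ext v
    simp only [LinearEquiv.mul_apply, fx, fy, fix, fiy, map_add, map_sub, map_smul, e1, e2, e12,
      smul_eq_mul, mul_zero, add_zero, sub_zero]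
    module
  · ext v
    simp only [LinearEquiv.mul_apply, fx, fy, fix, fiy, map_add, map_sub, map_smul, e1, e2, e12,
      smul_eq_mul, mul_zero, add_zero, sub_zero]
    module

variable {H : Subgroup (V ≃ₗ[ZMod p] V)}

/-- two transvections of `H` with `φ₁ a₂ = 0` generate a `p`-subgroup of `H` -/
theorem pair_pgroup {x y : ↥H} {a₁ a₂ : V} {φ₁ φ₂ : Dual (ZMod p) V}
    (e1 : φ₁ a₁ = 0) (e2 : φ₂ a₂ = 0) (e12 : φ₁ a₂ = 0)
    (fx : ∀ v, (x : V ≃ₗ[ZMod p] V) v = v + φ₁ v • a₁)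
    (fy : ∀ v, (y : V ≃ₗ[ZMod p] V) v = v + φ₂ v • a₂) :
    IsPGroup p (Subgroup.closure ({x, y} : Set ↥H)) := by
  obtain ⟨h1, h2, h3, h4⟩ := pair_eqs e1 e2 e12 fx fy
  apply Cfsg.Agent.S3196.isPGroup_closure_pair
  · apply Subtype.ext; simpa using h1
  · apply Subtype.ext; simpa using h2
  · apply Subtype.ext; simpa using h3
  · apply Subtype.ext; simpa using h4

theorem TH_conj {a : V} {φ : Dual (ZMod p) V} {g h : V ≃ₗ[ZMod p] V}
    (hf : ∀ v, g v = v + φ v • a) :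
    ∀ v, (h * g * h⁻¹) v = v + (φ.comp (h⁻¹ : V ≃ₗ[ZMod p] V).toLinearMap) v • h a := by
  intro v
  rw [LinearEquiv.mul_apply, LinearEquiv.mul_apply, hf, map_add, map_smul]
  simp

theorem TH_tN [Finite V] (hOp : Cfsg.pCore p ↥H = ⊥) {a : V} {φ : Dual (ZMod p) V}
    (h : TH H a φ) (ha : a ≠ 0) (hφ : φ ≠ 0) : ∃ b ψ, TH H b ψ ∧ φ b ≠ 0 ∧ ψ a ≠ 0 := by
  obtain ⟨e0, g, hg, hf⟩ := h
  haveI : Finite (V ≃ₗ[ZMod p] V) :=
    Finite.of_injective (fun e => (e : V → V)) DFunLike.coe_injective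
  by_contra hcon
  push Not at hcon
  set gH : ↥H := ⟨g, hg⟩ with hgH
  let K : Set ↥H := {x | ∃ h : ↥H, x = h * gH * h⁻¹}
  have hK : ∀ k ∈ K, ∀ y : ↥H, y * k * y⁻¹ ∈ K := by
    rintro _ ⟨h, rfl⟩ y
    exact ⟨y * h, by group⟩
  -- description of the elements of K
  have hdesc : ∀ h : ↥H, (φ.comp ((h : V ≃ₗ[ZMod p] V)⁻¹ : V ≃ₗ[ZMod p] V).toLinearMap)
      ((h : V ≃ₗ[ZMod p] V) a) = 0 ∧
      ∀ v, ((h * gH * h⁻¹ : ↥H) : V ≃ₗ[ZMod p] V) v = v +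
        (φ.comp ((h : V ≃ₗ[ZMod p] V)⁻¹ : V ≃ₗ[ZMod p] V).toLinearMap) v •
          (h : V ≃ₗ[ZMod p] V) a := by
    intro h
    constructor
    · simp [e0]
    · intro v
      have := TH_conj (h := (h : V ≃ₗ[ZMod p] V)) hf v
      simpa using this
  have h2 : ∀ x ∈ K, ∀ y ∈ K, IsPGroup p (Subgroup.closure ({x, y} : Set ↥H)) := by
    rintro _ ⟨h₁, rfl⟩ _ ⟨h₂, rfl⟩
    obtain ⟨d1, f1⟩ := hdesc h₁
    obtain ⟨d2, f2⟩ := hdesc h₂
    -- the relevant pairing values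
    obtain ⟨d3, f3⟩ := hdesc (h₁⁻¹ * h₂)
    have hT : TH H (((h₁⁻¹ * h₂ : ↥H) : V ≃ₗ[ZMod p] V) a)
        (φ.comp ((((h₁⁻¹ * h₂ : ↥H) : V ≃ₗ[ZMod p] V)⁻¹ : V ≃ₗ[ZMod p] V)).toLinearMap) :=
      ⟨d3, _, ((h₁⁻¹ * h₂) * gH * (h₁⁻¹ * h₂)⁻¹ : ↥H).2, f3⟩
    by_cases hz : φ (((h₁⁻¹ * h₂ : ↥H) : V ≃ₗ[ZMod p] V) a) = 0
    · -- φ₁ a₂ = 0
      apply pair_pgroup d1 d2 _ f1 f2
      simpa using hz
    · have hz2 := hcon _ _ hT hz
      rw [Set.pair_comm]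
      apply pair_pgroup d2 d1 _ f2 f1
      simpa [mul_assoc] using hz2
  have hP := Cfsg.Agent.Lib.Helper96.isPGroup_closure_of_pairwise K hK h2
  have hN : (Subgroup.closure K).Normal := by
    constructor
    intro n hn y
    induction hn using Subgroup.closure_induction with
    | mem x hx => exact Subgroup.subset_closure (hK x hx y)
    | one => simp
    | mul x z _ _ hx hz =>
      have : y * (x * z) * y⁻¹ = (y * x * y⁻¹) * (y * z * y⁻¹) := by group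
      rw [this]; exact Subgroup.mul_mem _ hx hz
    | inv x _ hx =>
      have : y * x⁻¹ * y⁻¹ = (y * x * y⁻¹)⁻¹ := by group
      rw [this]; exact Subgroup.inv_mem _ hx
  have hle : Subgroup.closure K ≤ Cfsg.pCore p ↥H := le_sSup ⟨hN, hP⟩
  rw [hOp] at hle
  have hgK : gH ∈ Subgroup.closure K := Subgroup.subset_closure ⟨1, by simp⟩
  have hg1 : gH = 1 := by
    have := hle hgK
    simpa using this
  have hg1' : g = 1 := by
    have := congrArg Subtype.val hg1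
    simpa [hgH] using this
  apply hφ
  ext v
  have h1 := hf v
  rw [hg1'] at h1
  have h2 : φ v • a = 0 := by
    have : v = v + φ v • a := by simpa using h1
    exact (add_eq_left.mp this.symm)
  rcases smul_eq_zero.mp h2 with h3 | h3
  · simpa using h3
  · exact absurd h3 ha

/-- the transvection system of a subgroup with trivial `p`-core -/
theorem tsys_TH [Finite V] (hp : Odd p) (hOp : Cfsg.pCore p ↥H = ⊥) :
    TSys (evB (ZMod p) V) (TH H) where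
  t0 := fun a φ h => h.1
  tz1 := fun φ => ⟨by simp, 1, H.one_mem, fun v => by simp⟩
  tz2 := fun a => ⟨by simp, 1, H.one_mem, fun v => by simp⟩
  t1 := fun a φ ψ h1 h2 => TH_t1 h1 h2
  t2 := fun a b φ h1 h2 => TH_t2 h1 h2
  t3 := fun a φ c d h => TH_t3 c d h
  t4 := fun a φ b ψ h1 h2 => TH_t4 h1 h2
  t5 := fun a φ b ψ h1 h2 h3 e1 e2 e3 => TH_t5 hp h1 h2 h3 e1 e2 e3
  tN := fun a φ h ha hφ => TH_tN hOp h ha hφ

end Cfsg.Agent.Lib.Helper5.Mc
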