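import Mathlib
import Cfsg.Agent.Lib.Helper5.McGroup2

/-!
# Final assembly, part 1: linear algebra
-/

set_option autoImplicit false

namespace Cfsg.Agent.Lib.Helper5.Mc

open Module

/-- orthogonal idempotents summing to the identity give an internal direct sum -/
theorem isInternal_of_orth {F V κ : Type*} [Field F] [AddCommGroup V] [Module F V] [Fintype κ]
    [DecidableEq κ] (q : κ → V →ₗ[F] V) (hid : ∀ k v, q k (q k v) = q k v)
    (horth : ∀ k l, k ≠ l → ∀ v, q k (q l v) = 0) (hsum : ∀ v, ∑ k, q k v = v) :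
    DirectSum.IsInternal (fun k => LinearMap.range (q k)) := by
  rw [DirectSum.isInternal_submodule_iff_iSupIndep_and_iSup_eq_top]
  constructor
  · rw [iSupIndep_def]
    intro k
    rw [Submodule.disjoint_def]
    intro x hx hx'
    have hle : (⨆ j, ⨆ (_ : j ≠ k), LinearMap.range (q j)) ≤ LinearMap.ker (q k) := by
      refine iSup₂_le ?_
      rintro j hj _ ⟨y, rfl⟩
      rw [LinearMap.mem_ker]
      exact horth k j hj.symm y
    have h0 := hle hx'
    rw [LinearMap.mem_ker] at h0
    obtain ⟨y, rfl⟩ := hx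
    rw [← hid, h0]
  · rw [eq_top_iff]
    intro v _
    rw [← hsum v]
    refine Submodule.sum_mem _ (fun k _ => ?_)
    exact (le_iSup (fun k => LinearMap.range (q k)) k) ⟨v, rfl⟩

variable {p : ℕ} [Fact p.Prime] {V : Type*} [AddCommGroup V] [Module (ZMod p) V]

/-- an element of order `p` fixing a hyperplane pointwise is a transvection -/
theorem tv_of_hyp [Finite V] (t : V ≃ₗ[ZMod p] V) (ho : orderOf t = p)
    (hr : finrank (ZMod p) ↥(LinearMap.ker ((t : V →ₗ[ZMod p] V) - LinearMap.id)) + 1 =
      finrank (ZMod p) V) :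
    ∃ (a : V) (φ : Dual (ZMod p) V), a ≠ 0 ∧ φ ≠ 0 ∧ φ a = 0 ∧ ∀ v, t v = v + φ v • a := by
  haveI : Module.Finite (ZMod p) V := Module.Finite.of_finite
  set N : V →ₗ[ZMod p] V := (t : V →ₗ[ZMod p] V) - LinearMap.id with hN
  have h1 : finrank (ZMod p) (LinearMap.range N) = 1 := by
    have := LinearMap.finrank_range_add_finrank_ker N
    omega
  obtain ⟨⟨a, ha⟩, ha0, hspan⟩ := finrank_eq_one_iff'.mp h1
  have ha0' : a ≠ 0 := by
    intro h
    apply ha0
    exact Subtype.ext h
  obtain ⟨f, hf⟩ := exists_ne_of_ne_zero (perf_evB (ZMod p) V) ha0'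
  rw [evB_apply] at hf
  have hNv : ∀ v, N v = f (N v) • a := by
    intro v
    obtain ⟨c, hc⟩ := hspan ⟨N v, v, rfl⟩
    have hc' : c • a = N v := congrArg Subtype.val hc
    rw [← hc', map_smul, hf, smul_eq_mul, mul_one]
  have htv : ∀ v, t v = v + (f.comp N) v • a := by
    intro v
    have := hNv v
    rw [hN] at this
    simp only [LinearMap.sub_apply, LinearEquiv.coe_coe, LinearMap.id_apply] at this
    rw [LinearMap.comp_apply, hN]
    simp only [LinearMap.sub_apply, LinearEquiv.coe_coe, LinearMap.id_apply]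
    rw [← this]
    abel
  have hφ0 : f.comp N ≠ 0 := by
    intro h
    obtain ⟨w, hw⟩ := ha
    have := hNv w
    rw [hw] at this
    have h2 : (f.comp N) w = 0 := by rw [h]; rfl
    rw [LinearMap.comp_apply, hw] at h2
    rw [h2, zero_smul] at this
    exact ha0' this
  refine ⟨a, f.comp N, ha0', hφ0, ?_, htv⟩
  -- `φ a = 0` from `t ^ p = 1`
  set c : ZMod p := (f.comp N) a with hc
  have hta : t a = (1 + c) • a := by
    rw [htv a, add_smul, one_smul]
  have hpow : ∀ k : ℕ, (t ^ k) a = (1 + c) ^ k • a := by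
    intro k
    induction k with
    | zero => simp
    | succ k ih =>
      rw [pow_succ, LinearEquiv.mul_apply, hta, map_smul, ih, smul_smul, pow_succ, mul_comm]
  have hp1 : t ^ p = 1 := by
    have := pow_orderOf_eq_one t
    rwa [ho] at this
  have := hpow p
  rw [hp1, ZMod.pow_card, LinearEquiv.coe_one, id_eq, add_smul, one_smul] at this
  have h3 : c • a = 0 := by
    have h4 : a + c • a = a + 0 := by rw [← this, add_zero]
    exact add_left_cancel h4
  rcases smul_eq_zero.mp h3 with h | h
  · exact h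
  · exact absurd h ha0'

end Cfsg.Agent.Lib.Helper5.Mc
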