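import Mathlib
import Cfsg.Agent.Lib.Helper5.McFin1

/-!
# Final assembly, part 2: the component subgroups
-/

set_option autoImplicit false

namespace Cfsg.Agent.Lib.Helper5.Mc

open Module

variable {p : ℕ} [Fact p.Prime] {V : Type*} [AddCommGroup V] [Module (ZMod p) V]

/-- generators of the component subgroup -/
def gens (H : Subgroup (V ≃ₗ[ZMod p] V)) (π : V →ₗ[ZMod p] V)
    (π' : Dual (ZMod p) V →ₗ[ZMod p] Dual (ZMod p) V) : Set (V ≃ₗ[ZMod p] V) :=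
  {g | g ∈ H ∧ ∃ (a : V) (φ : Dual (ZMod p) V), φ a = 0 ∧ (∀ v, g v = v + φ v • a) ∧
    π a = a ∧ π' φ = φ}

/-- the component subgroup -/
def KK (H : Subgroup (V ≃ₗ[ZMod p] V)) (π : V →ₗ[ZMod p] V)
    (π' : Dual (ZMod p) V →ₗ[ZMod p] Dual (ZMod p) V) : Subgroup (V ≃ₗ[ZMod p] V) :=
  Subgroup.closure (gens H π π')

/-- pointwise fixer of a set of vectors -/
def fixG (p : ℕ) [Fact p.Prime] {V : Type*} [AddCommGroup V] [Module (ZMod p) V] (U : Set V) :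
    Subgroup (V ≃ₗ[ZMod p] V) where
  carrier := {g | ∀ v ∈ U, g v = v}
  one_mem' := fun v _ => rfl
  mul_mem' := fun {a b} ha hb v hv => by
    rw [LinearEquiv.mul_apply, hb v hv, ha v hv]
  inv_mem' := fun {a} ha v hv => by
    change a.symm v = v
    rw [LinearEquiv.symm_apply_eq, ha v hv]

theorem mem_fixG {U : Set V} {g : V ≃ₗ[ZMod p] V} : g ∈ fixG p U ↔ ∀ v ∈ U, g v = v := Iff.rfl

/-- elements commuting with a linear map -/
def commG (π : V →ₗ[ZMod p] V) : Subgroup (V ≃ₗ[ZMod p] V) where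
  carrier := {g | ∀ v, g (π v) = π (g v)}
  one_mem' := fun v => rfl
  mul_mem' := fun {a b} ha hb v => by
    rw [LinearEquiv.mul_apply, LinearEquiv.mul_apply, hb, ha]
  inv_mem' := fun {a} ha v => by
    change a.symm (π v) = π (a.symm v)
    rw [LinearEquiv.symm_apply_eq, ha, LinearEquiv.apply_symm_apply]

theorem mem_commG {π : V →ₗ[ZMod p] V} {g : V ≃ₗ[ZMod p] V} :
    g ∈ commG π ↔ ∀ v, g (π v) = π (g v) := Iff.rfl

variable {H : Subgroup (V ≃ₗ[ZMod p] V)} {π : V →ₗ[ZMod p] V}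
  {π' : Dual (ZMod p) V →ₗ[ZMod p] Dual (ZMod p) V}

theorem KK_le : KK H π π' ≤ H := (Subgroup.closure_le _).2 (fun _ hg => hg.1)

theorem dp_apply (hdp : DP (evB (ZMod p) V) π π') (φ : Dual (ZMod p) V) (v : V) :
    (π' φ) v = φ (π v) := hdp.adj φ v

theorem KK_fix (hdp : DP (evB (ZMod p) V) π π') {k : V ≃ₗ[ZMod p] V} (hk : k ∈ KK H π π')
    {v : V} (hv : π v = 0) : k v = v := by
  have hle : KK H π π' ≤ fixG p {v | π v = 0} := by
    refine (Subgroup.closure_le _).2 ?_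
    rintro g ⟨-, a, φ, -, hf, -, hφ⟩ v hv
    have hv' : π v = 0 := hv
    rw [hf, ← hφ, dp_apply hdp, hv', map_zero, zero_smul, add_zero]
  exact hle hk v hv

theorem tv_comm (hdp : DP (evB (ZMod p) V) π π') {g : V ≃ₗ[ZMod p] V} {a : V}
    {φ : Dual (ZMod p) V} (hf : ∀ v, g v = v + φ v • a)
    (hd : (π a = a ∧ π' φ = φ) ∨ (π a = 0 ∧ π' φ = 0)) : ∀ v, g (π v) = π (g v) := by
  intro v
  rw [hf, hf, map_add, map_smul, ← dp_apply hdp]
  rcases hd with ⟨h1, h2⟩ | ⟨h1, h2⟩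
  · rw [h1, h2]
  · rw [h1, h2]; simp

theorem H_comm [Finite V] {T : Set (V ≃ₗ[ZMod p] V)} (hHT : H = Subgroup.closure T)
    (hT : ∀ t ∈ T, orderOf t = p ∧
      finrank (ZMod p) ↥(LinearMap.ker ((t : V →ₗ[ZMod p] V) - LinearMap.id)) + 1 =
        finrank (ZMod p) V)
    (hc : IsComp (evB (ZMod p) V) (TH H) π π') : ∀ h ∈ H, ∀ v, h (π v) = π (h v) := by
  have hle : H ≤ commG π := by
    rw [hHT]
    refine (Subgroup.closure_le _).2 ?_
    intro t ht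
    obtain ⟨a, φ, ha, hφ, h0, hf⟩ := tv_of_hyp t (hT t ht).1 (hT t ht).2
    have htH : t ∈ H := by rw [hHT]; exact Subgroup.subset_closure ht
    have hTH : TH H a φ := ⟨h0, t, htH, hf⟩
    exact tv_comm hc.dp hf (hc.dich a φ hTH ha hφ)
  exact fun h hh => hle hh

theorem gens_commute {π₁ π₂ : V →ₗ[ZMod p] V}
    {π₁' π₂' : Dual (ZMod p) V →ₗ[ZMod p] Dual (ZMod p) V}
    (hdp1 : DP (evB (ZMod p) V) π₁ π₁') (hdp2 : DP (evB (ZMod p) V) π₂ π₂')
    (h12 : ∀ v, π₁ (π₂ v) = 0) (h21 : ∀ v, π₂ (π₁ v) = 0) {x y : V ≃ₗ[ZMod p] V}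
    (hx : x ∈ gens H π₁ π₁') (hy : y ∈ gens H π₂ π₂') : x * y = y * x := by
  obtain ⟨-, a, φ, h0, hf, ha, hφ⟩ := hx
  obtain ⟨-, b, ψ, h0', hf', hb, hψ⟩ := hy
  have e1 : φ b = 0 := by rw [← hφ, dp_apply hdp1, ← hb, h12, map_zero]
  have e2 : ψ a = 0 := by rw [← hψ, dp_apply hdp2, ← ha, h21, map_zero]
  ext v
  rw [LinearEquiv.mul_apply, LinearEquiv.mul_apply, hf', hf, hf, hf']
  simp only [map_add, map_smul, e1, e2, smul_eq_mul, mul_zero, add_zero]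
  abel

theorem KK_commute {π₁ π₂ : V →ₗ[ZMod p] V}
    {π₁' π₂' : Dual (ZMod p) V →ₗ[ZMod p] Dual (ZMod p) V}
    (hdp1 : DP (evB (ZMod p) V) π₁ π₁') (hdp2 : DP (evB (ZMod p) V) π₂ π₂')
    (h12 : ∀ v, π₁ (π₂ v) = 0) (h21 : ∀ v, π₂ (π₁ v) = 0) {x y : V ≃ₗ[ZMod p] V}
    (hx : x ∈ KK H π₁ π₁') (hy : y ∈ KK H π₂ π₂') : x * y = y * x := by
  have s1 : KK H π₁ π₁' ≤ Subgroup.centralizer (gens H π₂ π₂') := by
    refine (Subgroup.closure_le _).2 ?_
    intro g hg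
    rw [SetLike.mem_coe, Subgroup.mem_centralizer_iff]
    intro h hh
    exact (gens_commute hdp1 hdp2 h12 h21 hg hh).symm
  have s2 : KK H π₂ π₂' ≤ Subgroup.centralizer (KK H π₁ π₁' : Set (V ≃ₗ[ZMod p] V)) := by
    refine (Subgroup.closure_le _).2 ?_
    intro g hg
    rw [SetLike.mem_coe, Subgroup.mem_centralizer_iff]
    intro h hh
    have := s1 hh
    rw [Subgroup.mem_centralizer_iff] at this
    exact (this g hg).symm
  have := s2 hy
  rw [Subgroup.mem_centralizer_iff] at this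
  exact this x hx

/-- every transvection of `H` inside the component lies in the component subgroup -/
theorem mem_KK_of_TH {a : V} {φ : Dual (ZMod p) V} (hT : TH H a φ) (ha : π a = a)
    (hφ : π' φ = φ) : ∃ g ∈ KK H π π', ∀ v, g v = v + φ v • a := by
  obtain ⟨h0, g, hg, hf⟩ := hT
  exact ⟨g, Subgroup.subset_closure ⟨hg, a, φ, h0, hf, ha, hφ⟩, hf⟩

end Cfsg.Agent.Lib.Helper5.Mc
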