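import Mathlib
import Cfsg.Agent.Lib.Helper5.SLGen

/-!
# A subgroup of `GL(W)` containing all transvections contains `SL(W)`
-/

set_option autoImplicit false

namespace Cfsg.Agent.Lib.Helper5.Mc

open Module

theorem sl_le_of_transvections {F W : Type*} [Field F] [AddCommGroup W] [Module F W]
    [Module.Finite F W] (R : Subgroup (W ≃ₗ[F] W))
    (hR : ∀ (a : W) (ψ : Dual F W), ψ a = 0 → ∃ g ∈ R, ∀ w, g w = w + ψ w • a)
    (f : W ≃ₗ[F] W) (hf : LinearMap.det (f : W →ₗ[F] W) = 1) : f ∈ R := by
  classical
  let b := Module.finBasis F W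
  have key : ∀ A : Matrix.SpecialLinearGroup (Fin (finrank F W)) F,
      ∃ g ∈ R, LinearMap.toMatrix b b (g : W →ₗ[F] W) = A.1 := by
    intro A
    refine Cfsg.Agent.Lib.Helper5.transvection_induction
      (fun A => ∃ g ∈ R, LinearMap.toMatrix b b (g : W →ₗ[F] W) = A.1) ?_ ?_ ?_ A
    · refine ⟨1, R.one_mem, ?_⟩
      have : ((1 : W ≃ₗ[F] W) : W →ₗ[F] W) = 1 := rfl
      rw [this, LinearMap.toMatrix_one]
      rfl
    · intro i j hij c
      obtain ⟨g, hg, hgf⟩ := hR (b i) (c • b.coord j) (by
        simp [hij])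
      refine ⟨g, hg, ?_⟩
      ext r s
      rw [LinearMap.toMatrix_apply, LinearEquiv.coe_coe, hgf,
        Matrix.SpecialLinearGroup.transvection_coe]
      simp only [LinearMap.smul_apply, Basis.coord_apply, Basis.repr_self, smul_eq_mul, map_add,
        map_smul, Finsupp.coe_add, Finsupp.coe_smul, Pi.add_apply, Pi.smul_apply,
        Matrix.add_apply, Matrix.one_apply, Matrix.single_apply, Finsupp.single_apply]
      by_cases h1 : r = s
      · subst h1
        by_cases h2 : j = r
        · subst h2
          have h3 : ¬ i = j := hij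
          simp [h3]
        · simp [h2]
          intro _ h
          exact absurd h.symm h2
      · have h1' : ¬ s = r := fun h => h1 h.symm
        by_cases h2 : j = s
        · subst h2
          by_cases h3 : i = r
          · subst h3
            simp [h1, h1']
          · simp [h1, h1', h3]
        · simp [h1, h1', h2]
          intro _ h
          exact absurd h.symm h2
    · rintro A B ⟨g1, hg1, h1⟩ ⟨g2, hg2, h2⟩
      refine ⟨g1 * g2, R.mul_mem hg1 hg2, ?_⟩
      rw [LinearEquiv.coe_toLinearMap_mul, LinearMap.toMatrix_mul, h1, h2]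
      rfl
  obtain ⟨g, hg, hgA⟩ := key ⟨LinearMap.toMatrix b b (f : W →ₗ[F] W), by
    rw [LinearMap.det_toMatrix, hf]⟩
  have : (g : W →ₗ[F] W) = (f : W →ₗ[F] W) := (LinearMap.toMatrix b b).injective hgA
  have : g = f := LinearEquiv.toLinearMap_injective this
  rwa [← this]

end Cfsg.Agent.Lib.Helper5.Mc
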