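import Mathlib
import Cfsg.Agent.Lib.Helper13.AltForm

/-!
# A subgroup of `GL(W)` containing all symplectic transvections contains `Sp(W)`
-/

set_option autoImplicit false

namespace Cfsg.Agent.Lib.Helper5.Mc

open Module

theorem sp_le_of_transvections {F W : Type*} [Field F] [AddCommGroup W] [Module F W]
    [FiniteDimensional F W] (B : LinearMap.BilinForm F W) (hB : B.Nondegenerate) (hA : B.IsAlt)
    (R : Subgroup (W ≃ₗ[F] W)) (hR : ∀ u c, Cfsg.Agent.Lib.Helper13.transv B hA u c ∈ R)
    (f : W ≃ₗ[F] W) (hf : ∀ x y, B (f x) (f y) = B x y) : f ∈ R := by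
  let b := Module.finBasis F W
  have hli : LinearIndependent F (fun i => f (b i)) :=
    b.linearIndependent.map' (f : W →ₗ[F] W) f.ker
  obtain ⟨T, hT, hTb⟩ := Cfsg.Agent.Lib.Helper13.witt_families B hB hA _ b (fun i => f (b i))
    b.linearIndependent hli (fun i j => (hf _ _).symm)
  have hle : Cfsg.Agent.Lib.Helper13.tvGroupL B hA ≤ R := by
    refine (Subgroup.closure_le _).2 ?_
    rintro g ⟨u, c, rfl⟩
    exact hR u c
  have : T = f := by
    apply LinearEquiv.toLinearMap_injective
    apply b.ext
    intro i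
    exact hTb i
  rw [← this]
  exact hle hT

end Cfsg.Agent.Lib.Helper5.Mc
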