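import Mathlib
import Cfsg.Agent.Lib.Helper5.McFin2
import Cfsg.Agent.Lib.Helper5.McSLLin
import Cfsg.Agent.Lib.Helper5.McSpLin

/-!
# Final assembly, part 3: the group induced on a component
-/

set_option autoImplicit false

namespace Cfsg.Agent.Lib.Helper5.Mc

open Module

variable {p : ℕ} [Fact p.Prime] {V : Type*} [AddCommGroup V] [Module (ZMod p) V]

theorem map_range_eq {π : V →ₗ[ZMod p] V} {g : V ≃ₗ[ZMod p] V} (hg : ∀ v, g (π v) = π (g v)) :
    (LinearMap.range π).map (g : V →ₗ[ZMod p] V) = LinearMap.range π := by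
  apply le_antisymm
  · rintro _ ⟨_, ⟨v, rfl⟩, rfl⟩
    exact ⟨g v, (hg v).symm⟩
  · rintro _ ⟨v, rfl⟩
    refine ⟨π (g.symm v), ⟨_, rfl⟩, ?_⟩
    change g (π (g.symm v)) = π v
    rw [hg, LinearEquiv.apply_symm_apply]

/-- the restriction homomorphism -/
noncomputable def rho (K : Subgroup (V ≃ₗ[ZMod p] V)) (W : Submodule (ZMod p) V)
    (hK : ∀ k ∈ K, W.map (k : V →ₗ[ZMod p] V) = W) : ↥K →* (↥W ≃ₗ[ZMod p] ↥W) :=
  MonoidHom.mk' (fun k => LinearEquiv.ofSubmodules k.1 W W (hK k.1 k.2)) (by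
    intro a b
    ext v
    rfl)

theorem rho_apply (K : Subgroup (V ≃ₗ[ZMod p] V)) (W : Submodule (ZMod p) V)
    (hK : ∀ k ∈ K, W.map (k : V →ₗ[ZMod p] V) = W) (k : ↥K) (v : ↥W) :
    ((rho K W hK k v : ↥W) : V) = (k : V ≃ₗ[ZMod p] V) (v : V) := rfl

variable {H : Subgroup (V ≃ₗ[ZMod p] V)} {π : V →ₗ[ZMod p] V}
  {π' : Dual (ZMod p) V →ₗ[ZMod p] Dual (ZMod p) V}

theorem gens_pow {g : V ≃ₗ[ZMod p] V} (hg : g ∈ gens H π π') : g ^ p = 1 := by
  obtain ⟨-, a, φ, h0, hf, -, -⟩ := hg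
  ext v
  rw [tv_pow h0 hf p v]
  simp

/-- the determinant of the induced maps is one -/
theorem det_rho (W : Submodule (ZMod p) V)
    (hK : ∀ k ∈ KK H π π', W.map (k : V →ₗ[ZMod p] V) = W) :
    ∀ (x : V ≃ₗ[ZMod p] V) (hx : x ∈ KK H π π'),
      LinearEquiv.det (rho (KK H π π') W hK ⟨x, hx⟩) = 1 := by
  intro x hx
  induction hx using Subgroup.closure_induction with
  | mem x hx =>
    have hxK : x ∈ KK H π π' := Subgroup.subset_closure hx
    have h1 : (⟨x, hxK⟩ : ↥(KK H π π')) ^ p = 1 := by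
      apply Subtype.ext
      rw [Subgroup.coe_pow]
      exact gens_pow hx
    have h2 : (LinearEquiv.det (rho (KK H π π') W hK ⟨x, hxK⟩)) ^ p = 1 := by
      rw [← map_pow, ← map_pow, h1, map_one, map_one]
    have h3 : ((LinearEquiv.det (rho (KK H π π') W hK ⟨x, hxK⟩) : (ZMod p)ˣ) : ZMod p) ^ p = 1 := by
      rw [← Units.val_pow_eq_pow_val, h2, Units.val_one]
    rw [ZMod.pow_card] at h3
    exact Units.ext h3
  | one =>
    have : (⟨1, Subgroup.one_mem _⟩ : ↥(KK H π π')) = 1 := rfl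
    rw [this, map_one, map_one]
  | mul x y hx hy ihx ihy =>
    have : (⟨x * y, Subgroup.mul_mem _ hx hy⟩ : ↥(KK H π π')) = ⟨x, hx⟩ * ⟨y, hy⟩ := rfl
    rw [this, map_mul, map_mul, ihx, ihy, one_mul]
  | inv x hx ih =>
    have : (⟨x⁻¹, Subgroup.inv_mem _ hx⟩ : ↥(KK H π π')) = (⟨x, hx⟩ : ↥(KK H π π'))⁻¹ := rfl
    rw [this, map_inv, map_inv, ih, inv_one]

theorem real_of_TH (W : Submodule (ZMod p) V)
    (hK : ∀ k ∈ KK H π π', W.map (k : V →ₗ[ZMod p] V) = W) {a : V} {φ : Dual (ZMod p) V}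
    (hT : TH H a φ) (ha : π a = a) (hφ : π' φ = φ) :
    ∃ k : ↥(KK H π π'), ∀ w : ↥W,
      ((rho (KK H π π') W hK k w : ↥W) : V) = (w : V) + φ (w : V) • a := by
  obtain ⟨g, hg, hf⟩ := mem_KK_of_TH hT ha hφ
  exact ⟨⟨g, hg⟩, fun w => by rw [rho_apply]; exact hf _⟩

/-- in a component of linear type every transvection of the component is induced -/
theorem real_L (hdp : DP (evB (ZMod p) V) π π') (hL : FullL (evB (ZMod p) V) (TH H) π π')
    (hK : ∀ k ∈ KK H π π', (LinearMap.range π).map (k : V →ₗ[ZMod p] V) = LinearMap.range π)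
    (a : ↥(LinearMap.range π)) (ψ : Dual (ZMod p) ↥(LinearMap.range π)) (h0 : ψ a = 0) :
    ∃ k : ↥(KK H π π'), ∀ w : ↥(LinearMap.range π),
      rho (KK H π π') (LinearMap.range π) hK k w = w + ψ w • a := by
  have hfix : ∀ w : ↥(LinearMap.range π), π (w : V) = w := by
    rintro ⟨_, w, rfl⟩
    exact hdp.idem w
  have hres : ∀ w : ↥(LinearMap.range π), π.rangeRestrict (w : V) = w := by
    intro w
    apply Subtype.ext
    exact hfix w
  set φ : Dual (ZMod p) V := ψ.comp π.rangeRestrict with hφdef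
  have hφ : π' φ = φ := by
    ext v
    rw [dp_apply hdp, hφdef, LinearMap.comp_apply, LinearMap.comp_apply]
    congr 1
    apply Subtype.ext
    exact hdp.idem v
  have hφw : ∀ w : ↥(LinearMap.range π), φ (w : V) = ψ w := by
    intro w
    rw [hφdef, LinearMap.comp_apply, hres]
  have hT : TH H (a : V) φ := hL.of_fix (hfix a) hφ (by rw [evB_apply, hφw, h0])
  obtain ⟨k, hk⟩ := real_of_TH (LinearMap.range π) hK hT (hfix a) hφ
  refine ⟨k, fun w => Subtype.ext ?_⟩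
  rw [hk, hφw]
  rfl

/-- in a component of symplectic type the induced maps are isometries -/
theorem isom_S (hdp : DP (evB (ZMod p) V) π π') {θ : V →ₗ[ZMod p] Dual (ZMod p) V}
    {η : Dual (ZMod p) V →ₗ[ZMod p] V} (hS : FullS (evB (ZMod p) V) (TH H) π π' θ η)
    (hsp : ∀ c χ, TH H c χ → c ≠ 0 → π c = c → π' χ = χ → χ ∈ Submodule.span (ZMod p) {θ c})
    (hH : ∀ h ∈ H, ∀ v, h (π v) = π (h v)) {x : V ≃ₗ[ZMod p] V} (hx : x ∈ KK H π π') :
    x ∈ H ∧ ∀ u v, π u = u → π v = v → θ (x u) (x v) = θ u v := by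
  have hskew : ∀ u v, θ u v = - θ v u := fun u v => hS.skew u v
  have halt : ∀ u, θ u u = 0 := fun u => hS.alt u
  induction hx using Subgroup.closure_induction with
  | mem x hx =>
    obtain ⟨hxH, a, φ, h0, hf, ha, hφ⟩ := hx
    refine ⟨hxH, ?_⟩
    intro u v hu hv
    by_cases ha0 : a = 0
    · rw [hf, hf, ha0]; simp
    by_cases hφ0 : φ = 0
    · rw [hf, hf, hφ0]; simp
    have hT : TH H a φ := ⟨h0, x, hxH, hf⟩
    obtain ⟨s, hs⟩ := Submodule.mem_span_singleton.mp (hsp a φ hT ha0 ha hφ)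
    rw [hf, hf]
    simp only [map_add, map_smul, LinearMap.add_apply, LinearMap.smul_apply, smul_eq_mul, halt]
    rw [← hs]
    simp only [LinearMap.smul_apply, smul_eq_mul]
    rw [hskew u a]
    ring
  | one => exact ⟨H.one_mem, fun u v _ _ => rfl⟩
  | mul x y _ _ ihx ihy =>
    refine ⟨H.mul_mem ihx.1 ihy.1, ?_⟩
    intro u v hu hv
    rw [LinearEquiv.mul_apply, LinearEquiv.mul_apply, ihx.2, ihy.2 u v hu hv]
    · rw [← hH y ihy.1, hu]
    · rw [← hH y ihy.1, hv]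
  | inv x _ ih =>
    refine ⟨H.inv_mem ih.1, ?_⟩
    intro u v hu hv
    have h1 : π (x⁻¹ u) = x⁻¹ u := by rw [← hH _ (H.inv_mem ih.1), hu]
    have h2 : π (x⁻¹ v) = x⁻¹ v := by rw [← hH _ (H.inv_mem ih.1), hv]
    rw [← ih.2 _ _ h1 h2]
    change θ (x (x.symm u)) (x (x.symm v)) = _
    rw [LinearEquiv.apply_symm_apply, LinearEquiv.apply_symm_apply]

/-- the group induced by the component subgroup on the component -/
theorem comp_rho [Finite V] (hc : IsComp (evB (ZMod p) V) (TH H) π π')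
    (hH : ∀ h ∈ H, ∀ v, h (π v) = π (h v))
    (W : Submodule (ZMod p) V) (hW : W = LinearMap.range π)
    (K : Subgroup (V ≃ₗ[ZMod p] V)) (hKK : K = KK H π π') :
    ∃ ρ : ↥K →* (↥W ≃ₗ[ZMod p] ↥W),
      (∀ (h : ↥K) (v : ↥W), ((ρ h v : ↥W) : V) = (h : V ≃ₗ[ZMod p] V) (v : V)) ∧
      ((ρ.range : Set (↥W ≃ₗ[ZMod p] ↥W)) =
          {f : ↥W ≃ₗ[ZMod p] ↥W | LinearMap.det (f : ↥W →ₗ[ZMod p] ↥W) = 1} ∨
        ∃ B : LinearMap.BilinForm (ZMod p) ↥W, B.IsAlt ∧ B.Nondegenerate ∧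
          (ρ.range : Set (↥W ≃ₗ[ZMod p] ↥W)) =
            {f : ↥W ≃ₗ[ZMod p] ↥W | ∀ x y, B (f x) (f y) = B x y}) := by
  subst hW hKK
  haveI : Module.Finite (ZMod p) V := Module.Finite.of_finite
  have hK : ∀ k ∈ KK H π π',
      (LinearMap.range π).map (k : V →ₗ[ZMod p] V) = LinearMap.range π :=
    fun k hk => map_range_eq (hH k (KK_le hk))
  have hfix : ∀ w : ↥(LinearMap.range π), π (w : V) = w := by
    rintro ⟨_, w, rfl⟩
    exact hc.dp.idem w
  refine ⟨rho _ _ hK, fun h v => rfl, ?_⟩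
  rcases hc.typ with ⟨hL, -⟩ | ⟨θ, η, hS, hsp⟩
  · left
    ext f
    constructor
    · rintro ⟨k, rfl⟩
      change LinearMap.det _ = 1
      rw [← LinearEquiv.coe_det]
      have := det_rho (LinearMap.range π) hK k.1 k.2
      rw [this]
      rfl
    · intro hf
      refine sl_le_of_transvections (rho _ _ hK).range (fun a ψ h0 => ?_) f hf
      obtain ⟨k, hk⟩ := real_L hc.dp hL hK a ψ h0
      exact ⟨rho _ _ hK k, ⟨k, rfl⟩, hk⟩
  · right
    let B : LinearMap.BilinForm (ZMod p) ↥(LinearMap.range π) :=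
      ((LinearMap.range π).dualRestrict).comp (θ.comp (LinearMap.range π).subtype)
    have hBapp : ∀ x y : ↥(LinearMap.range π), B x y = θ (x : V) (y : V) := fun x y => rfl
    have hA : B.IsAlt := fun x => hS.alt (x : V)
    have hskew : ∀ x y : ↥(LinearMap.range π), B x y = - B y x := fun x y => hS.skew _ _
    have sepL : ∀ x : ↥(LinearMap.range π), (∀ y, B x y = 0) → x = 0 := by
      intro x hx
      have h1 : θ (x : V) = 0 := by
        ext v
        rw [← hS.πθ, dp_apply hc.dp]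
        exact hx ⟨π v, v, rfl⟩
      have h2 := hS.inj h1
      rw [hfix] at h2
      exact Subtype.ext h2
    have hnd : B.Nondegenerate :=
      ⟨sepL, fun y hy => sepL y (fun x => by rw [hskew, hy x, neg_zero])⟩
    refine ⟨B, hA, hnd, ?_⟩
    ext f
    constructor
    · rintro ⟨k, rfl⟩
      intro x y
      rw [hBapp, hBapp]
      exact (isom_S hc.dp hS hsp hH k.2).2 _ _ (hfix x) (hfix y)
    · intro hf
      refine sp_le_of_transvections B hnd hA (rho _ _ hK).range (fun u c => ?_) f hf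
      have hT : TH H (u : V) ((-c) • θ (u : V)) := TH_smul (hS.mem_fix (hfix u)) (-c)
      obtain ⟨k, hk⟩ := real_of_TH (LinearMap.range π) hK hT (hfix u)
        (by rw [map_smul, hS.πθ])
      refine ⟨k, ?_⟩
      ext w
      have hsk : θ (w : V) (u : V) = - θ (u : V) (w : V) := hS.skew _ _
      rw [hk, Cfsg.Agent.Lib.Helper13.transv_apply, hBapp, hsk]
      simp only [LinearMap.smul_apply, smul_eq_mul, Submodule.coe_add, Submodule.coe_smul]
      congr 2
      ring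

end Cfsg.Agent.Lib.Helper5.Mc
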