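import Mathlib
import Cfsg.Agent.Lib.Helper5.McFin3

/-!
# Final assembly, part 4: the decomposition
-/

set_option autoImplicit false

namespace Cfsg.Agent.Lib.Helper5.Mc

open Module

/-- the zero pair is a component (of symplectic type) -/
theorem isComp_zero {F V V' : Type*} [Field F] [AddCommGroup V] [Module F V] [AddCommGroup V']
    [Module F V'] {B : V' →ₗ[F] V →ₗ[F] F} {T : V → V' → Prop} (hT : TSys B T) :
    IsComp B T 0 0 where
  dp := ⟨fun v => by simp, fun φ => by simp, fun φ v => by simp⟩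
  dich := fun c χ _ _ _ => Or.inr ⟨rfl, rfl⟩
  typ := Or.inr ⟨0, 0,
    { ηθ := fun v => by simp
      θη := fun φ => by simp
      θπ := fun v => by simp
      πθ := fun v => by simp
      ηπ := fun φ => by simp
      πη := fun φ => by simp
      alt := fun v => by simp
      mem := fun u => by
        simp only [LinearMap.zero_apply]
        exact hT.tz1 0 },
    fun c χ _ hc0 hc _ => absurd hc.symm hc0⟩

variable {p : ℕ} [Fact p.Prime] {V : Type*} [AddCommGroup V] [Module (ZMod p) V]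

theorem main_of_family [Finite V] (hp : Odd p) (H : Subgroup (V ≃ₗ[ZMod p] V))
    (T : Set (V ≃ₗ[ZMod p] V)) (hHT : H = Subgroup.closure T)
    (hT : ∀ t ∈ T, orderOf t = p ∧
      finrank (ZMod p) ↥(LinearMap.ker ((t : V →ₗ[ZMod p] V) - LinearMap.id)) + 1 =
        finrank (ZMod p) V)
    (hOp : Cfsg.pCore p ↥H = ⊥) (n : ℕ) (π : Fin n → V →ₗ[ZMod p] V)
    (π' : Fin n → Dual (ZMod p) V →ₗ[ZMod p] Dual (ZMod p) V)
    (hcomp : ∀ j, IsComp (evB (ZMod p) V) (TH H) (π j) (π' j))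
    (horth : ∀ i j, i ≠ j → ∀ v, π i (π j v) = 0)
    (hall : ∀ ϖ ϖ', IsComp (evB (ZMod p) V) (TH H) ϖ ϖ' → ∃ j, π j = ϖ ∧ π' j = ϖ') :
    ∃ (W : Fin (n + 1) → Submodule (ZMod p) V) (K : Fin n → Subgroup (V ≃ₗ[ZMod p] V)),
      DirectSum.IsInternal W ∧
      (∀ h ∈ H, ∀ i, (W i).map (h : V →ₗ[ZMod p] V) = W i) ∧
      (∀ j, K j ≤ H ∧ ((K j).subgroupOf H).Normal) ∧ ⨆ j, K j = H ∧
      (∀ j, K j ⊓ (⨆ j' ∈ {j' : Fin n | j' ≠ j}, K j') = ⊥) ∧
      (∀ j j', j ≠ j' → ∀ a ∈ K j, ∀ b ∈ K j', a * b = b * a) ∧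
      (∀ j, ∀ h ∈ K j, ∀ i : Fin (n + 1), i ≠ j.succ → ∀ v ∈ W i, h v = v) ∧
      (∀ j, ∃ ρ : ↥(K j) →* (↥(W j.succ) ≃ₗ[ZMod p] ↥(W j.succ)),
        (∀ (h : ↥(K j)) (v : ↥(W j.succ)), ((ρ h v : ↥(W j.succ)) : V) = (h : V ≃ₗ[ZMod p] V) (v : V)) ∧
        ((ρ.range : Set (↥(W j.succ) ≃ₗ[ZMod p] ↥(W j.succ))) =
            {f : ↥(W j.succ) ≃ₗ[ZMod p] ↥(W j.succ) | LinearMap.det (f : ↥(W j.succ) →ₗ[ZMod p] ↥(W j.succ)) = 1} ∨
          ∃ B : LinearMap.BilinForm (ZMod p) ↥(W j.succ), B.IsAlt ∧ B.Nondegenerate ∧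
            (ρ.range : Set (↥(W j.succ) ≃ₗ[ZMod p] ↥(W j.succ))) = {f : ↥(W j.succ) ≃ₗ[ZMod p] ↥(W j.succ) | ∀ x y, B (f x) (f y) = B x y})) := by
  classical
  haveI : Module.Finite (ZMod p) V := Module.Finite.of_finite
  have hTS := tsys_TH (H := H) hp hOp
  have hB := perf_evB (ZMod p) V
  have hdp : ∀ j, DP (evB (ZMod p) V) (π j) (π' j) := fun j => (hcomp j).dp
  let q : Fin (n + 1) → V →ₗ[ZMod p] V := Fin.cases (LinearMap.id - ∑ j, π j) π
  have q0 : ∀ v, q 0 v = v - ∑ j, π j v := by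
    intro v
    change ((LinearMap.id : V →ₗ[ZMod p] V) - ∑ j, π j) v = _
    simp
  have qs : ∀ (j : Fin n) v, q j.succ v = π j v := fun j v => rfl
  have hidem : ∀ j v, π j (π j v) = π j v := fun j => (hcomp j).dp.idem
  have hπq0 : ∀ j v, π j (q 0 v) = 0 := by
    intro j v
    rw [q0, map_sub, map_sum, Finset.sum_eq_single j, hidem, sub_self]
    · intro i _ hij
      exact horth j i hij.symm v
    · intro h
      exact absurd (Finset.mem_univ j) h
  have hq0π : ∀ j v, q 0 (π j v) = 0 := by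
    intro j v
    rw [q0, Finset.sum_eq_single j, hidem, sub_self]
    · intro i _ hij
      exact horth i j hij v
    · intro h
      exact absurd (Finset.mem_univ j) h
  have hq0q0 : ∀ v, q 0 (q 0 v) = q 0 v := by
    intro v
    rw [q0 (q 0 v), Finset.sum_eq_zero (fun j _ => hπq0 j v), sub_zero]
  have hqid : ∀ k v, q k (q k v) = q k v := by
    intro k
    refine Fin.cases ?_ ?_ k
    · exact hq0q0
    · intro j v
      rw [qs, qs, hidem]
  have hqorth : ∀ k l, k ≠ l → ∀ v, q k (q l v) = 0 := by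
    intro k l
    refine Fin.cases ?_ ?_ k
    · refine Fin.cases ?_ ?_ l
      · intro h; exact absurd rfl h
      · intro j _ v
        rw [qs, hq0π]
    · intro i
      refine Fin.cases ?_ ?_ l
      · intro _ v
        rw [qs, hπq0]
      · intro j hij v
        rw [qs, qs]
        exact horth i j (fun h => hij (by rw [h])) v
  have hqsum : ∀ v, ∑ k, q k v = v := by
    intro v
    rw [Fin.sum_univ_succ, q0]
    simp only [qs]
    abel
  have hHcomm : ∀ j, ∀ h ∈ H, ∀ v, h (π j v) = π j (h v) := fun j => H_comm hHT hT (hcomp j)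
  have hHq : ∀ k, ∀ h ∈ H, ∀ v, h (q k v) = q k (h v) := by
    intro k
    refine Fin.cases ?_ ?_ k
    · intro h hh v
      rw [q0, q0, map_sub, map_sum]
      congr 1
      exact Finset.sum_congr rfl (fun j _ => hHcomm j h hh v)
    · intro j h hh v
      rw [qs, qs]
      exact hHcomm j h hh v
  have hsup : ⨆ j, KK H (π j) (π' j) = H := by
    apply le_antisymm
    · exact iSup_le (fun j => KK_le)
    · have : Subgroup.closure T ≤ ⨆ j, KK H (π j) (π' j) := by
        refine (Subgroup.closure_le _).2 ?_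
        intro t ht
        obtain ⟨a, φ, ha, hφ, h0, hf⟩ := tv_of_hyp t (hT t ht).1 (hT t ht).2
        have htH : t ∈ H := by rw [hHT]; exact Subgroup.subset_closure ht
        have hTH : TH H a φ := ⟨h0, t, htH, hf⟩
        obtain ⟨ϖ, ϖ', hc, h1, h2⟩ := exists_comp hB hTS hTH ha hφ
        obtain ⟨j, hj1, hj2⟩ := hall ϖ ϖ' hc
        refine Subgroup.mem_iSup_of_mem j (Subgroup.subset_closure ?_)
        exact ⟨htH, a, φ, h0, hf, by rw [hj1]; exact h1, by rw [hj2]; exact h2⟩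
      exact hHT.le.trans this
  have hcommute : ∀ j j', j ≠ j' → ∀ a ∈ KK H (π j) (π' j), ∀ b ∈ KK H (π j') (π' j'),
      a * b = b * a := fun j j' hne a ha b hb =>
    KK_commute (hdp j) (hdp j') (horth j j' hne) (horth j' j hne.symm) ha hb
  refine ⟨fun k => LinearMap.range (q k), fun j => KK H (π j) (π' j),
    isInternal_of_orth q hqid hqorth hqsum, fun h hh i => map_range_eq (hHq i h hh), ?_, hsup, ?_,
    hcommute, ?_, ?_⟩
  · intro j
    refine ⟨KK_le, (Subgroup.normal_subgroupOf_iff_le_normalizer KK_le).2 ?_⟩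
    have hsup' : H ≤ ⨆ j, KK H (π j) (π' j) := hsup.ge
    refine hsup'.trans ?_
    refine iSup_le (fun j' => ?_)
    by_cases hjj : j' = j
    · rw [hjj]
      exact Subgroup.le_normalizer
    · refine le_trans ?_ (Subgroup.centralizer_le_normalizer _)
      intro x hx
      rw [Subgroup.mem_centralizer_iff]
      intro y hy
      exact hcommute j j' (fun h => hjj h.symm) y hy x hx
  · intro j
    rw [eq_bot_iff]
    rintro x ⟨hx1, hx2⟩
    rw [Subgroup.mem_bot]
    have hle : (⨆ j' ∈ {j' : Fin n | j' ≠ j}, KK H (π j') (π' j')) ≤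
        fixG p (LinearMap.range (π j) : Set V) := by
      refine iSup₂_le (fun j' hj' k hk v hv => ?_)
      obtain ⟨w, rfl⟩ := hv
      exact KK_fix (hdp j') hk (horth j' j hj' w)
    have h2 := hle hx2
    ext v
    have e1 : x (π j v) = π j v := h2 _ ⟨v, rfl⟩
    have e2 : x (v - π j v) = v - π j v :=
      KK_fix (hdp j) hx1 (by rw [map_sub, hidem, sub_self])
    have : v = π j v + (v - π j v) := by abel
    calc x v = x (π j v + (v - π j v)) := by rw [← this]
      _ = π j v + (v - π j v) := by rw [map_add, e1, e2]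
      _ = v := this.symm
  · intro j h hh i hi v hv
    obtain ⟨w, rfl⟩ := hv
    refine KK_fix (hdp j) hh ?_
    rw [← qs]
    exact hqorth j.succ i (Ne.symm hi) w
  · intro j
    exact comp_rho (hcomp j) (hHcomm j) _ rfl _ rfl

end Cfsg.Agent.Lib.Helper5.Mc
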