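import Mathlib
import Cfsg.Prelude.Def_Transfer
import Cfsg.Agent.Lib.Helper5.SylowTower

set_option autoImplicit false

namespace Cfsg.Agent.Lib.Helper5

open Cfsg

/-- there is a normal elementary abelian 2-subgroup of order at least `B` -/
def NRE (P : Type*) [Group P] (B : ℕ) : Prop :=
  ∃ E : Subgroup P, E.Normal ∧ IsElementaryAbelian 2 E ∧ B ≤ Nat.card E

/-- every normal elementary abelian 2-subgroup has order at most `B` -/
def NRB (P : Type*) [Group P] (B : ℕ) : Prop :=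
  ∀ E : Subgroup P, E.Normal → IsElementaryAbelian 2 E → Nat.card E ≤ B

section basic
variable {P Q : Type*} [Group P] [Group Q]

theorem isElementaryAbelian_map (f : P →* Q) {E : Subgroup P} (h : IsElementaryAbelian 2 E) :
    IsElementaryAbelian 2 (E.map f) := by
  obtain ⟨hc, he⟩ := h
  refine ⟨⟨⟨?_⟩⟩, ?_⟩
  · rintro ⟨_, ⟨a, ha, rfl⟩⟩ ⟨_, ⟨b, hb, rfl⟩⟩
    apply Subtype.ext
    have hab : a * b = b * a := congrArg Subtype.val (hc.is_comm.comm ⟨a, ha⟩ ⟨b, hb⟩)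
    show f a * f b = f b * f a
    rw [← map_mul, ← map_mul, hab]
  · rintro _ ⟨a, ha, rfl⟩
    rw [← map_pow, he a ha, map_one]

theorem isElementaryAbelian_comap (f : P →* Q) (hf : Function.Injective f) {E : Subgroup Q}
    (h : IsElementaryAbelian 2 E) : IsElementaryAbelian 2 (E.comap f) := by
  obtain ⟨hc, he⟩ := h
  refine ⟨⟨⟨?_⟩⟩, ?_⟩
  · rintro ⟨a, ha⟩ ⟨b, hb⟩
    apply Subtype.ext
    apply hf
    have hab : f a * f b = f b * f a :=
      congrArg Subtype.val (hc.is_comm.comm ⟨f a, ha⟩ ⟨f b, hb⟩)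
    show f (a * b) = f (b * a)
    rw [map_mul, map_mul, hab]
  · intro a ha
    apply hf
    rw [map_pow, he (f a) ha, map_one]

theorem isElementaryAbelian_prod {P₁ P₂ : Type*} [Group P₁] [Group P₂] {E₁ : Subgroup P₁}
    {E₂ : Subgroup P₂} (h₁ : IsElementaryAbelian 2 E₁) (h₂ : IsElementaryAbelian 2 E₂) :
    IsElementaryAbelian 2 (E₁.prod E₂) := by
  obtain ⟨hc₁, he₁⟩ := h₁
  obtain ⟨hc₂, he₂⟩ := h₂
  refine ⟨⟨⟨?_⟩⟩, ?_⟩
  · rintro ⟨⟨a₁, a₂⟩, ha⟩ ⟨⟨b₁, b₂⟩, hb⟩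
    apply Subtype.ext
    have e1 : a₁ * b₁ = b₁ * a₁ :=
      congrArg Subtype.val (hc₁.is_comm.comm ⟨a₁, ha.1⟩ ⟨b₁, hb.1⟩)
    have e2 : a₂ * b₂ = b₂ * a₂ :=
      congrArg Subtype.val (hc₂.is_comm.comm ⟨a₂, ha.2⟩ ⟨b₂, hb.2⟩)
    show (a₁ * b₁, a₂ * b₂) = (b₁ * a₁, b₂ * a₂)
    rw [e1, e2]
  · rintro ⟨a₁, a₂⟩ ha
    show (a₁ ^ 2, a₂ ^ 2) = 1
    rw [he₁ a₁ ha.1, he₂ a₂ ha.2]; rfl

theorem NRE.of_equiv {B : ℕ} (h : NRE P B) (e : P ≃* Q) : NRE Q B := by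
  obtain ⟨E, hEn, hEe, hEc⟩ := h
  refine ⟨E.map e.toMonoidHom, hEn.map e.toMonoidHom e.surjective,
    isElementaryAbelian_map e.toMonoidHom hEe, ?_⟩
  rw [← Nat.card_congr (E.equivMapOfInjective e.toMonoidHom e.injective).toEquiv]
  exact hEc

theorem NRB.of_equiv {B : ℕ} (h : NRB P B) (e : P ≃* Q) : NRB Q B := by
  intro E hEn hEe
  have h1 := h (E.comap e.toMonoidHom) (hEn.comap e.toMonoidHom)
    (isElementaryAbelian_comap e.toMonoidHom e.injective hEe)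
  have h2 : (E.comap e.toMonoidHom).map e.toMonoidHom = E :=
    Subgroup.map_comap_eq_self_of_surjective e.surjective E
  have h3 := Nat.card_congr
    ((E.comap e.toMonoidHom).equivMapOfInjective e.toMonoidHom e.injective).toEquiv
  rw [h2] at h3
  rw [← h3]
  exact h1

theorem NRE.mono {B B' : ℕ} (h : NRE P B) (hB : B' ≤ B) : NRE P B' := by
  obtain ⟨E, hEn, hEe, hEc⟩ := h
  exact ⟨E, hEn, hEe, hB.trans hEc⟩

end basic

section prod
variable {P₁ P₂ : Type*} [Group P₁] [Group P₂]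

theorem NRE.prod {B₁ B₂ : ℕ} (h₁ : NRE P₁ B₁) (h₂ : NRE P₂ B₂) : NRE (P₁ × P₂) (B₁ * B₂) := by
  obtain ⟨E₁, hn₁, he₁, hc₁⟩ := h₁
  obtain ⟨E₂, hn₂, he₂, hc₂⟩ := h₂
  refine ⟨E₁.prod E₂, Subgroup.prod_normal E₁ E₂, isElementaryAbelian_prod he₁ he₂, ?_⟩
  rw [Nat.card_congr (Subgroup.prodEquiv E₁ E₂).toEquiv, Nat.card_prod]
  exact Nat.mul_le_mul hc₁ hc₂

theorem NRB.prod [Finite P₁] [Finite P₂] {B₁ B₂ : ℕ} (h₁ : NRB P₁ B₁) (h₂ : NRB P₂ B₂) :
    NRB (P₁ × P₂) (B₁ * B₂) := by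
  intro E hEn hEe
  have hs1 : Function.Surjective (MonoidHom.fst P₁ P₂) := fun a => ⟨(a, 1), rfl⟩
  have hs2 : Function.Surjective (MonoidHom.snd P₁ P₂) := fun b => ⟨(1, b), rfl⟩
  have c1 := h₁ (E.map (MonoidHom.fst P₁ P₂)) (hEn.map _ hs1) (isElementaryAbelian_map _ hEe)
  have c2 := h₂ (E.map (MonoidHom.snd P₁ P₂)) (hEn.map _ hs2) (isElementaryAbelian_map _ hEe)
  have hle : E ≤ (E.map (MonoidHom.fst P₁ P₂)).prod (E.map (MonoidHom.snd P₁ P₂)) := by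
    intro x hx
    exact ⟨⟨x, hx, rfl⟩, ⟨x, hx, rfl⟩⟩
  have h3 := Subgroup.card_le_of_le hle
  rw [Nat.card_congr (Subgroup.prodEquiv _ _).toEquiv, Nat.card_prod] at h3
  exact h3.trans (Nat.mul_le_mul c1 c2)

end prod

section double
variable {P K : Type*} [Group P] [Group K] {ι : P × P →* K} {t : K}

theorem DoubleHyp.nre (H : DoubleHyp ι t) {B : ℕ} (h : NRE P B) : NRE K (B * B) := by
  obtain ⟨E, hEn, hEe, hEcard⟩ := h
  refine ⟨(E.prod E).map ι, ?_, isElementaryAbelian_map ι (isElementaryAbelian_prod hEe hEe), ?_⟩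
  · have hr : ∀ r ∈ ι.range, ∀ e ∈ (E.prod E).map ι, r * e * r⁻¹ ∈ (E.prod E).map ι := by
      rintro _ ⟨⟨a, b⟩, rfl⟩ _ ⟨⟨e₁, e₂⟩, he, rfl⟩
      refine ⟨(a * e₁ * a⁻¹, b * e₂ * b⁻¹), ⟨hEn.conj_mem e₁ he.1 a, hEn.conj_mem e₂ he.2 b⟩, ?_⟩
      rw [← map_inv, ← map_mul, ← map_mul]; rfl
    have ht : ∀ e ∈ (E.prod E).map ι, t * e * t⁻¹ ∈ (E.prod E).map ι := by
      rintro _ ⟨⟨e₁, e₂⟩, he, rfl⟩
      rw [H.conj]
      exact ⟨(e₂, e₁), ⟨he.2, he.1⟩, rfl⟩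
    refine ⟨fun e he g => ?_⟩
    rcases H.gen g with hg | hg
    · exact hr g hg e he
    · have h1 := ht _ (hr _ hg e he)
      have : g * e * g⁻¹ = t * ((t * g) * e * (t * g)⁻¹) * t⁻¹ := by
        rw [H.inv_eq]
        have e' : (t * g)⁻¹ = g⁻¹ * t := by rw [mul_inv_rev, H.inv_eq]
        rw [e']
        have : t * (t * g * e * (g⁻¹ * t)) * t = (t * t) * g * e * g⁻¹ * (t * t) := by group
        rw [this, H.sq, one_mul, mul_one]
      rw [this]; exact h1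
  · rw [← Nat.card_congr ((E.prod E).equivMapOfInjective ι H.inj).toEquiv,
      Nat.card_congr (Subgroup.prodEquiv E E).toEquiv, Nat.card_prod]
    exact Nat.mul_le_mul hEcard hEcard

theorem DoubleHyp.nrb [Finite P] (H : DoubleHyp ι t) {B : ℕ} (hx : ∃ x : P, x * x ≠ 1)
    (h : NRB P B) : NRB K (B * B) := by
  intro E hEn hEe
  obtain ⟨x, hx⟩ := hx
  -- `E` lies in the base group
  have hle : E ≤ ι.range := by
    intro e he
    rcases H.gen e with hk | hk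
    · exact hk
    · exfalso
      obtain ⟨⟨a, b⟩, hab⟩ := hk
      have he' : e = t * ι (a, b) := by
        rw [hab, ← mul_assoc, H.sq, one_mul]
      have hgt : ι (x, 1) * t = t * ι (1, x) := by
        have := H.conj 1 x
        rw [← this, inv_mul_cancel_right]
      let y : P × P := (1, x) * (a, b) * (x, 1)⁻¹ * (a, b)⁻¹
      have hc : ι (x, 1) * e * (ι (x, 1))⁻¹ * e⁻¹ = t * ι y * t⁻¹ := by
        rw [he', mul_inv_rev, ← mul_assoc (ι (x, 1)), hgt]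
        simp only [y, map_mul, map_inv]
        group
      have hcE : ι (x, 1) * e * (ι (x, 1))⁻¹ * e⁻¹ ∈ E :=
        E.mul_mem (hEn.conj_mem e he _) (E.inv_mem he)
      have hsq := hEe.2 _ hcE
      rw [hc] at hsq
      have h1 : (t * ι y * t⁻¹) ^ 2 = t * ι (y ^ 2) * t⁻¹ := by
        rw [conj_pow, map_pow]
      rw [h1] at hsq
      have h2 : ι (y ^ 2) = 1 := by
        have := congrArg (fun z => t⁻¹ * z * t) hsq
        simpa [mul_assoc] using this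
      have h3 : y ^ 2 = 1 := H.inj (by rw [h2, map_one])
      have h4 : (y ^ 2).2 = 1 := by rw [h3]; rfl
      have h5 : (y ^ 2).2 = x * x := by
        simp only [y, pow_two]
        show (1 * a * x⁻¹ * a⁻¹ , x * b * 1⁻¹ * b⁻¹).2 * (1 * a * x⁻¹ * a⁻¹ , x * b * 1⁻¹ * b⁻¹).2 = x * x
        simp
      rw [h5] at h4
      exact hx h4
  have h1 := NRB.prod h h (E.comap ι) (hEn.comap ι) (isElementaryAbelian_comap ι H.inj hEe)
  have h2 : (E.comap ι).map ι = E := Subgroup.map_comap_eq_self hle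
  have h3 := Nat.card_congr ((E.comap ι).equivMapOfInjective ι H.inj).toEquiv
  rw [h2] at h3
  rw [← h3]
  exact h1

end double

section sylow
variable {G : Type*} [Group G] [Finite G]

theorem nr_sylow (K : Subgroup G) (hK : Nat.card K = 2 ^ (Nat.card G).factorization 2)
    {B B' : ℕ} (hE : NRE K B) (hB : NRB K B') (S : Sylow 2 G) :
    NRE S.toSubgroup B ∧ NRB S.toSubgroup B' := by
  let Q : Sylow 2 G := Sylow.ofCard K hK
  obtain ⟨g, hg⟩ := MulAction.exists_smul_eq G Q S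
  subst hg
  exact ⟨NRE.of_equiv (P := ↥Q.toSubgroup) hE (Sylow.equivSMul Q g),
    NRB.of_equiv (P := ↥Q.toSubgroup) hB (Sylow.equivSMul Q g)⟩

end sylow

end Cfsg.Agent.Lib.Helper5
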