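import Mathlib
import Cfsg.Agent.Lib.Helper5.NormalRank
import Cfsg.Agent.Lib.Helper5.GLSylowB
import Cfsg.Agent.Lib.Helper5.OrthOdd

set_option autoImplicit false

namespace Cfsg.Agent.Lib.Helper5

open Matrix Cfsg
open scoped MatrixGroups

section gl
variable {F : Type*} [Field F] [Fintype F]

variable (F) in
/-- every Sylow 2-subgroup of `GL_n(F)` has normal 2-rank data `B` -/
def NS (n B : ℕ) : Prop :=
  ∀ S : Sylow 2 (GL (Fin n) F), NRE S.toSubgroup B ∧ NRB S.toSubgroup B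

theorem NS_of_subgroup {n B : ℕ} (K : Subgroup (GL (Fin n) F))
    (hK : Nat.card K = 2 ^ (Nat.card (GL (Fin n) F)).factorization 2)
    (hE : NRE K B) (hB : NRB K B) : NS F n B :=
  fun S => nr_sylow K hK hE hB S

theorem NS_prod (hq : Odd (Fintype.card F)) (n₁ n₂ B₁ B₂ : ℕ)
    (K1 : NS F n₁ B₁) (K2 : NS F n₂ B₂)
    (harith : vGL (Fintype.card F) n₁ + vGL (Fintype.card F) n₂ =
      vGL (Fintype.card F) (n₁ + n₂)) : NS F (n₁ + n₂) (B₁ * B₂) := by
  obtain ⟨S₁⟩ := (inferInstance : Nonempty (Sylow 2 (GL (Fin n₁) F)))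
  obtain ⟨S₂⟩ := (inferInstance : Nonempty (Sylow 2 (GL (Fin n₂) F)))
  let φ : GL (Fin n₁ ⊕ Fin n₂) F ≃* GL (Fin (n₁ + n₂)) F := glReindex finSumFinEquiv
  let ι₀ : S₁.toSubgroup × S₂.toSubgroup →* GL (Fin (n₁ + n₂)) F :=
    φ.toMonoidHom.comp
      (glProd.comp (MonoidHom.prodMap S₁.toSubgroup.subtype S₂.toSubgroup.subtype))
  have hinj : Function.Injective ι₀ := by
    intro x y hxy
    have := glProd_injective (φ.injective hxy)
    have e1 : (x.1 : GL (Fin n₁) F) = y.1 := congrArg Prod.fst this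
    have e2 : (x.2 : GL (Fin n₂) F) = y.2 := congrArg Prod.snd this
    exact Prod.ext (Subtype.ext e1) (Subtype.ext e2)
  let K : Subgroup (GL (Fin (n₁ + n₂)) F) := ι₀.range
  let e : S₁.toSubgroup × S₂.toSubgroup ≃* K := MonoidHom.ofInjective hinj
  have hK : Nat.card K = 2 ^ (Nat.card (GL (Fin (n₁ + n₂)) F)).factorization 2 := by
    rw [← Nat.card_congr e.toEquiv, Nat.card_prod]
    have c1 := card_sylow_GL hq n₁ S₁
    have c2 := card_sylow_GL hq n₂ S₂
    rw [c1, c2, factorization_card_GL hq, ← pow_add, harith]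
    rfl
  exact NS_of_subgroup K hK (((K1 S₁).1.prod (K2 S₂).1).of_equiv e)
    (((K1 S₁).2.prod (K2 S₂).2).of_equiv e)

theorem exists_sq_ne_one {P : Type*} [Group P] [Finite P] {B : ℕ} (h : NRB P B)
    (hbig : B < Nat.card P) : ∃ x : P, x * x ≠ 1 := by
  by_contra hcon
  push_neg at hcon
  have hcomm : ∀ a b : P, a * b = b * a := by
    intro a b
    have h1 := hcon (a * b)
    have ha : a⁻¹ = a := inv_eq_of_mul_eq_one_left (hcon a)
    have hb : b⁻¹ = b := inv_eq_of_mul_eq_one_left (hcon b)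
    have h2 : a * b = (a * b)⁻¹ := (inv_eq_of_mul_eq_one_left h1).symm
    rw [h2, _root_.mul_inv_rev, ha, hb]
  have hE : IsElementaryAbelian 2 (⊤ : Subgroup P) := by
    refine ⟨⟨⟨?_⟩⟩, ?_⟩
    · rintro ⟨a, _⟩ ⟨b, _⟩
      apply Subtype.ext
      exact hcomm a b
    · intro a _
      rw [pow_two]; exact hcon a
  have := h ⊤ inferInstance hE
  rw [Subgroup.card_top] at this
  omega

theorem NS_double (hq : Odd (Fintype.card F)) (h B : ℕ) (hh : 1 ≤ h)
    (Kh : NS F h B) (hbig : B < 2 ^ vGL (Fintype.card F) h)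
    (harith : 2 * vGL (Fintype.card F) h + 1 = vGL (Fintype.card F) (h + h)) :
    NS F (h + h) (B * B) := by
  haveI : Nonempty (Fin h) := ⟨⟨0, hh⟩⟩
  obtain ⟨S⟩ := (inferInstance : Nonempty (Sylow 2 (GL (Fin h) F)))
  let ι₀ : S.toSubgroup × S.toSubgroup →* GL (Fin h ⊕ Fin h) F :=
    glProd.comp (MonoidHom.prodMap S.toSubgroup.subtype S.toSubgroup.subtype)
  have hinj : Function.Injective ι₀ := by
    intro x y hxy
    have := glProd_injective hxy
    have e1 : (x.1 : GL (Fin h) F) = y.1 := congrArg Prod.fst this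
    have e2 : (x.2 : GL (Fin h) F) = y.2 := congrArg Prod.snd this
    exact Prod.ext (Subtype.ext e1) (Subtype.ext e2)
  have hnot : glSwap (Fin h) F ∉ ι₀.range := by
    rintro ⟨x, hx⟩
    exact glSwap_not_mem_range ⟨_, hx⟩
  have hconj : ∀ a b, glSwap (Fin h) F * ι₀ (a, b) * (glSwap (Fin h) F)⁻¹ = ι₀ (b, a) :=
    fun a b => glSwap_conj a.1 b.1
  obtain ⟨K, ι, t', H, hι, ht'⟩ :=
    exists_doubleHyp ι₀ hinj (glSwap (Fin h) F) glSwap_mul_self hnot hconj
  have c1 := card_sylow_GL hq h S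
  have hx : ∃ x : S.toSubgroup, x * x ≠ 1 := exists_sq_ne_one (Kh S).2 (by rw [c1]; exact hbig)
  have hE : NRE K (B * B) := H.nre (Kh S).1
  have hB : NRB K (B * B) := H.nrb hx (Kh S).2
  have hKcard : Nat.card K = 2 * Nat.card S.toSubgroup ^ 2 := H.card
  let φ : GL (Fin h ⊕ Fin h) F ≃* GL (Fin (h + h)) F := glReindex finSumFinEquiv
  let K' : Subgroup (GL (Fin (h + h)) F) := K.map φ.toMonoidHom
  let e : K ≃* K' := K.equivMapOfInjective φ.toMonoidHom φ.injective
  have hK' : Nat.card K' = 2 ^ (Nat.card (GL (Fin (h + h)) F)).factorization 2 := by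
    rw [← Nat.card_congr e.toEquiv, hKcard]
    rw [c1, factorization_card_GL hq]
    show _ = 2 ^ vGL (Fintype.card F) (h + h)
    rw [← harith, pow_succ, ← pow_mul]
    ring
  exact NS_of_subgroup K' hK' (hE.of_equiv e) (hB.of_equiv e)

end gl

end Cfsg.Agent.Lib.Helper5
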