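import Mathlib
import Cfsg.Agent.Lib.Helper5.NormalRank
import Cfsg.Agent.Lib.Helper5.GLSylowB
import Cfsg.Agent.Lib.Helper5.OrthOdd

set_option autoImplicit false

namespace Cfsg.Agent.Lib.Helper5

open Matrix Cfsg
open scoped MatrixGroups

section mat2
variable {F : Type*} [Field F]

theorem ch_fin_two (m : Matrix (Fin 2) (Fin 2) F) : m * m = m.trace • m - m.det • (1 : Matrix (Fin 2) (Fin 2) F) := by
  ext i j
  fin_cases i <;> fin_cases j <;>
    simp [Matrix.mul_apply, Fin.sum_univ_two, Matrix.trace_fin_two, Matrix.det_fin_two] <;> ring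

theorem det_invol_fin_two (m : Matrix (Fin 2) (Fin 2) F) (hm : m * m = 1) (h1 : m ≠ 1)
    (hneg : m ≠ -1) : m.det = -1 := by
  have hch := ch_fin_two m
  rw [hm] at hch
  by_cases ht : m.trace = 0
  · rw [ht, zero_smul, zero_sub] at hch
    have := congrFun (congrFun hch 0) 0
    simp at this
    linear_combination this
  · exfalso
    have hm' : m = ((1 + m.det) / m.trace) • (1 : Matrix (Fin 2) (Fin 2) F) := by
      have : m.trace • m = (1 + m.det) • (1 : Matrix (Fin 2) (Fin 2) F) := by
        rw [add_smul, one_smul]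
        have h3 := hch
        rw [eq_sub_iff_add_eq] at h3
        exact h3.symm
      rw [div_eq_inv_mul, mul_smul, ← this, smul_smul, inv_mul_cancel₀ ht, one_smul]
    set c := (1 + m.det) / m.trace with hc
    have hcc : c * c = 1 := by
      have := hm
      rw [hm', smul_mul_smul_comm, mul_one] at this
      have := congrFun (congrFun this 0) 0
      simpa using this
    rcases mul_self_eq_one_iff.1 hcc with h | h
    · apply h1; rw [hm', h, one_smul]
    · apply hneg; rw [hm', h, neg_smul, one_smul]

theorem det_sq_neg_one_fin_two (hns : ¬ IsSquare (-1 : F)) (m : Matrix (Fin 2) (Fin 2) F)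
    (hm : m * m = -1) : m.det = 1 := by
  have hch := ch_fin_two m
  rw [hm] at hch
  by_cases ht : m.trace = 0
  · rw [ht, zero_smul, zero_sub] at hch
    have := congrFun (congrFun hch 0) 0
    simp at this
    linear_combination -this
  · exfalso
    have hm' : m = ((m.det - 1) / m.trace) • (1 : Matrix (Fin 2) (Fin 2) F) := by
      have : m.trace • m = (m.det - 1) • (1 : Matrix (Fin 2) (Fin 2) F) := by
        rw [sub_smul, one_smul]
        have h3 := hch
        rw [eq_sub_iff_add_eq] at h3
        rw [← h3]; abel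
      rw [div_eq_inv_mul, mul_smul, ← this, smul_smul, inv_mul_cancel₀ ht, one_smul]
    set c := (m.det - 1) / m.trace with hc
    apply hns
    refine ⟨c, ?_⟩
    have := hm
    rw [hm', smul_mul_smul_comm, mul_one] at this
    have := congrFun (congrFun this 0) 0
    simp at this
    rw [this]

/-- two commuting non-scalar involutions with the same determinant agree up to sign -/
theorem conj_pm_fin_two (h2 : (2 : F) ≠ 0) (a b : Matrix (Fin 2) (Fin 2) F) (ha : a * a = 1)
    (ha1 : a ≠ 1) (ha2 : a ≠ -1) (hb : b * b = 1) (hb1 : b ≠ 1) (hb2 : b ≠ -1)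
    (hcomm : a * b = b * a) : b = a ∨ b = -a := by
  have hda := det_invol_fin_two a ha ha1 ha2
  have hdb := det_invol_fin_two b hb hb1 hb2
  have hp : (a * b) * (a * b) = 1 := by
    calc (a * b) * (a * b) = a * (b * a) * b := by simp only [Matrix.mul_assoc]
      _ = a * (a * b) * b := by rw [hcomm]
      _ = (a * a) * (b * b) := by simp only [Matrix.mul_assoc]
      _ = 1 := by rw [ha, hb, Matrix.mul_one]
  have hdp : (a * b).det = 1 := by rw [Matrix.det_mul, hda, hdb]; ring
  have hb' : b = a * (a * b) := by rw [← Matrix.mul_assoc, ha, Matrix.one_mul]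
  by_cases h1 : a * b = 1
  · left; rw [hb', h1, Matrix.mul_one]
  · by_cases h2' : a * b = -1
    · right; rw [hb', h2', Matrix.mul_neg, Matrix.mul_one]
    · exfalso
      have := det_invol_fin_two (a * b) hp h1 h2'
      rw [hdp] at this
      apply h2
      linear_combination this

theorem no_sq_commute_fin_two (h2 : (2 : F) ≠ 0) (hns : ¬ IsSquare (-1 : F))
    (a u : Matrix (Fin 2) (Fin 2) F) (ha : a * a = 1) (ha1 : a ≠ 1) (ha2 : a ≠ -1)
    (hu : u * u = -1) (hcomm : u * a = a * u) : False := by
  have hda := det_invol_fin_two a ha ha1 ha2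
  have hdu := det_sq_neg_one_fin_two hns u hu
  have hp : (u * a) * (u * a) = -1 := by
    calc (u * a) * (u * a) = u * (a * u) * a := by simp only [Matrix.mul_assoc]
      _ = u * (u * a) * a := by rw [hcomm]
      _ = (u * u) * (a * a) := by simp only [Matrix.mul_assoc]
      _ = -1 := by rw [ha, hu, Matrix.mul_one]
  have hdp := det_sq_neg_one_fin_two hns (u * a) hp
  rw [Matrix.det_mul, hdu, hda] at hdp
  apply h2
  linear_combination -hdp

end mat2

end Cfsg.Agent.Lib.Helper5
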