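import Mathlib
import Cfsg.Agent.Lib.Helper5.NormalRankGL
import Cfsg.Agent.Lib.Helper5.NormalRankMat

set_option autoImplicit false

namespace Cfsg.Agent.Lib.Helper5

open Matrix Cfsg
open scoped MatrixGroups

section base
variable {F : Type*} [Field F] [Fintype F]

theorem card_le_two_of_scalar {n : ℕ} (i0 : Fin n) (h2 : (2 : F) ≠ 0)
    (S : Subgroup (GL (Fin n) F)) (E : Subgroup S)
    (h : ∀ e ∈ E, (((e : S) : GL (Fin n) F) : Matrix (Fin n) (Fin n) F) = 1 ∨
      (((e : S) : GL (Fin n) F) : Matrix (Fin n) (Fin n) F) = -1) : Nat.card E ≤ 2 := by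
  rw [← card_sq_eq_one h2]
  have hsq : ∀ e : E, (((e : S) : GL (Fin n) F) : Matrix (Fin n) (Fin n) F) i0 i0 *
      (((e : S) : GL (Fin n) F) : Matrix (Fin n) (Fin n) F) i0 i0 = 1 := by
    intro e
    rcases h e e.2 with h1 | h1 <;> rw [h1] <;> simp
  apply Nat.card_le_card_of_injective (fun e : E =>
    (⟨(((e : S) : GL (Fin n) F) : Matrix (Fin n) (Fin n) F) i0 i0, hsq e⟩ : {c : F // c * c = 1}))
  intro e f hef
  have hval : (((e : S) : GL (Fin n) F) : Matrix (Fin n) (Fin n) F) i0 i0 =
      (((f : S) : GL (Fin n) F) : Matrix (Fin n) (Fin n) F) i0 i0 := congrArg Subtype.val hef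
  apply Subtype.ext
  apply Subtype.ext
  apply Units.ext
  rcases h e e.2 with h1 | h1 <;> rcases h f f.2 with h3 | h3
  · rw [h1, h3]
  · exfalso
    rw [h1, h3] at hval
    simp at hval
    apply h2
    linear_combination hval
  · exfalso
    rw [h1, h3] at hval
    simp at hval
    apply h2
    linear_combination -hval
  · rw [h1, h3]

theorem two_ne_zero_of_odd' (hq : Odd (Fintype.card F)) : (2 : F) ≠ 0 := by
  intro h
  have hchar : ringChar F = 2 :=
    CharP.ringChar_of_prime_eq_zero Nat.prime_two (by exact_mod_cast h)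
  have := FiniteField.even_card_iff_char_two.mp hchar
  obtain ⟨j, hj⟩ := hq
  omega

theorem NS_one (hq : Odd (Fintype.card F)) : NS F 1 2 := by
  have h2 := two_ne_zero_of_odd' hq
  intro S
  have hcomm : ∀ a b : GL (Fin 1) F, a * b = b * a := by
    intro a b
    apply Units.ext
    ext i j
    have hi : i = 0 := Subsingleton.elim _ _
    have hj : j = 0 := Subsingleton.elim _ _
    subst hi hj
    simp [Matrix.mul_apply, mul_comm]
  constructor
  · obtain ⟨σ, hσ, hdσ⟩ := exists_invol (le_refl 1) S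
    have hσ1 : σ ≠ 1 := by
      intro h
      rw [h] at hdσ
      have : (1 : Fˣ) = -1 := by simpa using hdσ
      have := congrArg Units.val this
      simp at this
      apply h2
      linear_combination this
    refine ⟨Subgroup.zpowers σ, ⟨?_⟩, ⟨inferInstance, ?_⟩, ?_⟩
    · intro e he g
      have : g * e * g⁻¹ = e := by
        apply Subtype.ext
        show (g : GL (Fin 1) F) * e * (g : GL (Fin 1) F)⁻¹ = e
        rw [hcomm (g : GL (Fin 1) F) e, mul_inv_cancel_right]
      rw [this]; exact he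
    · intro a ha
      obtain ⟨j, rfl⟩ := Subgroup.mem_zpowers_iff.1 ha
      rw [← zpow_natCast, ← _root_.zpow_mul, mul_comm, _root_.zpow_mul, zpow_natCast, pow_two, hσ,
        _root_.one_zpow]
    · rw [Nat.card_zpowers]
      have : orderOf σ = 2 := orderOf_eq_prime (by rw [pow_two]; exact hσ) hσ1
      rw [this]
  · intro E _ hEe
    apply card_le_two_of_scalar (0 : Fin 1) h2 S.toSubgroup E
    intro e he
    have hsq := hEe.2 e he
    have hm : (((e : S.toSubgroup) : GL (Fin 1) F) : Matrix (Fin 1) (Fin 1) F) *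
        (((e : S.toSubgroup) : GL (Fin 1) F) : Matrix (Fin 1) (Fin 1) F) = 1 := by
      have := congrArg (fun x : S.toSubgroup => ((x : GL (Fin 1) F) : Matrix (Fin 1) (Fin 1) F)) hsq
      simpa [pow_two] using this
    set m := (((e : S.toSubgroup) : GL (Fin 1) F) : Matrix (Fin 1) (Fin 1) F) with hmdef
    have h00 : m 0 0 * m 0 0 = 1 := by
      have := congrFun (congrFun hm 0) 0
      simpa [Matrix.mul_apply] using this
    rcases mul_self_eq_one_iff.1 h00 with h | h
    · left
      ext i j
      have hi : i = 0 := Subsingleton.elim _ _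
      have hj : j = 0 := Subsingleton.elim _ _
      subst hi hj
      rw [h]; simp
    · right
      ext i j
      have hi : i = 0 := Subsingleton.elim _ _
      have hj : j = 0 := Subsingleton.elim _ _
      subst hi hj
      rw [h]; simp

/-- `-1` as an element of `GL` -/
theorem neg_one_mem_sylow {n : ℕ} (S : Sylow 2 (GL (Fin n) F)) :
    (-1 : GL (Fin n) F) ∈ S.toSubgroup := by
  have hzz : (-1 : GL (Fin n) F) * (-1) = 1 := by
    apply Units.ext; simp
  have hp : IsPGroup 2 (Subgroup.zpowers (-1 : GL (Fin n) F)) := by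
    rintro ⟨g, hg⟩
    refine ⟨1, ?_⟩
    obtain ⟨j, rfl⟩ := Subgroup.mem_zpowers_iff.1 hg
    apply Subtype.ext
    show ((-1 : GL (Fin n) F) ^ j) ^ (2 ^ 1) = 1
    rw [pow_one, ← zpow_natCast, ← _root_.zpow_mul, mul_comm, _root_.zpow_mul, zpow_natCast, pow_two,
      hzz, _root_.one_zpow]
  obtain ⟨S₀, hS₀⟩ := hp.exists_le_sylow
  obtain ⟨g, hg⟩ := MulAction.exists_smul_eq (GL (Fin n) F) S₀ S
  have hmem : g * (-1) * g⁻¹ ∈ S.toSubgroup := by
    rw [← hg]
    exact ⟨-1, hS₀ (Subgroup.mem_zpowers _), rfl⟩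
  have : g * (-1) * g⁻¹ = -1 := by
    apply Units.ext
    simp
  rwa [this] at hmem

theorem exists_fourth_root (hq3 : Fintype.card F % 4 = 3) :
    ∃ g : GL (Fin 2) F, g ^ 4 = -1 := by
  classical
  have hq : Odd (Fintype.card F) := ⟨Fintype.card F / 2, by omega⟩
  have h2 := two_ne_zero_of_odd' hq
  have hns : ¬ IsSquare (-1 : F) := by
    intro h
    exact (FiniteField.isSquare_neg_one_iff.1 h) hq3
  -- an element `a` with `2 a² = ±1`
  obtain ⟨a, ε, hε, ha⟩ : ∃ a ε : F, (ε = 1 ∨ ε = -1) ∧ 2 * (a * a) = ε := by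
    by_cases h2s : IsSquare (2 : F)
    · obtain ⟨r, hr⟩ := h2s
      have hr0 : r ≠ 0 := by
        rintro rfl
        apply h2; rw [hr]; ring
      refine ⟨1 / r, 1, Or.inl rfl, ?_⟩
      field_simp
      linear_combination hr
    · have hm2 : IsSquare (-2 : F) := by
        have hneg2 : (-2 : F) ≠ 0 := neg_ne_zero.2 h2
        rw [← quadraticChar_one_iff_isSquare hneg2]
        have e : (-2 : F) = (-1) * 2 := by ring
        rw [e, map_mul, quadraticChar_neg_one_iff_not_isSquare.2 hns,
          quadraticChar_neg_one_iff_not_isSquare.2 h2s]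
        rfl
      obtain ⟨r, hr⟩ := hm2
      have hr0 : r ≠ 0 := by
        rintro rfl
        apply h2
        have : (-2 : F) = 0 := by rw [hr]; ring
        linear_combination -this
      refine ⟨1 / r, -1, Or.inr rfl, ?_⟩
      field_simp
      linear_combination -hr
  let M : Matrix (Fin 2) (Fin 2) F := !![a, a; -a, a]
  have hM2 : M * M = ε • !![(0 : F), 1; -1, 0] := by
    ext i j
    fin_cases i <;> fin_cases j
    · simp [M, Matrix.mul_apply, Fin.sum_univ_two]
    · simp [M, Matrix.mul_apply, Fin.sum_univ_two]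
      linear_combination ha
    · simp [M, Matrix.mul_apply, Fin.sum_univ_two]
      linear_combination -ha
    · simp [M, Matrix.mul_apply, Fin.sum_univ_two]
  have hJ : !![(0 : F), 1; -1, 0] * !![(0 : F), 1; -1, 0] = -1 := by
    ext i j
    fin_cases i <;> fin_cases j <;> simp [Matrix.mul_apply, Fin.sum_univ_two]
  have hεε : ε * ε = 1 := by rcases hε with h | h <;> rw [h] <;> ring
  have hM4 : M * M * (M * M) = -1 := by
    rw [hM2, smul_mul_smul_comm, hJ, hεε, one_smul]
  have hdet : M.det ≠ 0 := by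
    intro h0
    have := congrArg Matrix.det hM4
    rw [Matrix.det_mul, Matrix.det_mul, h0, Matrix.det_neg, Matrix.det_one] at this
    simp at this
  refine ⟨Matrix.GeneralLinearGroup.mkOfDetNeZero M hdet, ?_⟩
  apply Units.ext
  rw [Units.val_pow_eq_pow_val]
  show M ^ 4 = -1
  rw [show (4 : ℕ) = 2 + 2 from rfl, pow_add, pow_two, hM4]

theorem exists_fourth_root_mem (hq3 : Fintype.card F % 4 = 3) (S : Sylow 2 (GL (Fin 2) F)) :
    ∃ s : S.toSubgroup, ((s : GL (Fin 2) F)) ^ 4 = -1 := by
  obtain ⟨g, hg⟩ := exists_fourth_root hq3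
  have hg8 : g ^ 8 = 1 := by
    rw [show (8 : ℕ) = 4 * 2 from rfl, pow_mul, hg]
    apply Units.ext; simp
  have hp : IsPGroup 2 (Subgroup.zpowers g) := by
    rintro ⟨x, hx⟩
    refine ⟨3, ?_⟩
    obtain ⟨j, rfl⟩ := Subgroup.mem_zpowers_iff.1 hx
    apply Subtype.ext
    show (g ^ j) ^ (2 ^ 3) = 1
    rw [← zpow_natCast, ← _root_.zpow_mul, mul_comm, _root_.zpow_mul, zpow_natCast]
    norm_num
    rw [hg8, _root_.one_zpow]
  obtain ⟨S₀, hS₀⟩ := hp.exists_le_sylow
  obtain ⟨c, hc⟩ := MulAction.exists_smul_eq (GL (Fin 2) F) S₀ S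
  have hmem : c * g * c⁻¹ ∈ S.toSubgroup := by
    rw [← hc]
    exact ⟨g, hS₀ (Subgroup.mem_zpowers g), rfl⟩
  refine ⟨⟨c * g * c⁻¹, hmem⟩, ?_⟩
  show (c * g * c⁻¹) ^ 4 = -1
  rw [conj_pow, hg]
  apply Units.ext
  simp

theorem NS_two (hq3 : Fintype.card F % 4 = 3) : NS F 2 2 := by
  classical
  have hq : Odd (Fintype.card F) := ⟨Fintype.card F / 2, by omega⟩
  have h2 := two_ne_zero_of_odd' hq
  have hns : ¬ IsSquare (-1 : F) := fun h => (FiniteField.isSquare_neg_one_iff.1 h) hq3
  intro S
  let mat : S.toSubgroup → Matrix (Fin 2) (Fin 2) F := fun x => ((x : GL (Fin 2) F) : Matrix _ _ F)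
  have mat_mul : ∀ x y, mat (x * y) = mat x * mat y := fun x y => rfl
  have mat_one : mat 1 = 1 := rfl
  have mat_inj : ∀ x y, mat x = mat y → x = y := by
    intro x y h
    apply Subtype.ext
    apply Units.ext
    exact h
  constructor
  · have hz := neg_one_mem_sylow S
    let z : S.toSubgroup := ⟨-1, hz⟩
    have hmz : mat z = -1 := rfl
    have hzz : z * z = 1 := by
      apply mat_inj
      rw [mat_mul, hmz, mat_one]; simp
    have hz1 : z ≠ 1 := by
      intro h
      have := congrArg (fun x => mat x 0 0) h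
      simp only [hmz, mat_one] at this
      simp at this
      apply h2
      linear_combination -this
    have hzc : ∀ g : S.toSubgroup, Commute g z := by
      intro g
      apply mat_inj
      rw [mat_mul, mat_mul, hmz]; simp
    refine ⟨Subgroup.zpowers z, ⟨?_⟩, ⟨inferInstance, ?_⟩, ?_⟩
    · intro e he g
      obtain ⟨j, rfl⟩ := Subgroup.mem_zpowers_iff.1 he
      have hc : g * z ^ j = z ^ j * g := (hzc g).zpow_right j
      rw [hc, mul_inv_cancel_right]
      exact he
    · intro a ha
      obtain ⟨j, rfl⟩ := Subgroup.mem_zpowers_iff.1 ha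
      rw [← zpow_natCast, ← _root_.zpow_mul, mul_comm, _root_.zpow_mul, zpow_natCast, pow_two, hzz,
        _root_.one_zpow]
    · rw [Nat.card_zpowers]
      have : orderOf z = 2 := orderOf_eq_prime (by rw [pow_two]; exact hzz) hz1
      rw [this]
  · intro E hEn hEe
    by_contra hgt
    push_neg at hgt
    have hex : ∃ e ∈ E, mat e ≠ 1 ∧ mat e ≠ -1 := by
      by_contra hcon
      push_neg at hcon
      have := card_le_two_of_scalar (0 : Fin 2) h2 S.toSubgroup E (fun e he => by
        by_cases h1 : mat e = 1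
        · left; exact h1
        · right; exact hcon e he h1)
      omega
    obtain ⟨e, heE, he1, he2⟩ := hex
    obtain ⟨s, hs4⟩ := exists_fourth_root_mem hq3 S
    have ha : mat e * mat e = 1 := by
      have := hEe.2 e heE
      rw [pow_two] at this
      rw [← mat_mul, this, mat_one]
    have hss' : mat s * mat s⁻¹ = 1 := by rw [← mat_mul, mul_inv_cancel, mat_one]
    have hs's : mat s⁻¹ * mat s = 1 := by rw [← mat_mul, inv_mul_cancel, mat_one]
    have he'E : s * e * s⁻¹ ∈ E := hEn.conj_mem e heE s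
    have hbdef : mat (s * e * s⁻¹) = mat s * mat e * mat s⁻¹ := by rw [mat_mul, mat_mul]
    have hb : mat (s * e * s⁻¹) * mat (s * e * s⁻¹) = 1 := by
      have := hEe.2 _ he'E
      rw [pow_two] at this
      rw [← mat_mul, this, mat_one]
    have hrec : mat e = mat s⁻¹ * mat (s * e * s⁻¹) * mat s := by
      rw [hbdef]
      calc mat e = (mat s⁻¹ * mat s) * mat e * (mat s⁻¹ * mat s) := by
            rw [hs's, Matrix.one_mul, Matrix.mul_one]
        _ = mat s⁻¹ * (mat s * mat e * mat s⁻¹) * mat s := by simp only [Matrix.mul_assoc]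
    have hb1 : mat (s * e * s⁻¹) ≠ 1 := by
      intro h
      apply he1
      rw [hrec, h, Matrix.mul_one, hs's]
    have hb2 : mat (s * e * s⁻¹) ≠ -1 := by
      intro h
      apply he2
      rw [hrec, h, Matrix.mul_neg, Matrix.mul_one, Matrix.neg_mul, hs's]
    have hcomm : mat e * mat (s * e * s⁻¹) = mat (s * e * s⁻¹) * mat e := by
      have := hEe.1.is_comm.comm ⟨e, heE⟩ ⟨s * e * s⁻¹, he'E⟩
      have h3 : e * (s * e * s⁻¹) = (s * e * s⁻¹) * e := congrArg Subtype.val this
      rw [← mat_mul, ← mat_mul, h3]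
    have hpm := conj_pm_fin_two h2 (mat e) (mat (s * e * s⁻¹)) ha he1 he2 hb hb1 hb2 hcomm
    -- `s² ` commutes with `e`
    have hse : mat s * mat e = mat e * mat s ∨ mat s * mat e = -(mat e * mat s) := by
      have h4 : mat s * mat e = mat (s * e * s⁻¹) * mat s := by
        rw [hbdef, Matrix.mul_assoc, hs's, Matrix.mul_one]
      rcases hpm with h | h
      · left; rw [h4, h]
      · right; rw [h4, h, Matrix.neg_mul]
    have hu : (mat s * mat s) * (mat s * mat s) = -1 := by
      have := congrArg (fun x : GL (Fin 2) F => (x : Matrix (Fin 2) (Fin 2) F)) hs4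
      simp only [Units.val_pow_eq_pow_val] at this
      rw [show (4 : ℕ) = 2 + 2 from rfl, pow_add, pow_two] at this
      exact this
    have hcu : (mat s * mat s) * mat e = mat e * (mat s * mat s) := by
      rcases hse with h | h
      · rw [Matrix.mul_assoc, h, ← Matrix.mul_assoc, h, Matrix.mul_assoc]
      · rw [Matrix.mul_assoc, h, Matrix.mul_neg, ← Matrix.mul_assoc, h, Matrix.neg_mul, neg_neg,
          Matrix.mul_assoc]
    exact no_sq_commute_fin_two h2 hns (mat e) (mat s * mat s) ha he1 he2 hu hcu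

end base

end Cfsg.Agent.Lib.Helper5
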