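import Mathlib
import Cfsg.Agent.Lib.Helper5.NormalRankBase

set_option autoImplicit false

namespace Cfsg.Agent.Lib.Helper5

open Matrix Cfsg
open scoped MatrixGroups

section ind
variable {F : Type*} [Field F] [Fintype F]

theorem vGL_three_odd {q : ℕ} (hq : q % 4 = 3) (m : ℕ) :
    vGL q (2 * m + 1) = m * (cq q + 1) + s2 m + 1 := by
  unfold vGL
  rw [Finset.sum_range_succ, sum_val_three hq m]
  have t1 : padicValNat 2 (q ^ (2 * m + 1) - 1) = 1 := by
    apply padicValNat_two_of_mod_four
    have := pow_odd_mod_four hq m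
    have hpos : 0 < q ^ (2 * m + 1) := pow_pos (by omega) _
    omega
  rw [t1]

theorem two_le_padicValNat_sub_one {q : ℕ} (hq : q % 4 = 1) (h1 : 1 < q) :
    2 ≤ padicValNat 2 (q - 1) := by
  have hd : 2 ^ 2 ∣ q - 1 := by
    norm_num
    omega
  exact (padicValNat_dvd_iff_le (by omega)).1 hd

/-- `q ≡ 1 mod 4`: normal 2-rank `n`. -/
theorem NS_all_one (hq1 : Fintype.card F % 4 = 1) : ∀ n, 1 ≤ n → NS F n (2 ^ n) := by
  have hq : Odd (Fintype.card F) := ⟨Fintype.card F / 2, by omega⟩
  have h1 : 1 < Fintype.card F := Fintype.one_lt_card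
  have ha := two_le_padicValNat_sub_one hq1 h1
  intro n
  induction n using Nat.strong_induction_on with
  | _ n ih =>
    intro hn
    rcases Nat.lt_or_ge n 2 with h2 | h2
    · obtain rfl : n = 1 := by omega
      simpa using NS_one hq
    · obtain ⟨k, hk⟩ : ∃ k, k = Nat.log 2 n := ⟨_, rfl⟩
      have hk1 : 1 ≤ k := by
        rw [hk]
        exact Nat.log_pos (by norm_num) h2
      have hle : 2 ^ k ≤ n := by rw [hk]; exact Nat.pow_log_le_self 2 (by omega)
      have hlt : n < 2 ^ (k + 1) := by rw [hk]; exact Nat.lt_pow_succ_log_self (by norm_num) n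
      rcases Nat.eq_or_lt_of_le hle with heq | hlt'
      · obtain ⟨j, rfl⟩ : ∃ j, k = j + 1 := ⟨k - 1, by omega⟩
        have hn' : n = 2 ^ j + 2 ^ j := by rw [← heq, pow_succ]; ring
        have hjpos : 1 ≤ 2 ^ j := Nat.one_le_two_pow
        have IH := ih (2 ^ j) (by omega) hjpos
        have hbig : 2 ^ (2 ^ j) < 2 ^ vGL (Fintype.card F) (2 ^ j) := by
          apply Nat.pow_lt_pow_right (by norm_num)
          rw [vGL_one hq1 h1]
          nlinarith
        have harith : 2 * vGL (Fintype.card F) (2 ^ j) + 1 =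
            vGL (Fintype.card F) (2 ^ j + 2 ^ j) := by
          rw [vGL_one hq1 h1, vGL_one hq1 h1]
          have h1' := s2_two_mul (2 ^ j)
          have h2' := s2_two_pow j
          rw [two_mul] at h1'
          rw [h1']
          have : (2 ^ j + 2 ^ j) * padicValNat 2 (Fintype.card F - 1) =
              2 * (2 ^ j * padicValNat 2 (Fintype.card F - 1)) := by ring
          rw [this]
          omega
        have := NS_double hq (2 ^ j) (2 ^ (2 ^ j)) hjpos IH hbig harith
        rw [← pow_add, ← hn'] at this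
        exact this
      · obtain ⟨r, hr⟩ : ∃ r, n = 2 ^ k + r := ⟨n - 2 ^ k, by omega⟩
        have hr0 : 0 < r := by omega
        have hrlt : r < 2 ^ k := by rw [pow_succ] at hlt; omega
        have IHm := ih (2 ^ k) (by omega) Nat.one_le_two_pow
        have IHr := ih r (by omega) hr0
        have harith : vGL (Fintype.card F) (2 ^ k) + vGL (Fintype.card F) r =
            vGL (Fintype.card F) (2 ^ k + r) := by
          rw [vGL_one hq1 h1, vGL_one hq1 h1, vGL_one hq1 h1, s2_add hrlt]
          ring
        have := NS_prod hq (2 ^ k) r _ _ IHm IHr harith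
        rw [← pow_add, ← hr] at this
        exact this

/-- `q ≡ 3 mod 4`: normal 2-rank `⌈n/2⌉`. -/
theorem NS_all_three (hq3 : Fintype.card F % 4 = 3) :
    ∀ n, 1 ≤ n → NS F n (2 ^ ((n + 1) / 2)) := by
  have hq : Odd (Fintype.card F) := ⟨Fintype.card F / 2, by omega⟩
  have hcq : 1 ≤ cq (Fintype.card F) := by
    unfold cq
    have : 1 ≤ padicValNat 2 (Fintype.card F + 1) := by
      apply one_le_padicValNat_of_dvd (by omega)
      omega
    omega
  intro n
  induction n using Nat.strong_induction_on with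
  | _ n ih =>
    intro hn
    rcases Nat.lt_or_ge n 3 with h3 | h3
    · rcases (by omega : n = 1 ∨ n = 2) with rfl | rfl
      · simpa using NS_one hq
      · simpa using NS_two hq3
    · obtain ⟨k, hk⟩ : ∃ k, k = Nat.log 2 n := ⟨_, rfl⟩
      have hk1 : 1 ≤ k := by
        rw [hk]
        exact Nat.log_pos (by norm_num) (by omega)
      have hle : 2 ^ k ≤ n := by rw [hk]; exact Nat.pow_log_le_self 2 (by omega)
      have hlt : n < 2 ^ (k + 1) := by rw [hk]; exact Nat.lt_pow_succ_log_self (by norm_num) n
      obtain ⟨j, rfl⟩ : ∃ j, k = j + 1 := ⟨k - 1, by omega⟩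
      have e2k : 2 ^ (j + 1) = 2 * 2 ^ j := by rw [pow_succ]; ring
      have hjpos : 1 ≤ 2 ^ j := Nat.one_le_two_pow
      rcases Nat.eq_or_lt_of_le hle with heq | hlt'
      · -- n = 2^(j+1), j ≥ 1
        have hj1 : 1 ≤ j := by
          by_contra hcon
          have : j = 0 := by omega
          subst this
          norm_num at heq
          omega
        obtain ⟨i, rfl⟩ : ∃ i, j = i + 1 := ⟨j - 1, by omega⟩
        have e2j : 2 ^ (i + 1) = 2 * 2 ^ i := by rw [pow_succ]; ring
        have hipos : 1 ≤ 2 ^ i := Nat.one_le_two_pow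
        have hn' : n = 2 ^ (i + 1) + 2 ^ (i + 1) := by rw [← heq, e2k]; ring
        have IH := ih (2 ^ (i + 1)) (by omega) Nat.one_le_two_pow
        have hb : (2 ^ (i + 1) + 1) / 2 = 2 ^ i := by rw [e2j]; omega
        rw [hb] at IH
        have hbig : 2 ^ (2 ^ i) < 2 ^ vGL (Fintype.card F) (2 ^ (i + 1)) := by
          apply Nat.pow_lt_pow_right (by norm_num)
          rw [e2j, vGL_three hq3]
          nlinarith
        have harith : 2 * vGL (Fintype.card F) (2 ^ (i + 1)) + 1 =
            vGL (Fintype.card F) (2 ^ (i + 1) + 2 ^ (i + 1)) := by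
          have e1 : 2 ^ (i + 1) + 2 ^ (i + 1) = 2 * (2 ^ i + 2 ^ i) := by rw [e2j]; ring
          rw [e1, e2j, vGL_three hq3, vGL_three hq3]
          have h1' := s2_two_mul (2 ^ i)
          have h2' := s2_two_pow i
          rw [two_mul] at h1'
          rw [h1']
          have : (2 ^ i + 2 ^ i) * (cq (Fintype.card F) + 1) =
              2 * (2 ^ i * (cq (Fintype.card F) + 1)) := by ring
          rw [this]
          omega
        have := NS_double hq (2 ^ (i + 1)) (2 ^ (2 ^ i)) Nat.one_le_two_pow IH hbig harith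
        have hb' : (n + 1) / 2 = 2 ^ i + 2 ^ i := by rw [hn', e2j]; omega
        rw [← pow_add, ← hn', ← hb'] at this
        exact this
      · obtain ⟨r, hr⟩ : ∃ r, n = 2 ^ (j + 1) + r := ⟨n - 2 ^ (j + 1), by omega⟩
        have hr0 : 0 < r := by omega
        have hrlt : r < 2 ^ (j + 1) := by rw [pow_succ] at hlt; omega
        have IHm := ih (2 ^ (j + 1)) (by omega) Nat.one_le_two_pow
        have IHr := ih r (by omega) hr0
        have hb1 : (2 ^ (j + 1) + 1) / 2 = 2 ^ j := by rw [e2k]; omega
        rw [hb1] at IHm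
        have harith : vGL (Fintype.card F) (2 ^ (j + 1)) + vGL (Fintype.card F) r =
            vGL (Fintype.card F) (2 ^ (j + 1) + r) := by
          rcases Nat.even_or_odd' r with ⟨r', hr' | hr'⟩
          · have hr'lt : r' < 2 ^ j := by omega
            have e1 : 2 ^ (j + 1) + r = 2 * (2 ^ j + r') := by rw [e2k, hr']; ring
            rw [e1, e2k, hr', vGL_three hq3, vGL_three hq3, vGL_three hq3, s2_add hr'lt]
            ring
          · have hr'lt : r' < 2 ^ j := by omega
            have e1 : 2 ^ (j + 1) + r = 2 * (2 ^ j + r') + 1 := by rw [e2k, hr']; ring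
            rw [e1, e2k, hr', vGL_three hq3, vGL_three_odd hq3, vGL_three_odd hq3, s2_add hr'lt]
            ring
        have := NS_prod hq (2 ^ (j + 1)) r _ _ IHm IHr harith
        have hb' : (n + 1) / 2 = 2 ^ j + (r + 1) / 2 := by rw [hr, e2k]; omega
        rw [← pow_add, ← hr, ← hb'] at this
        exact this

end ind

end Cfsg.Agent.Lib.Helper5
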