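import Mathlib
import Cfsg.Agent.Lib.Helper36.PsoInn
import Cfsg.Agent.Lib.Helper36.OrthSumOdd
import Cfsg.Agent.Lib.Helper44.DiagOrth
import Cfsg.Agent.Lib.Helper5.GLEmbed

set_option autoImplicit false

namespace Cfsg.Agent.Lib.Helper5

open Matrix Cfsg.Agent.Lib.Helper13 Cfsg.Agent.Lib.Helper36 Cfsg.Agent.Lib.Helper44

variable {F : Type*} [Field F] [Fintype F] [DecidableEq F]

section delta
variable {ι : Type} [Fintype ι] [DecidableEq ι]

/-- the spinor norm on the matrix isometry group -/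
noncomputable def spinM (Q : QuadraticForm F (ι → F))
    (hQ : (QuadraticMap.polarBilin Q).Nondegenerate) (h2 : (2 : F) ≠ 0) :
    ↥(Cfsg.isometryGroup F (⇑Q)) →* ℤˣ :=
  MonoidHom.toHomUnits
    { toFun := fun g => spin Q (glLinEquiv ι F (g : GL ι F))
      map_one' := by
        show spin Q (glLinEquiv ι F (1 : GL ι F)) = 1
        rw [map_one]
        exact spin_one Q
      map_mul' := fun a b => spin_mul_matrix Q hQ h2 a b a.2 b.2 }

theorem spinM_val (Q : QuadraticForm F (ι → F))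
    (hQ : (QuadraticMap.polarBilin Q).Nondegenerate) (h2 : (2 : F) ≠ 0)
    (g : ↥(Cfsg.isometryGroup F (⇑Q))) :
    ((spinM Q hQ h2 g : ℤˣ) : ℤ) = spin Q (glLinEquiv ι F (g : GL ι F)) := rfl

/-- determinant and spinor norm -/
noncomputable def delta (Q : QuadraticForm F (ι → F))
    (hQ : (QuadraticMap.polarBilin Q).Nondegenerate) (h2 : (2 : F) ≠ 0) :
    ↥(Cfsg.isometryGroup F (⇑Q)) →* Fˣ × ℤˣ :=
  (Matrix.GeneralLinearGroup.det.comp (Cfsg.isometryGroup F (⇑Q)).subtype).prod (spinM Q hQ h2)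

theorem delta_apply (Q : QuadraticForm F (ι → F))
    (hQ : (QuadraticMap.polarBilin Q).Nondegenerate) (h2 : (2 : F) ≠ 0)
    (g : ↥(Cfsg.isometryGroup F (⇑Q))) :
    delta Q hQ h2 g = (Matrix.GeneralLinearGroup.det (g : GL ι F), spinM Q hQ h2 g) := rfl

theorem det_isometry (Q : QuadraticForm F (ι → F))
    (hQ : (QuadraticMap.polarBilin Q).Nondegenerate) (g : ↥(Cfsg.isometryGroup F (⇑Q))) :
    Matrix.GeneralLinearGroup.det (g : GL ι F) = 1 ∨
      Matrix.GeneralLinearGroup.det (g : GL ι F) = -1 := by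
  rcases isometry_det_sq Q hQ g.1 g.2 with h | h
  · left; apply Units.ext; exact h
  · right; apply Units.ext; rw [Units.val_neg]; exact h

theorem delta_mul_self (Q : QuadraticForm F (ι → F))
    (hQ : (QuadraticMap.polarBilin Q).Nondegenerate) (h2 : (2 : F) ≠ 0)
    (g : ↥(Cfsg.isometryGroup F (⇑Q))) : delta Q hQ h2 g * delta Q hQ h2 g = 1 := by
  rw [delta_apply]
  apply Prod.ext
  · show Matrix.GeneralLinearGroup.det (g : GL ι F) * Matrix.GeneralLinearGroup.det (g : GL ι F) = 1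
    rcases det_isometry Q hQ g with h | h <;> rw [h] <;> simp
  · show spinM Q hQ h2 g * spinM Q hQ h2 g = 1
    exact units_int_mul_self _

theorem mem_Omega_iff_delta (Q : QuadraticForm F (ι → F))
    (hQ : (QuadraticMap.polarBilin Q).Nondegenerate) (h2 : (2 : F) ≠ 0)
    (hdim : 2 ≤ Fintype.card ι) (t : ↥(Cfsg.isometryGroup F (⇑Q))) :
    t ∈ Cfsg.Omega F (⇑Q) ↔ delta Q hQ h2 t = 1 := by
  rw [mem_Omega_iff_par_spin Q hQ h2 hdim t, ← det_eq_one_iff_par Q hQ h2 t.1 t.2, delta_apply,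
    Prod.ext_iff]
  constructor
  · rintro ⟨h1, h3⟩
    refine ⟨?_, ?_⟩
    · apply Units.ext
      exact h1
    · apply Units.ext
      exact h3
  · rintro ⟨h1, h3⟩
    refine ⟨?_, ?_⟩
    · exact congrArg Units.val h1
    · exact congrArg Units.val h3

/-- the two reflection types -/
def cSq : Fˣ × ℤˣ := (-1, 1)
def cNs : Fˣ × ℤˣ := (-1, -1)

omit [Fintype F] [DecidableEq F] in
theorem cSq_mul_self : (cSq : Fˣ × ℤˣ) * cSq = 1 := by
  apply Prod.ext <;> simp [cSq]

omit [Fintype F] [DecidableEq F] in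
theorem cNs_mul_self : (cNs : Fˣ × ℤˣ) * cNs = 1 := by
  apply Prod.ext <;> simp [cNs]

omit [Fintype F] [DecidableEq F] in
theorem cSq_ne_cNs : (cSq : Fˣ × ℤˣ) ≠ cNs := by
  intro h
  have := congrArg Prod.snd h
  revert this
  simp [cSq, cNs]

omit [Fintype F] [DecidableEq F] in
theorem neg_one_units_ne_one (h2 : (2 : F) ≠ 0) : (-1 : Fˣ) ≠ 1 := by
  intro h
  have h1 := congrArg Units.val h
  rw [Units.val_neg, Units.val_one] at h1
  apply h2
  have : (2 : F) = 1 - -1 := by ring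
  rw [this, h1, sub_self]

omit [Fintype F] [DecidableEq F] in
theorem cSq_ne_one (h2 : (2 : F) ≠ 0) : (cSq : Fˣ × ℤˣ) ≠ 1 := by
  intro h
  exact neg_one_units_ne_one h2 (congrArg Prod.fst h)

omit [Fintype F] [DecidableEq F] in
theorem cNs_ne_one (h2 : (2 : F) ≠ 0) : (cNs : Fˣ × ℤˣ) ≠ 1 := by
  intro h
  exact neg_one_units_ne_one h2 (congrArg Prod.fst h)

theorem delta_type_of_det (Q : QuadraticForm F (ι → F))
    (hQ : (QuadraticMap.polarBilin Q).Nondegenerate) (h2 : (2 : F) ≠ 0)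
    (g : ↥(Cfsg.isometryGroup F (⇑Q)))
    (hdet : Matrix.GeneralLinearGroup.det (g : GL ι F) = -1) :
    delta Q hQ h2 g = cSq ∨ delta Q hQ h2 g = cNs := by
  rw [delta_apply, hdet]
  rcases Int.units_eq_one_or (spinM Q hQ h2 g) with h | h
  · left; rw [h]; rfl
  · right; rw [h]; rfl

end delta

end Cfsg.Agent.Lib.Helper5
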