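import Mathlib
import Cfsg.Agent.Lib.Helper5.OrthDelta
import Cfsg.Agent.Lib.Helper36.OrthSumMatrix

set_option autoImplicit false

namespace Cfsg.Agent.Lib.Helper5

open Matrix Cfsg.Agent.Lib.Helper13 Cfsg.Agent.Lib.Helper36 Cfsg.Agent.Lib.Helper44

variable {F : Type*} [Field F]

section block
variable {ι₁ ι₂ κ : Type} [Fintype ι₁] [DecidableEq ι₁] [Fintype ι₂] [DecidableEq ι₂]
  [Fintype κ] [DecidableEq κ]

/-- the splitting of `κ → F` along `σ` -/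
noncomputable def splitE (σ : ι₁ ⊕ ι₂ ≃ κ) : (κ → F) ≃ₗ[F] (ι₁ → F) × (ι₂ → F) :=
  (LinearEquiv.funCongrLeft F F σ).trans (sumSplit ι₁ ι₂ F)

theorem splitE_apply (σ : ι₁ ⊕ ι₂ ≃ κ) (v : κ → F) :
    splitE σ v = (fun i => v (σ (Sum.inl i)), fun j => v (σ (Sum.inr j))) := rfl

theorem splitE_symm_apply (σ : ι₁ ⊕ ι₂ ≃ κ) (a : ι₁ → F) (b : ι₂ → F) :
    (splitE σ).symm (a, b) = fun k => Sum.elim a b (σ.symm k) := by
  apply (splitE σ).injective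
  rw [LinearEquiv.apply_symm_apply, splitE_apply]
  simp

theorem wssF_split (σ : ι₁ ⊕ ι₂ ≃ κ) (w : κ → F) (v : κ → F) :
    wssF w v = wssF (fun i => w (σ (Sum.inl i))) (fun i => v (σ (Sum.inl i))) +
      wssF (fun j => w (σ (Sum.inr j))) (fun j => v (σ (Sum.inr j))) := by
  rw [wssF_apply, wssF_apply, wssF_apply, ← Equiv.sum_comp σ, Fintype.sum_sum_type]

theorem blk_mulVec (σ : ι₁ ⊕ ι₂ ≃ κ) (a : Matrix ι₁ ι₁ F) (b : Matrix ι₂ ι₂ F) (v : κ → F) :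
    (Matrix.reindex σ σ (Matrix.fromBlocks a 0 0 b)) *ᵥ v =
      fun k => Sum.elim (a *ᵥ (fun i => v (σ (Sum.inl i)))) (b *ᵥ fun j => v (σ (Sum.inr j)))
        (σ.symm k) := by
  rw [Matrix.reindex_apply, Matrix.submatrix_mulVec_equiv, fromBlocks_diag_mulVec]
  rfl

/-- block-diagonal embedding along `σ` -/
noncomputable def blkGL (σ : ι₁ ⊕ ι₂ ≃ κ) : GL ι₁ F × GL ι₂ F →* GL κ F :=
  (glReindex σ).toMonoidHom.comp glProd

theorem blkGL_val (σ : ι₁ ⊕ ι₂ ≃ κ) (x : GL ι₁ F × GL ι₂ F) :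
    ((blkGL σ x : GL κ F) : Matrix κ κ F) =
      Matrix.reindex σ σ (Matrix.fromBlocks (x.1 : Matrix ι₁ ι₁ F) 0 0 (x.2 : Matrix ι₂ ι₂ F)) :=
  rfl

theorem blkGL_injective (σ : ι₁ ⊕ ι₂ ≃ κ) :
    Function.Injective (blkGL σ : GL ι₁ F × GL ι₂ F →* GL κ F) := by
  intro x y h
  exact glProd_injective ((glReindex σ).injective h)

theorem det_blkGL (σ : ι₁ ⊕ ι₂ ≃ κ) (x : GL ι₁ F × GL ι₂ F) :
    Matrix.GeneralLinearGroup.det (blkGL σ x) =
      Matrix.GeneralLinearGroup.det x.1 * Matrix.GeneralLinearGroup.det x.2 := by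
  show Matrix.GeneralLinearGroup.det (glReindex σ (glProd x)) = _
  rw [det_glReindex, det_glProd]

theorem blkGL_mem (σ : ι₁ ⊕ ι₂ ≃ κ) (w : κ → F) (a : GL ι₁ F) (b : GL ι₂ F)
    (ha : a ∈ Cfsg.isometryGroup F (⇑(wssF (fun i => w (σ (Sum.inl i))))))
    (hb : b ∈ Cfsg.isometryGroup F (⇑(wssF (fun j => w (σ (Sum.inr j)))))) :
    blkGL σ (a, b) ∈ Cfsg.isometryGroup F (⇑(wssF w)) := by
  rw [Cfsg.Agent.Lib.Helper13.mem_isometryGroup_iff] at ha hb ⊢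
  intro v
  rw [blkGL_val, blk_mulVec, wssF_split σ w, wssF_split σ w v]
  simp only [Equiv.symm_apply_apply, Sum.elim_inl, Sum.elim_inr]
  rw [ha, hb]

/-- block-diagonal embedding of isometry groups -/
noncomputable def blkO (σ : ι₁ ⊕ ι₂ ≃ κ) (w : κ → F) :
    ↥(Cfsg.isometryGroup F (⇑(wssF (fun i => w (σ (Sum.inl i)))))) ×
      ↥(Cfsg.isometryGroup F (⇑(wssF (fun j => w (σ (Sum.inr j)))))) →*
      ↥(Cfsg.isometryGroup F (⇑(wssF w))) :=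
  ((blkGL σ).comp (MonoidHom.prodMap (Subgroup.subtype _) (Subgroup.subtype _))).codRestrict _
    (fun x => blkGL_mem σ w x.1.1 x.2.1 x.1.2 x.2.2)

theorem blkO_val (σ : ι₁ ⊕ ι₂ ≃ κ) (w : κ → F)
    (x : ↥(Cfsg.isometryGroup F (⇑(wssF (fun i => w (σ (Sum.inl i)))))) ×
      ↥(Cfsg.isometryGroup F (⇑(wssF (fun j => w (σ (Sum.inr j))))))) :
    ((blkO σ w x : ↥(Cfsg.isometryGroup F (⇑(wssF w)))) : GL κ F) = blkGL σ (x.1.1, x.2.1) := rfl

theorem blkO_injective (σ : ι₁ ⊕ ι₂ ≃ κ) (w : κ → F) : Function.Injective (blkO σ w) := by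
  intro x y h
  have h1 := congrArg Subtype.val h
  rw [blkO_val, blkO_val] at h1
  have h3 := blkGL_injective σ h1
  exact Prod.ext (Subtype.ext (congrArg Prod.fst h3)) (Subtype.ext (congrArg Prod.snd h3))

end block

section blockdelta
variable [Fintype F] [DecidableEq F]
variable {ι₁ ι₂ κ : Type} [Fintype ι₁] [DecidableEq ι₁] [Fintype ι₂] [DecidableEq ι₂]
  [Fintype κ] [DecidableEq κ]

theorem glLinEquiv_blk_inl (σ : ι₁ ⊕ ι₂ ≃ κ) (a : GL ι₁ F) :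
    glLinEquiv κ F (blkGL σ (a, 1)) = inlE (splitE σ) (glLinEquiv ι₁ F a) := by
  apply LinearEquiv.ext
  intro v
  rw [glLinEquiv_apply, blkGL_val, blk_mulVec, inlE_apply, splitE_apply, splitE_symm_apply]
  funext k
  simp only [glLinEquiv_apply]
  congr 2
  show ((1 : GL ι₂ F) : Matrix ι₂ ι₂ F) *ᵥ _ = _
  rw [Units.val_one, Matrix.one_mulVec]

theorem glLinEquiv_blk_inr (σ : ι₁ ⊕ ι₂ ≃ κ) (b : GL ι₂ F) :
    glLinEquiv κ F (blkGL σ (1, b)) = inrE (splitE σ) (glLinEquiv ι₂ F b) := by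
  apply LinearEquiv.ext
  intro v
  rw [glLinEquiv_apply, blkGL_val, blk_mulVec, inrE_apply, splitE_apply, splitE_symm_apply]
  funext k
  simp only [glLinEquiv_apply]
  congr 2
  show ((1 : GL ι₁ F) : Matrix ι₁ ι₁ F) *ᵥ _ = _
  rw [Units.val_one, Matrix.one_mulVec]

theorem delta_blkO (σ : ι₁ ⊕ ι₂ ≃ κ) (w : κ → F) (hw : ∀ k, w k ≠ 0) (h2 : (2 : F) ≠ 0)
    (a : ↥(Cfsg.isometryGroup F (⇑(wssF (fun i => w (σ (Sum.inl i)))))))
    (b : ↥(Cfsg.isometryGroup F (⇑(wssF (fun j => w (σ (Sum.inr j))))))) :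
    delta (wssF w) (wssF_nondeg h2 w hw) h2 (blkO σ w (a, b)) =
      delta (wssF (fun i => w (σ (Sum.inl i)))) (wssF_nondeg h2 _ (fun i => hw _)) h2 a *
      delta (wssF (fun j => w (σ (Sum.inr j)))) (wssF_nondeg h2 _ (fun j => hw _)) h2 b := by
  have hQ := wssF_nondeg h2 w hw
  have hQ₁ := wssF_nondeg h2 (fun i => w (σ (Sum.inl i))) (fun i => hw _)
  have hQ₂ := wssF_nondeg h2 (fun j => w (σ (Sum.inr j))) (fun j => hw _)
  have hQe : ∀ v, wssF w v = wssF (fun i => w (σ (Sum.inl i))) ((splitE σ v).1) +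
      wssF (fun j => w (σ (Sum.inr j))) ((splitE σ v).2) := fun v => wssF_split σ w v
  have hF₁ : (∀ a b : F, ∃ x : F, x ≠ a ∧ x ≠ b) ∨ Module.finrank F (ι₁ → F) ≠ 4 :=
    Or.inl (exists_ne_ne_of_two_ne_zero h2)
  have hF₂ : (∀ a b : F, ∃ x : F, x ≠ a ∧ x ≠ b) ∨ Module.finrank F (ι₂ → F) ≠ 4 :=
    Or.inl (exists_ne_ne_of_two_ne_zero h2)
  -- splitting
  have hsplit : blkO σ w (a, b) = blkO σ w (a, 1) * blkO σ w (1, b) := by
    rw [← map_mul]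
    congr 1
    show (a, b) = (a * 1, 1 * b)
    rw [mul_one, one_mul]
  have key_l : spin (wssF w) (glLinEquiv κ F (blkGL σ ((a : GL ι₁ F), 1))) =
      spin (wssF (fun i => w (σ (Sum.inl i)))) (glLinEquiv ι₁ F (a : GL ι₁ F)) := by
    rw [glLinEquiv_blk_inl]
    have hiso : glLinEquiv ι₁ F (a : GL ι₁ F) ∈ Cfsg.Agent.Lib.Helper13.isoGroup
        (wssF (fun i => w (σ (Sum.inl i)))) :=
      (mem_isometryGroup_iff_isoGroup _ a.1).mp a.2
    have hrefl := isoGroup_le_reflGroup (wssF (fun i => w (σ (Sum.inl i)))) hQ₁ hF₁ hiso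
    exact (inv_inlE (splitE σ) (wssF w) (wssF (fun i => w (σ (Sum.inl i))))
      (wssF (fun j => w (σ (Sum.inr j)))) hQe hQ hQ₁ (glLinEquiv ι₁ F (a : GL ι₁ F)) hrefl).2
  have hspin_l : spinM (wssF w) hQ h2 (blkO σ w (a, 1)) = spinM _ hQ₁ h2 a :=
    Units.ext key_l
  have key_r : spin (wssF w) (glLinEquiv κ F (blkGL σ (1, (b : GL ι₂ F)))) =
      spin (wssF (fun j => w (σ (Sum.inr j)))) (glLinEquiv ι₂ F (b : GL ι₂ F)) := by
    rw [glLinEquiv_blk_inr]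
    have hiso : glLinEquiv ι₂ F (b : GL ι₂ F) ∈ Cfsg.Agent.Lib.Helper13.isoGroup
        (wssF (fun j => w (σ (Sum.inr j)))) :=
      (mem_isometryGroup_iff_isoGroup _ b.1).mp b.2
    have hrefl := isoGroup_le_reflGroup (wssF (fun j => w (σ (Sum.inr j)))) hQ₂ hF₂ hiso
    exact (inv_inrE (splitE σ) (wssF w) (wssF (fun i => w (σ (Sum.inl i))))
      (wssF (fun j => w (σ (Sum.inr j)))) hQe hQ hQ₂ (glLinEquiv ι₂ F (b : GL ι₂ F)) hrefl).2
  have hspin_r : spinM (wssF w) hQ h2 (blkO σ w (1, b)) = spinM _ hQ₂ h2 b :=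
    Units.ext key_r
  rw [delta_apply, delta_apply, delta_apply]
  apply Prod.ext
  · show Matrix.GeneralLinearGroup.det ((blkO σ w (a, b) : ↥(Cfsg.isometryGroup F (⇑(wssF w)))) :
      GL κ F) = _
    rw [blkO_val, det_blkGL]
    rfl
  · show spinM (wssF w) hQ h2 (blkO σ w (a, b)) = spinM _ hQ₁ h2 a * spinM _ hQ₂ h2 b
    rw [hsplit, map_mul, hspin_l, hspin_r]

end blockdelta

end Cfsg.Agent.Lib.Helper5
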