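import Mathlib
import Cfsg.Agent.Lib.Helper5.OrthBlock
import Cfsg.Agent.Lib.Helper13.SpinNeg

set_option autoImplicit false

namespace Cfsg.Agent.Lib.Helper5

open Matrix Cfsg.Agent.Lib.Helper13 Cfsg.Agent.Lib.Helper36 Cfsg.Agent.Lib.Helper44

variable {F : Type*} [Field F]

section swap
variable {ι₁ κ : Type} [Fintype ι₁] [DecidableEq ι₁] [Fintype κ] [DecidableEq κ]

/-- the block swap along `σ` -/
noncomputable def swpGL (σ : ι₁ ⊕ ι₁ ≃ κ) : GL κ F := glReindex σ (glSwap ι₁ F)

theorem swpGL_val (σ : ι₁ ⊕ ι₁ ≃ κ) :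
    ((swpGL σ : GL κ F) : Matrix κ κ F) =
      Matrix.reindex σ σ (Matrix.fromBlocks (0 : Matrix ι₁ ι₁ F) 1 1 0) := rfl

theorem swpGL_mulVec (σ : ι₁ ⊕ ι₁ ≃ κ) (v : κ → F) :
    ((swpGL σ : GL κ F) : Matrix κ κ F) *ᵥ v =
      fun k => Sum.elim (fun i => v (σ (Sum.inr i))) (fun i => v (σ (Sum.inl i))) (σ.symm k) := by
  rw [swpGL_val, Matrix.reindex_apply, Matrix.submatrix_mulVec_equiv, Matrix.fromBlocks_mulVec]
  funext k
  simp only [Function.comp_apply, Equiv.symm_symm]
  rcases σ.symm k with i | i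
  · simp [Function.comp_def]
  · simp [Function.comp_def]

theorem swpGL_mem (σ : ι₁ ⊕ ι₁ ≃ κ) (c : F) :
    (swpGL σ : GL κ F) ∈ Cfsg.isometryGroup F (⇑(wssF (fun _ : κ => c))) := by
  rw [Cfsg.Agent.Lib.Helper13.mem_isometryGroup_iff]
  intro v
  rw [swpGL_mulVec, wssF_split σ (fun _ => c), wssF_split σ (fun _ => c) v]
  simp only [Equiv.symm_apply_apply, Sum.elim_inl, Sum.elim_inr]
  exact add_comm _ _

/-- the swap as an isometry of the constant-weight form -/
noncomputable def swpO (σ : ι₁ ⊕ ι₁ ≃ κ) (c : F) :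
    ↥(Cfsg.isometryGroup F (⇑(wssF (fun _ : κ => c)))) := ⟨swpGL σ, swpGL_mem σ c⟩

theorem swpO_mul_self (σ : ι₁ ⊕ ι₁ ≃ κ) (c : F) : swpO (F := F) σ c * swpO σ c = 1 := by
  apply Subtype.ext
  show swpGL σ * swpGL σ = (1 : GL κ F)
  unfold swpGL
  rw [← map_mul, glSwap_mul_self, map_one]

theorem swpO_conj (σ : ι₁ ⊕ ι₁ ≃ κ) (c : F)
    (a b : ↥(Cfsg.isometryGroup F (⇑(wssF (fun _ : ι₁ => c))))) :
    swpO σ c * blkO σ (fun _ => c) (a, b) * (swpO σ c)⁻¹ = blkO σ (fun _ => c) (b, a) := by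
  apply Subtype.ext
  show swpGL σ * blkGL σ ((a : GL ι₁ F), (b : GL ι₁ F)) * (swpGL σ)⁻¹ =
    blkGL σ ((b : GL ι₁ F), (a : GL ι₁ F))
  unfold swpGL blkGL
  show glReindex σ (glSwap ι₁ F) * glReindex σ (glProd ((a : GL ι₁ F), (b : GL ι₁ F))) *
    (glReindex σ (glSwap ι₁ F))⁻¹ = glReindex σ (glProd ((b : GL ι₁ F), (a : GL ι₁ F)))
  rw [← map_inv, ← map_mul, ← map_mul, glSwap_conj]

theorem swpO_not_mem_range [Nonempty ι₁] (σ : ι₁ ⊕ ι₁ ≃ κ) (c : F) :
    swpO (F := F) σ c ∉ (blkO σ (fun _ => c)).range := by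
  rintro ⟨⟨a, b⟩, h⟩
  have h1 := congrArg Subtype.val h
  rw [blkO_val] at h1
  have h3 : glProd ((a : GL ι₁ F), (b : GL ι₁ F)) = glSwap ι₁ F :=
    (glReindex σ).injective h1
  exact glSwap_not_mem_range ⟨_, h3⟩

end swap

section swapdelta
variable [Fintype F] [DecidableEq F]
variable {ι₁ κ : Type} [Fintype ι₁] [DecidableEq ι₁] [Fintype κ] [DecidableEq κ]

theorem spin_swp (σ : ι₁ ⊕ ι₁ ≃ κ) (c : F) (hc : c ≠ 0) (h2 : (2 : F) ≠ 0)
    (heven : Even (Fintype.card ι₁)) :
    spin (wssF (fun _ : κ => c)) (glLinEquiv κ F (swpGL σ)) = 1 := by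
  set g := glLinEquiv κ F (swpGL (F := F) σ) with hg
  have hgv : ∀ v : κ → F, g v = fun k =>
      Sum.elim (fun i => v (σ (Sum.inr i))) (fun i => v (σ (Sum.inl i))) (σ.symm k) := by
    intro v
    rw [hg, glLinEquiv_apply, swpGL_mulVec]
  have hgQ : ∀ z, wssF (fun _ : κ => c) (g z) = wssF (fun _ : κ => c) z := by
    intro z
    have := (Cfsg.Agent.Lib.Helper13.mem_isometryGroup_iff _ _).1 (swpGL_mem (F := F) σ c) z
    rw [hg, glLinEquiv_apply]
    exact this
  let Y : ι₁ → (κ → F) := fun x => Pi.single (σ (Sum.inl x)) 1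
  let W : ι₁ → (κ → F) := fun x => Pi.single (σ (Sum.inl x)) 1 - Pi.single (σ (Sum.inr x)) 1
  have hgY : ∀ x, g (Y x) = Pi.single (σ (Sum.inr x)) 1 := by
    intro x
    rw [hgv]
    funext k
    obtain ⟨z, rfl⟩ := σ.surjective k
    rw [Equiv.symm_apply_apply]
    rcases z with i | i
    · simp only [Sum.elim_inl, Y, Pi.single_apply]
      have h1 : σ (Sum.inr i) ≠ σ (Sum.inl x) := fun h => by
        have := σ.injective h; simp at this
      have h3 : σ (Sum.inl i) ≠ σ (Sum.inr x) := fun h => by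
        have := σ.injective h; simp at this
      rw [if_neg h1, if_neg h3]
    · simp only [Sum.elim_inr, Y, Pi.single_apply]
      by_cases hix : i = x
      · subst hix; simp
      · have h1 : σ (Sum.inl i) ≠ σ (Sum.inl x) := fun h => by
          have := σ.injective h; simp at this; exact hix this
        have h3 : σ (Sum.inr i) ≠ σ (Sum.inr x) := fun h => by
          have := σ.injective h; simp at this; exact hix this
        rw [if_neg h1, if_neg h3]
  have hy : ∀ x, Y x - g (Y x) = W x := by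
    intro x
    rw [hgY]
  have hWl : ∀ x i : ι₁, W x (σ (Sum.inl i)) = if i = x then 1 else 0 := by
    intro x i
    show (Pi.single (σ (Sum.inl x)) (1 : F) - Pi.single (σ (Sum.inr x)) 1 : κ → F)
      (σ (Sum.inl i)) = _
    rw [Pi.sub_apply, Pi.single_apply, Pi.single_apply]
    have h3 : σ (Sum.inl i) ≠ σ (Sum.inr x) := fun h => by
      have := σ.injective h; simp at this
    rw [if_neg h3, sub_zero]
    by_cases hix : i = x
    · subst hix; simp
    · have h1 : σ (Sum.inl i) ≠ σ (Sum.inl x) := fun h => by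
        have := σ.injective h; simp at this; exact hix this
      rw [if_neg h1, if_neg hix]
  have hWr : ∀ x i : ι₁, W x (σ (Sum.inr i)) = if i = x then -1 else 0 := by
    intro x i
    show (Pi.single (σ (Sum.inl x)) (1 : F) - Pi.single (σ (Sum.inr x)) 1 : κ → F)
      (σ (Sum.inr i)) = _
    rw [Pi.sub_apply, Pi.single_apply, Pi.single_apply]
    have h3 : σ (Sum.inr i) ≠ σ (Sum.inl x) := fun h => by
      have := σ.injective h; simp at this
    rw [if_neg h3, zero_sub]
    by_cases hix : i = x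
    · subst hix; simp
    · have h1 : σ (Sum.inr i) ≠ σ (Sum.inr x) := fun h => by
        have := σ.injective h; simp at this; exact hix this
      rw [if_neg h1, if_neg hix, neg_zero]
  have hli : LinearIndependent F W := by
    rw [Fintype.linearIndependent_iff]
    intro a ha x₀
    have := congrFun ha (σ (Sum.inl x₀))
    rw [Finset.sum_apply] at this
    simp only [Pi.smul_apply, smul_eq_mul, hWl, Pi.zero_apply] at this
    rw [Finset.sum_eq_single x₀] at this
    · simpa using this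
    · intro b _ hb
      rw [if_neg (Ne.symm hb), mul_zero]
    · intro h; exact absurd (Finset.mem_univ _) h
  have hspan : Submodule.span F (Set.range W) =
      LinearMap.range ((g : (κ → F) →ₗ[F] (κ → F)) - LinearMap.id) := by
    apply le_antisymm
    · rw [Submodule.span_le]
      rintro _ ⟨x, rfl⟩
      rw [SetLike.mem_coe, mem_range_sub_id]
      exact ⟨Y x, hy x⟩
    · intro z hz
      rw [mem_range_sub_id] at hz
      obtain ⟨y, rfl⟩ := hz
      have : y - g y = ∑ x, (y (σ (Sum.inl x)) - y (σ (Sum.inr x))) • W x := by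
        funext k
        obtain ⟨z, rfl⟩ := σ.surjective k
        rw [Finset.sum_apply, Pi.sub_apply, hgv]
        simp only [Equiv.symm_apply_apply, Pi.smul_apply, smul_eq_mul]
        rcases z with i | i
        · simp only [Sum.elim_inl, hWl]
          rw [Finset.sum_eq_single i]
          · simp
          · intro b _ hb
            rw [if_neg (Ne.symm hb), mul_zero]
          · intro h; exact absurd (Finset.mem_univ _) h
        · simp only [Sum.elim_inr, hWr]
          rw [Finset.sum_eq_single i]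
          · simp
          · intro b _ hb
            rw [if_neg (Ne.symm hb), mul_zero]
          · intro h; exact absurd (Finset.mem_univ _) h
      rw [this]
      exact Submodule.sum_mem _ (fun x _ => Submodule.smul_mem _ _
        (Submodule.subset_span ⟨x, rfl⟩))
  rw [spin_eq_of_fintype (wssF (fun _ : κ => c)) g hgQ W Y hli hspan hy]
  have hM : (Matrix.of fun i j => QuadraticMap.polar (⇑(wssF (fun _ : κ => c))) (Y i) (W j)) =
      Matrix.diagonal (fun _ : ι₁ => 2 * c) := by
    ext i j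
    rw [Matrix.of_apply, wssF_polar_single, hWl, Matrix.diagonal_apply]
    by_cases hij : i = j
    · subst hij; simp
    · rw [if_neg hij, if_neg hij, mul_zero]
  rw [hM, Matrix.det_diagonal, Finset.prod_const, Finset.card_univ]
  obtain ⟨j, hj⟩ := heven
  have h2c : (2 * c) ^ j ≠ 0 := pow_ne_zero _ (mul_ne_zero h2 hc)
  rw [hj, ← two_mul, pow_mul']
  exact quadraticChar_sq_one' h2c

theorem delta_swpO (σ : ι₁ ⊕ ι₁ ≃ κ) (c : F) (hc : c ≠ 0) (h2 : (2 : F) ≠ 0)
    (heven : Even (Fintype.card ι₁)) :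
    delta (wssF (fun _ : κ => c)) (wssF_nondeg h2 _ (fun _ => hc)) h2 (swpO σ c) = 1 := by
  rw [delta_apply]
  apply Prod.ext
  · show Matrix.GeneralLinearGroup.det (glReindex σ (glSwap ι₁ F)) = 1
    rw [det_glReindex]
    exact det_glSwap heven
  · apply Units.ext
    rw [spinM_val]
    exact spin_swp σ c hc h2 heven

end swapdelta

end Cfsg.Agent.Lib.Helper5
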