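import Mathlib
import Cfsg.Agent.Lib.Helper5.KerSq

set_option autoImplicit false

/-!
# Groups generated by "reflections" and the kernel-squares invariant

`S` is a group with a homomorphism `δ : S →* A` into an abelian group, generated by a
conjugation-closed set `Γ` of involutions whose `δ`-values are `1`, `c₁` or `c₂`.
If any two elements of `Γ` of the same non-trivial type commute with a common element of that
type, then squares of elements of `ker δ` lie in the derived subgroup of `ker δ`.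
-/

namespace Cfsg.Agent.Lib.Helper5

open scoped commutatorElement

section refl
variable {S A : Type*} [Group S] [CommGroup A]

structure ReflBase (δ : S →* A) (c₁ c₂ : A) (Γ : Set S) : Prop where
  gen : Subgroup.closure Γ = ⊤
  conj : ∀ g : S, ∀ γ ∈ Γ, g * γ * g⁻¹ ∈ Γ
  invol : ∀ γ ∈ Γ, γ * γ = 1
  type : ∀ γ ∈ Γ, δ γ = 1 ∨ δ γ = c₁ ∨ δ γ = c₂

def HasTau (δ : S →* A) (Γ : Set S) (c : A) : Prop :=
  ∀ ρ ∈ Γ, ∀ ρ' ∈ Γ, δ ρ = c → δ ρ' = c → ∃ τ : S, δ τ = c ∧ Commute τ ρ ∧ Commute τ ρ'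

theorem hom_conj_eq' (δ : S →* A) (g x : S) : δ (g * x * g⁻¹) = δ x := by
  rw [map_mul, map_mul, map_inv, mul_comm, inv_mul_cancel_left]

theorem kerSq_of_refl {δ : S →* A} {c₁ c₂ : A} {Γ : Set S} (hB : ReflBase δ c₁ c₂ Γ)
    (hc₁ : c₁ * c₁ = 1) (hc₂ : c₂ * c₂ = 1) (h1 : c₁ ≠ 1) (h2 : c₂ ≠ 1) (h12 : c₁ ≠ c₂)
    (hτ₁ : HasTau δ Γ c₁) (hτ₂ : HasTau δ Γ c₂) : KerSq δ := by
  -- the generating set
  let gens : Set S := {x | x ∈ Γ ∧ δ x = 1} ∪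
    {x | ∃ ρ ∈ Γ, ∃ ρ' ∈ Γ, δ ρ = δ ρ' ∧ δ ρ ≠ 1 ∧ x = ρ * ρ'}
  have hinv : ∀ γ ∈ Γ, γ⁻¹ = γ := fun γ hγ => inv_eq_of_mul_eq_one_left (hB.invol γ hγ)
  have hsqval : ∀ γ ∈ Γ, δ γ * δ γ = 1 := by
    intro γ hγ
    rw [← map_mul, hB.invol γ hγ, map_one]
  have hgens_ker : ∀ x ∈ gens, δ x = 1 := by
    rintro x (⟨_, hx⟩ | ⟨ρ, hρ, ρ', hρ', he, _, rfl⟩)
    · exact hx
    · rw [map_mul, ← he, hsqval ρ hρ]
  have hgens_conj : ∀ g : S, ∀ x ∈ gens, g * x * g⁻¹ ∈ gens := by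
    rintro g x (⟨hx, hx1⟩ | ⟨ρ, hρ, ρ', hρ', he, hne, rfl⟩)
    · exact Or.inl ⟨hB.conj g x hx, by rw [hom_conj_eq', hx1]⟩
    · refine Or.inr ⟨g * ρ * g⁻¹, hB.conj g ρ hρ, g * ρ' * g⁻¹, hB.conj g ρ' hρ', ?_, ?_, ?_⟩
      · rw [hom_conj_eq', hom_conj_eq', he]
      · rw [hom_conj_eq']; exact hne
      · group
  let N : Subgroup S := Subgroup.closure gens
  have hN_ker : N ≤ δ.ker := by
    rw [Subgroup.closure_le]
    intro x hx
    exact hgens_ker x hx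
  have hN_conj : ∀ g : S, ∀ n ∈ N, g * n * g⁻¹ ∈ N := by
    intro g n hn
    have h : N.map (MulAut.conj g).toMonoidHom ≤ N := by
      rw [MonoidHom.map_closure, Subgroup.closure_le]
      rintro _ ⟨x, hx, rfl⟩
      exact Subgroup.subset_closure (hgens_conj g x hx)
    exact h ⟨n, hn, rfl⟩
  -- same type pairs
  have hpair : ∀ ρ ∈ Γ, ∀ ρ' ∈ Γ, δ ρ = δ ρ' → δ ρ ≠ 1 → ρ * ρ' ∈ N := by
    intro ρ hρ ρ' hρ' he hne
    exact Subgroup.subset_closure (Or.inr ⟨ρ, hρ, ρ', hρ', he, hne, rfl⟩)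
  have hone : ∀ γ ∈ Γ, δ γ = 1 → γ ∈ N := fun γ hγ h =>
    Subgroup.subset_closure (Or.inl ⟨hγ, h⟩)
  -- normal form
  let Pr : S → Prop := fun x => x ∈ N ∨ (∃ n ∈ N, ∃ ρ ∈ Γ, δ ρ = c₁ ∧ x = n * ρ) ∨
    (∃ n ∈ N, ∃ σ ∈ Γ, δ σ = c₂ ∧ x = n * σ) ∨
    (∃ n ∈ N, ∃ ρ ∈ Γ, ∃ σ ∈ Γ, δ ρ = c₁ ∧ δ σ = c₂ ∧ x = n * ρ * σ)
  have hstep : ∀ γ ∈ Γ, ∀ y, Pr y → Pr (γ * y) := by
    intro γ hγ y hy
    have hcn : ∀ n ∈ N, γ * n = (γ * n * γ⁻¹) * γ := by intro n _; group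
    rcases hy with hn | ⟨n, hn, ρ, hρ, hρc, rfl⟩ | ⟨n, hn, σ, hσ, hσc, rfl⟩ |
        ⟨n, hn, ρ, hρ, σ, hσ, hρc, hσc, rfl⟩
    · -- y = n
      rcases hB.type γ hγ with h | h | h
      · exact Or.inl (Subgroup.mul_mem _ (hone γ hγ h) hn)
      · exact Or.inr (Or.inl ⟨γ * y * γ⁻¹, hN_conj γ y hn, γ, hγ, h, hcn y hn⟩)
      · exact Or.inr (Or.inr (Or.inl ⟨γ * y * γ⁻¹, hN_conj γ y hn, γ, hγ, h, hcn y hn⟩))
    · -- y = n ρ
      have e1 : γ * (n * ρ) = (γ * n * γ⁻¹) * (γ * ρ) := by group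
      rcases hB.type γ hγ with h | h | h
      · refine Or.inr (Or.inl ⟨(γ * n * γ⁻¹) * γ, Subgroup.mul_mem _ (hN_conj γ n hn)
          (hone γ hγ h), ρ, hρ, hρc, ?_⟩)
        group
      · left
        rw [e1]
        exact Subgroup.mul_mem _ (hN_conj γ n hn)
          (hpair γ hγ ρ hρ (by rw [h, hρc]) (by rw [h]; exact h1))
      · refine Or.inr (Or.inr (Or.inr ⟨γ * n * γ⁻¹, hN_conj γ n hn, γ * ρ * γ⁻¹,
          hB.conj γ ρ hρ, γ, hγ, by rw [hom_conj_eq', hρc], h, ?_⟩))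
        group
    · -- y = n σ
      have e1 : γ * (n * σ) = (γ * n * γ⁻¹) * (γ * σ) := by group
      rcases hB.type γ hγ with h | h | h
      · refine Or.inr (Or.inr (Or.inl ⟨(γ * n * γ⁻¹) * γ, Subgroup.mul_mem _ (hN_conj γ n hn)
          (hone γ hγ h), σ, hσ, hσc, ?_⟩))
        group
      · refine Or.inr (Or.inr (Or.inr ⟨γ * n * γ⁻¹, hN_conj γ n hn, γ, hγ, σ, hσ, h, hσc, ?_⟩))
        group
      · left
        rw [e1]
        exact Subgroup.mul_mem _ (hN_conj γ n hn)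
          (hpair γ hγ σ hσ (by rw [h, hσc]) (by rw [h]; exact h2))
    · -- y = n ρ σ
      rcases hB.type γ hγ with h | h | h
      · refine Or.inr (Or.inr (Or.inr ⟨(γ * n * γ⁻¹) * γ, Subgroup.mul_mem _ (hN_conj γ n hn)
          (hone γ hγ h), ρ, hρ, σ, hσ, hρc, hσc, ?_⟩))
        group
      · refine Or.inr (Or.inr (Or.inl ⟨(γ * n * γ⁻¹) * (γ * ρ), Subgroup.mul_mem _
          (hN_conj γ n hn) (hpair γ hγ ρ hρ (by rw [h, hρc]) (by rw [h]; exact h1)),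
          σ, hσ, hσc, ?_⟩))
        group
      · -- γ ρ σ = (γ ρ γ⁻¹) (γ σ)
        have hm : γ * σ ∈ N := hpair γ hγ σ hσ (by rw [h, hσc]) (by rw [h]; exact h2)
        have hρ'' : γ * ρ * γ⁻¹ ∈ Γ := hB.conj γ ρ hρ
        refine Or.inr (Or.inl ⟨(γ * n * γ⁻¹) * ((γ * ρ * γ⁻¹) * (γ * σ) * (γ * ρ * γ⁻¹)⁻¹),
          Subgroup.mul_mem _ (hN_conj γ n hn) (hN_conj _ _ hm), γ * ρ * γ⁻¹, hρ'',
          by rw [hom_conj_eq', hρc], ?_⟩)
        group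
  have hall : ∀ x : S, Pr x := by
    intro x
    have hx : x ∈ Subgroup.closure Γ := by rw [hB.gen]; exact Subgroup.mem_top x
    induction hx using Subgroup.closure_induction_left with
    | one => exact Or.inl (Subgroup.one_mem _)
    | mul_left γ hγ y _ ih => exact hstep γ hγ y ih
    | inv_mul_cancel γ hγ y _ ih =>
      rw [hinv γ hγ]
      exact hstep γ hγ y ih
  have hkerN : ∀ x : S, δ x = 1 → x ∈ N := by
    intro x hx
    have hNδ : ∀ n ∈ N, δ n = 1 := fun n hn => hN_ker hn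
    rcases hall x with h | ⟨n, hn, ρ, hρ, hρc, rfl⟩ | ⟨n, hn, σ, hσ, hσc, rfl⟩ |
        ⟨n, hn, ρ, hρ, σ, hσ, hρc, hσc, rfl⟩
    · exact h
    · exfalso
      rw [map_mul, hNδ n hn, one_mul, hρc] at hx
      exact h1 hx
    · exfalso
      rw [map_mul, hNδ n hn, one_mul, hσc] at hx
      exact h2 hx
    · exfalso
      rw [map_mul, map_mul, hNδ n hn, one_mul, hρc, hσc] at hx
      apply h12
      calc c₁ = c₁ * (c₂ * c₂) := by rw [hc₂, mul_one]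
        _ = (c₁ * c₂) * c₂ := (mul_assoc _ _ _).symm
        _ = c₂ := by rw [hx, one_mul]
  -- now pass to the kernel
  intro z
  let gensK : Set δ.ker := {x | (x : S) ∈ gens}
  apply sq_mem_commutator_of_closure gensK
  · rw [eq_top_iff]
    rintro ⟨x, hx⟩ _
    have hxN : x ∈ N := hkerN x hx
    have hmap : (Subgroup.closure gensK).map δ.ker.subtype = N := by
      rw [MonoidHom.map_closure]
      congr 1
      ext y
      constructor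
      · rintro ⟨k, hk, rfl⟩
        exact hk
      · intro hy
        exact ⟨⟨y, hgens_ker y hy⟩, hy, rfl⟩
    rw [← hmap] at hxN
    obtain ⟨k, hk, hkx⟩ := hxN
    have : k = ⟨x, hx⟩ := Subtype.ext hkx
    rw [← this]
    exact hk
  · rintro ⟨s, hs⟩ hsg
    have hsg' : s ∈ gens := hsg
    rcases hsg' with ⟨hsΓ, _⟩ | ⟨ρ, hρ, ρ', hρ', he, hne, rfl⟩
    · have : (⟨s, hs⟩ : δ.ker) ^ 2 = 1 := by
        apply Subtype.ext
        show s ^ 2 = 1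
        rw [pow_two, hB.invol s hsΓ]
      rw [this]
      exact Subgroup.one_mem _
    · -- (ρ ρ')^2 = [ρ τ, ρ' τ]
      have hτ : ∃ τ : S, δ τ = δ ρ ∧ Commute τ ρ ∧ Commute τ ρ' := by
        rcases hB.type ρ hρ with h | h | h
        · exact absurd h hne
        · obtain ⟨τ, h1', h2', h3'⟩ := hτ₁ ρ hρ ρ' hρ' h (by rw [← he, h])
          exact ⟨τ, by rw [h1', h], h2', h3'⟩
        · obtain ⟨τ, h1', h2', h3'⟩ := hτ₂ ρ hρ ρ' hρ' h (by rw [← he, h])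
          exact ⟨τ, by rw [h1', h], h2', h3'⟩
      obtain ⟨τ, hτδ, hτρ, hτρ'⟩ := hτ
      have hk1 : ρ * τ ∈ δ.ker := by
        rw [MonoidHom.mem_ker, map_mul, hτδ, hsqval ρ hρ]
      have hk2 : ρ' * τ ∈ δ.ker := by
        rw [MonoidHom.mem_ker, map_mul, hτδ, he, hsqval ρ' hρ']
      have key : (⟨ρ * ρ', hs⟩ : δ.ker) ^ 2 = ⁅(⟨ρ * τ, hk1⟩ : δ.ker), ⟨ρ' * τ, hk2⟩⁆ := by
        apply Subtype.ext
        show (ρ * ρ') ^ 2 = (ρ * τ) * (ρ' * τ) * (ρ * τ)⁻¹ * (ρ' * τ)⁻¹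
        have e1 : τ * ρ = ρ * τ := hτρ.eq
        have e2 : τ * ρ' = ρ' * τ := hτρ'.eq
        have e3 : (ρ * τ)⁻¹ = τ⁻¹ * ρ := by rw [mul_inv_rev, hinv ρ hρ]
        have e4 : (ρ' * τ)⁻¹ = τ⁻¹ * ρ' := by rw [mul_inv_rev, hinv ρ' hρ']
        have e5 : τ⁻¹ * ρ = ρ * τ⁻¹ := (hτρ.inv_left).eq
        rw [e3, e4, pow_two]
        have h1' : ρ * τ * (ρ' * τ) * (τ⁻¹ * ρ) * (τ⁻¹ * ρ') =
            ρ * (τ * ρ') * (ρ * τ⁻¹) * ρ' := by group
        rw [h1', e2, ← e5]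
        group
      show (⟨ρ * ρ', hs⟩ : δ.ker) ^ 2 ∈ commutator δ.ker
      rw [key, commutator_def]
      exact Subgroup.commutator_mem_commutator (Subgroup.mem_top _) (Subgroup.mem_top _)

end refl

end Cfsg.Agent.Lib.Helper5
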