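import Mathlib
import Cfsg.Agent.Lib.Helper5.ReflTower

set_option autoImplicit false

namespace Cfsg.Agent.Lib.Helper5

open scoped commutatorElement

section defs
variable {S A : Type*} [Group S] [CommGroup A]

/-- full: generated by reflections, both types occur -/
def RF (δ : S →* A) (c₁ c₂ : A) : Prop :=
  ∃ Γ : Set S, ReflBase δ c₁ c₂ Γ ∧ (∃ τ, δ τ = c₁) ∧ (∃ τ, δ τ = c₂)

/-- good: full, and same-type pairs have a common commuting element of that type -/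
def RG (δ : S →* A) (c₁ c₂ : A) : Prop :=
  ∃ Γ : Set S, ReflBase δ c₁ c₂ Γ ∧ HasTau δ Γ c₁ ∧ HasTau δ Γ c₂ ∧
    (∃ τ, δ τ = c₁) ∧ (∃ τ, δ τ = c₂)

/-- line-like: generated by reflections and abelian -/
def RL (δ : S →* A) (c₁ c₂ : A) : Prop :=
  ∃ Γ : Set S, ReflBase δ c₁ c₂ Γ ∧ ∀ x y : S, x * y = y * x

theorem RG.toRF {δ : S →* A} {c₁ c₂ : A} (h : RG δ c₁ c₂) : RF δ c₁ c₂ := by
  obtain ⟨Γ, hB, _, _, h1, h2⟩ := h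
  exact ⟨Γ, hB, h1, h2⟩

theorem RG.kerSq {δ : S →* A} {c₁ c₂ : A} (h : RG δ c₁ c₂)
    (hc₁ : c₁ * c₁ = 1) (hc₂ : c₂ * c₂ = 1) (h1 : c₁ ≠ 1) (h2 : c₂ ≠ 1) (h12 : c₁ ≠ c₂) :
    KerSq δ := by
  obtain ⟨Γ, hB, hτ₁, hτ₂, _, _⟩ := h
  exact kerSq_of_refl hB hc₁ hc₂ h1 h2 h12 hτ₁ hτ₂

end defs

section equiv
variable {S S' A : Type*} [Group S] [Group S'] [CommGroup A]

theorem ReflBase.of_equiv {δ : S →* A} {c₁ c₂ : A} {Γ : Set S} (h : ReflBase δ c₁ c₂ Γ)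
    (e : S ≃* S') (δ' : S' →* A) (hδ : ∀ x, δ' (e x) = δ x) :
    ReflBase δ' c₁ c₂ (e '' Γ) := by
  refine ⟨?_, ?_, ?_, ?_⟩
  · have : Subgroup.closure (e '' Γ) = (Subgroup.closure Γ).map e.toMonoidHom := by
      rw [MonoidHom.map_closure]; rfl
    rw [this, h.gen]
    exact Subgroup.map_top_of_surjective _ e.surjective
  · rintro g _ ⟨γ, hγ, rfl⟩
    refine ⟨e.symm g * γ * (e.symm g)⁻¹, h.conj _ γ hγ, ?_⟩
    rw [map_mul, map_mul, map_inv, e.apply_symm_apply]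
  · rintro _ ⟨γ, hγ, rfl⟩
    rw [← map_mul, h.invol γ hγ, map_one]
  · rintro _ ⟨γ, hγ, rfl⟩
    rw [hδ]
    exact h.type γ hγ

theorem HasTau.of_equiv {δ : S →* A} {c : A} {Γ : Set S} (h : HasTau δ Γ c)
    (e : S ≃* S') (δ' : S' →* A) (hδ : ∀ x, δ' (e x) = δ x) : HasTau δ' (e '' Γ) c := by
  rintro _ ⟨ρ, hρ, rfl⟩ _ ⟨ρ', hρ', rfl⟩ h1 h2
  rw [hδ] at h1 h2
  obtain ⟨τ, hτ, hc1, hc2⟩ := h ρ hρ ρ' hρ' h1 h2
  refine ⟨e τ, by rw [hδ, hτ], ?_, ?_⟩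
  · show e τ * e ρ = e ρ * e τ
    rw [← map_mul, ← map_mul, hc1.eq]
  · show e τ * e ρ' = e ρ' * e τ
    rw [← map_mul, ← map_mul, hc2.eq]

theorem RF.of_equiv {δ : S →* A} {c₁ c₂ : A} (h : RF δ c₁ c₂)
    (e : S ≃* S') (δ' : S' →* A) (hδ : ∀ x, δ' (e x) = δ x) : RF δ' c₁ c₂ := by
  obtain ⟨Γ, hB, ⟨τ₁, h1⟩, ⟨τ₂, h2⟩⟩ := h
  exact ⟨e '' Γ, hB.of_equiv e δ' hδ, ⟨e τ₁, by rw [hδ, h1]⟩, ⟨e τ₂, by rw [hδ, h2]⟩⟩

theorem RG.of_equiv {δ : S →* A} {c₁ c₂ : A} (h : RG δ c₁ c₂)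
    (e : S ≃* S') (δ' : S' →* A) (hδ : ∀ x, δ' (e x) = δ x) : RG δ' c₁ c₂ := by
  obtain ⟨Γ, hB, hτ₁, hτ₂, ⟨τ₁, h1⟩, ⟨τ₂, h2⟩⟩ := h
  exact ⟨e '' Γ, hB.of_equiv e δ' hδ, hτ₁.of_equiv e δ' hδ, hτ₂.of_equiv e δ' hδ,
    ⟨e τ₁, by rw [hδ, h1]⟩, ⟨e τ₂, by rw [hδ, h2]⟩⟩

end equiv

section prod
variable {S₁ S₂ A : Type*} [Group S₁] [Group S₂] [CommGroup A]

/-- the product character -/
def prodδ (δ₁ : S₁ →* A) (δ₂ : S₂ →* A) : S₁ × S₂ →* A :=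
  (δ₁.comp (MonoidHom.fst S₁ S₂)) * (δ₂.comp (MonoidHom.snd S₁ S₂))

theorem prodδ_apply (δ₁ : S₁ →* A) (δ₂ : S₂ →* A) (x : S₁ × S₂) :
    prodδ δ₁ δ₂ x = δ₁ x.1 * δ₂ x.2 := rfl

def prodΓ (Γ₁ : Set S₁) (Γ₂ : Set S₂) : Set (S₁ × S₂) :=
  {x | (x.1 ∈ Γ₁ ∧ x.2 = 1) ∨ (x.1 = 1 ∧ x.2 ∈ Γ₂)}

theorem ReflBase.prod {δ₁ : S₁ →* A} {δ₂ : S₂ →* A} {c₁ c₂ : A} {Γ₁ : Set S₁} {Γ₂ : Set S₂}
    (h₁ : ReflBase δ₁ c₁ c₂ Γ₁) (h₂ : ReflBase δ₂ c₁ c₂ Γ₂) :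
    ReflBase (prodδ δ₁ δ₂) c₁ c₂ (prodΓ Γ₁ Γ₂) := by
  refine ⟨?_, ?_, ?_, ?_⟩
  · rw [eq_top_iff]
    rintro ⟨x, y⟩ _
    have hl : (Subgroup.closure Γ₁).map (MonoidHom.inl S₁ S₂) ≤
        Subgroup.closure (prodΓ Γ₁ Γ₂) := by
      rw [MonoidHom.map_closure, Subgroup.closure_le]
      rintro _ ⟨g, hg, rfl⟩
      exact Subgroup.subset_closure (Or.inl ⟨hg, rfl⟩)
    have hr : (Subgroup.closure Γ₂).map (MonoidHom.inr S₁ S₂) ≤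
        Subgroup.closure (prodΓ Γ₁ Γ₂) := by
      rw [MonoidHom.map_closure, Subgroup.closure_le]
      rintro _ ⟨g, hg, rfl⟩
      exact Subgroup.subset_closure (Or.inr ⟨rfl, hg⟩)
    have e : ((x, y) : S₁ × S₂) = (x, 1) * (1, y) := by
      show (x, y) = (x * 1, 1 * y)
      rw [mul_one, one_mul]
    rw [e]
    refine Subgroup.mul_mem _ (hl ⟨x, ?_, rfl⟩) (hr ⟨y, ?_, rfl⟩)
    · rw [h₁.gen]; exact Subgroup.mem_top _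
    · rw [h₂.gen]; exact Subgroup.mem_top _
  · rintro ⟨g₁, g₂⟩ ⟨x, y⟩ (⟨hx, hy⟩ | ⟨hx, hy⟩)
    · left
      refine ⟨h₁.conj g₁ x hx, ?_⟩
      show g₂ * y * g₂⁻¹ = 1
      have hy' : y = 1 := hy
      rw [hy', mul_one, mul_inv_cancel]
    · right
      refine ⟨?_, h₂.conj g₂ y hy⟩
      show g₁ * x * g₁⁻¹ = 1
      have hx' : x = 1 := hx
      rw [hx', mul_one, mul_inv_cancel]
  · rintro ⟨x, y⟩ (⟨hx, hy⟩ | ⟨hx, hy⟩)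
    · have hy' : y = 1 := hy
      show (x * x, y * y) = 1
      rw [h₁.invol x hx, hy', mul_one]; rfl
    · have hx' : x = 1 := hx
      show (x * x, y * y) = 1
      rw [h₂.invol y hy, hx', mul_one]; rfl
  · rintro ⟨x, y⟩ (⟨hx, hy⟩ | ⟨hx, hy⟩)
    · have hy' : y = 1 := hy
      rw [prodδ_apply]
      show δ₁ x * δ₂ y = 1 ∨ _
      rw [hy', map_one, mul_one]
      exact h₁.type x hx
    · have hx' : x = 1 := hx
      rw [prodδ_apply]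
      show δ₁ x * δ₂ y = 1 ∨ _
      rw [hx', map_one, one_mul]
      exact h₂.type y hy

theorem commute_inl_inr (x : S₁) (y : S₂) : Commute ((x, 1) : S₁ × S₂) (1, y) := by
  show ((x, 1) : S₁ × S₂) * (1, y) = (1, y) * (x, 1)
  show (x * 1, 1 * y) = (1 * x, y * 1)
  rw [mul_one, one_mul, one_mul, mul_one]

theorem HasTau.prod_of_exists {δ₁ : S₁ →* A} {δ₂ : S₂ →* A} {c : A} (Γ₁ : Set S₁) (Γ₂ : Set S₂)
    (hE₁ : ∃ τ, δ₁ τ = c) (hE₂ : ∃ τ, δ₂ τ = c) :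
    HasTau (prodδ δ₁ δ₂) (prodΓ Γ₁ Γ₂) c := by
  obtain ⟨τ₁, hτ₁⟩ := hE₁
  obtain ⟨τ₂, hτ₂⟩ := hE₂
  rintro ⟨x, y⟩ (⟨hx, hy⟩ | ⟨hx, hy⟩) ⟨x', y'⟩ (⟨hx', hy'⟩ | ⟨hx', hy'⟩) h1 h2
  · -- both left
    have hy1 : y = 1 := hy
    have hy1' : y' = 1 := hy'
    subst hy1 hy1'
    refine ⟨(1, τ₂), ?_, (commute_inl_inr x τ₂).symm, (commute_inl_inr x' τ₂).symm⟩
    rw [prodδ_apply]
    show δ₁ 1 * δ₂ τ₂ = c
    rw [map_one, one_mul, hτ₂]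
  · -- left, right
    have hy1 : y = 1 := hy
    have hx1' : x' = 1 := hx'
    subst hy1 hx1'
    exact ⟨(x, 1), h1, Commute.refl _, commute_inl_inr x y'⟩
  · have hx1 : x = 1 := hx
    have hy1' : y' = 1 := hy'
    subst hx1 hy1'
    exact ⟨(1, y), h1, Commute.refl _, (commute_inl_inr x' y).symm⟩
  · have hx1 : x = 1 := hx
    have hx1' : x' = 1 := hx'
    subst hx1 hx1'
    refine ⟨(τ₁, 1), ?_, commute_inl_inr τ₁ y, commute_inl_inr τ₁ y'⟩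
    rw [prodδ_apply]
    show δ₁ τ₁ * δ₂ 1 = c
    rw [map_one, mul_one, hτ₁]

theorem HasTau.prod_left {δ₁ : S₁ →* A} {δ₂ : S₂ →* A} {c : A} {Γ₁ : Set S₁} (Γ₂ : Set S₂)
    (hτ : HasTau δ₁ Γ₁ c) (hab : ∀ x y : S₂, x * y = y * x) :
    HasTau (prodδ δ₁ δ₂) (prodΓ Γ₁ Γ₂) c := by
  rintro ⟨x, y⟩ (⟨hx, hy⟩ | ⟨hx, hy⟩) ⟨x', y'⟩ (⟨hx', hy'⟩ | ⟨hx', hy'⟩) h1 h2
  · have hy1 : y = 1 := hy
    have hy1' : y' = 1 := hy'
    subst hy1 hy1'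
    have h1' : δ₁ x = c := by
      have := h1; rw [prodδ_apply] at this
      simpa using this
    have h2' : δ₁ x' = c := by
      have := h2; rw [prodδ_apply] at this
      simpa using this
    obtain ⟨τ, hτc, hc1, hc2⟩ := hτ x hx x' hx' h1' h2'
    refine ⟨(τ, 1), ?_, ?_, ?_⟩
    · rw [prodδ_apply]
      show δ₁ τ * δ₂ 1 = c
      rw [map_one, mul_one, hτc]
    · show ((τ, 1) : S₁ × S₂) * (x, 1) = (x, 1) * (τ, 1)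
      show (τ * x, (1 : S₂) * 1) = (x * τ, 1 * 1)
      rw [hc1.eq]
    · show ((τ, 1) : S₁ × S₂) * (x', 1) = (x', 1) * (τ, 1)
      show (τ * x', (1 : S₂) * 1) = (x' * τ, 1 * 1)
      rw [hc2.eq]
  · have hy1 : y = 1 := hy
    have hx1' : x' = 1 := hx'
    subst hy1 hx1'
    exact ⟨(x, 1), h1, Commute.refl _, commute_inl_inr x y'⟩
  · have hx1 : x = 1 := hx
    have hy1' : y' = 1 := hy'
    subst hx1 hy1'
    exact ⟨(1, y), h1, Commute.refl _, (commute_inl_inr x' y).symm⟩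
  · have hx1 : x = 1 := hx
    have hx1' : x' = 1 := hx'
    subst hx1 hx1'
    refine ⟨(1, y), h1, Commute.refl _, ?_⟩
    show ((1, y) : S₁ × S₂) * (1, y') = (1, y') * (1, y)
    show ((1 : S₁) * 1, y * y') = (1 * 1, y' * y)
    rw [hab y y']

theorem RF.prod {δ₁ : S₁ →* A} {δ₂ : S₂ →* A} {c₁ c₂ : A} (h₁ : RF δ₁ c₁ c₂)
    (h₂ : RF δ₂ c₁ c₂) : RG (prodδ δ₁ δ₂) c₁ c₂ := by
  obtain ⟨Γ₁, hB₁, hE₁, hE₁'⟩ := h₁
  obtain ⟨Γ₂, hB₂, hE₂, hE₂'⟩ := h₂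
  refine ⟨prodΓ Γ₁ Γ₂, hB₁.prod hB₂, HasTau.prod_of_exists Γ₁ Γ₂ hE₁ hE₂,
    HasTau.prod_of_exists Γ₁ Γ₂ hE₁' hE₂', ?_, ?_⟩
  · obtain ⟨τ, hτ⟩ := hE₁
    refine ⟨(τ, 1), ?_⟩
    rw [prodδ_apply]
    show δ₁ τ * δ₂ 1 = c₁
    rw [map_one, mul_one, hτ]
  · obtain ⟨τ, hτ⟩ := hE₁'
    refine ⟨(τ, 1), ?_⟩
    rw [prodδ_apply]
    show δ₁ τ * δ₂ 1 = c₂
    rw [map_one, mul_one, hτ]

theorem RG.prod_line {δ₁ : S₁ →* A} {δ₂ : S₂ →* A} {c₁ c₂ : A} (h₁ : RG δ₁ c₁ c₂)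
    (h₂ : RL δ₂ c₁ c₂) : RG (prodδ δ₁ δ₂) c₁ c₂ := by
  obtain ⟨Γ₁, hB₁, hτ₁, hτ₂, hE₁, hE₁'⟩ := h₁
  obtain ⟨Γ₂, hB₂, hab⟩ := h₂
  refine ⟨prodΓ Γ₁ Γ₂, hB₁.prod hB₂, hτ₁.prod_left Γ₂ hab, hτ₂.prod_left Γ₂ hab, ?_, ?_⟩
  · obtain ⟨τ, hτ⟩ := hE₁
    refine ⟨(τ, 1), ?_⟩
    rw [prodδ_apply]
    show δ₁ τ * δ₂ 1 = c₁
    rw [map_one, mul_one, hτ]
  · obtain ⟨τ, hτ⟩ := hE₁'
    refine ⟨(τ, 1), ?_⟩
    rw [prodδ_apply]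
    show δ₁ τ * δ₂ 1 = c₂
    rw [map_one, mul_one, hτ]

end prod

section double
variable {P K A : Type*} [Group P] [Group K] [CommGroup A]
variable {ι : P × P →* K} {t : K}

def doubleΓ (ι : P × P →* K) (t : K) (Γ : Set P) : Set K :=
  {x | ∃ γ ∈ Γ, x = ι (γ, 1) ∨ x = ι (1, γ)} ∪ {x | ∃ u : P, x = ι (u, u⁻¹) * t}

theorem DoubleHyp.swap_mul (H : DoubleHyp ι t) (a b : P) : t * ι (a, b) = ι (b, a) * t := by
  have := H.conj a b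
  rw [← this, H.inv_eq]
  have : t * ι (a, b) * t * t = t * ι (a, b) * (t * t) := by group
  rw [this, H.sq, mul_one]

theorem ι_mul_comm_aux (ι : P × P →* K) (a b : P) : ι (a, 1) * ι (1, b) = ι (1, b) * ι (a, 1) := by
  rw [← map_mul, ← map_mul]
  congr 1
  show (a * 1, 1 * b) = (1 * a, b * 1)
  rw [mul_one, one_mul, one_mul, mul_one]

theorem ReflBase.double (H : DoubleHyp ι t) {δ : P →* A} {c₁ c₂ : A} {Γ : Set P}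
    (h : ReflBase δ c₁ c₂ Γ) (δK : K →* A) (hδ : ∀ a b, δK (ι (a, b)) = δ a * δ b)
    (hδt : δK t = 1) : ReflBase δK c₁ c₂ (doubleΓ ι t Γ) := by
  have htmem : t ∈ doubleΓ ι t Γ := Or.inr ⟨1, by
    rw [inv_one]
    have : ι ((1 : P), (1 : P)) = 1 := map_one ι
    rw [this, one_mul]⟩
  -- conjugation by elements of the base group
  have hconj_base : ∀ a b : P, ∀ x ∈ doubleΓ ι t Γ, ι (a, b) * x * (ι (a, b))⁻¹ ∈ doubleΓ ι t Γ := by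
    rintro a b x (⟨γ, hγ, rfl | rfl⟩ | ⟨u, rfl⟩)
    · refine Or.inl ⟨a * γ * a⁻¹, h.conj a γ hγ, Or.inl ?_⟩
      rw [← map_inv, ← map_mul, ← map_mul]
      congr 1
      show (a * γ * a⁻¹, b * 1 * b⁻¹) = _
      rw [mul_one, mul_inv_cancel]
    · refine Or.inl ⟨b * γ * b⁻¹, h.conj b γ hγ, Or.inr ?_⟩
      rw [← map_inv, ← map_mul, ← map_mul]
      congr 1
      show (a * 1 * a⁻¹, b * γ * b⁻¹) = _
      rw [mul_one, mul_inv_cancel]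
    · refine Or.inr ⟨a * u * b⁻¹, ?_⟩
      have e1 : ι (a, b) * (ι (u, u⁻¹) * t) * (ι (a, b))⁻¹ =
          ι (a, b) * ι (u, u⁻¹) * (t * ι (a⁻¹, b⁻¹)) := by
        rw [← map_inv]
        have : ((a, b) : P × P)⁻¹ = (a⁻¹, b⁻¹) := rfl
        rw [this]
        group
      rw [e1, H.swap_mul, ← mul_assoc, ← map_mul, ← map_mul]
      congr 2
      show (a * u * b⁻¹, b * u⁻¹ * a⁻¹) = _
      congr 1
      group
  have hconj_t : ∀ x ∈ doubleΓ ι t Γ, t * x * t⁻¹ ∈ doubleΓ ι t Γ := by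
    rintro x (⟨γ, hγ, rfl | rfl⟩ | ⟨u, rfl⟩)
    · exact Or.inl ⟨γ, hγ, Or.inr (H.conj γ 1)⟩
    · exact Or.inl ⟨γ, hγ, Or.inl (H.conj 1 γ)⟩
    · refine Or.inr ⟨u⁻¹, ?_⟩
      rw [inv_inv, H.inv_eq]
      have : t * (ι (u, u⁻¹) * t) * t = (t * ι (u, u⁻¹)) * (t * t) := by group
      rw [this, H.sq, mul_one, H.swap_mul]
  refine ⟨?_, ?_, ?_, ?_⟩
  · rw [eq_top_iff]
    intro k _
    have hl : (Subgroup.closure Γ).map (ι.comp (MonoidHom.inl P P)) ≤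
        Subgroup.closure (doubleΓ ι t Γ) := by
      rw [MonoidHom.map_closure, Subgroup.closure_le]
      rintro _ ⟨g, hg, rfl⟩
      exact Subgroup.subset_closure (Or.inl ⟨g, hg, Or.inl rfl⟩)
    have hr : (Subgroup.closure Γ).map (ι.comp (MonoidHom.inr P P)) ≤
        Subgroup.closure (doubleΓ ι t Γ) := by
      rw [MonoidHom.map_closure, Subgroup.closure_le]
      rintro _ ⟨g, hg, rfl⟩
      exact Subgroup.subset_closure (Or.inl ⟨g, hg, Or.inr rfl⟩)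
    have hbase : ∀ a b : P, ι (a, b) ∈ Subgroup.closure (doubleΓ ι t Γ) := by
      intro a b
      have e : ι (a, b) = ι (a, 1) * ι (1, b) := by
        rw [← map_mul]
        congr 1
        show (a, b) = (a * 1, 1 * b)
        rw [mul_one, one_mul]
      rw [e]
      refine Subgroup.mul_mem _ (hl ⟨a, ?_, rfl⟩) (hr ⟨b, ?_, rfl⟩)
      · rw [h.gen]; exact Subgroup.mem_top _
      · rw [h.gen]; exact Subgroup.mem_top _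
    rcases H.gen k with ⟨⟨a, b⟩, rfl⟩ | ⟨⟨a, b⟩, hk⟩
    · exact hbase a b
    · have : k = t * ι (a, b) := by rw [hk, ← mul_assoc, H.sq, one_mul]
      rw [this]
      exact Subgroup.mul_mem _ (Subgroup.subset_closure htmem) (hbase a b)
  · intro g x hx
    rcases H.gen g with ⟨⟨a, b⟩, rfl⟩ | ⟨⟨a, b⟩, hg⟩
    · exact hconj_base a b x hx
    · have hg' : g = t * ι (a, b) := by rw [hg, ← mul_assoc, H.sq, one_mul]
      have : g * x * g⁻¹ = t * (ι (a, b) * x * (ι (a, b))⁻¹) * t⁻¹ := by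
        rw [hg']; group
      rw [this]
      exact hconj_t _ (hconj_base a b x hx)
  · rintro x (⟨γ, hγ, rfl | rfl⟩ | ⟨u, rfl⟩)
    · rw [← map_mul]
      show ι (γ * γ, 1 * 1) = 1
      rw [h.invol γ hγ, mul_one]; exact map_one ι
    · rw [← map_mul]
      show ι (1 * 1, γ * γ) = 1
      rw [h.invol γ hγ, mul_one]; exact map_one ι
    · have : ι (u, u⁻¹) * t * (ι (u, u⁻¹) * t) = ι (u, u⁻¹) * (t * ι (u, u⁻¹)) * t := by group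
      rw [this, H.swap_mul, ← mul_assoc, ← map_mul, mul_assoc, H.sq, mul_one]
      show ι (u * u⁻¹, u⁻¹ * u) = 1
      rw [mul_inv_cancel, inv_mul_cancel]; exact map_one ι
  · rintro x (⟨γ, hγ, rfl | rfl⟩ | ⟨u, rfl⟩)
    · rw [hδ, map_one, mul_one]; exact h.type γ hγ
    · rw [hδ, map_one, one_mul]; exact h.type γ hγ
    · left
      rw [map_mul, hδ, hδt, mul_one, map_inv, mul_inv_cancel]

theorem HasTau.double (H : DoubleHyp ι t) {δ : P →* A} {c : A} (Γ : Set P) (hc : c ≠ 1)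
    (hE : ∃ τ, δ τ = c) (δK : K →* A) (hδ : ∀ a b, δK (ι (a, b)) = δ a * δ b)
    (hδt : δK t = 1) : HasTau δK (doubleΓ ι t Γ) c := by
  obtain ⟨τ₀, hτ₀⟩ := hE
  have hthird : ∀ u : P, δK (ι (u, u⁻¹) * t) = 1 := by
    intro u
    rw [map_mul, hδ, hδt, mul_one, map_inv, mul_inv_cancel]
  have hcomm : ∀ a b : P, Commute (ι (a, 1)) (ι (1, b)) := fun a b => ι_mul_comm_aux ι a b
  have hL : δK (ι (1, τ₀)) = c := by rw [hδ, map_one, one_mul, hτ₀]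
  have hR : δK (ι (τ₀, 1)) = c := by rw [hδ, map_one, mul_one, hτ₀]
  rintro x (⟨γ, hγ, rfl | rfl⟩ | ⟨u, rfl⟩) x' (⟨γ', hγ', rfl | rfl⟩ | ⟨u', rfl⟩) h1 h2
  · exact ⟨ι (1, τ₀), hL, (hcomm γ τ₀).symm, (hcomm γ' τ₀).symm⟩
  · exact ⟨ι (γ, 1), h1, Commute.refl _, hcomm γ γ'⟩
  · exact absurd ((hthird u').symm.trans h2).symm hc
  · exact ⟨ι (1, γ), h1, Commute.refl _, (hcomm γ' γ).symm⟩
  · exact ⟨ι (τ₀, 1), hR, hcomm τ₀ γ, hcomm τ₀ γ'⟩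
  · exact absurd ((hthird u').symm.trans h2).symm hc
  · exact absurd ((hthird u).symm.trans h1).symm hc
  · exact absurd ((hthird u).symm.trans h1).symm hc
  · exact absurd ((hthird u).symm.trans h1).symm hc

theorem RF.double (H : DoubleHyp ι t) {δ : P →* A} {c₁ c₂ : A} (h : RF δ c₁ c₂)
    (h1 : c₁ ≠ 1) (h2 : c₂ ≠ 1) (δK : K →* A) (hδ : ∀ a b, δK (ι (a, b)) = δ a * δ b)
    (hδt : δK t = 1) : RG δK c₁ c₂ := by
  obtain ⟨Γ, hB, hE₁, hE₂⟩ := h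
  refine ⟨doubleΓ ι t Γ, hB.double H δK hδ hδt, HasTau.double H Γ h1 hE₁ δK hδ hδt,
    HasTau.double H Γ h2 hE₂ δK hδ hδt, ?_, ?_⟩
  · obtain ⟨τ, hτ⟩ := hE₁
    exact ⟨ι (τ, 1), by rw [hδ, map_one, mul_one, hτ]⟩
  · obtain ⟨τ, hτ⟩ := hE₂
    exact ⟨ι (τ, 1), by rw [hδ, map_one, mul_one, hτ]⟩

end double


end Cfsg.Agent.Lib.Helper5
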