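import Mathlib
import Cfsg.Agent.Lib.Helper5.OrthSwap
import Cfsg.Agent.Lib.Helper5.ReflTower2
import Cfsg.Agent.Lib.Helper5.GLSylowA
import Cfsg.Agent.Lib.Helper5.SpVal

set_option autoImplicit false

namespace Cfsg.Agent.Lib.Helper5

open Matrix Cfsg.Agent.Lib.Helper13 Cfsg.Agent.Lib.Helper36 Cfsg.Agent.Lib.Helper44

variable {F : Type*} [Field F] [Fintype F] [DecidableEq F]

section subgroups
variable {ι₁ ι₂ κ : Type} [Fintype ι₁] [DecidableEq ι₁] [Fintype ι₂] [DecidableEq ι₂]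
  [Fintype κ] [DecidableEq κ]

/-- `δ` of the weighted form, with the standard proofs -/
noncomputable abbrev deltaW (w : κ → F) (hw : ∀ k, w k ≠ 0) (h2 : (2 : F) ≠ 0) :
    ↥(Cfsg.isometryGroup F (⇑(wssF w))) →* Fˣ × ℤˣ :=
  delta (wssF w) (wssF_nondeg h2 w hw) h2

theorem exists_blk_subgroup (σ : ι₁ ⊕ ι₂ ≃ κ) (w : κ → F) (hw : ∀ k, w k ≠ 0)
    (h2 : (2 : F) ≠ 0)
    (K₁ : Subgroup ↥(Cfsg.isometryGroup F (⇑(wssF (fun i => w (σ (Sum.inl i)))))))
    (K₂ : Subgroup ↥(Cfsg.isometryGroup F (⇑(wssF (fun j => w (σ (Sum.inr j))))))) :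
    ∃ (K : Subgroup ↥(Cfsg.isometryGroup F (⇑(wssF w)))) (e : K₁ × K₂ ≃* K),
      ∀ x, ((deltaW w hw h2).comp K.subtype) (e x) =
        prodδ ((deltaW (fun i => w (σ (Sum.inl i))) (fun _ => hw _) h2).comp K₁.subtype)
          ((deltaW (fun j => w (σ (Sum.inr j))) (fun _ => hw _) h2).comp K₂.subtype) x := by
  let ι₀ : K₁ × K₂ →* ↥(Cfsg.isometryGroup F (⇑(wssF w))) :=
    (blkO σ w).comp (MonoidHom.prodMap K₁.subtype K₂.subtype)
  have hinj : Function.Injective ι₀ := by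
    intro x y hxy
    have := blkO_injective σ w hxy
    have e1 : (x.1 : ↥(Cfsg.isometryGroup F (⇑(wssF (fun i => w (σ (Sum.inl i))))))) = y.1 :=
      congrArg Prod.fst this
    have e2 : (x.2 : ↥(Cfsg.isometryGroup F (⇑(wssF (fun j => w (σ (Sum.inr j))))))) = y.2 :=
      congrArg Prod.snd this
    exact Prod.ext (Subtype.ext e1) (Subtype.ext e2)
  refine ⟨ι₀.range, MonoidHom.ofInjective hinj, ?_⟩
  intro x
  show deltaW w hw h2 (blkO σ w ((x.1 : ↥(Cfsg.isometryGroup F _)), (x.2 : ↥(Cfsg.isometryGroup F _)))) = _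
  rw [delta_blkO σ w hw h2]
  rfl

theorem exists_dbl_subgroup [Nonempty ι₁] (σ : ι₁ ⊕ ι₁ ≃ κ) (c : F) (hc : c ≠ 0)
    (h2 : (2 : F) ≠ 0) (heven : Even (Fintype.card ι₁))
    (K₁ : Subgroup ↥(Cfsg.isometryGroup F (⇑(wssF (fun _ : ι₁ => c))))) :
    ∃ (K : Subgroup ↥(Cfsg.isometryGroup F (⇑(wssF (fun _ : κ => c))))) (ι : K₁ × K₁ →* K)
      (t : K), DoubleHyp ι t ∧
      (∀ a b, ((deltaW (fun _ : κ => c) (fun _ => hc) h2).comp K.subtype) (ι (a, b)) =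
        ((deltaW (fun _ : ι₁ => c) (fun _ => hc) h2).comp K₁.subtype) a *
        ((deltaW (fun _ : ι₁ => c) (fun _ => hc) h2).comp K₁.subtype) b) ∧
      ((deltaW (fun _ : κ => c) (fun _ => hc) h2).comp K.subtype) t = 1 := by
  let ι₀ : K₁ × K₁ →* ↥(Cfsg.isometryGroup F (⇑(wssF (fun _ : κ => c)))) :=
    (blkO σ (fun _ => c)).comp (MonoidHom.prodMap K₁.subtype K₁.subtype)
  have hinj : Function.Injective ι₀ := by
    intro x y hxy
    have := blkO_injective σ (fun _ => c) hxy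
    have e1 : (x.1 : ↥(Cfsg.isometryGroup F (⇑(wssF (fun _ : ι₁ => c))))) = y.1 :=
      congrArg Prod.fst this
    have e2 : (x.2 : ↥(Cfsg.isometryGroup F (⇑(wssF (fun _ : ι₁ => c))))) = y.2 :=
      congrArg Prod.snd this
    exact Prod.ext (Subtype.ext e1) (Subtype.ext e2)
  have hnot : swpO σ c ∉ ι₀.range := by
    rintro ⟨x, hx⟩
    exact swpO_not_mem_range σ c ⟨_, hx⟩
  have hconj : ∀ a b, swpO σ c * ι₀ (a, b) * (swpO σ c)⁻¹ = ι₀ (b, a) :=
    fun a b => swpO_conj σ c a.1 b.1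
  obtain ⟨K, ι, t', H, hι, ht'⟩ :=
    exists_doubleHyp ι₀ hinj (swpO σ c) (swpO_mul_self σ c) hnot hconj
  refine ⟨K, ι, t', H, ?_, ?_⟩
  · intro a b
    show deltaW (fun _ : κ => c) (fun _ => hc) h2 ((ι (a, b) : K) : ↥(Cfsg.isometryGroup F _)) = _
    rw [hι]
    show deltaW (fun _ : κ => c) (fun _ => hc) h2 (blkO σ (fun _ => c)
      ((a : ↥(Cfsg.isometryGroup F _)), (b : ↥(Cfsg.isometryGroup F _)))) = _
    rw [delta_blkO σ (fun _ => c) (fun _ => hc) h2]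
    rfl
  · show deltaW (fun _ : κ => c) (fun _ => hc) h2 ((t' : K) : ↥(Cfsg.isometryGroup F _)) = 1
    rw [ht']
    exact delta_swpO σ c hc h2 heven

end subgroups

section tower

/-- the isometry group of the sum of `n` squares -/
abbrev O1 (F : Type*) [Field F] (n : ℕ) : Type _ :=
  ↥(Cfsg.isometryGroup F (⇑(wssF (fun _ : Fin n => (1 : F)))))

noncomputable abbrev δ1 (n : ℕ) (h2 : (2 : F) ≠ 0) : O1 F n →* Fˣ × ℤˣ :=
  deltaW (fun _ : Fin n => (1 : F)) (fun _ => one_ne_zero) h2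

/-- a 2-subgroup of `O(n)` of the expected order with the reflection invariants -/
def Tow (h2 : (2 : F) ≠ 0) (τ n k : ℕ) : Prop :=
  ∃ K : Subgroup (O1 F n), Nat.card K = 2 ^ (k * τ + s2 k) ∧
    RF ((δ1 n h2).comp K.subtype) cSq cNs ∧ (2 ≤ k → RG ((δ1 n h2).comp K.subtype) cSq cNs)

theorem Tow.double (h2 : (2 : F) ≠ 0) (τ n k : ℕ) (hn : 1 ≤ n) (heven : Even n)
    (hT : Tow h2 τ n k)
    (harith : 2 * (k * τ + s2 k) + 1 = (k + k) * τ + s2 (k + k)) :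
    Tow h2 τ (n + n) (k + k) := by
  obtain ⟨K₁, hcard, hRF, _⟩ := hT
  haveI : Nonempty (Fin n) := ⟨⟨0, hn⟩⟩
  obtain ⟨K, ι, t, H, hι, ht⟩ := exists_dbl_subgroup (F := F)
    (finSumFinEquiv : Fin n ⊕ Fin n ≃ Fin (n + n)) (1 : F) one_ne_zero h2
    (by simpa using heven) K₁
  have hRG : RG ((δ1 (n + n) h2).comp K.subtype) cSq cNs :=
    RF.double H hRF (cSq_ne_one h2) (cNs_ne_one h2) _ hι ht
  refine ⟨K, ?_, hRG.toRF, fun _ => hRG⟩
  rw [H.card, hcard, ← harith, pow_succ, ← pow_mul]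
  ring

theorem Tow.prod (h2 : (2 : F) ≠ 0) (τ n₁ k₁ n₂ k₂ : ℕ) (h₁ : Tow h2 τ n₁ k₁)
    (h₂ : Tow h2 τ n₂ k₂)
    (harith : (k₁ * τ + s2 k₁) + (k₂ * τ + s2 k₂) = (k₁ + k₂) * τ + s2 (k₁ + k₂)) :
    Tow h2 τ (n₁ + n₂) (k₁ + k₂) := by
  obtain ⟨K₁, hcard₁, hRF₁, _⟩ := h₁
  obtain ⟨K₂, hcard₂, hRF₂, _⟩ := h₂
  obtain ⟨K, e, he⟩ := exists_blk_subgroup (F := F)
    (finSumFinEquiv : Fin n₁ ⊕ Fin n₂ ≃ Fin (n₁ + n₂)) (fun _ => (1 : F))
    (fun _ => one_ne_zero) h2 K₁ K₂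
  have hRG : RG ((δ1 (n₁ + n₂) h2).comp K.subtype) cSq cNs :=
    (hRF₁.prod hRF₂).of_equiv e _ he
  refine ⟨K, ?_, hRG.toRF, fun _ => hRG⟩
  rw [← Nat.card_congr e.toEquiv, Nat.card_prod, hcard₁, hcard₂, ← pow_add, harith]

theorem tow_all (h2 : (2 : F) ≠ 0) (τ : ℕ) (hbase : Tow h2 τ 2 1) :
    ∀ k, 1 ≤ k → Tow h2 τ (2 * k) k := by
  intro m
  induction m using Nat.strong_induction_on with
  | _ m ih =>
    intro hm
    rcases Nat.lt_or_ge m 2 with hlt2 | hge2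
    · obtain rfl : m = 1 := by omega
      exact hbase
    · obtain ⟨k, hk⟩ : ∃ k, k = Nat.log 2 m := ⟨_, rfl⟩
      have hk1 : 1 ≤ k := by
        rw [hk]
        exact Nat.log_pos (by norm_num) hge2
      have hle : 2 ^ k ≤ m := by rw [hk]; exact Nat.pow_log_le_self 2 (by omega)
      have hlt : m < 2 ^ (k + 1) := by rw [hk]; exact Nat.lt_pow_succ_log_self (by norm_num) m
      rcases Nat.eq_or_lt_of_le hle with heq | hlt'
      · obtain ⟨j, rfl⟩ : ∃ j, k = j + 1 := ⟨k - 1, by omega⟩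
        have hm' : m = 2 ^ j + 2 ^ j := by rw [← heq, pow_succ]; ring
        have hjpos : 1 ≤ 2 ^ j := Nat.one_le_two_pow
        have hjlt : 2 ^ j < m := by omega
        have IH := ih (2 ^ j) hjlt hjpos
        have harith : 2 * (2 ^ j * τ + s2 (2 ^ j)) + 1 =
            (2 ^ j + 2 ^ j) * τ + s2 (2 ^ j + 2 ^ j) := by
          have h1 := s2_two_mul (2 ^ j)
          have h2' := s2_two_pow j
          rw [two_mul] at h1
          rw [h1]
          have : (2 ^ j + 2 ^ j) * τ = 2 * (2 ^ j * τ) := by ring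
          rw [this]
          omega
        have := Tow.double h2 τ (2 * 2 ^ j) (2 ^ j) (by omega) ⟨2 ^ j, by ring⟩ IH harith
        have e2 : 2 * 2 ^ j + 2 * 2 ^ j = 2 * m := by rw [hm']; ring
        rw [e2, ← hm'] at this
        exact this
      · obtain ⟨r, hr⟩ : ∃ r, m = 2 ^ k + r := ⟨m - 2 ^ k, by omega⟩
        have hr0 : 0 < r := by omega
        have hrlt : r < 2 ^ k := by rw [pow_succ] at hlt; omega
        have IHm := ih (2 ^ k) (by omega) Nat.one_le_two_pow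
        have IHr := ih r (by omega) hr0
        have harith : (2 ^ k * τ + s2 (2 ^ k)) + (r * τ + s2 r) =
            (2 ^ k + r) * τ + s2 (2 ^ k + r) := by
          rw [s2_add hrlt]; ring
        have := Tow.prod h2 τ (2 * 2 ^ k) (2 ^ k) (2 * r) r IHm IHr harith
        have e2 : 2 * 2 ^ k + 2 * r = 2 * m := by rw [hr]; ring
        rw [e2, ← hr] at this
        exact this

end tower

end Cfsg.Agent.Lib.Helper5
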