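import Mathlib
import Cfsg.Agent.Lib.Helper5.OrthTower
import Cfsg.Agent.Lib.Helper36.ReflMatrix
import Cfsg.Agent.Lib.Helper44.Refl

set_option autoImplicit false

namespace Cfsg.Agent.Lib.Helper5

open Matrix Cfsg.Agent.Lib.Helper13 Cfsg.Agent.Lib.Helper36 Cfsg.Agent.Lib.Helper44

variable {F : Type*} [Field F] [Fintype F] [DecidableEq F]

section reflections
variable {ι : Type} [Fintype ι] [DecidableEq ι]

theorem delta_reflElt (Q : QuadraticForm F (ι → F))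
    (hQ : (QuadraticMap.polarBilin Q).Nondegenerate) (h2 : (2 : F) ≠ 0) (v : ι → F)
    (hv : Q v ≠ 0) :
    delta Q hQ h2 (reflElt Q v) = if IsSquare (Q v) then cSq else cNs := by
  have hdet : Matrix.GeneralLinearGroup.det ((reflElt Q v : ↥(Cfsg.isometryGroup F (⇑Q))) : GL ι F)
      = -1 := by
    apply Units.ext
    rw [Units.val_neg, Units.val_one]
    show ((reflElt Q v : GL ι F) : Matrix ι ι F).det = -1
    rw [reflElt_val Q v hv]
    exact Cfsg.Agent.Lib.Helper13.reflectionMatrix_det Q v hv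
  have hspin : ((spinM Q hQ h2 (reflElt Q v) : ℤˣ) : ℤ) = quadraticChar F (Q v) := by
    rw [spinM_val]
    apply spin_refl Q hQ v hv
    intro z
    rw [glLinEquiv_apply, reflElt_val Q v hv, reflectionMatrix_mulVec_eq_reflLin]
  rw [delta_apply, hdet]
  split_ifs with hsq
  · have : spinM Q hQ h2 (reflElt Q v) = 1 := by
      apply Units.ext
      rw [hspin, Units.val_one]
      exact (quadraticChar_one_iff_isSquare hv).2 hsq
    rw [this]; rfl
  · have : spinM Q hQ h2 (reflElt Q v) = -1 := by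
      apply Units.ext
      rw [hspin, Units.val_neg, Units.val_one]
      exact quadraticChar_neg_one_iff_not_isSquare.2 hsq
    rw [this]; rfl

theorem exists_conj_mem_sylow {G : Type*} [Group G] [Finite G] (S : Sylow 2 G) (x : G)
    (hx : x * x = 1) : ∃ g : G, g * x * g⁻¹ ∈ S.toSubgroup := by
  have hp : IsPGroup 2 (Subgroup.zpowers x) := by
    rintro ⟨g, hg⟩
    refine ⟨1, ?_⟩
    obtain ⟨j, rfl⟩ := Subgroup.mem_zpowers_iff.1 hg
    apply Subtype.ext
    show (x ^ j) ^ (2 ^ 1) = 1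
    rw [pow_one, ← zpow_natCast, ← _root_.zpow_mul, mul_comm, _root_.zpow_mul, zpow_natCast, pow_two, hx,
      _root_.one_zpow]
  obtain ⟨S₀, hS₀⟩ := hp.exists_le_sylow
  obtain ⟨g, hg⟩ := MulAction.exists_smul_eq G S₀ S
  refine ⟨g, ?_⟩
  rw [← hg]
  exact ⟨x, hS₀ (Subgroup.mem_zpowers x), rfl⟩

theorem exists_delta_eq_sylow (Q : QuadraticForm F (ι → F))
    (hQ : (QuadraticMap.polarBilin Q).Nondegenerate) (h2 : (2 : F) ≠ 0)
    (hdim : 2 ≤ Fintype.card ι) (S : Sylow 2 ↥(Cfsg.isometryGroup F (⇑Q))) :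
    (∃ τ : S.toSubgroup, ((delta Q hQ h2).comp S.toSubgroup.subtype) τ = cSq) ∧
      (∃ τ : S.toSubgroup, ((delta Q hQ h2).comp S.toSubgroup.subtype) τ = cNs) := by
  have hdim' : 2 ≤ Module.finrank F (ι → F) := by
    rw [Module.finrank_fintype_fun_eq_card]; exact hdim
  have hchar : ringChar F ≠ 2 := by
    intro h
    apply h2
    have : ((2 : ℕ) : F) = 0 := by
      rw [← h]; exact ringChar.Nat.cast_ringChar
    exact_mod_cast this
  obtain ⟨η, hη⟩ := FiniteField.exists_nonsquare hchar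
  have hη0 : η ≠ 0 := by
    rintro rfl
    exact hη IsSquare.zero
  obtain ⟨v₁, hv₁⟩ := exists_Q_eq Q hQ h2 hdim' 1 one_ne_zero
  obtain ⟨v₂, hv₂⟩ := exists_Q_eq Q hQ h2 hdim' η hη0
  have hv₁0 : Q v₁ ≠ 0 := by rw [hv₁]; exact one_ne_zero
  have hv₂0 : Q v₂ ≠ 0 := by rw [hv₂]; exact hη0
  constructor
  · obtain ⟨g, hg⟩ := exists_conj_mem_sylow S (reflElt Q v₁) (reflElt_mul_self Q v₁)
    refine ⟨⟨_, hg⟩, ?_⟩
    show delta Q hQ h2 (g * reflElt Q v₁ * g⁻¹) = cSq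
    rw [hom_conj_eq', delta_reflElt Q hQ h2 v₁ hv₁0, hv₁, if_pos ⟨1, (mul_one 1).symm⟩]
  · obtain ⟨g, hg⟩ := exists_conj_mem_sylow S (reflElt Q v₂) (reflElt_mul_self Q v₂)
    refine ⟨⟨_, hg⟩, ?_⟩
    show delta Q hQ h2 (g * reflElt Q v₂ * g⁻¹) = cNs
    rw [hom_conj_eq', delta_reflElt Q hQ h2 v₂ hv₂0, hv₂, if_neg hη]

end reflections

section base

theorem sq_eq_one_of_det_neg_one (h2 : (2 : F) ≠ 0) (g : O1 F 2)
    (hdet : Matrix.GeneralLinearGroup.det (g : GL (Fin 2) F) = -1) : g * g = 1 := by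
  obtain ⟨A, hA⟩ : ∃ A : Matrix (Fin 2) (Fin 2) F, A = ((g : GL (Fin 2) F) : Matrix (Fin 2) (Fin 2) F) :=
    ⟨_, rfl⟩
  have hmem := (Cfsg.Agent.Lib.Helper13.mem_isometryGroup_iff _ _).1 g.2
  have hQ : ∀ v : Fin 2 → F, (A *ᵥ v) 0 * (A *ᵥ v) 0 + (A *ᵥ v) 1 * (A *ᵥ v) 1 =
      v 0 * v 0 + v 1 * v 1 := by
    intro v
    have := hmem v
    rw [wssF_apply, wssF_apply, Fin.sum_univ_two, Fin.sum_univ_two] at this
    rw [hA]
    simpa using this
  have hmv : ∀ (v : Fin 2 → F) (i : Fin 2), (A *ᵥ v) i = A i 0 * v 0 + A i 1 * v 1 := by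
    intro v i
    rw [Matrix.mulVec, dotProduct, Fin.sum_univ_two]
  have h1 := hQ ![1, 0]
  have h2' := hQ ![0, 1]
  have h3 := hQ ![1, 1]
  simp only [hmv, Matrix.cons_val_zero, Matrix.cons_val_one, mul_one, mul_zero, add_zero,
    zero_add] at h1 h2' h3
  have hd : A.det = -1 := by
    have := congrArg Units.val hdet
    rw [hA]
    simpa using this
  rw [Matrix.det_fin_two] at hd
  have h12 : A 0 0 * A 0 1 + A 1 0 * A 1 1 = 0 := by
    have : 2 * (A 0 0 * A 0 1 + A 1 0 * A 1 1) = 0 := by linear_combination h3 - h1 - h2'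
    rcases mul_eq_zero.1 this with h | h
    · exact absurd h h2
    · exact h
  have e1 : A 1 1 = - A 0 0 := by
    linear_combination (-(A 1 1)) * h1 + (A 1 0) * h12 + (A 0 0) * hd
  have e2 : A 0 1 = A 1 0 := by
    linear_combination (-(A 0 1)) * h1 + (A 0 0) * h12 - (A 1 0) * hd
  apply Subtype.ext
  apply Units.ext
  show ((g : GL (Fin 2) F) : Matrix (Fin 2) (Fin 2) F) * ((g : GL (Fin 2) F) : Matrix (Fin 2) (Fin 2) F) = 1
  rw [← hA]
  ext i j
  fin_cases i <;> fin_cases j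
  · simp only [Matrix.mul_apply, Fin.sum_univ_two, Fin.zero_eta, Fin.isValue, Matrix.one_apply_eq]
    rw [e2]; linear_combination h1
  · simp only [Matrix.mul_apply, Fin.sum_univ_two, Fin.zero_eta, Fin.mk_one, Fin.isValue]
    rw [Matrix.one_apply_ne (by decide), e1]; ring
  · simp only [Matrix.mul_apply, Fin.sum_univ_two, Fin.zero_eta, Fin.mk_one, Fin.isValue]
    rw [Matrix.one_apply_ne (by decide), e1]; ring
  · simp only [Matrix.mul_apply, Fin.sum_univ_two, Fin.mk_one, Fin.isValue, Matrix.one_apply_eq]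
    rw [← e2]; linear_combination h2'

theorem rf_sylow_two (h2 : (2 : F) ≠ 0) (S : Sylow 2 (O1 F 2)) :
    RF ((δ1 2 h2).comp S.toSubgroup.subtype) cSq cNs := by
  obtain ⟨⟨τ₁, hτ₁⟩, ⟨τ₂, hτ₂⟩⟩ := exists_delta_eq_sylow
    (wssF (fun _ : Fin 2 => (1 : F))) (wssF_nondeg h2 _ (fun _ => one_ne_zero)) h2
    (by simp) S
  let Γ : Set S.toSubgroup := {γ | Matrix.GeneralLinearGroup.det ((γ : O1 F 2) : GL (Fin 2) F) = -1}
  have hτ₁Γ : τ₁ ∈ Γ := by
    have := congrArg Prod.fst hτ₁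
    exact this
  refine ⟨Γ, ⟨?_, ?_, ?_, ?_⟩, ⟨τ₁, hτ₁⟩, ⟨τ₂, hτ₂⟩⟩
  · rw [eq_top_iff]
    intro x _
    rcases det_isometry (wssF (fun _ : Fin 2 => (1 : F)))
      (wssF_nondeg h2 _ (fun _ => one_ne_zero)) (x : O1 F 2) with h | h
    · have hx : x * τ₁ ∈ Γ := by
        show Matrix.GeneralLinearGroup.det (((x * τ₁ : S.toSubgroup) : O1 F 2) : GL (Fin 2) F) = -1
        have : (((x * τ₁ : S.toSubgroup) : O1 F 2) : GL (Fin 2) F) =
            ((x : O1 F 2) : GL (Fin 2) F) * ((τ₁ : O1 F 2) : GL (Fin 2) F) := rfl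
        rw [this, map_mul, h, one_mul]
        exact hτ₁Γ
      have : x = (x * τ₁) * τ₁⁻¹ := by group
      rw [this]
      exact Subgroup.mul_mem _ (Subgroup.subset_closure hx)
        (Subgroup.inv_mem _ (Subgroup.subset_closure hτ₁Γ))
    · exact Subgroup.subset_closure h
  · intro g γ hγ
    show Matrix.GeneralLinearGroup.det (((g * γ * g⁻¹ : S.toSubgroup) : O1 F 2) : GL (Fin 2) F) = -1
    have : (((g * γ * g⁻¹ : S.toSubgroup) : O1 F 2) : GL (Fin 2) F) =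
        ((g : O1 F 2) : GL (Fin 2) F) * ((γ : O1 F 2) : GL (Fin 2) F) *
          ((g : O1 F 2) : GL (Fin 2) F)⁻¹ := rfl
    rw [this, hom_conj_eq']
    exact hγ
  · intro γ hγ
    apply Subtype.ext
    exact sq_eq_one_of_det_neg_one h2 (γ : O1 F 2) hγ
  · intro γ hγ
    right
    exact delta_type_of_det _ _ h2 (γ : O1 F 2) hγ

end base

end Cfsg.Agent.Lib.Helper5
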