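import Mathlib
import Cfsg.Agent.Lib.Helper5.OrthBase
import Cfsg.Agent.Lib.Helper5.OrthPlus
import Cfsg.Agent.Lib.Helper5.OrthMinus
import Cfsg.Agent.Lib.Helper44.Transport

set_option autoImplicit false

namespace Cfsg.Agent.Lib.Helper5

open Matrix Cfsg.Agent.Lib.Helper13 Cfsg.Agent.Lib.Helper36 Cfsg.Agent.Lib.Helper44

variable {F : Type*} [Field F] [Fintype F]

section cardtwo

/-- the change of coordinates `x² + y² = (x + iy)(x - iy)` -/
noncomputable def planeEquiv (i : F) (hi : i ≠ 0) (h2 : (2 : F) ≠ 0) :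
    (Fin 2 → F) ≃ₗ[F] (Fin 1 ⊕ Fin 1 → F) where
  toFun v := Sum.elim (fun _ => v 0 + i * v 1) (fun _ => v 0 - i * v 1)
  map_add' u v := by
    funext x
    rcases x with x | x <;> simp <;> ring
  map_smul' c v := by
    funext x
    rcases x with x | x <;> simp <;> ring
  invFun u := ![(u (Sum.inl 0) + u (Sum.inr 0)) / 2, (u (Sum.inl 0) - u (Sum.inr 0)) / (2 * i)]
  left_inv v := by
    funext x
    fin_cases x
    · simp
      field_simp
      ring
    · simp
      field_simp
      ring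
  right_inv u := by
    funext x
    rcases x with x | x
    · have hx : x = 0 := Subsingleton.elim _ _
      subst hx
      simp
      field_simp
      ring
    · have hx : x = 0 := Subsingleton.elim _ _
      subst hx
      simp
      field_simp
      ring

theorem card_O1_two_of_isSquare (h2 : (2 : F) ≠ 0) (hsq : IsSquare (-1 : F)) :
    Nat.card (O1 F 2) = 2 * (Fintype.card F - 1) := by
  obtain ⟨i, hi⟩ := hsq
  have hi0 : i ≠ 0 := by
    rintro rfl
    simp at hi
  have hT : ∀ v : Fin 2 → F, Cfsg.quadFormPlus 1 F (planeEquiv i hi0 h2 v) =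
      wssF (fun _ : Fin 2 => (1 : F)) v := by
    intro v
    rw [wssF_apply, Fin.sum_univ_two]
    unfold Cfsg.quadFormPlus
    rw [Fin.sum_univ_one]
    show (v 0 + i * v 1) * (v 0 - i * v 1) = _
    have : i * i = -1 := hi.symm
    linear_combination (- v 1 * v 1) * this
  have e := conjIso (planeEquiv i hi0 h2) (⇑(wssF (fun _ : Fin 2 => (1 : F))))
    (Cfsg.quadFormPlus 1 F) hT
  rw [Nat.card_congr e.toEquiv, card_isometryGroup_plus rfl 1 le_rfl]
  simp

theorem card_O1_two_of_not_isSquare (hsq : ¬ IsSquare (-1 : F)) :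
    Nat.card (O1 F 2) = 2 * (Fintype.card F + 1) := by
  let ρ : (Fin 0 ⊕ Fin 0) ⊕ Fin 2 ≃ Fin 2 := Equiv.emptySum (Fin 0 ⊕ Fin 0) (Fin 2)
  let T : (Fin 2 → F) ≃ₗ[F] ((Fin 0 ⊕ Fin 0) ⊕ Fin 2 → F) := LinearEquiv.funCongrLeft F F ρ
  have hT : ∀ v : Fin 2 → F, Cfsg.quadFormMinus 0 F 0 1 (T v) =
      wssF (fun _ : Fin 2 => (1 : F)) v := by
    intro v
    rw [wssF_apply, Fin.sum_univ_two]
    unfold Cfsg.quadFormMinus
    have h0 : T v (Sum.inr 0) = v 0 := rfl
    have h1 : T v (Sum.inr 1) = v 1 := rfl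
    rw [h0, h1]
    simp
    ring
  have hab : ∀ z₁ z₂ : F, z₁ ^ 2 + 0 * z₁ * z₂ + 1 * z₂ ^ 2 = 0 → z₁ = 0 ∧ z₂ = 0 := by
    intro z₁ z₂ h
    have h' : z₁ ^ 2 + z₂ ^ 2 = 0 := by linear_combination h
    by_cases hz : z₂ = 0
    · subst hz
      refine ⟨?_, rfl⟩
      have : z₁ ^ 2 = 0 := by linear_combination h'
      exact pow_eq_zero_iff (two_ne_zero) |>.1 this
    · exfalso
      apply hsq
      refine ⟨z₁ / z₂, ?_⟩
      field_simp
      linear_combination -h'
  have e := conjIso T (⇑(wssF (fun _ : Fin 2 => (1 : F)))) (Cfsg.quadFormMinus 0 F 0 1) hT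
  rw [Nat.card_congr e.toEquiv]
  have := card_isometryGroup_minus (F := F) rfl 1 le_rfl 0 1 hab
  simp only [Nat.sub_self] at this
  rw [this]
  simp

theorem factorization_card_O1_two (hq : Odd (Fintype.card F)) :
    (Nat.card (O1 F 2)).factorization 2 = cq (Fintype.card F) := by
  have h2 : (2 : F) ≠ 0 := two_ne_zero_of_odd_card hq
  have h1 : 1 < Fintype.card F := Fintype.one_lt_card
  obtain ⟨w, hw⟩ := hq
  by_cases hsq : IsSquare (-1 : F)
  · have h4 : Fintype.card F % 4 = 1 := by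
      have := FiniteField.isSquare_neg_one_iff.1 hsq
      omega
    rw [card_O1_two_of_isSquare h2 hsq, Nat.factorization_def _ Nat.prime_two,
      padicValNat.mul (by norm_num) (by omega), padicValNat_self]
    unfold cq
    rw [padicValNat_two_of_mod_four (x := Fintype.card F + 1) (by omega)]
  · have h4 : Fintype.card F % 4 = 3 := by
      have := mt FiniteField.isSquare_neg_one_iff.2 hsq
      omega
    rw [card_O1_two_of_not_isSquare hsq, Nat.factorization_def _ Nat.prime_two,
      padicValNat.mul (by norm_num) (by omega), padicValNat_self]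
    unfold cq
    rw [padicValNat_two_of_mod_four (x := Fintype.card F - 1) (by omega)]
    ring

end cardtwo

section towbase
variable [DecidableEq F]

theorem tow_base (hq : Odd (Fintype.card F)) (h2 : (2 : F) ≠ 0) :
    Tow h2 (cq (Fintype.card F)) 2 1 := by
  obtain ⟨S⟩ := (inferInstance : Nonempty (Sylow 2 (O1 F 2)))
  refine ⟨S.toSubgroup, ?_, rf_sylow_two h2 S, fun h => absurd h (by norm_num)⟩
  rw [Sylow.card_eq_multiplicity, factorization_card_O1_two hq]
  simp [s2]

theorem tow_all' (hq : Odd (Fintype.card F)) (h2 : (2 : F) ≠ 0) (k : ℕ) (hk : 1 ≤ k) :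
    Tow h2 (cq (Fintype.card F)) (2 * k) k :=
  tow_all h2 _ (tow_base hq h2) k hk

end towbase

end Cfsg.Agent.Lib.Helper5
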