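import Mathlib
import Cfsg.Agent.Lib.Helper5.OrthBase2

set_option autoImplicit false

namespace Cfsg.Agent.Lib.Helper5

open Matrix Cfsg.Agent.Lib.Helper13 Cfsg.Agent.Lib.Helper36 Cfsg.Agent.Lib.Helper44

section generic

theorem sq_sylow_of_kerSq_ker {G A : Type*} [Group G] [Finite G] [CommGroup A] (δ : G →* A)
    (N : Subgroup G) (hN : ∀ x, x ∈ N ↔ δ x = 1)
    (h : ∀ S : Sylow 2 G, KerSq (δ.comp S.toSubgroup.subtype)) (P : Sylow 2 N)
    (x : P.toSubgroup) : x ^ 2 ∈ commutator P.toSubgroup := by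
  have hNker : N = δ.ker := by
    ext y
    rw [hN, MonoidHom.mem_ker]
  haveI : N.Normal := by rw [hNker]; infer_instance
  let P' : Subgroup G := P.toSubgroup.map N.subtype
  have hP' : IsPGroup 2 P' := P.2.map _
  obtain ⟨S, hS⟩ := hP'.exists_le_sylow
  let T : Subgroup G := S.toSubgroup ⊓ N
  have hle : P' ≤ T := by
    intro y hy
    refine ⟨hS hy, ?_⟩
    obtain ⟨z, _, rfl⟩ := hy
    exact z.2
  let e₁ : P.toSubgroup ≃* P' :=
    P.toSubgroup.equivMapOfInjective N.subtype (Subgroup.subtype_injective N)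
  have hcard : Nat.card T = Nat.card P' := by
    rw [card_sylow_inf_normal S N, ← Nat.card_congr e₁.toEquiv, Sylow.card_eq_multiplicity]
  have heq : P' = T := Subgroup.eq_of_le_of_card_ge hle (le_of_eq hcard)
  let e₂ : P' ≃* T := MulEquiv.subgroupCongr heq
  let e₃ : T ≃* (δ.comp S.toSubgroup.subtype).ker :=
    { toFun := fun y => ⟨⟨y.1, y.2.1⟩, (hN y.1).1 y.2.2⟩
      invFun := fun y => ⟨y.1.1, ⟨y.1.2, (hN y.1.1).2 y.2⟩⟩
      left_inv := fun y => rfl
      right_inv := fun y => rfl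
      map_mul' := fun y z => rfl }
  exact (h S).sq_of_equiv (e₁.trans (e₂.trans e₃)) x

theorem sq_sylow_of_equiv {G G' : Type*} [Group G] [Group G'] [Finite G] [Finite G']
    (e : G ≃* G')
    (h : ∀ P' : Sylow 2 G', ∀ x : P'.toSubgroup, x ^ 2 ∈ commutator P'.toSubgroup)
    (P : Sylow 2 G) (x : P.toSubgroup) : x ^ 2 ∈ commutator P.toSubgroup := by
  let K : Subgroup G' := P.toSubgroup.map e.toMonoidHom
  let eP : P.toSubgroup ≃* K := P.toSubgroup.equivMapOfInjective e.toMonoidHom e.injective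
  have hK : Nat.card K = 2 ^ (Nat.card G').factorization 2 := by
    rw [← Nat.card_congr eP.toEquiv, ← Nat.card_congr e.toEquiv, Sylow.card_eq_multiplicity]
  have := h (Sylow.ofCard K hK) (eP x)
  have h3 := sq_mem_commutator_map eP.symm.toMonoidHom this
  simpa using h3

end generic

variable {F : Type*} [Field F] [Fintype F] [DecidableEq F]

section line

theorem gl_one_ext (g h : GL (Fin 1) F)
    (hdet : Matrix.GeneralLinearGroup.det g = Matrix.GeneralLinearGroup.det h) : g = h := by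
  apply Units.ext
  ext i j
  have hi : i = 0 := Subsingleton.elim _ _
  have hj : j = 0 := Subsingleton.elim _ _
  subst hi hj
  have := congrArg Units.val hdet
  simpa [Matrix.det_fin_one] using this

theorem rl_line (d : F) (hd : d ≠ 0) (h2 : (2 : F) ≠ 0)
    (K : Subgroup ↥(Cfsg.isometryGroup F (⇑(wssF (fun _ : Fin 1 => d))))) :
    RL ((deltaW (fun _ : Fin 1 => d) (fun _ => hd) h2).comp K.subtype) cSq cNs := by
  let Γ : Set K := {γ | Matrix.GeneralLinearGroup.det
    ((γ : ↥(Cfsg.isometryGroup F (⇑(wssF (fun _ : Fin 1 => d))))) : GL (Fin 1) F) = -1}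
  have hext : ∀ x y : K, Matrix.GeneralLinearGroup.det
      ((x : ↥(Cfsg.isometryGroup F (⇑(wssF (fun _ : Fin 1 => d))))) : GL (Fin 1) F) =
      Matrix.GeneralLinearGroup.det
      ((y : ↥(Cfsg.isometryGroup F (⇑(wssF (fun _ : Fin 1 => d))))) : GL (Fin 1) F) → x = y := by
    intro x y hxy
    apply Subtype.ext
    apply Subtype.ext
    exact gl_one_ext _ _ hxy
  have hdetmul : ∀ x y : K, Matrix.GeneralLinearGroup.det
      (((x * y : K) : ↥(Cfsg.isometryGroup F (⇑(wssF (fun _ : Fin 1 => d))))) : GL (Fin 1) F) =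
      Matrix.GeneralLinearGroup.det
      ((x : ↥(Cfsg.isometryGroup F (⇑(wssF (fun _ : Fin 1 => d))))) : GL (Fin 1) F) *
      Matrix.GeneralLinearGroup.det
      ((y : ↥(Cfsg.isometryGroup F (⇑(wssF (fun _ : Fin 1 => d))))) : GL (Fin 1) F) := by
    intro x y
    exact map_mul Matrix.GeneralLinearGroup.det _ _
  have hab : ∀ x y : K, x * y = y * x := by
    intro x y
    apply hext
    rw [hdetmul, hdetmul, mul_comm]
  refine ⟨Γ, ⟨?_, ?_, ?_, ?_⟩, hab⟩
  · rw [eq_top_iff]
    intro x _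
    rcases det_isometry (wssF (fun _ : Fin 1 => d)) (wssF_nondeg h2 _ (fun _ => hd))
      (x : ↥(Cfsg.isometryGroup F (⇑(wssF (fun _ : Fin 1 => d))))) with h | h
    · have : x = 1 := by
        apply hext
        rw [h]
        exact (map_one Matrix.GeneralLinearGroup.det).symm
      rw [this]
      exact Subgroup.one_mem _
    · exact Subgroup.subset_closure h
  · intro g γ hγ
    have : g * γ * g⁻¹ = γ := by rw [hab g γ, mul_inv_cancel_right]
    rw [this]
    exact hγ
  · intro γ hγ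
    apply hext
    have hγ' : Matrix.GeneralLinearGroup.det
      ((γ : ↥(Cfsg.isometryGroup F (⇑(wssF (fun _ : Fin 1 => d))))) : GL (Fin 1) F) = -1 := hγ
    rw [hdetmul, hγ']
    rw [show (((1 : K) : ↥(Cfsg.isometryGroup F (⇑(wssF (fun _ : Fin 1 => d))))) : GL (Fin 1) F) = 1
      from rfl, map_one]
    simp
  · intro γ hγ
    right
    exact delta_type_of_det _ _ h2 _ hγ

theorem card_line (d : F) (hd : d ≠ 0) (h2 : (2 : F) ≠ 0) :
    Nat.card ↥(Cfsg.isometryGroup F (⇑(wssF (fun _ : Fin 1 => d)))) = 2 := by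
  rw [Nat.card_eq_two_iff]
  have hne : (dsign (fun _ : Fin 1 => d) (fun _ => (-1 : ℤˣ))) ≠ 1 := by
    intro h
    have h1 := congrArg (fun g : ↥(Cfsg.isometryGroup F (⇑(wssF (fun _ : Fin 1 => d)))) =>
      ((g : GL (Fin 1) F) : Matrix (Fin 1) (Fin 1) F) 0 0) h
    simp only [dsign_neg_one_val] at h1
    have h3 : (-1 : F) = 1 := by simpa using h1
    apply h2
    have : (2 : F) = 1 - -1 := by ring
    rw [this, h3, sub_self]
  refine ⟨1, dsign (fun _ : Fin 1 => d) (fun _ => (-1 : ℤˣ)), hne.symm, ?_⟩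
  rw [Set.eq_univ_iff_forall]
  intro x
  have hdetneg : Matrix.GeneralLinearGroup.det
      ((dsign (fun _ : Fin 1 => d) (fun _ => (-1 : ℤˣ)) :
        ↥(Cfsg.isometryGroup F (⇑(wssF (fun _ : Fin 1 => d))))) : GL (Fin 1) F) = -1 := by
    apply Units.ext
    show ((dsign (fun _ : Fin 1 => d) (fun _ => (-1 : ℤˣ)) : GL (Fin 1) F) :
      Matrix (Fin 1) (Fin 1) F).det = _
    rw [dsign_neg_one_val]
    simp [Matrix.det_fin_one]
  rcases det_isometry (wssF (fun _ : Fin 1 => d)) (wssF_nondeg h2 _ (fun _ => hd)) x with h | h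
  · left
    apply Subtype.ext
    apply gl_one_ext
    rw [h]
    exact (map_one Matrix.GeneralLinearGroup.det).symm
  · right
    show x = _
    apply Subtype.ext
    apply gl_one_ext
    rw [h, hdetneg]

end line

end Cfsg.Agent.Lib.Helper5
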