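import Mathlib
import Cfsg.Agent.Lib.Helper5.OrthLine
import Cfsg.Agent.Lib.Helper5.OrthOdd
import Cfsg.Agent.Lib.Helper44.TwoRank
import Cfsg.Agent.Lib.Helper44.OddQF

set_option autoImplicit false

namespace Cfsg.Agent.Lib.Helper5

open Matrix Cfsg.Agent.Lib.Helper13 Cfsg.Agent.Lib.Helper36 Cfsg.Agent.Lib.Helper44

variable {F : Type*} [Field F] [Fintype F] [DecidableEq F]

section final
variable {ι κ : Type} [Fintype ι] [DecidableEq ι] [Fintype κ] [DecidableEq κ]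

theorem sq_sylow_Omega_of_subgroup (w : κ → F) (hw : ∀ k, w k ≠ 0) (h2 : (2 : F) ≠ 0)
    (hcard : 2 ≤ Fintype.card κ)
    (K : Subgroup ↥(Cfsg.isometryGroup F (⇑(wssF w))))
    (hK : Nat.card K = 2 ^ (Nat.card ↥(Cfsg.isometryGroup F (⇑(wssF w)))).factorization 2)
    (hRG : RG ((deltaW w hw h2).comp K.subtype) cSq cNs)
    (P : Sylow 2 ↥(Cfsg.Omega F (⇑(wssF w)))) (x : P.toSubgroup) :
    x ^ 2 ∈ commutator P.toSubgroup := by
  have hKer : KerSq ((deltaW w hw h2).comp K.subtype) :=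
    hRG.kerSq cSq_mul_self cNs_mul_self (cSq_ne_one h2) (cNs_ne_one h2) cSq_ne_cNs
  have hall : ∀ S : Sylow 2 ↥(Cfsg.isometryGroup F (⇑(wssF w))),
      KerSq ((deltaW w hw h2).comp S.toSubgroup.subtype) := by
    intro S
    have h1 := KerSq.sylow (G := ↥(Cfsg.isometryGroup F (⇑(wssF w)))) (A := Fˣ × ℤˣ)
      (deltaW w hw h2) K hK
    exact h1 hKer S
  exact sq_sylow_of_kerSq_ker (deltaW w hw h2) (Cfsg.Omega F (⇑(wssF w)))
    (fun t => mem_Omega_iff_delta (wssF w) (wssF_nondeg h2 w hw) h2 hcard t) hall P x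

theorem exists_isometry_to_wss' (Q : QuadraticForm F (ι → F)) (h2 : (2 : F) ≠ 0)
    (hQ : (QuadraticMap.polarBilin Q).Nondegenerate) (hκ : Fintype.card κ = Fintype.card ι) :
    ∃ D₀ : F, D₀ ≠ 0 ∧ ∀ w' : κ → F, (∀ i, w' i ≠ 0) →
      IsSquare (D₀ * ∏ i, (2 * w' i)) →
      ∃ T : (ι → F) ≃ₗ[F] (κ → F), ∀ v, wssF w' (T v) = Q v := by
  obtain ⟨D₀, hD₀, hex⟩ := exists_isometry_to_wss Q h2 hQ
  refine ⟨D₀, hD₀, ?_⟩
  intro w' hw' hsq
  have hN : Module.finrank F (ι → F) = Fintype.card ι := Module.finrank_fintype_fun_eq_card F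
  have hc : Fintype.card κ = Fintype.card (Fin (Module.finrank F (ι → F))) := by
    rw [Fintype.card_fin, hN, hκ]
  let ρ : κ ≃ Fin (Module.finrank F (ι → F)) := Fintype.equivOfCardEq hc
  obtain ⟨T, hT⟩ := hex (fun i => w' (ρ.symm i)) (fun i => hw' _) (by
    rw [Equiv.prod_comp ρ.symm (fun x => 2 * w' x)]
    exact hsq)
  refine ⟨T.trans (LinearEquiv.funCongrLeft F F ρ), ?_⟩
  intro v
  rw [← hT v, wssF_apply, wssF_apply, ← Equiv.sum_comp ρ]
  apply Finset.sum_congr rfl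
  intro x _
  rw [Equiv.symm_apply_apply]
  rfl

end final

section elim
variable {ι₁ ι₂ : Type} [Fintype ι₁] [DecidableEq ι₁] [Fintype ι₂] [DecidableEq ι₂]

theorem exists_blk_subgroup_elim (w₁ : ι₁ → F) (w₂ : ι₂ → F) (hw₁ : ∀ i, w₁ i ≠ 0)
    (hw₂ : ∀ j, w₂ j ≠ 0) (hw : ∀ k, Sum.elim w₁ w₂ k ≠ 0) (h2 : (2 : F) ≠ 0)
    (K₁ : Subgroup ↥(Cfsg.isometryGroup F (⇑(wssF w₁))))
    (K₂ : Subgroup ↥(Cfsg.isometryGroup F (⇑(wssF w₂)))) :
    ∃ (K : Subgroup ↥(Cfsg.isometryGroup F (⇑(wssF (Sum.elim w₁ w₂))))) (e : K₁ × K₂ ≃* K),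
      ∀ x, ((deltaW (Sum.elim w₁ w₂) hw h2).comp K.subtype) (e x) =
        prodδ ((deltaW w₁ hw₁ h2).comp K₁.subtype) ((deltaW w₂ hw₂ h2).comp K₂.subtype) x :=
  exists_blk_subgroup (F := F) (Equiv.refl (ι₁ ⊕ ι₂)) (Sum.elim w₁ w₂) hw h2 K₁ K₂

end elim

section odd

theorem factorization_card_O_odd (hq : Odd (Fintype.card F)) (m : ℕ) :
    (Nat.card ↥(Cfsg.isometryGroup F (Cfsg.quadFormOdd m F))).factorization 2 =
      m * cq (Fintype.card F) + s2 m + 1 := by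
  have h1 := card_isometryGroup_odd (F := F) rfl hq m
  have h3 := card_symplecticGroup (F := F) m
  have h4 : Nat.card ↥(Cfsg.isometryGroup F (Cfsg.quadFormOdd m F)) =
      2 * Nat.card (symplecticGroup (Fin m) F) := by
    rw [h1, h3]; ring
  rw [h4, Nat.factorization_mul (by norm_num) Nat.card_pos.ne', Finsupp.coe_add, Pi.add_apply,
    factorization_card_sp hq m]
  simp [Nat.Prime.factorization_self Nat.prime_two]
  ring

theorem sq_sylow_Omega_odd (hq : Odd (Fintype.card F)) (m : ℕ) (hm : 2 ≤ m)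
    (P : Sylow 2 ↥(Cfsg.Omega F (Cfsg.quadFormOdd m F))) (x : P.toSubgroup) :
    x ^ 2 ∈ commutator P.toSubgroup := by
  have h2 : (2 : F) ≠ 0 := two_ne_zero_of_odd_card hq
  have hcardO := factorization_card_O_odd hq m
  revert P
  revert hcardO
  rw [← oddQF_coe]
  intro hcardO P x
  have hQ := oddQF_nondeg (m := m) (F := F) h2
  have hκ : Fintype.card (Fin (2 * m) ⊕ Fin 1) = Fintype.card (Unit ⊕ (Fin m ⊕ Fin m)) := by
    simp; ring
  obtain ⟨D₀, hD₀, hex⟩ := exists_isometry_to_wss' (κ := Fin (2 * m) ⊕ Fin 1) (oddQF m F) h2 hQ hκ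
  obtain ⟨d, hd⟩ : ∃ d : F, d = D₀ * 2 ^ (2 * m + 1) := ⟨_, rfl⟩
  have hd0 : d ≠ 0 := by rw [hd]; exact mul_ne_zero hD₀ (pow_ne_zero _ h2)
  let w' : Fin (2 * m) ⊕ Fin 1 → F := Sum.elim (fun _ => 1) (fun _ => d)
  have hw' : ∀ k, w' k ≠ 0 := by
    rintro (k | k)
    · exact one_ne_zero
    · exact hd0
  obtain ⟨T, hT⟩ := hex w' hw' (by
    rw [Fintype.prod_sum_type]
    simp only [w', Sum.elim_inl, Sum.elim_inr, Finset.prod_const, Finset.card_univ,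
      Fintype.card_fin, mul_one, pow_one]
    refine ⟨D₀ * 2 ^ (2 * m + 1), ?_⟩
    rw [hd]; ring)
  -- the subgroup
  obtain ⟨K₁, hc₁, _, hRG₁⟩ := tow_all' hq h2 m (by omega)
  obtain ⟨K, e, he⟩ := exists_blk_subgroup_elim (F := F) (fun _ : Fin (2 * m) => (1 : F))
    (fun _ : Fin 1 => d) (fun _ => one_ne_zero) (fun _ => hd0) hw' h2 K₁ ⊤
  have hRG : RG ((deltaW w' hw' h2).comp K.subtype) cSq cNs :=
    ((hRG₁ hm).prod_line (rl_line d hd0 h2 ⊤)).of_equiv e _ he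
  have hcardK : Nat.card K = 2 ^ (m * cq (Fintype.card F) + s2 m + 1) := by
    rw [← Nat.card_congr e.toEquiv, Nat.card_prod, hc₁, Subgroup.card_top]
    have := card_line d hd0 h2
    rw [this, pow_succ]
  have hcardO' : (Nat.card ↥(Cfsg.isometryGroup F (⇑(wssF w')))).factorization 2 =
      m * cq (Fintype.card F) + s2 m + 1 := by
    rw [← hcardO, Nat.card_congr (conjIso T (⇑(oddQF m F)) (⇑(wssF w')) hT).toEquiv]
  have hfin : ∀ P' : Sylow 2 ↥(Cfsg.Omega F (⇑(wssF w'))), ∀ y : P'.toSubgroup,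
      y ^ 2 ∈ commutator P'.toSubgroup := by
    intro P' y
    exact sq_sylow_Omega_of_subgroup w' hw' h2 (by simp; omega) K (by rw [hcardK, hcardO']) hRG P' y
  exact sq_sylow_of_equiv (omegaIso T (⇑(oddQF m F)) (⇑(wssF w')) hT) hfin P x

end odd

end Cfsg.Agent.Lib.Helper5
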