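import Mathlib
import Cfsg.Agent.Lib.Helper5.OrthOddFinal
import Cfsg.Agent.Lib.Helper44.MinusQF

set_option autoImplicit false

namespace Cfsg.Agent.Lib.Helper5

open Matrix Cfsg.Agent.Lib.Helper13 Cfsg.Agent.Lib.Helper36 Cfsg.Agent.Lib.Helper44

variable {F : Type*} [Field F] [Fintype F] [DecidableEq F]

section gram
variable {ι κ : Type} [Fintype ι] [DecidableEq ι] [Fintype κ] [DecidableEq κ]

theorem exists_isometry_to_wss_all (Q : QuadraticForm F (ι → F)) (h2 : (2 : F) ≠ 0)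
    (hQ : (QuadraticMap.polarBilin Q).Nondegenerate) :
    ∃ D₀ : F, D₀ ≠ 0 ∧ ∀ (κ : Type) [Fintype κ] [DecidableEq κ],
      Fintype.card κ = Fintype.card ι → ∀ w' : κ → F, (∀ i, w' i ≠ 0) →
      IsSquare (D₀ * ∏ i, (2 * w' i)) →
      ∃ T : (ι → F) ≃ₗ[F] (κ → F), ∀ v, wssF w' (T v) = Q v := by
  obtain ⟨D₀, hD₀, hex⟩ := exists_isometry_to_wss Q h2 hQ
  refine ⟨D₀, hD₀, ?_⟩
  intro κ _ _ hκ w' hw' hsq
  have hN : Module.finrank F (ι → F) = Fintype.card ι := Module.finrank_fintype_fun_eq_card F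
  have hc : Fintype.card κ = Fintype.card (Fin (Module.finrank F (ι → F))) := by
    rw [Fintype.card_fin, hN, hκ]
  let ρ : κ ≃ Fin (Module.finrank F (ι → F)) := Fintype.equivOfCardEq hc
  obtain ⟨T, hT⟩ := hex (fun i => w' (ρ.symm i)) (fun i => hw' _) (by
    rw [Equiv.prod_comp ρ.symm (fun x => 2 * w' x)]
    exact hsq)
  refine ⟨T.trans (LinearEquiv.funCongrLeft F F ρ), ?_⟩
  intro v
  rw [← hT v, wssF_apply, wssF_apply, ← Equiv.sum_comp ρ]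
  apply Finset.sum_congr rfl
  intro x _
  rw [Equiv.symm_apply_apply]
  rfl

/-- a nondegenerate form is isometric to any weighted sum of squares with the same discriminant
class -/
theorem exists_isometry_of_gram (Q : QuadraticForm F (ι → F)) (h2 : (2 : F) ≠ 0)
    (hQ : (QuadraticMap.polarBilin Q).Nondegenerate) (hι : 1 ≤ Fintype.card ι)
    (hκ : Fintype.card κ = Fintype.card ι) (w' : κ → F) (hw' : ∀ i, w' i ≠ 0)
    (hsq : IsSquare ((gramStd (⇑Q)).det * ∏ i, (2 * w' i))) :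
    ∃ T : (ι → F) ≃ₗ[F] (κ → F), ∀ v, wssF w' (T v) = Q v := by
  obtain ⟨D₀, hD₀, hex⟩ := exists_isometry_to_wss_all Q h2 hQ
  obtain ⟨k, hk⟩ : ∃ k, Fintype.card ι = k + 1 := ⟨Fintype.card ι - 1, by omega⟩
  have hκ₀ : Fintype.card (Fin k ⊕ Fin 1) = Fintype.card ι := by
    rw [hk]; simp
  have hd0 : D₀ * 2 ^ (k + 1) ≠ 0 := mul_ne_zero hD₀ (pow_ne_zero _ h2)
  let w₀ : Fin k ⊕ Fin 1 → F := Sum.elim (fun _ => 1) (fun _ => D₀ * 2 ^ (k + 1))
  have hw₀ : ∀ j, w₀ j ≠ 0 := by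
    rintro (j | j)
    · exact one_ne_zero
    · exact hd0
  have hprod : ∏ i, (2 * w₀ i) = 2 ^ k * (2 * (D₀ * 2 ^ (k + 1))) := by
    rw [Fintype.prod_sum_type]
    simp [w₀]
  obtain ⟨T₀, hT₀⟩ := hex _ hκ₀ w₀ hw₀ (by
    rw [hprod]
    exact ⟨D₀ * 2 ^ (k + 1), by ring⟩)
  obtain ⟨s, hs0, hs⟩ := gramStd_det_of_isometry Q w₀ T₀ hT₀
  rw [hprod] at hs
  apply hex κ hκ w' hw'
  obtain ⟨r, hr⟩ := hsq
  have h2k : (2 : F) ^ (k + 1) ≠ 0 := pow_ne_zero _ h2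
  refine ⟨r * s / 2 ^ (k + 1), ?_⟩
  field_simp
  linear_combination (∏ i, (2 * w' i)) * hs + s * s * hr

end gram

section even
variable {ι : Type} [Fintype ι] [DecidableEq ι]

theorem sq_sylow_Omega_even_sq (hq : Odd (Fintype.card F)) (Q : QuadraticForm F (ι → F))
    (hQ : (QuadraticMap.polarBilin Q).Nondegenerate) (m : ℕ) (hm : 2 ≤ m)
    (hι : Fintype.card ι = 2 * m) (hg : IsSquare (gramStd (⇑Q)).det)
    (hO : (Nat.card ↥(Cfsg.isometryGroup F (⇑Q))).factorization 2 =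
      m * cq (Fintype.card F) + s2 m)
    (P : Sylow 2 ↥(Cfsg.Omega F (⇑Q))) (x : P.toSubgroup) :
    x ^ 2 ∈ commutator P.toSubgroup := by
  have h2 : (2 : F) ≠ 0 := two_ne_zero_of_odd_card hq
  let w' : Fin (2 * m) → F := fun _ => 1
  have hw' : ∀ k, w' k ≠ 0 := fun _ => one_ne_zero
  obtain ⟨T, hT⟩ := exists_isometry_of_gram Q h2 hQ (by omega) (by simp [hι]) w' hw' (by
    obtain ⟨r, hr⟩ := hg
    refine ⟨r * 2 ^ m, ?_⟩
    simp only [w', mul_one, Finset.prod_const, Finset.card_univ, Fintype.card_fin]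
    rw [hr]; ring)
  obtain ⟨K, hcK, _, hRG⟩ := tow_all' hq h2 m (by omega)
  have hcardO' : (Nat.card ↥(Cfsg.isometryGroup F (⇑(wssF w')))).factorization 2 =
      m * cq (Fintype.card F) + s2 m := by
    rw [← hO, Nat.card_congr (conjIso T (⇑Q) (⇑(wssF w')) hT).toEquiv]
  have hfin : ∀ P' : Sylow 2 ↥(Cfsg.Omega F (⇑(wssF w'))), ∀ y : P'.toSubgroup,
      y ^ 2 ∈ commutator P'.toSubgroup := by
    intro P' y
    exact sq_sylow_Omega_of_subgroup w' hw' h2 (by simp; omega) K (by rw [hcK, hcardO'])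
      (hRG hm) P' y
  exact sq_sylow_of_equiv (omegaIso T (⇑Q) (⇑(wssF w')) hT) hfin P x

theorem sq_sylow_Omega_even_nsq (hq : Odd (Fintype.card F)) (Q : QuadraticForm F (ι → F))
    (hQ : (QuadraticMap.polarBilin Q).Nondegenerate) (m : ℕ) (hm : 3 ≤ m)
    (hι : Fintype.card ι = 2 * m)
    (hO : (Nat.card ↥(Cfsg.isometryGroup F (⇑Q))).factorization 2 =
      (m - 1) * cq (Fintype.card F) + s2 (m - 1) + 2)
    (P : Sylow 2 ↥(Cfsg.Omega F (⇑Q))) (x : P.toSubgroup) :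
    x ^ 2 ∈ commutator P.toSubgroup := by
  have h2 : (2 : F) ≠ 0 := two_ne_zero_of_odd_card hq
  obtain ⟨g, hg⟩ : ∃ g : F, g = (gramStd (⇑Q)).det := ⟨_, rfl⟩
  have hg0 : g ≠ 0 := by rw [hg]; exact (nondeg_iff_gramStd_det_ne_zero Q).1 hQ
  let w₁ : Fin (2 * (m - 1)) ⊕ Fin 1 → F := Sum.elim (fun _ => 1) (fun _ => 1)
  have hw₁ : ∀ k, w₁ k ≠ 0 := by
    rintro (k | k)
    · exact one_ne_zero
    · exact one_ne_zero
  let w' : (Fin (2 * (m - 1)) ⊕ Fin 1) ⊕ Fin 1 → F := Sum.elim w₁ (fun _ => g)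
  have hw' : ∀ k, w' k ≠ 0 := by
    rintro (k | k)
    · exact hw₁ k
    · exact hg0
  have hκ : Fintype.card ((Fin (2 * (m - 1)) ⊕ Fin 1) ⊕ Fin 1) = Fintype.card ι := by
    rw [hι]; simp; omega
  obtain ⟨T, hT⟩ := exists_isometry_of_gram Q h2 hQ (by omega) hκ w' hw' (by
    rw [Fintype.prod_sum_type, Fintype.prod_sum_type]
    simp only [w', w₁, Sum.elim_inl, Sum.elim_inr, Finset.prod_const, Finset.card_univ,
      Fintype.card_fin, mul_one, pow_one]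
    refine ⟨g * 2 ^ m, ?_⟩
    rw [← hg]
    obtain ⟨j, rfl⟩ : ∃ j, m = j + 1 := ⟨m - 1, by omega⟩
    rw [Nat.add_sub_cancel]
    ring)
  -- the subgroup
  obtain ⟨K₁, hc₁, _, hRG₁⟩ := tow_all' hq h2 (m - 1) (by omega)
  obtain ⟨K₂, e₂, he₂⟩ := exists_blk_subgroup_elim (F := F) (fun _ : Fin (2 * (m - 1)) => (1 : F))
    (fun _ : Fin 1 => (1 : F)) (fun _ => one_ne_zero) (fun _ => one_ne_zero) hw₁ h2 K₁ ⊤
  have hRG₂ : RG ((deltaW w₁ hw₁ h2).comp K₂.subtype) cSq cNs :=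
    ((hRG₁ (by omega)).prod_line (rl_line (1 : F) one_ne_zero h2 ⊤)).of_equiv e₂ _ he₂
  obtain ⟨K, e, he⟩ := exists_blk_subgroup_elim (F := F) w₁
    (fun _ : Fin 1 => g) hw₁ (fun _ => hg0) hw' h2 K₂ ⊤
  have hRG : RG ((deltaW w' hw' h2).comp K.subtype) cSq cNs :=
    (hRG₂.prod_line (rl_line g hg0 h2 ⊤)).of_equiv e _ he
  have hcardK : Nat.card K = 2 ^ ((m - 1) * cq (Fintype.card F) + s2 (m - 1) + 2) := by
    rw [← Nat.card_congr e.toEquiv, Nat.card_prod, ← Nat.card_congr e₂.toEquiv, Nat.card_prod,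
      hc₁, Subgroup.card_top, Subgroup.card_top, card_line g hg0 h2,
      card_line (1 : F) one_ne_zero h2]
    ring
  have hcardO' : (Nat.card ↥(Cfsg.isometryGroup F (⇑(wssF w')))).factorization 2 =
      (m - 1) * cq (Fintype.card F) + s2 (m - 1) + 2 := by
    rw [← hO, Nat.card_congr (conjIso T (⇑Q) (⇑(wssF w')) hT).toEquiv]
  have hfin : ∀ P' : Sylow 2 ↥(Cfsg.Omega F (⇑(wssF w'))), ∀ y : P'.toSubgroup,
      y ^ 2 ∈ commutator P'.toSubgroup := by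
    intro P' y
    exact sq_sylow_Omega_of_subgroup w' hw' h2 (by simp) K (by rw [hcardK, hcardO'])
      hRG P' y
  exact sq_sylow_of_equiv (omegaIso T (⇑Q) (⇑(wssF w')) hT) hfin P x

end even

end Cfsg.Agent.Lib.Helper5
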