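import Mathlib
import Cfsg.Agent.Lib.Helper5.OrthEven
import Cfsg.Agent.Lib.Helper5.OrthPlus
import Cfsg.Agent.Lib.Helper5.OrthMinus
import Cfsg.Agent.S2236
import Cfsg.Agent.S2237

set_option autoImplicit false

namespace Cfsg.Agent.Lib.Helper5

open Matrix Cfsg.Agent.Lib.Helper13 Cfsg.Agent.Lib.Helper36 Cfsg.Agent.Lib.Helper44

section vals

theorem val_pow_pair {q : ℕ} (hq : Odd q) (h1 : 1 < q) {m : ℕ} (hm : 0 < m) :
    padicValNat 2 (q ^ m - 1) + padicValNat 2 (q ^ m + 1) = cq q + padicValNat 2 m := by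
  have hx : 1 < q ^ m := Nat.one_lt_pow (by omega) h1
  have e : q ^ (2 * m) - 1 = (q ^ m - 1) * (q ^ m + 1) := by
    have : 1 ≤ q ^ (2 * m) := Nat.one_le_pow _ _ (by omega)
    zify [this, hx.le]
    ring
  rw [← padicValNat_pow_sub_one hq h1 hm, e, padicValNat.mul (by omega) (by omega)]

theorem factorization_prod_pow_sub_one {q : ℕ} (hq : Odd q) (h1 : 1 < q) (n : ℕ) :
    (∏ i ∈ Finset.range n, (q ^ (2 * (i + 1)) - 1)).factorization 2 = n * cq q + s2 n := by
  have hne : ∀ i ∈ Finset.range n, q ^ (2 * (i + 1)) - 1 ≠ 0 := by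
    intro i _
    have : 1 < q ^ (2 * (i + 1)) := Nat.one_lt_pow (by omega) h1
    omega
  rw [Nat.factorization_prod hne]
  simp only [Finsupp.coe_finsetSum, Finset.sum_apply]
  have : ∀ i ∈ Finset.range n, (q ^ (2 * (i + 1)) - 1).factorization 2 =
      cq q + padicValNat 2 (i + 1) := by
    intro i _
    rw [Nat.factorization_def _ Nat.prime_two, padicValNat_pow_sub_one hq h1 (by omega)]
  rw [Finset.sum_congr rfl this, Finset.sum_add_distrib, Finset.sum_const, Finset.card_range,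
    smul_eq_mul]
  rfl

/-- the 2-part of `2 q^a X ∏ (q^{2i}-1)` -/
theorem factorization_orth_order {q : ℕ} (hq : Odd q) (h1 : 1 < q) (a X n : ℕ) (hX : X ≠ 0) :
    (2 * q ^ a * X * ∏ i ∈ Finset.range n, (q ^ (2 * (i + 1)) - 1)).factorization 2 =
      1 + padicValNat 2 X + (n * cq q + s2 n) := by
  have hx : ¬ 2 ∣ q := by
    obtain ⟨w, rfl⟩ := hq
    omega
  have hne : ∏ i ∈ Finset.range n, (q ^ (2 * (i + 1)) - 1) ≠ 0 := by
    apply Finset.prod_ne_zero_iff.2
    intro i _
    have : 1 < q ^ (2 * (i + 1)) := Nat.one_lt_pow (by omega) h1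
    omega
  have hq0 : q ^ a ≠ 0 := pow_ne_zero _ (by omega)
  rw [Nat.factorization_mul (by positivity) hne, Nat.factorization_mul (by positivity) hX,
    Nat.factorization_mul (by norm_num) hq0, Nat.factorization_pow]
  simp only [Finsupp.coe_add, Finsupp.coe_smul, Pi.add_apply, Pi.smul_apply, smul_eq_mul]
  rw [factorization_prod_pow_sub_one hq h1, Nat.factorization_eq_zero_of_not_dvd hx, mul_zero,
    Nat.Prime.factorization_self Nat.prime_two, Nat.factorization_def _ Nat.prime_two]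
  omega

end vals

section finals
variable {F : Type*} [Field F] [Fintype F] [DecidableEq F]

theorem isSquare_gram_plus (hq : Odd (Fintype.card F)) (m : ℕ) (hm : 1 ≤ m)
    (h1 : Fintype.card F ^ m % 4 = 1) : IsSquare (gramStd (⇑(hypQF m F))).det := by
  have h2 : (2 : F) ≠ 0 := two_ne_zero_of_odd_card hq
  have hcardh : Fintype.card (Fin m ⊕ Fin m) = 2 * m := by
    rw [Fintype.card_sum, Fintype.card_fin]; ring
  rw [← neg_one_mem_Omega_iff_isSquare_gram (hypQF m F) h2 (by rw [hcardh]; omega)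
      (by rw [hcardh]; exact ⟨m, by ring⟩) hypQF_nondeg]
  exact (Cfsg.Agent.S2236.neg_one_iff hq m hm).2 h1

theorem sq_sylow_Omega_plus (hq : Odd (Fintype.card F)) (m : ℕ) (hm : 1 ≤ m)
    (hm' : Even m ∨ 3 ≤ m)
    (P : Sylow 2 ↥(Cfsg.Omega F (Cfsg.quadFormPlus m F))) (x : P.toSubgroup) :
    x ^ 2 ∈ commutator P.toSubgroup := by
  have h1q : 1 < Fintype.card F := Fintype.one_lt_card
  have hcardh : Fintype.card (Fin m ⊕ Fin m) = 2 * m := by
    rw [Fintype.card_sum, Fintype.card_fin]; ring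
  have hX : Fintype.card F ^ m - 1 ≠ 0 := by
    have : 1 < Fintype.card F ^ m := Nat.one_lt_pow (by omega) h1q
    omega
  have hO : (Nat.card ↥(Cfsg.isometryGroup F (⇑(hypQF m F)))).factorization 2 =
      1 + padicValNat 2 (Fintype.card F ^ m - 1) +
        ((m - 1) * cq (Fintype.card F) + s2 (m - 1)) := by
    have := card_isometryGroup_plus (F := F) rfl m hm
    rw [← factorization_orth_order hq h1q (m * (m - 1)) _ (m - 1) hX, ← this]
    rfl
  have hpair := val_pow_pair hq h1q (m := m) (by omega)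
  have hs2 : s2 m = s2 (m - 1) + padicValNat 2 m := by
    obtain ⟨j, rfl⟩ : ∃ j, m = j + 1 := ⟨m - 1, by omega⟩
    rw [Nat.add_sub_cancel, s2_succ]
  have hmod : Fintype.card F ^ m % 4 = 1 ∨ Fintype.card F ^ m % 4 = 3 := by
    obtain ⟨t, ht⟩ := (hq.pow : Odd (Fintype.card F ^ m))
    omega
  have hcq : 1 ≤ cq (Fintype.card F) := by
    unfold cq
    have : 1 ≤ padicValNat 2 (Fintype.card F + 1) := by
      apply one_le_padicValNat_of_dvd (by omega)
      obtain ⟨t, ht⟩ := hq
      omega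
    omega
  rcases hmod with h1 | h3
  · -- square discriminant
    have hv : padicValNat 2 (Fintype.card F ^ m + 1) = 1 :=
      padicValNat_two_of_mod_four (by omega)
    have hm2 : 2 ≤ m := by
      rcases hm' with he | h3
      · obtain ⟨t, ht⟩ := he
        omega
      · omega
    refine sq_sylow_Omega_even_sq hq (hypQF m F) hypQF_nondeg m hm2 hcardh
      (isSquare_gram_plus hq m hm h1) ?_ P x
    rw [hO, hs2]
    obtain ⟨j, rfl⟩ : ∃ j, m = j + 1 := ⟨m - 1, by omega⟩
    rw [Nat.add_sub_cancel] at *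
    rw [add_mul]
    omega
  · have hv : padicValNat 2 (Fintype.card F ^ m - 1) = 1 :=
      padicValNat_two_of_mod_four (by omega)
    have hm3 : 3 ≤ m := by
      rcases hm' with he | h3'
      · exfalso
        obtain ⟨t, ht⟩ := he
        have : Fintype.card F ^ m = (Fintype.card F ^ t) ^ 2 := by rw [ht, ← two_mul, mul_comm, pow_mul]
        rw [this, sq, Nat.mul_mod] at h3
        have : Fintype.card F ^ t % 4 < 4 := Nat.mod_lt _ (by norm_num)
        interval_cases (Fintype.card F ^ t % 4) <;> omega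
      · exact h3'
    refine sq_sylow_Omega_even_nsq hq (hypQF m F) hypQF_nondeg m hm3 hcardh ?_ P x
    rw [hO, hv]
    omega

theorem sq_sylow_Omega_minus (hq : Odd (Fintype.card F)) (m : ℕ) (hm : 3 ≤ m) (a b : F)
    (hab : ∀ z₁ z₂ : F, z₁ ^ 2 + a * z₁ * z₂ + b * z₂ ^ 2 = 0 → z₁ = 0 ∧ z₂ = 0)
    (P : Sylow 2 ↥(Cfsg.Omega F (Cfsg.quadFormMinus (m - 1) F a b))) (x : P.toSubgroup) :
    x ^ 2 ∈ commutator P.toSubgroup := by
  have h2 : (2 : F) ≠ 0 := two_ne_zero_of_odd_card hq
  have h1q : 1 < Fintype.card F := Fintype.one_lt_card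
  have hcard : Fintype.card ((Fin (m - 1) ⊕ Fin (m - 1)) ⊕ Fin 2) = 2 * m := by
    rw [Fintype.card_sum, Fintype.card_sum, Fintype.card_fin, Fintype.card_fin]; omega
  have hX : Fintype.card F ^ m + 1 ≠ 0 := by omega
  obtain ⟨hnd, hneg⟩ := Cfsg.Agent.S2237.neg_one_iff hq m (by omega) a b hab
  have hO : (Nat.card ↥(Cfsg.isometryGroup F (Cfsg.quadFormMinus (m - 1) F a b))).factorization 2 =
      1 + padicValNat 2 (Fintype.card F ^ m + 1) +
        ((m - 1) * cq (Fintype.card F) + s2 (m - 1)) := by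
    have := card_isometryGroup_minus (F := F) rfl m (by omega) a b hab
    rw [← factorization_orth_order hq h1q (m * (m - 1)) _ (m - 1) hX, ← this]
  have hpair := val_pow_pair hq h1q (m := m) (by omega)
  have hs2 : s2 m = s2 (m - 1) + padicValNat 2 m := by
    obtain ⟨j, rfl⟩ : ∃ j, m = j + 1 := ⟨m - 1, by omega⟩
    rw [Nat.add_sub_cancel, s2_succ]
  have hmod : Fintype.card F ^ m % 4 = 1 ∨ Fintype.card F ^ m % 4 = 3 := by
    obtain ⟨t, ht⟩ := (hq.pow : Odd (Fintype.card F ^ m))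
    omega
  revert P
  revert hO
  rw [← minusQF_coe]
  intro hO P x
  rcases hmod with h1 | h3
  · have hv : padicValNat 2 (Fintype.card F ^ m + 1) = 1 :=
      padicValNat_two_of_mod_four (by omega)
    refine sq_sylow_Omega_even_nsq hq (minusQF (m - 1) F a b) hnd m hm hcard ?_ P x
    rw [hO, hv]
    omega
  · have hv : padicValNat 2 (Fintype.card F ^ m - 1) = 1 :=
      padicValNat_two_of_mod_four (by omega)
    have hsq : IsSquare (gramStd (⇑(minusQF (m - 1) F a b))).det := by
      rw [← neg_one_mem_Omega_iff_isSquare_gram (minusQF (m - 1) F a b) h2 (by rw [hcard]; omega)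
        (by rw [hcard]; exact ⟨m, by ring⟩) hnd]
      exact hneg.2 h3
    refine sq_sylow_Omega_even_sq hq (minusQF (m - 1) F a b) hnd m (by omega) hcard hsq ?_ P x
    rw [hO, hs2]
    obtain ⟨j, rfl⟩ : ∃ j, m = j + 1 := ⟨m - 1, by omega⟩
    rw [Nat.add_sub_cancel] at *
    rw [add_mul]
    omega

end finals

end Cfsg.Agent.Lib.Helper5
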