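import Mathlib
import Cfsg.Agent.Lib.Helper5.SylowTower2
import Cfsg.Agent.Lib.Helper5.SpEmbed
import Cfsg.Agent.Lib.Helper5.SpVal
import Cfsg.Agent.S0261

set_option autoImplicit false

namespace Cfsg.Agent.Lib.Helper5

open Matrix Cfsg

section
variable {F : Type*} [Field F] [Fintype F]

theorem card_sylow_sp (hq : Odd (Fintype.card F)) (n : ℕ)
    (P : Sylow 2 (symplecticGroup (Fin n) F)) :
    Nat.card P = 2 ^ (n * cq (Fintype.card F) + s2 n) := by
  rw [Sylow.card_eq_multiplicity, factorization_card_sp hq]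

theorem sylow_sp_one (hq : Odd (Fintype.card F)) (P : Sylow 2 (symplecticGroup (Fin 1) F)) :
    TowerData P 1 2 := by
  let φ : symplecticGroup (Fin 1) F ≃* Matrix.SpecialLinearGroup (Fin 2) F := spOneEquivSL2
  let P' : Subgroup (Matrix.SpecialLinearGroup (Fin 2) F) := P.toSubgroup.map φ.toMonoidHom
  let e : P.toSubgroup ≃* P' := P.toSubgroup.equivMapOfInjective φ.toMonoidHom φ.injective
  have hcard : Nat.card P' = 2 ^ (Nat.card (Matrix.SpecialLinearGroup (Fin 2) F)).factorization 2 := by
    rw [← Nat.card_congr e.toEquiv, ← Nat.card_congr φ.toEquiv, Sylow.card_eq_multiplicity]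
  let Q : Sylow 2 (Matrix.SpecialLinearGroup (Fin 2) F) := Sylow.ofCard P' hcard
  obtain ⟨k, hk, ⟨f⟩⟩ := Cfsg.Agent.S0261.result hq Q
  have f' : P' ≃* QuaternionGroup (2 ^ k) := f
  exact (towerData_quaternion k hk).of_equiv (e.trans f').symm

theorem sylow_sp_double (hq : Odd (Fintype.card F)) (h : ℕ) (hh : 1 ≤ h) (d : ℕ)
    (IH : ∀ P : Sylow 2 (symplecticGroup (Fin h) F), TowerData P h d)
    (harith : 2 * (h * cq (Fintype.card F) + s2 h) + 1 =
      (h + h) * cq (Fintype.card F) + s2 (h + h))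
    (P : Sylow 2 (symplecticGroup (Fin (h + h)) F)) : TowerData P (2 * h) (d + 1) := by
  haveI : Nonempty (Fin h) := ⟨⟨0, hh⟩⟩
  obtain ⟨Ph⟩ := (inferInstance : Nonempty (Sylow 2 (symplecticGroup (Fin h) F)))
  let ι₀ : Ph.toSubgroup × Ph.toSubgroup →* symplecticGroup (Fin h ⊕ Fin h) F :=
    spProd.comp (MonoidHom.prodMap Ph.toSubgroup.subtype Ph.toSubgroup.subtype)
  have hinj : Function.Injective ι₀ := by
    intro x y hxy
    have := spProd_injective hxy
    have h1 : (x.1 : symplecticGroup (Fin h) F) = y.1 := congrArg Prod.fst this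
    have h2 : (x.2 : symplecticGroup (Fin h) F) = y.2 := congrArg Prod.snd this
    exact Prod.ext (Subtype.ext h1) (Subtype.ext h2)
  have hnot : spSwap (Fin h) F ∉ ι₀.range := by
    rintro ⟨x, hx⟩
    exact spSwap_not_mem_range ⟨_, hx⟩
  have hconj : ∀ a b, spSwap (Fin h) F * ι₀ (a, b) * (spSwap (Fin h) F)⁻¹ = ι₀ (b, a) := by
    intro a b
    exact spSwap_conj a.1 b.1
  obtain ⟨K, hKcard, hK⟩ := exists_double ι₀ hinj (spSwap (Fin h) F) spSwap_mul_self hnot hconj (IH Ph)
  let φ : symplecticGroup (Fin h ⊕ Fin h) F ≃* symplecticGroup (Fin (h + h)) F :=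
    spReindex finSumFinEquiv
  let K' : Subgroup (symplecticGroup (Fin (h + h)) F) := K.map φ.toMonoidHom
  let e : K ≃* K' := K.equivMapOfInjective φ.toMonoidHom φ.injective
  have hK' : Nat.card K' = 2 ^ (Nat.card (symplecticGroup (Fin (h + h)) F)).factorization 2 := by
    rw [← Nat.card_congr e.toEquiv, hKcard, card_sylow_sp hq, factorization_card_sp hq, ← harith]
    rw [pow_succ, ← pow_mul]
    ring
  exact TowerData.sylow K' hK' (hK.of_equiv e) P

theorem sylow_sp_prod (hq : Odd (Fintype.card F)) (m r : ℕ) (d₁ d₂ : ℕ)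
    (IHm : ∀ P : Sylow 2 (symplecticGroup (Fin m) F), TowerData P m d₁)
    (IHr : ∀ P : Sylow 2 (symplecticGroup (Fin r) F), TowerData P r d₂)
    (harith : (m * cq (Fintype.card F) + s2 m) + (r * cq (Fintype.card F) + s2 r) =
      (m + r) * cq (Fintype.card F) + s2 (m + r))
    (P : Sylow 2 (symplecticGroup (Fin (m + r)) F)) : TowerData P (m + r) (max d₁ d₂) := by
  obtain ⟨Pm⟩ := (inferInstance : Nonempty (Sylow 2 (symplecticGroup (Fin m) F)))
  obtain ⟨Pr⟩ := (inferInstance : Nonempty (Sylow 2 (symplecticGroup (Fin r) F)))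
  let ι₀ : Pm.toSubgroup × Pr.toSubgroup →* symplecticGroup (Fin m ⊕ Fin r) F :=
    spProd.comp (MonoidHom.prodMap Pm.toSubgroup.subtype Pr.toSubgroup.subtype)
  have hinj : Function.Injective ι₀ := by
    intro x y hxy
    have := spProd_injective hxy
    have h1 : (x.1 : symplecticGroup (Fin m) F) = y.1 := congrArg Prod.fst this
    have h2 : (x.2 : symplecticGroup (Fin r) F) = y.2 := congrArg Prod.snd this
    exact Prod.ext (Subtype.ext h1) (Subtype.ext h2)
  obtain ⟨K, hKcard, hK⟩ := exists_prod ι₀ hinj (IHm Pm) (IHr Pr)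
  let φ : symplecticGroup (Fin m ⊕ Fin r) F ≃* symplecticGroup (Fin (m + r)) F :=
    spReindex finSumFinEquiv
  let K' : Subgroup (symplecticGroup (Fin (m + r)) F) := K.map φ.toMonoidHom
  let e : K ≃* K' := K.equivMapOfInjective φ.toMonoidHom φ.injective
  have hK' : Nat.card K' = 2 ^ (Nat.card (symplecticGroup (Fin (m + r)) F)).factorization 2 := by
    rw [← Nat.card_congr e.toEquiv, hKcard, card_sylow_sp hq, card_sylow_sp hq,
      factorization_card_sp hq, ← harith]
    exact (pow_add 2 _ _).symm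
  exact TowerData.sylow K' hK' (hK.of_equiv e) P

theorem sylow_sp_towerData (hq : Odd (Fintype.card F)) :
    ∀ n, 1 ≤ n → ∀ P : Sylow 2 (symplecticGroup (Fin n) F), TowerData P n (Nat.log 2 n + 2) := by
  intro n
  induction n using Nat.strong_induction_on with
  | _ n ih =>
    intro hn P
    rcases Nat.lt_or_ge n 2 with h2 | h2
    · obtain rfl : n = 1 := by omega
      exact sylow_sp_one hq P
    · obtain ⟨k, hk⟩ : ∃ k, k = Nat.log 2 n := ⟨_, rfl⟩
      have hk1 : 1 ≤ k := by
        rw [hk]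
        exact Nat.log_pos (by norm_num) h2
      have hle : 2 ^ k ≤ n := by rw [hk]; exact Nat.pow_log_le_self 2 (by omega)
      have hlt : n < 2 ^ (k + 1) := by rw [hk]; exact Nat.lt_pow_succ_log_self (by norm_num) n
      rcases Nat.eq_or_lt_of_le hle with heq | hlt'
      · -- n = 2^k
        obtain ⟨j, rfl⟩ : ∃ j, k = j + 1 := ⟨k - 1, by omega⟩
        have hn' : n = 2 ^ j + 2 ^ j := by rw [← heq, pow_succ]; ring
        have hjpos : 1 ≤ 2 ^ j := Nat.one_le_two_pow
        have hjlt : 2 ^ j < n := by omega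
        have IH := ih (2 ^ j) hjlt hjpos
        rw [Nat.log_pow (by norm_num)] at IH
        have harith : 2 * (2 ^ j * cq (Fintype.card F) + s2 (2 ^ j)) + 1 =
            (2 ^ j + 2 ^ j) * cq (Fintype.card F) + s2 (2 ^ j + 2 ^ j) := by
          have h1 := s2_two_mul (2 ^ j)
          have h2' := s2_two_pow j
          rw [two_mul] at h1
          rw [h1]
          have : (2 ^ j + 2 ^ j) * cq (Fintype.card F) = 2 * (2 ^ j * cq (Fintype.card F)) := by ring
          rw [this]
          omega
        subst hn'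
        have := sylow_sp_double hq (2 ^ j) hjpos (j + 2) IH harith P
        rw [← hk]
        have e1 : 2 * 2 ^ j = 2 ^ j + 2 ^ j := by ring
        rw [e1] at this
        exact this
      · -- n = 2^k + r
        obtain ⟨r, hr⟩ : ∃ r, n = 2 ^ k + r := ⟨n - 2 ^ k, by omega⟩
        have hr0 : 0 < r := by omega
        have hrlt : r < 2 ^ k := by rw [pow_succ] at hlt; omega
        have IHm := ih (2 ^ k) (by omega) Nat.one_le_two_pow
        rw [Nat.log_pow (by norm_num)] at IHm
        have IHr := ih r (by omega) hr0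
        have hlogr : Nat.log 2 r < k := Nat.log_lt_of_lt_pow (by omega) hrlt
        have harith : (2 ^ k * cq (Fintype.card F) + s2 (2 ^ k)) + (r * cq (Fintype.card F) + s2 r) =
            (2 ^ k + r) * cq (Fintype.card F) + s2 (2 ^ k + r) := by
          rw [s2_add hrlt]; ring
        subst hr
        have := sylow_sp_prod hq (2 ^ k) r (k + 2) (Nat.log 2 r + 2) IHm IHr harith P
        rw [max_eq_left (by omega)] at this
        rw [← hk]
        exact this

end

end Cfsg.Agent.Lib.Helper5
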