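import Cfsg.Agent.Lib.Helper5.WCRad
import Cfsg.Agent.Lib.Helper18.Bruhat1
import Cfsg.Agent.Lib.Helper18.TorusHom
import Cfsg.Agent.Lib.Helper61.ChevJ.Basic
import Cfsg.Agent.Lib.Helper3.WCChar
import Cfsg.Agent.Lib.Helper9.WCQuot
import Cfsg.Agent.Lib.Helper11.WCNilp
import Cfsg.Agent.Lib.Helper40.WCCoord
import Cfsg.Agent.Lib.Helper46.WCT3B2
import Cfsg.Agent.Lib.Helper47.WCSep
import Cfsg.Agent.Lib.Helper90.WCT3SL
import Cfsg.Agent.Lib.Helper90.WCT3F4
import Cfsg.Agent.Lib.Helper40.WCT3G2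
import Cfsg.Agent.S1045
import Cfsg.Agent.S1048
import Cfsg.Agent.S1029
import Cfsg.Agent.S1036
import Cfsg.Agent.S1043
import Mathlib

/-!
# S2244: weakly closed subgroups of `U` are unipotent radicals (assembly)

Modules: [SEP] helper47, [NILP] helper11, [COORD]/[LONGJ] helper40, [QUOT] helper9, [CHAR] helper3,
[T3-B2] helper46, [T3-SL]/[T3-F4] helper90, [T3-G2] helper40; [RAD] and the assembly helper5.
-/

set_option autoImplicit false

namespace Cfsg.Agent.Lib.Helper5.WC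

open Cfsg.Lie Cfsg.Agent.Lib.Helper18
open Cfsg.Agent.Lib.Helper3.WC Cfsg.Agent.Lib.Helper9.WC Cfsg.Agent.Lib.Helper11.WC
  Cfsg.Agent.Lib.Helper40.WC Cfsg.Agent.Lib.Helper46.WC Cfsg.Agent.Lib.Helper47.WC
  Cfsg.Agent.Lib.Helper90.WC

universe u

variable {F : Type u} [Field F] {D : ChevalleyDatum}

/-- [T3] all cases together -/
theorem comm_T3 [Fintype F] (hD : D ∈ [chevG2, chevB2, chevD4, chevF4, chevE6, chevE7, chevE8])
    (h2 : Fintype.card F ≠ 2)
    (h3 : D ∈ [chevG2, chevB2, chevD4, chevF4] → Fintype.card F ≠ 3)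
    (J : Set ℕ) (r : ℕ) (hr : D.IsPosRoot r) (hJ : ¬ D.InRootSub J r)
    (hns : ∀ i < D.rank, r ≠ D.simple i) (t : F) :
    xG hD r t ∈ ⁅D.unipotentRadical F J, D.posUnipotent F⁆ := by
  have hD' := hD
  simp only [List.mem_cons, List.not_mem_nil, or_false] at hD'
  rcases hD' with h | h | h | h | h | h | h
  · exact comm_T3_G2 hD h h2 (h3 (by rw [h]; simp)) J r hr hJ hns t
  · exact comm_T3_B2 hD h h2 J r hr hJ hns t
  · exact comm_T3_SL hD (by rw [h]; simp) J r hr hJ hns t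
  · exact comm_T3_F4 hD h h2 J r hr hJ hns t
  · exact comm_T3_SL hD (by rw [h]; simp) J r hr hJ hns t
  · exact comm_T3_SL hD (by rw [h]; simp) J r hr hJ hns t
  · exact comm_T3_SL hD (by rw [h]; simp) J r hr hJ hns t

/-! the assembly -/

/-- a subgroup `X` with `A ≤ X ⊔ ⁅A,U⁆`, everything inside a nilpotent `U` normalising `A` and `X`, contains `A` -/
theorem le_of_le_sup_commutator' {G : Type*} [Group G] (U A X : Subgroup G)
    (hnil : Group.IsNilpotent U) (hAU : A ≤ U) (hXU : X ≤ U)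
    (hUA : U ≤ Subgroup.normalizer (A : Set G)) (hUX : U ≤ Subgroup.normalizer (X : Set G))
    (h : A ≤ X ⊔ ⁅A, U⁆) : A ≤ X := by
  have : (A.subgroupOf U).Normal := by
    constructor
    intro a ha u
    rw [Subgroup.mem_subgroupOf] at ha ⊢
    exact ((Subgroup.mem_normalizer_iff).1 (hUA u.2) a).1 ha
  have : (X.subgroupOf U).Normal := by
    constructor
    intro a ha u
    rw [Subgroup.mem_subgroupOf] at ha ⊢
    exact ((Subgroup.mem_normalizer_iff).1 (hUX u.2) a).1 ha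
  have hcomm : ⁅A, U⁆ = (⁅A.subgroupOf U, (⊤ : Subgroup U)⁆).map U.subtype := by
    rw [Subgroup.map_commutator, Subgroup.subgroupOf_map_subtype, inf_eq_left.2 hAU,
      ← MonoidHom.range_eq_map, Subgroup.range_subtype]
  have hCU : ⁅A, U⁆ ≤ U := by
    rw [hcomm]
    exact Subgroup.map_subtype_le _
  have key : A.subgroupOf U ≤ X.subgroupOf U ⊔ ⁅A.subgroupOf U, (⊤ : Subgroup U)⁆ := by
    intro a ha
    rw [Subgroup.mem_subgroupOf] at ha
    have h1 := h ha
    have h2 : (a : G) ∈ (X.subgroupOf U ⊔ ⁅A.subgroupOf U, (⊤ : Subgroup U)⁆).map U.subtype := by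
      rw [Subgroup.map_sup, Subgroup.subgroupOf_map_subtype, inf_eq_left.2 hXU, ← hcomm]
      exact h1
    obtain ⟨b, hb, e⟩ := h2
    have : b = a := Subtype.ext e
    rw [← this]
    exact hb
  have := le_of_le_sup_commutator (A.subgroupOf U) (X.subgroupOf U) key
  intro a ha
  have h1 : (⟨a, hAU ha⟩ : U) ∈ A.subgroupOf U := by
    rw [Subgroup.mem_subgroupOf]; exact ha
  have h2 := this h1
  rw [Subgroup.mem_subgroupOf] at h2
  exact h2


section main

variable [Fintype F]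

theorem weaklyClosed_eq (hD : D ∈ [chevG2, chevB2, chevD4, chevF4, chevE6, chevE7, chevE8])
    (h2 : Fintype.card F ≠ 2)
    (h3 : D ∈ [chevG2, chevB2, chevD4, chevF4] → Fintype.card F ≠ 3)
    (X : Subgroup (GL D.Idx F)) (hXU : X ≤ D.posUnipotent F)
    (hwc : ∀ g ∈ D.group F, X.map (MulAut.conj g).toMonoidHom ≤ D.posUnipotent F →
      X.map (MulAut.conj g).toMonoidHom = X) :
    ∃ J : Set ℕ, (∀ j ∈ J, j < D.rank) ∧ X = D.unipotentRadical F J := by
  classical
  obtain ⟨C⟩ := nonempty_chevData.{u} D hD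
  obtain ⟨XJ⟩ := Cfsg.Agent.Lib.Helper61.ChevJ.nonempty_jData.{u} D hD
  obtain ⟨hBG, hNG, -⟩ := Cfsg.Agent.S1043.result (F := F) D hD
  have hUB : D.posUnipotent F ≤ D.borelSubgroup F := le_sup_left
  have hHB : D.diagonalSubgroup F ≤ D.borelSubgroup F := le_sup_right
  -- `B` normalises `U`
  have hBU : D.borelSubgroup F ≤ Subgroup.normalizer (D.posUnipotent F : Set (GL D.Idx F)) := by
    unfold ChevalleyDatum.borelSubgroup
    exact sup_le Subgroup.le_normalizer (Cfsg.Agent.S1036.result D hD).1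
  -- `B` normalises `X`
  have hBX : D.borelSubgroup F ≤ Subgroup.normalizer (X : Set (GL D.Idx F)) := by
    intro b hb
    apply mem_normalizer_of_map_eq
    apply hwc b (hBG hb)
    rintro _ ⟨x, hx, rfl⟩
    exact ((Subgroup.mem_normalizer_iff).1 (hBU hb) x).1 (hXU hx)
  let J : Set ℕ := {j | j < D.rank ∧ sG hD C j ∈ Subgroup.normalizer (X : Set (GL D.Idx F))}
  have hJ : ∀ j ∈ J, j < D.rank → ∀ n : GL D.Idx F,
      (n : Matrix D.Idx D.Idx F) = D.nMat F (D.simple j) 1 →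
      n ∈ Subgroup.normalizer (X : Set (GL D.Idx F)) := by
    intro j hj hjr n hn
    have : n = sG hD C j := Units.ext (by rw [hn, coe_sG hD C j hjr])
    rw [this]
    exact hj.2
  have hRad : X ≤ D.unipotentRadical F J := le_unipotentRadical hD J X hXU hJ
  refine ⟨J, fun j hj => hj.1, le_antisymm hRad ?_⟩
  -- notation
  set U := D.posUnipotent F with hU
  set A := D.unipotentRadical F J with hA
  have hAU : A ≤ U := by
    rw [hA, hU]
    unfold ChevalleyDatum.unipotentRadical ChevalleyDatum.posUnipotent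
    apply Subgroup.closure_mono
    rintro g ⟨r, t, hr, -, hg⟩
    exact ⟨r, t, hr, hg⟩
  have hUA : U ≤ Subgroup.normalizer (A : Set (GL D.Idx F)) := by
    refine le_trans ?_ (Cfsg.Agent.S1048.result (F := F) D hD J).1
    refine le_trans hUB ?_
    unfold ChevalleyDatum.parabolicSubgroup
    exact le_sup_left
  have hUX : U ≤ Subgroup.normalizer (X : Set (GL D.Idx F)) := le_trans hUB hBX
  -- the coordinates
  choose χ hχadd hχx hχn hχh using fun i : Fin D.rank => exists_coord (F := F) hD i i.2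
  let ι := {i : Fin D.rank // (i : ℕ) ∉ J}
  -- every coordinate outside `J` is non-zero somewhere on `X`
  have hne : ∀ i : ι, ∃ x ∈ X, χ i.1 x ≠ 0 := by
    intro i
    have hiJ : ¬ (sG hD C i.1 ∈ Subgroup.normalizer (X : Set (GL D.Idx F))) := fun h => i.2 ⟨i.1.2, h⟩
    have hsG : sG (F := F) hD C i.1 ∈ D.group F := hNG (sG_mem_monomial hD C i.1)
    have h1 : ¬ (X.map (MulAut.conj (sG hD C i.1)).toMonoidHom ≤ U) := by
      intro hle
      exact hiJ (mem_normalizer_of_map_eq X _ (hwc _ hsG hle))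
    rw [SetLike.not_le_iff_exists] at h1
    obtain ⟨_, ⟨x, hx, rfl⟩, hxU⟩ := h1
    refine ⟨x, hx, fun h0 => hxU ?_⟩
    exact ((hχn i.1 x (hXU hx) (sG hD C i.1) (coe_sG hD C i.1 i.1.2)).1 h0)
  -- additivity consequences
  have hχ1 : ∀ i, χ i 1 = 0 := by
    intro i
    have := hχadd i 1 (one_mem _) 1 (one_mem _)
    rw [mul_one] at this
    linear_combination -this
  have hχinv : ∀ i, ∀ u ∈ U, χ i u⁻¹ = - χ i u := by
    intro i u hu
    have := hχadd i u hu u⁻¹ (inv_mem hu)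
    rw [mul_inv_cancel, hχ1] at this
    linear_combination -this
  -- the image of `X` under the coordinates
  let Y : AddSubgroup (ι → F) :=
    { carrier := {y | ∃ x ∈ X, ∀ i : ι, χ i.1 x = y i}
      zero_mem' := ⟨1, one_mem _, fun i => hχ1 i.1⟩
      add_mem' := by
        rintro y y' ⟨x, hx, hxy⟩ ⟨x', hx', hxy'⟩
        refine ⟨x * x', mul_mem hx hx', fun i => ?_⟩
        rw [hχadd i.1 x (hXU hx) x' (hXU hx'), hxy, hxy']
        rfl
      neg_mem' := by
        rintro y ⟨x, hx, hxy⟩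
        refine ⟨x⁻¹, inv_mem hx, fun i => ?_⟩
        rw [hχinv i.1 x (hXU hx), hxy]
        rfl }
  let T : Set (ι → F) := {τ | ∃ k < D.rank, ∃ c : F, c ≠ 0 ∧
    τ = fun i : ι => c ^ (D.cartan k (D.simple i.1))}
  have hYtop : Y = ⊤ := by
    apply sep T Y
    · rintro τ ⟨k, hk, c, hc, rfl⟩ y ⟨x, hx, hxy⟩
      obtain ⟨h, hh⟩ := exists_unit_hMat_simple (F := F) D hD k hk c hc
      have hhH : h ∈ D.diagonalSubgroup F :=
        Subgroup.subset_closure ⟨D.simple k, c, C.simple_lt k hk, hc, hh⟩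
      have hhX := hBX (hHB hhH)
      refine ⟨h * x * h⁻¹, ((Subgroup.mem_normalizer_iff).1 hhX x).1 hx, fun i => ?_⟩
      rw [hχh i.1 k hk c hc h hh x (hXU hx), hxy]
      rfl
    · intro i
      have h1 := torus_T1 (F := F) hD i.1 i.1.2
      rw [← h1]
      congr 1
      ext a
      constructor
      · rintro ⟨τ, ⟨k, hk, c, hc, rfl⟩, rfl⟩
        exact ⟨k, hk, c, hc, rfl⟩
      · rintro ⟨k, hk, c, hc, rfl⟩
        exact ⟨_, ⟨k, hk, c, hc, rfl⟩, rfl⟩
    · intro i i' hii' σ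
      have hne' : (i.1 : ℕ) ≠ (i'.1 : ℕ) := fun h => hii' (Subtype.ext (Fin.ext h))
      obtain ⟨k, hk, c, hc, hcc⟩ := torus_T2 (F := F) hD h2 h3 i.1 i'.1 i.1.2 i'.1.2 hne' σ
      exact ⟨_, ⟨k, hk, c, hc, rfl⟩, hcc⟩
    · intro i
      obtain ⟨x, hx, hx0⟩ := hne i
      exact ⟨fun j => χ j.1 x, ⟨x, hx, fun _ => rfl⟩, hx0⟩
  -- the kernel of the coordinates on `U_J` lies in the commutator
  have hker : ∀ u ∈ A, (∀ i : ι, χ i.1 u = 0) → u ∈ ⁅A, U⁆ := by
    intro u hu h0
    refine mem_commutator_of_coord_eq_zero (K := F) (ι := ι) U A hAU hUA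
      (fun i t => xG hD (D.simple i.1) t) ?_ ?_ (fun i => χ i.1) ?_ ?_ ?_ u hu h0
    · intro i s t
      rw [xG_mul]
    · intro i t
      rw [hA]
      apply Subgroup.subset_closure
      have hpos : D.IsPosRoot (D.simple i.1) :=
        (isPosRoot_iff hD _).2 ⟨C.simple_lt i.1 i.1.2, C.half_le_simple i.1 i.1.2⟩
      exact ⟨D.simple i.1, t, hpos, XJ.not_inRootSub_simple J i.1 i.1.2 i.2, rfl⟩
    · intro i u hu v hv
      exact hχadd i.1 u hu v hv
    · intro i j t
      have hpos : D.IsPosRoot (D.simple j.1) :=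
        (isPosRoot_iff hD _).2 ⟨C.simple_lt j.1 j.1.2, C.half_le_simple j.1 j.1.2⟩
      rw [hχx i.1 (D.simple j.1) t hpos]
      by_cases hij : i = j
      · rw [hij, if_pos rfl, if_pos rfl]
      · rw [if_neg hij, if_neg]
        intro h
        apply hij
        exact Subtype.ext (Fin.ext (simple_inj hD _ _ i.1.2 j.1.2 h.symm))
    · -- generation
      rw [hA]
      unfold ChevalleyDatum.unipotentRadical
      rw [Subgroup.closure_le]
      rintro g ⟨r, t, hr, hrJ, hg⟩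
      have hgx : g = xG hD r t := Units.ext hg
      by_cases hs : ∃ i < D.rank, r = D.simple i
      · obtain ⟨i, hi, rfl⟩ := hs
        have hiJ : i ∉ J := fun h => hrJ (XJ.inRootSub_simple J i hi h)
        apply Subgroup.mem_sup_right
        apply Subgroup.subset_closure
        exact ⟨⟨⟨i, hi⟩, hiJ⟩, t, hgx⟩
      · push Not at hs
        apply Subgroup.mem_sup_left
        rw [hgx]
        exact comm_T3 hD h2 h3 J r hr hrJ hs t
  -- `U_J ≤ X ⊔ ⁅U_J, U⁆`
  have hsup : A ≤ X ⊔ ⁅A, U⁆ := by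
    intro u hu
    have hy : (fun i : ι => χ i.1 u) ∈ Y := by rw [hYtop]; trivial
    obtain ⟨x, hx, hxy⟩ := hy
    have hxA : x ∈ A := hRad hx
    have h1 : x⁻¹ * u ∈ ⁅A, U⁆ := by
      apply hker _ (mul_mem (inv_mem hxA) hu)
      intro i
      rw [hχadd i.1 _ (inv_mem (hXU hx)) _ (hAU hu), hχinv i.1 x (hXU hx), hxy i]
      ring
    have : u = x * (x⁻¹ * u) := by group
    rw [this]
    exact mul_mem (Subgroup.mem_sup_left hx) (Subgroup.mem_sup_right h1)
  exact le_of_le_sup_commutator' U A X (Cfsg.Agent.S1029.result D hD) hAU hXU hUA hUX hsup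

end main

end Cfsg.Agent.Lib.Helper5.WC
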