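import Cfsg.Agent.Lib.Helper18.Bruhat1
import Cfsg.Agent.S1045
import Cfsg.Agent.S1029
import Cfsg.Agent.Lib.Helper40.WCLongJ
import Mathlib

set_option autoImplicit false

namespace Cfsg.Agent.Lib.Helper5.WC

open Cfsg.Lie Cfsg.Agent.Lib.Helper18 Cfsg.Agent.Lib.Helper40.WC

universe u

variable {F : Type u} [Field F] {D : ChevalleyDatum}

lemma mem_normalizer_of_map_eq {G : Type*} [Group G] (X : Subgroup G) (g : G)
    (h : X.map (MulAut.conj g).toMonoidHom = X) : g ∈ Subgroup.normalizer (X : Set _) := by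
  rw [Subgroup.mem_normalizer_iff]
  intro x
  constructor
  · intro hx
    rw [← h]
    exact ⟨x, hx, rfl⟩
  · intro hx
    rw [← h] at hx
    obtain ⟨y, hy, e⟩ := hx
    have : y = x := by
      have e' : g * y * g⁻¹ = g * x * g⁻¹ := e
      have := mul_left_cancel (mul_right_cancel e')
      exact this
    rw [← this]
    exact hy

lemma map_eq_of_mem_normalizer {G : Type*} [Group G] (X : Subgroup G) (g : G)
    (h : g ∈ Subgroup.normalizer (X : Set _)) : X.map (MulAut.conj g).toMonoidHom = X := by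
  rw [Subgroup.mem_normalizer_iff] at h
  ext x
  constructor
  · rintro ⟨y, hy, rfl⟩
    exact (h y).1 hy
  · intro hx
    refine ⟨g⁻¹ * x * g, ?_, ?_⟩
    · apply (h _).2
      have : g * (g⁻¹ * x * g) * g⁻¹ = x := by group
      rw [this]
      exact hx
    · show g * (g⁻¹ * x * g) * g⁻¹ = x
      group

/-- [RAD] a subgroup of `U` normalised by the `n_j`, `j ∈ J`, lies in `U_J`. -/
theorem le_unipotentRadical (hD : D ∈ [chevG2, chevB2, chevD4, chevF4, chevE6, chevE7, chevE8])
    (J : Set ℕ) (X : Subgroup (GL D.Idx F)) (hXU : X ≤ D.posUnipotent F)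
    (hJ : ∀ j ∈ J, j < D.rank → ∀ n : GL D.Idx F,
      (n : Matrix D.Idx D.Idx F) = D.nMat F (D.simple j) 1 → n ∈ Subgroup.normalizer (X : Set _)) :
    X ≤ D.unipotentRadical F J := by
  classical
  obtain ⟨C⟩ := nonempty_chevData.{u} D hD
  obtain ⟨L⟩ := nonempty_levelData D hD
  obtain ⟨n, hncl, hn⟩ := exists_longJ (F := F) hD J
  have hnX : n ∈ Subgroup.normalizer (X : Set _) := by
    refine (Subgroup.closure_le (K := Subgroup.normalizer (X : Set _))).2 ?_ hncl
    rintro g ⟨j, hj, hjr, hg⟩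
    exact hJ j hj hjr g hg
  have hnN : n ∈ D.monomialSubgroup F := by
    refine (Subgroup.closure_le (K := D.monomialSubgroup F)).2 ?_ hncl
    rintro g ⟨j, hj, hjr, hg⟩
    have : g = sG hD C j := Units.ext (by rw [hg, coe_sG hD C j hjr])
    rw [SetLike.mem_coe, this]
    exact sG_mem_monomial hD C j
  intro x hx
  have hxU := hXU hx
  let p : ℕ → Bool := fun r =>
    decide ((D.rootSubgroup F r).map (MulAut.conj n).toMonoidHom ≤ D.negUnipotent F)
  have hmem : ∀ r, r ∈ D.posRoots ↔ D.IsPosRoot r := by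
    intro r
    unfold ChevalleyDatum.posRoots
    rw [List.mem_filter, List.mem_range, decide_eq_true_eq]
    exact ⟨fun h => h.2, fun h => ⟨h.1, h⟩⟩
  have hnd : D.posRoots.Nodup := by
    unfold ChevalleyDatum.posRoots
    exact List.Nodup.filter _ List.nodup_range
  have hperm : List.Perm ((D.posRoots.filter fun r => !p r) ++ D.posRoots.filter p) D.posRoots :=
    (List.perm_append_comm.trans (List.filter_append_perm p D.posRoots))
  have hl : ∀ r ∈ (D.posRoots.filter fun r => !p r) ++ D.posRoots.filter p, D.IsPosRoot r :=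
    fun r hr => (hmem r).mp (hperm.mem_iff.mp hr)
  obtain ⟨t, ht⟩ := exists_prodL hD C L _ hl (hperm.nodup_iff.mpr hnd)
    (fun r hr => hperm.mem_iff.mpr ((hmem r).mpr hr)) x hxU
  rw [prodL_append] at ht
  set u₁ := prodL hD (D.posRoots.filter fun r => !p r) t with hu₁
  set u₂ := prodL hD (D.posRoots.filter p) t with hu₂
  -- `n u₁ n⁻¹ ∈ U`
  have h1 : n * u₁ * n⁻¹ ∈ D.posUnipotent F := by
    apply conj_prodL_mem_posUnipotent hD n
    intro r hr
    rw [List.mem_filter] at hr
    have hr2 : ¬ ((D.rootSubgroup F r).map (MulAut.conj n).toMonoidHom ≤ D.negUnipotent F) := by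
      have h := hr.2
      simp only [p, Bool.not_eq_true'] at h
      exact of_decide_eq_false h
    have hrpos := (hmem r).mp hr.1
    rcases map_conj_rootSubgroup_le hD C n hnN r hrpos.1 with h | h
    · exact absurd h hr2
    · exact h
  -- `u₂ ∈ U_n^-`
  have h2 : u₂ ∈ Subgroup.closure (UnegSet D F n) := by
    have h1 := prodL_mem_closure hD (fun r => D.IsPosRoot r ∧
      (D.rootSubgroup F r).map (MulAut.conj n).toMonoidHom ≤ D.negUnipotent F) (D.posRoots.filter p)
      (fun r hr => by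
        rw [List.mem_filter] at hr
        exact ⟨(hmem r).mp hr.1, of_decide_eq_true hr.2⟩) t
    have e : {g : GL D.Idx F | ∃ (s : ℕ) (t : F), (D.IsPosRoot s ∧
        (D.rootSubgroup F s).map (MulAut.conj n).toMonoidHom ≤ D.negUnipotent F) ∧
        (g : Matrix D.Idx D.Idx F) = D.x F s t} = UnegSet D F n := by
      ext x
      unfold UnegSet
      simp only [Set.mem_ofPred_eq, and_assoc]
    rw [e] at h1
    exact h1
  have h3 : n * u₂ * n⁻¹ ∈ D.negUnipotent F := conj_mem_negUnipotent hD n u₂ h2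
  -- `n x n⁻¹ ∈ U`
  have h4 : n * x * n⁻¹ ∈ D.posUnipotent F :=
    hXU (((Subgroup.mem_normalizer_iff).1 hnX x).1 hx)
  have h5 : n * u₂ * n⁻¹ ∈ D.posUnipotent F := by
    have : n * u₂ * n⁻¹ = (n * u₁ * n⁻¹)⁻¹ * (n * x * n⁻¹) := by
      rw [ht]; group
    rw [this]
    exact mul_mem (inv_mem h1) h4
  have h6 : n * u₂ * n⁻¹ = 1 := by
    have hbot := (Cfsg.Agent.S1037.result (F := F) D hD).1
    have : n * u₂ * n⁻¹ ∈ D.borelSubgroup F ⊓ D.negUnipotent F :=
      ⟨borel_of_posUnipotent _ h5, h3⟩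
    rw [hbot, Subgroup.mem_bot] at this
    exact this
  have h7 : u₂ = 1 := by
    have : u₂ = n⁻¹ * (n * u₂ * n⁻¹) * n := by group
    rw [this, h6]; group
  rw [ht, h7, mul_one]
  have h8 := prodL_mem_closure hD (fun r => D.IsPosRoot r ∧ ¬ D.InRootSub J r)
    (D.posRoots.filter fun r => !p r)
    (fun r hr => by
      rw [List.mem_filter] at hr
      have hrpos := (hmem r).mp hr.1
      refine ⟨hrpos, fun hin => ?_⟩
      have h := hr.2
      simp only [p, Bool.not_eq_true'] at h
      exact of_decide_eq_false h (hn r hrpos hin)) t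
  have e : {g : GL D.Idx F | ∃ (s : ℕ) (t : F), (D.IsPosRoot s ∧ ¬ D.InRootSub J s) ∧
      (g : Matrix D.Idx D.Idx F) = D.x F s t} =
      {g : GL D.Idx F | ∃ (r : ℕ) (t : F), D.IsPosRoot r ∧ ¬ D.InRootSub J r ∧
        (g : Matrix D.Idx D.Idx F) = D.x F r t} := by
    ext x
    simp only [Set.mem_ofPred_eq, and_assoc]
  rw [e] at h8
  exact h8

theorem simple_inj {D : ChevalleyDatum} (hD : D ∈ [chevG2, chevB2, chevD4, chevF4, chevE6, chevE7, chevE8])
    (i j : ℕ) (hi : i < D.rank) (hj : j < D.rank) (h : D.simple i = D.simple j) : i = j := by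
  have key : ∀ i < D.rank, ∀ j < D.rank, D.simple i = D.simple j → i = j := by
    simp only [List.mem_cons, List.not_mem_nil, or_false] at hD
    rcases hD with rfl | rfl | rfl | rfl | rfl | rfl | rfl <;> decide
  exact key i hi j hj h

end Cfsg.Agent.Lib.Helper5.WC
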